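import Cfsg.Agent.Lib.Helper28.CenterLayer

set_option autoImplicit false

namespace Cfsg.Agent.Lib.Helper28

open scoped Pointwise commutatorElement

theorem le_normalizer_commutator {G : Type*} [Group G] {H A B : Subgroup G}
    (hA : H ≤ Subgroup.normalizer (A : Set G)) (hB : H ≤ Subgroup.normalizer (B : Set G)) :
    H ≤ Subgroup.normalizer ((⁅A, B⁆ : Subgroup G) : Set G) := by
  intro g hg
  rw [Subgroup.mem_normalizer_iff_map_conj_eq, Subgroup.map_commutator,
    Subgroup.mem_normalizer_iff_map_conj_eq.1 (hA hg),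
    Subgroup.mem_normalizer_iff_map_conj_eq.1 (hB hg)]

/-- A solvable subgroup `N` of `C = C_G(F(G))` normalized by `C` lies in `F(G)`. -/
theorem solvable_le_fitting_of_le_centralizer {G : Type*} [Group G] [Finite G] (N : Subgroup G)
    (hN : N ≤ Subgroup.centralizer (Cfsg.fittingSubgroup G : Set G))
    (hnorm : Subgroup.centralizer (Cfsg.fittingSubgroup G : Set G) ≤
      Subgroup.normalizer (N : Set G))
    (hsolv : Group.IsSolvable ↥N) : N ≤ Cfsg.fittingSubgroup G := by
  by_contra hNF
  have hFn : (Cfsg.fittingSubgroup G).Normal := Cfsg.Agent.Lib.Helper30.fitting_normal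
  have hCn : (Subgroup.centralizer (Cfsg.fittingSubgroup G : Set G)).Normal := inferInstance
  obtain ⟨K, hKN, hKmin⟩ := Finite.exists_le_minimal
    (p := fun K : Subgroup G => K ≤ N ∧
      Subgroup.centralizer (Cfsg.fittingSubgroup G : Set G) ≤ Subgroup.normalizer (K : Set G) ∧
      ¬ K ≤ Cfsg.fittingSubgroup G) (a := N) ⟨le_rfl, hnorm, hNF⟩
  obtain ⟨⟨_, hKnorm, hKF⟩, hmin⟩ := hKmin
  have hKC : K ≤ Subgroup.centralizer (Cfsg.fittingSubgroup G : Set G) := hKN.trans hN
  have hFK : Cfsg.fittingSubgroup G ≤ Subgroup.centralizer (K : Set G) :=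
    Subgroup.le_centralizer_iff.1 hKC
  have hKne : K ≠ ⊥ := by
    rintro rfl
    exact hKF bot_le
  have hKsolv : Group.IsSolvable ↥K :=
    Group.isSolvable_of_isSolvable_injective (f := Subgroup.inclusion hKN)
      (Subgroup.inclusion_injective hKN)
  have hKnt : Nontrivial ↥K := (Subgroup.nontrivial_iff_ne_bot K).2 hKne
  have hlt : ⁅K, K⁆ ≠ K := by
    intro h
    have h1 := hKsolv.commutator_lt_top_of_nontrivial ↥K
    rw [← Subgroup.isPerfect_iff, Group.isPerfect_def] at h
    exact h1.ne h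
  have hcomm_le : ⁅K, K⁆ ≤ Cfsg.fittingSubgroup G := by
    by_contra hcF
    have := hmin ⟨(Subgroup.commutator_le_self K).trans hKN,
      le_normalizer_commutator hKnorm hKnorm, hcF⟩ (Subgroup.commutator_le_self K)
    exact hlt (le_antisymm (Subgroup.commutator_le_self K) this)
  have hnil := isNilpotent_of_commutator_le_centralizer K (hcomm_le.trans hFK)
  have hKsn : K.IsSubnormal :=
    Subgroup.IsSubnormal.step K _ hKC hCn.isSubnormal
      ((Subgroup.normal_subgroupOf_iff_le_normalizer hKC).2 hKnorm)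
  exact hKF (Cfsg.Agent.Lib.Helper30.subnormal_nilpotent_le_fitting hKsn hnil)

end Cfsg.Agent.Lib.Helper28
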