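import Cfsg.Agent.Lib.Helper28.Layer
import Cfsg.Agent.Lib.Helper30.FStar

set_option autoImplicit false

namespace Cfsg.Agent.Lib.Helper28

open scoped Pointwise commutatorElement

/-- A subgroup whose derived subgroup is central is nilpotent. -/
theorem isNilpotent_of_commutator_le_centralizer {G : Type*} [Group G] (K : Subgroup G)
    (h : ⁅K, K⁆ ≤ Subgroup.centralizer (K : Set G)) : Group.IsNilpotent ↥K := by
  apply Group.of_quotient_center_nilpotent
  have hc : IsMulCommutative (↥K ⧸ Subgroup.center ↥K) := by
    rw [Subgroup.Normal.quotient_commutative_iff_commutator_le]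
    intro x hx
    rw [Subgroup.mem_center_iff]
    intro y
    have h1 : (x : G) ∈ ⁅K, K⁆ := by
      have : (x : G) ∈ (commutator ↥K).map K.subtype := ⟨x, hx, rfl⟩
      rwa [commutator_def, Subgroup.map_commutator, ← MonoidHom.range_eq_map,
        Subgroup.range_subtype] at this
    have h2 := Subgroup.mem_centralizer_iff.1 (h h1) y y.2
    exact Subtype.ext h2
  let _ : CommGroup (↥K ⧸ Subgroup.center ↥K) :=
    { (inferInstance : Group (↥K ⧸ Subgroup.center ↥K)) with mul_comm := hc.is_comm.comm }
  exact CommGroup.isNilpotent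

/-- Bender: the centralizer of the generalized Fitting subgroup lies in it. -/
theorem centralizer_genFitting_le {G : Type*} [Group G] [Finite G] :
    Subgroup.centralizer (Cfsg.generalizedFittingSubgroup G : Set G) ≤
      Cfsg.generalizedFittingSubgroup G := by
  by_contra hC
  have hCn : (Subgroup.centralizer (Cfsg.generalizedFittingSubgroup G : Set G)).Normal :=
    inferInstance
  obtain ⟨K, _, hKmin⟩ := Finite.exists_le_minimal
    (p := fun K : Subgroup G => K.IsSubnormal ∧
      K ≤ Subgroup.centralizer (Cfsg.generalizedFittingSubgroup G : Set G) ∧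
      ¬ K ≤ Cfsg.generalizedFittingSubgroup G)
    (a := Subgroup.centralizer (Cfsg.generalizedFittingSubgroup G : Set G))
    ⟨hCn.isSubnormal, le_rfl, hC⟩
  obtain ⟨⟨hKsn, hKC, hKF⟩, hmin⟩ := hKmin
  have hFK : Cfsg.generalizedFittingSubgroup G ≤ Subgroup.centralizer (K : Set G) :=
    Subgroup.le_centralizer_iff.1 hKC
  have key : ∀ N : Subgroup G, N ≤ K → K ≤ Subgroup.normalizer (N : Set G) →
      N = K ∨ N ≤ Subgroup.centralizer (K : Set G) := by
    intro N hNK hnorm
    by_cases hNF : N ≤ Cfsg.generalizedFittingSubgroup G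
    · right; exact hNF.trans hFK
    · left
      have hNsn : N.IsSubnormal :=
        Subgroup.IsSubnormal.step N K hNK hKsn
          ((Subgroup.normal_subgroupOf_iff_le_normalizer hNK).2 hnorm)
      exact le_antisymm hNK (hmin ⟨hNsn, hNK.trans hKC, hNF⟩ hNK)
  have hKne : K ≠ ⊥ := by
    rintro rfl
    exact hKF bot_le
  by_cases hperf : ⁅K, K⁆ = K
  · have hq : Cfsg.IsQuasisimple ↥K := Cfsg.Agent.Lib.Helper30.isQuasisimple_subgroup hperf hKne key
    have hcomp : Cfsg.IsComponent K := ⟨hKsn, hq⟩
    exact hKF ((component_le_layer hcomp).trans le_sup_left)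
  · have h1 : ⁅K, K⁆ ≤ Subgroup.centralizer (K : Set G) := by
      rcases key ⁅K, K⁆ (Subgroup.commutator_le_self K)
        (Subgroup.normalizer_commutator_ge_left K K) with h | h
      · exact absurd h hperf
      · exact h
    have hnil := isNilpotent_of_commutator_le_centralizer K h1
    exact hKF ((Cfsg.Agent.Lib.Helper30.subnormal_nilpotent_le_fitting hKsn hnil).trans le_sup_right)

end Cfsg.Agent.Lib.Helper28
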