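import Cfsg.Agent.Lib.Helper28.PLayerCent

set_option autoImplicit false

namespace Cfsg.Agent.Lib.Helper28

open scoped Pointwise commutatorElement

/-- `F*(X)` is a `p`-group. -/
def FStarP (p : ℕ) (X : Type*) [Group X] : Prop :=
  IsPGroup p ↥(Cfsg.generalizedFittingSubgroup X)

theorem eq_bot_of_isPGroup_of_isPGroup {X : Type*} [Group X] {p q : ℕ} [Fact p.Prime]
    [Fact q.Prime] (hqp : q ≠ p) (R : Subgroup X) (hq : IsPGroup q R) (hp : IsPGroup p R) :
    R = ⊥ := by
  have := IsPGroup.disjoint_of_ne q p hqp R R hq hp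
  rw [disjoint_self] at this
  exact this

theorem pCore_le_genFitting {X : Type*} [Group X] [Finite X] (q : ℕ) [Fact q.Prime] :
    Cfsg.pCore q X ≤ Cfsg.generalizedFittingSubgroup X :=
  (Cfsg.Agent.Lib.Helper76.pCore_le_fittingSubgroup q).trans le_sup_right

/-- Characterization of `F*(X)` being a `p`-group. -/
theorem fStarP_iff {X : Type*} [Group X] [Finite X] (p : ℕ) [Fact p.Prime] :
    FStarP p X ↔ (∀ K : Subgroup X, ¬ Cfsg.IsComponent K) ∧
      ∀ q : ℕ, q.Prime → q ≠ p → Cfsg.pCore q X = ⊥ := by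
  constructor
  · intro h
    refine ⟨fun K hK => ?_, fun q hq hqp => ?_⟩
    · have h1 : K ≤ Cfsg.generalizedFittingSubgroup X :=
        (component_le_layer hK).trans le_sup_left
      exact quasisimple_not_solvable hK.2 (isSolvable_of_isPGroup K (IsPGroup.to_le h h1))
    · have : Fact q.Prime := ⟨hq⟩
      exact eq_bot_of_isPGroup_of_isPGroup hqp _ (pCore_isPGroup q)
        (IsPGroup.to_le h (pCore_le_genFitting q))
  · rintro ⟨h1, h2⟩
    have hlayer : Cfsg.layer X = ⊥ := by
      rw [eq_bot_iff]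
      apply sSup_le
      intro K hK
      exact absurd hK (h1 K)
    have hfit : Cfsg.fittingSubgroup X ≤ Cfsg.pCore p X := by
      rw [Cfsg.Agent.Lib.Helper76.fittingSubgroup_eq_pCoreJoin]
      apply iSup_le
      intro q
      by_cases hqp : (q : ℕ) = p
      · rw [hqp]
      · rw [h2 q (Nat.prime_of_mem_primeFactors q.2) hqp]
        exact bot_le
    unfold FStarP Cfsg.generalizedFittingSubgroup
    rw [hlayer, bot_sup_eq]
    exact IsPGroup.to_le (pCore_isPGroup p) hfit

theorem fStarP_genFitting_eq {X : Type*} [Group X] [Finite X] (p : ℕ) [Fact p.Prime]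
    (h : FStarP p X) : Cfsg.generalizedFittingSubgroup X = Cfsg.pCore p X := by
  apply le_antisymm
  · exact le_sSup ⟨Cfsg.Agent.Lib.Helper30.genFitting_normal, h⟩
  · exact pCore_le_genFitting p

/-- Invariance under isomorphism. -/
theorem fStarP_of_mulEquiv {X Y : Type*} [Group X] [Group Y] [Finite X] (p : ℕ) [Fact p.Prime]
    (e : X ≃* Y) (h : FStarP p X) : FStarP p Y := by
  have : Finite Y := Finite.of_equiv X e.toEquiv
  rw [fStarP_iff] at h ⊢
  obtain ⟨h1, h2⟩ := h
  refine ⟨fun K hK => ?_, fun q hq hqp => ?_⟩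
  · exact h1 _ (Cfsg.Agent.Lib.Helper30.isComponent_map_equiv e.symm hK)
  · have hq' : Fact q.Prime := ⟨hq⟩
    have hn : (Cfsg.pCore q Y).Normal := Cfsg.pCore_normal q Y
    have h3 : ((Cfsg.pCore q Y).map e.symm.toMonoidHom) ≤ Cfsg.pCore q X := by
      apply le_sSup
      exact ⟨hn.map _ e.symm.surjective, (pCore_isPGroup q).map _⟩
    rw [h2 q hq hqp, le_bot_iff] at h3
    exact (Subgroup.map_eq_bot_iff_of_injective _ e.symm.injective).1 h3

theorem pCore_characteristic {X : Type*} [Group X] (q : ℕ) : (Cfsg.pCore q X).Characteristic := by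
  rw [Subgroup.characteristic_iff_map_le]
  intro ϕ
  rw [Subgroup.map_le_iff_le_comap]
  apply sSup_le
  rintro N ⟨hN1, hN2⟩
  rw [← Subgroup.map_le_iff_le_comap]
  apply le_sSup
  exact ⟨hN1.map ϕ.toMonoidHom ϕ.surjective, hN2.map _⟩

/-- Normal subgroups inherit `F*` being a `p`-group. -/
theorem fStarP_normal {X : Type*} [Group X] [Finite X] (p : ℕ) [Fact p.Prime]
    (D : Subgroup X) [hD : D.Normal] (h : FStarP p X) : FStarP p ↥D := by
  rw [fStarP_iff] at h ⊢
  obtain ⟨h1, h2⟩ := h
  refine ⟨fun K hK => ?_, fun q hq hqp => ?_⟩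
  · exact h1 _ (Cfsg.Agent.Lib.Helper30.isComponent_map_subtype hD.isSubnormal hK)
  · have hq' : Fact q.Prime := ⟨hq⟩
    have hc : (Cfsg.pCore q ↥D).Characteristic := pCore_characteristic q
    have hn : ((Cfsg.pCore q ↥D).map D.subtype).Normal :=
      ConjAct.normal_of_characteristic_of_normal
    have h3 : (Cfsg.pCore q ↥D).map D.subtype ≤ Cfsg.pCore q X :=
      le_sSup ⟨hn, (pCore_isPGroup q).map _⟩
    rw [h2 q hq hqp, le_bot_iff] at h3
    exact (Subgroup.map_eq_bot_iff_of_injective _ D.subtype_injective).1 h3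

/-- If `H ⊴ T`, `T = H U` with `U` a `p`-group and `F*(H)` a `p`-group, then `F*(T)` is a
`p`-group. -/
theorem fStarP_of_normal_sup {T : Type*} [Group T] [Finite T] (p : ℕ) [Fact p.Prime]
    (H U : Subgroup T) [hH : H.Normal] (hU : IsPGroup p U) (hHU : H ⊔ U = ⊤)
    (h : FStarP p ↥H) : FStarP p T := by
  -- the quotient T ⧸ H is a p-group
  have hquot : ∀ t : T, ∃ k : ℕ, t ^ p ^ k ∈ H := by
    intro t
    have ht : t ∈ ((H : Subgroup T) : Set T) * (U : Set T) := by
      rw [← Subgroup.normal_mul, hHU]; trivial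
    obtain ⟨a, ha, u, hu, rfl⟩ := ht
    obtain ⟨k, hk⟩ := hU ⟨u, hu⟩
    have hk' : u ^ p ^ k = 1 := by
      have := congrArg Subtype.val hk
      simpa using this
    refine ⟨k, ?_⟩
    rw [← QuotientGroup.eq_one_iff, QuotientGroup.mk_pow, QuotientGroup.mk_mul,
      (QuotientGroup.eq_one_iff a).2 ha, one_mul, ← QuotientGroup.mk_pow, hk']
    rfl
  rw [fStarP_iff] at h ⊢
  obtain ⟨h1, h2⟩ := h
  refine ⟨fun K hK => ?_, fun q hq hqp => ?_⟩
  · -- K ≤ H since K is perfect and T ⧸ H is a p-group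
    have hKH : K ≤ H := by
      have hpq : IsPGroup p (T ⧸ H) := by
        intro x
        obtain ⟨t, rfl⟩ := QuotientGroup.mk_surjective x
        obtain ⟨k, hk⟩ := hquot t
        exact ⟨k, by rw [← QuotientGroup.mk_pow]; exact (QuotientGroup.eq_one_iff _).2 hk⟩
      have hsolv : Group.IsSolvable (T ⧸ H) := by
        have : Group.IsNilpotent (T ⧸ H) := hpq.isNilpotent
        infer_instance
      have hKmap : ⁅K.map (QuotientGroup.mk' H), K.map (QuotientGroup.mk' H)⁆ =
          K.map (QuotientGroup.mk' H) := by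
        rw [← Subgroup.map_commutator, component_perfect hK]
      have hKbot : K.map (QuotientGroup.mk' H) = ⊥ := by
        by_contra hne
        have hnt : Nontrivial ↥(K.map (QuotientGroup.mk' H)) :=
          (Subgroup.nontrivial_iff_ne_bot _).2 hne
        have hperf : Group.IsPerfect ↥(K.map (QuotientGroup.mk' H)) :=
          Subgroup.isPerfect_iff.2 hKmap
        have hs : Group.IsSolvable ↥(K.map (QuotientGroup.mk' H)) := inferInstance
        exact Group.IsPerfect.not_isSolvable _ hs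
      rw [Subgroup.map_eq_bot_iff, QuotientGroup.ker_mk'] at hKbot
      exact hKbot
    exact h1 _ (component_subgroupOf H K hKH hK)
  · have hq' : Fact q.Prime := ⟨hq⟩
    have hRn : (Cfsg.pCore q T).Normal := Cfsg.pCore_normal q T
    have hRq : IsPGroup q (Cfsg.pCore q T) := pCore_isPGroup q
    -- R ∩ H is a normal q-subgroup of H, hence trivial
    have h3 : (Cfsg.pCore q T).subgroupOf H ≤ Cfsg.pCore q ↥H := by
      apply le_sSup
      exact ⟨inferInstance, hRq.comap_of_injective _ H.subtype_injective⟩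
    rw [h2 q hq hqp, le_bot_iff, Subgroup.subgroupOf_eq_bot] at h3
    rw [eq_bot_iff]
    intro r hr
    obtain ⟨k, hk⟩ := hquot r
    have h4 : r ^ p ^ k = 1 := by
      have : r ^ p ^ k ∈ Cfsg.pCore q T ⊓ H :=
        Subgroup.mem_inf.2 ⟨Subgroup.pow_mem _ hr _, hk⟩
      rw [h3.eq_bot, Subgroup.mem_bot] at this
      exact this
    obtain ⟨j, hj⟩ := hRq ⟨r, hr⟩
    have hj' : r ^ q ^ j = 1 := by
      have := congrArg Subtype.val hj
      simpa using this
    have h5 : orderOf r ∣ p ^ k := orderOf_dvd_of_pow_eq_one h4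
    have h6 : orderOf r ∣ q ^ j := orderOf_dvd_of_pow_eq_one hj'
    have hcop : (p ^ k).Coprime (q ^ j) :=
      Nat.Coprime.pow k j ((Nat.coprime_primes Fact.out Fact.out).2 (Ne.symm hqp))
    have h7 : orderOf r = 1 := Nat.eq_one_of_dvd_coprimes hcop h5 h6
    rw [Subgroup.mem_bot]
    exact orderOf_eq_one_iff.1 h7

/-- `F*(X)` a `p`-group implies the same for normalizers of `p`-subgroups. -/
theorem fStarP_normalizer {X : Type*} [Group X] [Finite X] (p : ℕ) [Fact p.Prime]
    (h : FStarP p X) (P : Subgroup X) (hP : IsPGroup p ↥P) :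
    FStarP p ↥(Subgroup.normalizer (P : Set X)) := by
  unfold FStarP
  rw [genFitting_normalizer_eq_pCore p (fStarP_genFitting_eq p h) P hP]
  exact pCore_isPGroup p

end Cfsg.Agent.Lib.Helper28
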