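import Cfsg.Agent.Lib.Helper28.AxB

set_option autoImplicit false

namespace Cfsg.Agent.Lib.Helper28

open scoped Pointwise commutatorElement

/-- If `F*(G) = O_p(G)`, anything centralizing `O_p(G)` lies in `O_p(G)`. -/
theorem le_pCore_of_centralizes {G : Type*} [Group G] [Finite G] {p : ℕ}
    (h : Cfsg.generalizedFittingSubgroup G = Cfsg.pCore p G) (L : Subgroup G)
    (hL : ⁅L, Cfsg.pCore p G⁆ = ⊥) : L ≤ Cfsg.pCore p G := by
  have h1 : L ≤ Subgroup.centralizer ((Cfsg.pCore p G : Subgroup G) : Set G) :=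
    Subgroup.commutator_eq_bot_iff_le_centralizer.1 hL
  have h2 := centralizer_genFitting_le (G := G)
  rw [h] at h2
  exact h1.trans h2

/-- A normal `q`-subgroup `X` of `N` commutes with a `p`-subgroup `M ≤ N` normalized by `N`
(`p ≠ q`). -/
theorem normal_qgroup_commutes_pgroup {G : Type*} [Group G] {p q : ℕ} [Fact p.Prime]
    [Fact q.Prime] (hpq : q ≠ p) (N : Subgroup G) (X : Subgroup ↥N) [hXn : X.Normal]
    (hX : IsPGroup q X) (M : Subgroup G) (hMN : M ≤ N)
    (hnorm : N ≤ Subgroup.normalizer (M : Set G)) (hM : IsPGroup p M) :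
    ⁅X.map N.subtype, M⁆ = ⊥ := by
  have hn : (M.subgroupOf N).Normal := (Subgroup.normal_subgroupOf_iff_le_normalizer hMN).2 hnorm
  have hM' : IsPGroup p (M.subgroupOf N) :=
    hM.comap_of_injective N.subtype N.subtype_injective
  have hdisj : Disjoint X (M.subgroupOf N) := IsPGroup.disjoint_of_ne q p hpq _ _ hX hM'
  have h1 : ⁅X, M.subgroupOf N⁆ = ⊥ := Subgroup.commutator_eq_bot_of_disjoint hdisj
  have h2 := congrArg (Subgroup.map N.subtype) h1
  rw [Subgroup.map_commutator, Subgroup.map_bot, Subgroup.map_subgroupOf_eq_of_le hMN] at h2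
  exact h2

theorem inf_normalizer_normal_aux {G : Type*} [Group G] (Q N : Subgroup G) [hQ : Q.Normal] :
    N ≤ Subgroup.normalizer ((Q ⊓ N : Subgroup G) : Set G) := by
  intro x hx
  rw [Subgroup.mem_normalizer_iff]
  intro y
  have h1 : y ∈ Q ↔ x * y * x⁻¹ ∈ Q := by
    constructor
    · intro hy; exact hQ.conj_mem y hy x
    · intro hy
      have := hQ.conj_mem _ hy x⁻¹
      simpa [mul_assoc] using this
  have h2 : y ∈ N ↔ x * y * x⁻¹ ∈ N := by
    constructor
    · intro hy; exact N.mul_mem (N.mul_mem hx hy) (N.inv_mem hx)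
    · intro hy
      have : y = x⁻¹ * (x * y * x⁻¹) * x := by group
      rw [this]
      exact N.mul_mem (N.mul_mem (N.inv_mem hx) hy) hx
  simp only [Subgroup.mem_inf, h1, h2]

/-- If `F*(G) = O_p(G)` then `N = N_G(P)` has no components, `P` a `p`-subgroup. -/
theorem no_component_normalizer {G : Type*} [Group G] [Finite G] (p : ℕ) [Fact p.Prime]
    (h : Cfsg.generalizedFittingSubgroup G = Cfsg.pCore p G) (P : Subgroup G)
    (hP : IsPGroup p P) (K : Subgroup ↥(Subgroup.normalizer (P : Set G))) :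
    ¬ Cfsg.IsComponent K := by
  intro hK
  have hQn : (Cfsg.pCore p G).Normal := Cfsg.pCore_normal p G
  have hQ : IsPGroup p (Cfsg.pCore p G) := pCore_isPGroup p
  have hperf : ⁅K.map (Subgroup.normalizer (P : Set G)).subtype,
      K.map (Subgroup.normalizer (P : Set G)).subtype⁆ =
        K.map (Subgroup.normalizer (P : Set G)).subtype := by
    rw [← Subgroup.map_commutator, component_perfect hK]
  have h1 := pClosing_centralizes_pCore (p := p) P hP _ (pClosing_of_perfect p hperf)
    (component_sub_commutes_solvable _ K hK P Subgroup.le_normalizer le_rfl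
      (isSolvable_of_isPGroup P hP))
    (component_sub_commutes_solvable _ K hK _ inf_le_right
      (inf_normalizer_normal_aux _ _) (isSolvable_of_isPGroup _ (hQ.to_le inf_le_left)))
  have h2 := le_pCore_of_centralizes h _ h1
  have h3 : Group.IsSolvable ↥(K.map (Subgroup.normalizer (P : Set G)).subtype) :=
    isSolvable_of_isPGroup _ (hQ.to_le h2)
  exact quasisimple_not_solvable
    (quasisimple_of_mulEquiv (K.equivMapOfInjective _ (Subgroup.subtype_injective _)) hK.2) h3

/-- If `F*(G) = O_p(G)` then `O_q(N_G(P)) = 1` for `q ≠ p`, `P` a `p`-subgroup. -/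
theorem pCore_normalizer_eq_bot {G : Type*} [Group G] [Finite G] (p q : ℕ) [Fact p.Prime]
    [Fact q.Prime] (hpq : q ≠ p)
    (h : Cfsg.generalizedFittingSubgroup G = Cfsg.pCore p G) (P : Subgroup G)
    (hP : IsPGroup p P) : Cfsg.pCore q ↥(Subgroup.normalizer (P : Set G)) = ⊥ := by
  have hQn : (Cfsg.pCore p G).Normal := Cfsg.pCore_normal p G
  have hQ : IsPGroup p (Cfsg.pCore p G) := pCore_isPGroup p
  have hXn : (Cfsg.pCore q ↥(Subgroup.normalizer (P : Set G))).Normal := Cfsg.pCore_normal q _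
  have hX : IsPGroup q (Cfsg.pCore q ↥(Subgroup.normalizer (P : Set G))) := pCore_isPGroup q
  set L := (Cfsg.pCore q ↥(Subgroup.normalizer (P : Set G))).map
    (Subgroup.normalizer (P : Set G)).subtype with hLdef
  have hLq : IsPGroup q L := hX.map _
  have hcop : ∀ x ∈ L, (orderOf x).Coprime p := by
    intro x hx
    obtain ⟨k, hk⟩ := hLq ⟨x, hx⟩
    have hk' : x ^ q ^ k = 1 := by
      have := congrArg Subtype.val hk
      simpa using this
    obtain ⟨j, _, hj⟩ := (Nat.dvd_prime_pow (Fact.out : q.Prime)).1 (orderOf_dvd_of_pow_eq_one hk')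
    rw [hj]
    exact Nat.Coprime.pow_left j ((Nat.coprime_primes Fact.out Fact.out).2 hpq)
  have h1 := pClosing_centralizes_pCore (p := p) P hP L (pClosing_of_coprime p hcop)
    (normal_qgroup_commutes_pgroup hpq _ _ hX P Subgroup.le_normalizer le_rfl hP)
    (normal_qgroup_commutes_pgroup hpq _ _ hX _ inf_le_right
      (inf_normalizer_normal_aux _ _) (hQ.to_le inf_le_left))
  have h2 := le_pCore_of_centralizes h _ h1
  have h3 : L = ⊥ := by
    rw [eq_bot_iff]
    intro x hx
    have hdisj := IsPGroup.disjoint_of_ne q p hpq L (Cfsg.pCore p G) hLq hQ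
    exact hdisj.le_bot (Subgroup.mem_inf.2 ⟨hx, h2 hx⟩)
  rw [hLdef] at h3
  exact (Subgroup.map_eq_bot_iff_of_injective _ (Subgroup.subtype_injective _)).1 h3

/-- If `F*(G) = O_p(G)` then `F*(N_G(P)) = O_p(N_G(P))` for every `p`-subgroup `P`. -/
theorem genFitting_normalizer_eq_pCore {G : Type*} [Group G] [Finite G] (p : ℕ) [Fact p.Prime]
    (h : Cfsg.generalizedFittingSubgroup G = Cfsg.pCore p G) (P : Subgroup G)
    (hP : IsPGroup p P) :
    Cfsg.generalizedFittingSubgroup ↥(Subgroup.normalizer (P : Set G)) =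
      Cfsg.pCore p ↥(Subgroup.normalizer (P : Set G)) := by
  have hlayer : Cfsg.layer ↥(Subgroup.normalizer (P : Set G)) = ⊥ := by
    rw [eq_bot_iff]
    apply sSup_le
    intro K hK
    exact absurd hK (no_component_normalizer p h P hP K)
  unfold Cfsg.generalizedFittingSubgroup
  rw [hlayer, bot_sup_eq]
  apply le_antisymm
  · rw [Cfsg.Agent.Lib.Helper76.fittingSubgroup_eq_pCoreJoin]
    apply iSup_le
    intro q
    have hq : Fact (q : ℕ).Prime := ⟨Nat.prime_of_mem_primeFactors q.2⟩
    by_cases hqp : (q : ℕ) = p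
    · rw [hqp]
    · rw [pCore_normalizer_eq_bot p q hqp h P hP]
      exact bot_le
  · exact Cfsg.Agent.Lib.Helper76.pCore_le_fittingSubgroup p

end Cfsg.Agent.Lib.Helper28
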