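import Cfsg.Agent.Lib.Helper28.Quasisimple

set_option autoImplicit false

namespace Cfsg.Agent.Lib.Helper28

open scoped Pointwise commutatorElement

/-- Key induction: a perfect subgroup `L` inside a subnormal subgroup `K`, normalizing `H`
and centralizing `H ⊓ K`, centralizes `H`. -/
theorem perfect_commutes_aux {G : Type*} [Group G] {K : Subgroup G} (hK : K.IsSubnormal) :
    ∀ L H : Subgroup G, L ≤ K → ⁅L, L⁆ = L → L ≤ Subgroup.normalizer (H : Set G) →
      ⁅L, H ⊓ K⁆ = ⊥ → ⁅L, H⁆ = ⊥ := by
  induction hK with
  | top =>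
    intro L H _ _ _ h0
    simpa using h0
  | step K K' hle hSub hN ih =>
    intro L H hLK hperf hnorm h0
    apply ih L H (hLK.trans hle) hperf hnorm
    have hK'N : K' ≤ Subgroup.normalizer (K : Set G) :=
      (Subgroup.normal_subgroupOf_iff_le_normalizer hle).1 hN
    have h1 : ⁅L, H ⊓ K'⁆ ≤ H ⊓ K := by
      apply le_inf
      · exact (Subgroup.commutator_mono le_rfl inf_le_left).trans
          (Subgroup.le_normalizer_iff_commutator_le_right.1 hnorm)
      · exact (Subgroup.commutator_mono hLK le_rfl).trans
          (Subgroup.le_normalizer_iff_commutator_le_left.1 (inf_le_right.trans hK'N))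
    have h2 : ⁅⁅L, H ⊓ K'⁆, L⁆ = ⊥ := by
      rw [eq_bot_iff, ← h0, Subgroup.commutator_comm L (H ⊓ K)]
      exact Subgroup.commutator_mono h1 le_rfl
    have h3 : ⁅⁅H ⊓ K', L⁆, L⁆ = ⊥ := by
      rw [Subgroup.commutator_comm (H ⊓ K') L]; exact h2
    have h4 := Subgroup.commutator_commutator_eq_bot_of_rotate h2 h3
    rwa [hperf] at h4

/-- A perfect subnormal subgroup `L` normalizing `H` and centralizing `H ⊓ L`
centralizes `H`. -/
theorem perfect_commutes {G : Type*} [Group G] (L H : Subgroup G) (hL : L.IsSubnormal)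
    (hperf : ⁅L, L⁆ = L) (hnorm : L ≤ Subgroup.normalizer (H : Set G))
    (h0 : ⁅L, H ⊓ L⁆ = ⊥) : ⁅L, H⁆ = ⊥ :=
  perfect_commutes_aux hL L H le_rfl hperf hnorm h0

theorem component_perfect {G : Type*} [Group G] {L : Subgroup G} (hL : Cfsg.IsComponent L) :
    ⁅L, L⁆ = L :=
  Subgroup.isPerfect_iff.1 hL.2.1

theorem component_ne_bot {G : Type*} [Group G] {L : Subgroup G} (hL : Cfsg.IsComponent L) :
    L ≠ ⊥ := by
  intro h
  have := quasisimple_nontrivial hL.2
  rw [Subgroup.nontrivial_iff_ne_bot] at this
  exact this h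

/-- A normal subgroup of a quasisimple subgroup `L` is `L` or is centralized by `L`. -/
theorem component_normal_sub {G : Type*} [Group G] {L : Subgroup G}
    (hL : Cfsg.IsQuasisimple L) (N : Subgroup G) (hNL : N ≤ L)
    (hnorm : L ≤ Subgroup.normalizer (N : Set G)) : N = L ∨ ⁅L, N⁆ = ⊥ := by
  have hn : (N.subgroupOf L).Normal := (Subgroup.normal_subgroupOf_iff_le_normalizer hNL).2 hnorm
  rcases quasisimple_subnormal hL (N.subgroupOf L) hn.isSubnormal with h | h
  · left
    rw [Subgroup.subgroupOf_eq_top] at h
    exact le_antisymm hNL h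
  · right
    rw [eq_bot_iff, Subgroup.commutator_le]
    intro a ha b hb
    have hb' : (⟨b, hNL hb⟩ : L) ∈ N.subgroupOf L := by
      rw [Subgroup.mem_subgroupOf]; exact hb
    have h1 := Subgroup.mem_center_iff.1 (h hb') ⟨a, ha⟩
    have h2 : a * b = b * a := congrArg Subtype.val h1
    rw [Subgroup.mem_bot, commutatorElement_eq_one_iff_mul_comm, h2]

/-- A component normalizing `H` lies in `H` or centralizes it. -/
theorem component_le_or_commutes_of_normalizes {G : Type*} [Group G] (L H : Subgroup G)
    (hL : Cfsg.IsComponent L) (hnorm : L ≤ Subgroup.normalizer (H : Set G)) :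
    L ≤ H ∨ ⁅L, H⁆ = ⊥ := by
  have hnorm' : L ≤ Subgroup.normalizer ((H ⊓ L : Subgroup G) : Set G) := by
    intro x hx
    rw [Subgroup.mem_normalizer_iff]
    intro y
    have h1 := (Subgroup.mem_normalizer_iff.1 (hnorm hx)) y
    have h2 : y ∈ L ↔ x * y * x⁻¹ ∈ L := by
      constructor
      · intro hy; exact L.mul_mem (L.mul_mem hx hy) (L.inv_mem hx)
      · intro hy
        have : y = x⁻¹ * (x * y * x⁻¹) * x := by group
        rw [this]
        exact L.mul_mem (L.mul_mem (L.inv_mem hx) hy) hx
    simp only [Subgroup.mem_inf, h1, h2]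
  rcases component_normal_sub hL.2 (H ⊓ L) inf_le_right hnorm' with h | h
  · left
    rw [← h]; exact inf_le_left
  · right
    exact perfect_commutes L H hL.1 (component_perfect hL) hnorm h

/-- A component and a subnormal subgroup: containment or commuting. -/
theorem component_le_or_commutes_subnormal {G : Type*} [Group G] (L : Subgroup G)
    (hL : Cfsg.IsComponent L) {H : Subgroup G} (hH : H.IsSubnormal) :
    L ≤ H ∨ ⁅L, H⁆ = ⊥ := by
  induction hH with
  | top => left; exact le_top
  | step H K hle hSub hN ih =>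
    rcases ih with h | h
    · have hKN : K ≤ Subgroup.normalizer (H : Set G) :=
        (Subgroup.normal_subgroupOf_iff_le_normalizer hle).1 hN
      exact component_le_or_commutes_of_normalizes L H hL (h.trans hKN)
    · right
      rw [eq_bot_iff, ← h]
      exact Subgroup.commutator_mono le_rfl hle

/-- A component centralizes every solvable subgroup that it normalizes. -/
theorem component_commutes_solvable {G : Type*} [Group G] (L H : Subgroup G)
    (hL : Cfsg.IsComponent L) (hsolv : Group.IsSolvable ↥H)
    (hinv : L ≤ Subgroup.normalizer (H : Set G)) : ⁅L, H⁆ = ⊥ := by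
  rcases component_le_or_commutes_of_normalizes L H hL hinv with h | h
  · exfalso
    apply quasisimple_not_solvable hL.2
    exact Group.isSolvable_of_isSolvable_injective (f := Subgroup.inclusion h)
      (Subgroup.inclusion_injective h)
  · exact h

end Cfsg.Agent.Lib.Helper28
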