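import Cfsg.Agent.Lib.Helper28.FittingCent

set_option autoImplicit false

namespace Cfsg.Agent.Lib.Helper28

open scoped Pointwise commutatorElement

/-- If `z = ⁅h, x⁆` commutes with `x` and has order coprime to that of `x`, then `h`, `x`
commute. -/
theorem commute_of_commutator_coprime {G : Type*} [Group G] (h x : G)
    (hzx : Commute ⁅h, x⁆ x) (hcop : (orderOf x).Coprime (orderOf ⁅h, x⁆)) : Commute h x := by
  have hconj : h * x * h⁻¹ = ⁅h, x⁆ * x := by simp [commutatorElement_def]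
  have h1 : ⁅h, x⁆ ^ orderOf x = 1 := by
    have : (h * x * h⁻¹) ^ orderOf x = ⁅h, x⁆ ^ orderOf x * x ^ orderOf x := by
      rw [hconj, hzx.mul_pow]
    rw [pow_orderOf_eq_one, mul_one, conj_pow, pow_orderOf_eq_one] at this
    simpa using this.symm
  have h3 : orderOf ⁅h, x⁆ ∣ orderOf x := orderOf_dvd_of_pow_eq_one h1
  have h4 : orderOf ⁅h, x⁆ = 1 := Nat.eq_one_of_dvd_coprimes hcop h3 (dvd_refl _)
  rw [orderOf_eq_one_iff, commutatorElement_eq_one_iff_mul_comm] at h4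
  exact h4

/-- `L` is generated by its derived subgroup together with a subgroup of `p'`-elements. -/
def PClosing {G : Type*} [Group G] (p : ℕ) (L : Subgroup G) : Prop :=
  ∃ X : Subgroup G, X ≤ L ∧ (∀ x ∈ X, (orderOf x).Coprime p) ∧ L ≤ ⁅L, L⁆ ⊔ X

theorem pClosing_of_perfect {G : Type*} [Group G] (p : ℕ) {L : Subgroup G} (h : ⁅L, L⁆ = L) :
    PClosing p L :=
  ⟨⊥, bot_le, fun x hx => by rw [Subgroup.mem_bot] at hx; subst hx; simp, by rw [h]; exact le_sup_left⟩

theorem pClosing_of_coprime {G : Type*} [Group G] (p : ℕ) {L : Subgroup G}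
    (h : ∀ x ∈ L, (orderOf x).Coprime p) : PClosing p L :=
  ⟨L, le_rfl, h, le_sup_right⟩

/-- The closing step: a stable two-step action of a `PClosing` group on a `p`-group is trivial. -/
theorem pClosing_close {G : Type*} [Group G] [Finite G] {p : ℕ} [Fact p.Prime]
    {L Q : Subgroup G} (hL : PClosing p L) (hQ : IsPGroup p Q)
    (hLQ : L ≤ Subgroup.normalizer (Q : Set G)) (R : Subgroup G) (hRQ : R ≤ Q)
    (h : ⁅⁅L, R⁆, L⁆ = ⊥) : ⁅L, R⁆ = ⊥ := by
  obtain ⟨X, hXL, hXcop, hLX⟩ := hL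
  have h1 : ⁅⁅L, L⁆, R⁆ = ⊥ := by
    have h' : ⁅⁅R, L⁆, L⁆ = ⊥ := by rw [Subgroup.commutator_comm R L]; exact h
    exact Subgroup.commutator_commutator_eq_bot_of_rotate h h'
  have hLRQ : ⁅L, R⁆ ≤ Q :=
    (Subgroup.commutator_mono le_rfl hRQ).trans
      (Subgroup.le_normalizer_iff_commutator_le_right.1 hLQ)
  have h2 : ⁅X, R⁆ = ⊥ := by
    rw [eq_bot_iff, Subgroup.commutator_le]
    intro x hx r hr
    rw [Subgroup.mem_bot, commutatorElement_eq_one_iff_commute]
    have hz : ⁅r, x⁆ ∈ ⁅L, R⁆ := by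
      rw [Subgroup.commutator_comm]
      exact Subgroup.commutator_mem_commutator hr (hXL hx)
    have hzx : Commute ⁅r, x⁆ x := by
      have : ⁅⁅r, x⁆, x⁆ ∈ ⁅⁅L, R⁆, L⁆ := Subgroup.commutator_mem_commutator hz (hXL hx)
      rw [h, Subgroup.mem_bot] at this
      exact commutatorElement_eq_one_iff_commute.1 this
    have hzp : ∃ k : ℕ, orderOf ⁅r, x⁆ = p ^ k := by
      obtain ⟨k, hk⟩ := (hQ.to_le hLRQ) ⟨⁅r, x⁆, hz⟩
      have hk' : ⁅r, x⁆ ^ p ^ k = 1 := by
        have := congrArg Subtype.val hk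
        simpa using this
      obtain ⟨j, _, hj⟩ := (Nat.dvd_prime_pow (Fact.out : p.Prime)).1 (orderOf_dvd_of_pow_eq_one hk')
      exact ⟨j, hj⟩
    obtain ⟨k, hk⟩ := hzp
    have hcop : (orderOf x).Coprime (orderOf ⁅r, x⁆) := by
      rw [hk]; exact Nat.Coprime.pow_right k (hXcop x hx)
    exact (commute_of_commutator_coprime r x hzx hcop).symm
  rw [Subgroup.commutator_comm, Subgroup.commutator_eq_bot_iff_le_centralizer,
    Subgroup.le_centralizer_iff]
  refine hLX.trans (sup_le ?_ ?_)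
  · exact Subgroup.commutator_eq_bot_iff_le_centralizer.1 h1
  · exact Subgroup.commutator_eq_bot_iff_le_centralizer.1 h2

/-- Thompson's `A × B` lemma (for `PClosing` groups `L`): if `L` acts on the `p`-group `Q`,
centralizing `P ≤ Q` and `C_Q(P)`, then `L` centralizes `Q`. -/
theorem pClosing_centralizes_pgroup {G : Type*} [Group G] [Finite G] {p : ℕ} [Fact p.Prime]
    (L Q P : Subgroup G) (hQ : IsPGroup p Q) (hL : PClosing p L)
    (hLQ : L ≤ Subgroup.normalizer (Q : Set G)) (hPQ : P ≤ Q)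
    (hLP : ⁅L, P⁆ = ⊥) (hLC : ⁅L, Q ⊓ Subgroup.centralizer (P : Set G)⁆ = ⊥) : ⁅L, Q⁆ = ⊥ := by
  set R₀ := P ⊔ (Q ⊓ Subgroup.centralizer (P : Set G)) with hR₀
  have hR₀Q : R₀ ≤ Q := sup_le hPQ inf_le_left
  have hR₀L : ⁅L, R₀⁆ = ⊥ := commutator_sup_right_eq_bot L _ _ hLP hLC
  obtain ⟨R, hR₀R, hRmax⟩ := Finite.exists_le_maximal
    (p := fun R : Subgroup G => R₀ ≤ R ∧ R ≤ Q ∧ ⁅L, R⁆ = ⊥) (a := R₀) ⟨le_rfl, hR₀Q, hR₀L⟩
  obtain ⟨⟨_, hRQ, hRL⟩, hmax⟩ := hRmax
  suffices h : R = Q by rw [← h]; exact hRL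
  by_contra hne
  have hlt : R.subgroupOf Q < ⊤ := by
    rw [lt_top_iff_ne_top, Ne, Subgroup.subgroupOf_eq_top]
    intro h; exact hne (le_antisymm hRQ h)
  have : Group.IsNilpotent Q := hQ.isNilpotent
  have hnc := Group.normalizerCondition_of_isNilpotent (G := Q) (R.subgroupOf Q) hlt
  obtain ⟨x, hxN, hxR⟩ := SetLike.exists_of_lt hnc
  set R' := Q ⊓ Subgroup.normalizer (R : Set G) with hR'
  have hxR' : (x : G) ∈ R' := by
    refine Subgroup.mem_inf.2 ⟨x.2, ?_⟩
    rw [Subgroup.mem_normalizer_iff]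
    intro y
    constructor
    · intro hy
      have := (Subgroup.mem_normalizer_iff.1 hxN ⟨y, hRQ hy⟩).1
        (by rw [Subgroup.mem_subgroupOf]; exact hy)
      rw [Subgroup.mem_subgroupOf] at this
      simpa using this
    · intro hy
      have hyQ : y ∈ Q := by
        have h1 : (x : G) * y * (x : G)⁻¹ ∈ Q := hRQ hy
        have : y = (x : G)⁻¹ * ((x : G) * y * (x : G)⁻¹) * (x : G) := by group
        rw [this]
        exact Q.mul_mem (Q.mul_mem (Q.inv_mem x.2) h1) x.2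
      have := (Subgroup.mem_normalizer_iff.1 hxN ⟨y, hyQ⟩).2
        (by rw [Subgroup.mem_subgroupOf]; simpa using hy)
      rw [Subgroup.mem_subgroupOf] at this
      exact this
  have hRR' : R ≤ R' := le_inf hRQ Subgroup.le_normalizer
  have hR'N : R' ≤ Subgroup.normalizer (R : Set G) := inf_le_right
  have hRL' : ⁅R, L⁆ = ⊥ := by rw [Subgroup.commutator_comm]; exact hRL
  have h1 : ⁅⁅R', R⁆, L⁆ = ⊥ := by
    rw [eq_bot_iff, ← hRL']
    exact Subgroup.commutator_mono (Subgroup.le_normalizer_iff_commutator_le_right.1 hR'N) le_rfl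
  have h2 : ⁅⁅R, L⁆, R'⁆ = ⊥ := by rw [hRL', Subgroup.commutator_bot_left]
  have h3 : ⁅⁅L, R'⁆, R⁆ = ⊥ := Subgroup.commutator_commutator_eq_bot_of_rotate h1 h2
  have h4 : ⁅L, R'⁆ ≤ R := by
    refine le_trans (le_inf ?_ ?_) (le_trans le_sup_right hR₀R)
    · exact (Subgroup.commutator_mono le_rfl inf_le_left).trans
        (Subgroup.le_normalizer_iff_commutator_le_right.1 hLQ)
    · refine (Subgroup.commutator_eq_bot_iff_le_centralizer.1 h3).trans ?_
      exact Subgroup.centralizer_le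
        (show (P : Set G) ⊆ R from (le_trans (le_sup_left : P ≤ R₀) hR₀R))
  have h5 : ⁅⁅L, R'⁆, L⁆ = ⊥ := by
    rw [eq_bot_iff, ← hRL']
    exact Subgroup.commutator_mono h4 le_rfl
  have h7 := pClosing_close hL hQ hLQ R' inf_le_left h5
  have h8 : R' ≤ R := hmax ⟨hR₀R.trans hRR', inf_le_left, h7⟩ hRR'
  apply hxR
  rw [Subgroup.mem_subgroupOf]
  exact h8 hxR'

theorem le_normalizer_sup {G : Type*} [Group G] {H A B : Subgroup G}
    (hA : H ≤ Subgroup.normalizer (A : Set G)) (hB : H ≤ Subgroup.normalizer (B : Set G)) :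
    H ≤ Subgroup.normalizer ((A ⊔ B : Subgroup G) : Set G) := by
  intro g hg
  rw [Subgroup.mem_normalizer_iff_map_conj_eq, Subgroup.map_sup,
    Subgroup.mem_normalizer_iff_map_conj_eq.1 (hA hg),
    Subgroup.mem_normalizer_iff_map_conj_eq.1 (hB hg)]

/-- The `A × B` lemma applied to `O_p(G)` with `P` an arbitrary `p`-subgroup: if `L` centralizes
`P` and `O_p(G) ∩ N_G(P)`, then `L` centralizes `O_p(G)`. -/
theorem pClosing_centralizes_pCore {G : Type*} [Group G] [Finite G] {p : ℕ} [Fact p.Prime]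
    (P : Subgroup G) (hP : IsPGroup p P) (L : Subgroup G) (hL : PClosing p L)
    (hLP : ⁅L, P⁆ = ⊥)
    (hLR : ⁅L, Cfsg.pCore p G ⊓ Subgroup.normalizer (P : Set G)⁆ = ⊥) :
    ⁅L, Cfsg.pCore p G⁆ = ⊥ := by
  have hQn : (Cfsg.pCore p G).Normal := Cfsg.pCore_normal p G
  have hQ' : IsPGroup p ↥(Cfsg.pCore p G ⊔ P) :=
    IsPGroup.to_sup_of_normal_left (pCore_isPGroup p) hP
  have hLnQ : L ≤ Subgroup.normalizer ((Cfsg.pCore p G : Subgroup G) : Set G) := by
    rw [Subgroup.normalizer_eq_top]; exact le_top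
  have hLnP : L ≤ Subgroup.normalizer (P : Set G) :=
    (Subgroup.commutator_eq_bot_iff_le_centralizer.1 hLP).trans
      (Subgroup.centralizer_le_normalizer _)
  have key := pClosing_centralizes_pgroup (p := p) L (Cfsg.pCore p G ⊔ P) P hQ' hL
    (le_normalizer_sup hLnQ hLnP) le_sup_right hLP ?_
  · rw [eq_bot_iff, ← key]
    exact Subgroup.commutator_mono le_rfl le_sup_left
  · have hle : (Cfsg.pCore p G ⊔ P) ⊓ Subgroup.centralizer (P : Set G) ≤
        (Cfsg.pCore p G ⊓ Subgroup.normalizer (P : Set G)) ⊔ P := by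
      intro x hx
      obtain ⟨hx1, hx2⟩ := Subgroup.mem_inf.1 hx
      have hx1' : x ∈ ((Cfsg.pCore p G : Subgroup G) : Set G) * (P : Set G) := by
        rw [← Subgroup.normal_mul]; exact hx1
      obtain ⟨a, ha, b, hb, rfl⟩ := hx1'
      have hxN : a * b ∈ Subgroup.normalizer (P : Set G) :=
        Subgroup.centralizer_le_normalizer _ hx2
      have haN : a ∈ Subgroup.normalizer (P : Set G) := by
        have : a = (a * b) * b⁻¹ := by group
        rw [this]
        exact Subgroup.mul_mem _ hxN (Subgroup.inv_mem _ (Subgroup.le_normalizer hb))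
      exact Subgroup.mul_mem _ (Subgroup.mem_sup_left (Subgroup.mem_inf.2 ⟨ha, haN⟩))
        (Subgroup.mem_sup_right hb)
    rw [eq_bot_iff, ← commutator_sup_right_eq_bot L _ _ hLR hLP]
    exact Subgroup.commutator_mono le_rfl hle

end Cfsg.Agent.Lib.Helper28
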