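import Cfsg.Agent.Lib.Helper28.Components

set_option autoImplicit false

namespace Cfsg.Agent.Lib.Helper28

open scoped Pointwise commutatorElement

/-- `O_p(G)` is a `p`-group. -/
theorem pCore_isPGroup {G : Type*} [Group G] (p : ℕ) [Fact p.Prime] :
    IsPGroup p ↥(Cfsg.pCore p G) :=
  Sylow.sSup_of_normal _ (fun _ h => h.2) (fun _ h => h.1)

theorem commutator_sup_right_eq_bot {G : Type*} [Group G] (L A B : Subgroup G)
    (hA : ⁅L, A⁆ = ⊥) (hB : ⁅L, B⁆ = ⊥) : ⁅L, A ⊔ B⁆ = ⊥ := by
  rw [Subgroup.commutator_comm, Subgroup.commutator_eq_bot_iff_le_centralizer]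
  rw [Subgroup.commutator_comm, Subgroup.commutator_eq_bot_iff_le_centralizer] at hA hB
  exact sup_le hA hB

/-- A Thompson-style lemma: a perfect group `L` acting on a `p`-group `Q`, centralizing `P ≤ Q`
and `C_Q(P)`, centralizes `Q`. -/
theorem perfect_centralizes_pgroup {G : Type*} [Group G] [Finite G] {p : ℕ} [Fact p.Prime]
    (L Q P : Subgroup G) (hQ : IsPGroup p Q) (hperf : ⁅L, L⁆ = L)
    (hLQ : L ≤ Subgroup.normalizer (Q : Set G)) (hPQ : P ≤ Q)
    (hLP : ⁅L, P⁆ = ⊥) (hLC : ⁅L, Q ⊓ Subgroup.centralizer (P : Set G)⁆ = ⊥) : ⁅L, Q⁆ = ⊥ := by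
  set R₀ := P ⊔ (Q ⊓ Subgroup.centralizer (P : Set G)) with hR₀
  have hR₀Q : R₀ ≤ Q := sup_le hPQ inf_le_left
  have hR₀L : ⁅L, R₀⁆ = ⊥ := commutator_sup_right_eq_bot L _ _ hLP hLC
  obtain ⟨R, hR₀R, hRmax⟩ := Finite.exists_le_maximal
    (p := fun R : Subgroup G => R₀ ≤ R ∧ R ≤ Q ∧ ⁅L, R⁆ = ⊥) (a := R₀) ⟨le_rfl, hR₀Q, hR₀L⟩
  obtain ⟨⟨_, hRQ, hRL⟩, hmax⟩ := hRmax
  suffices h : R = Q by rw [← h]; exact hRL
  by_contra hne
  have hlt : R.subgroupOf Q < ⊤ := by
    rw [lt_top_iff_ne_top, Ne, Subgroup.subgroupOf_eq_top]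
    intro h; exact hne (le_antisymm hRQ h)
  have : Group.IsNilpotent Q := hQ.isNilpotent
  have hnc := Group.normalizerCondition_of_isNilpotent (G := Q) (R.subgroupOf Q) hlt
  obtain ⟨x, hxN, hxR⟩ := SetLike.exists_of_lt hnc
  set R' := Q ⊓ Subgroup.normalizer (R : Set G) with hR'
  have hxR' : (x : G) ∈ R' := by
    refine Subgroup.mem_inf.2 ⟨x.2, ?_⟩
    rw [Subgroup.mem_normalizer_iff]
    intro y
    constructor
    · intro hy
      have := (Subgroup.mem_normalizer_iff.1 hxN ⟨y, hRQ hy⟩).1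
        (by rw [Subgroup.mem_subgroupOf]; exact hy)
      rw [Subgroup.mem_subgroupOf] at this
      simpa using this
    · intro hy
      have hyQ : y ∈ Q := by
        have h1 : (x : G) * y * (x : G)⁻¹ ∈ Q := hRQ hy
        have : y = (x : G)⁻¹ * ((x : G) * y * (x : G)⁻¹) * (x : G) := by group
        rw [this]
        exact Q.mul_mem (Q.mul_mem (Q.inv_mem x.2) h1) x.2
      have := (Subgroup.mem_normalizer_iff.1 hxN ⟨y, hyQ⟩).2
        (by rw [Subgroup.mem_subgroupOf]; simpa using hy)
      rw [Subgroup.mem_subgroupOf] at this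
      exact this
  have hRR' : R ≤ R' := le_inf hRQ Subgroup.le_normalizer
  have hR'N : R' ≤ Subgroup.normalizer (R : Set G) := inf_le_right
  have hRL' : ⁅R, L⁆ = ⊥ := by rw [Subgroup.commutator_comm]; exact hRL
  have h1 : ⁅⁅R', R⁆, L⁆ = ⊥ := by
    rw [eq_bot_iff, ← hRL']
    exact Subgroup.commutator_mono (Subgroup.le_normalizer_iff_commutator_le_right.1 hR'N) le_rfl
  have h2 : ⁅⁅R, L⁆, R'⁆ = ⊥ := by rw [hRL', Subgroup.commutator_bot_left]
  have h3 : ⁅⁅L, R'⁆, R⁆ = ⊥ := Subgroup.commutator_commutator_eq_bot_of_rotate h1 h2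
  have h4 : ⁅L, R'⁆ ≤ R := by
    refine le_trans (le_inf ?_ ?_) (le_trans le_sup_right hR₀R)
    · exact (Subgroup.commutator_mono le_rfl inf_le_left).trans
        (Subgroup.le_normalizer_iff_commutator_le_right.1 hLQ)
    · refine (Subgroup.commutator_eq_bot_iff_le_centralizer.1 h3).trans ?_
      exact Subgroup.centralizer_le (show (P : Set G) ⊆ R from (le_trans (le_sup_left : P ≤ R₀) hR₀R))
  have h5 : ⁅⁅L, R'⁆, L⁆ = ⊥ := by
    rw [eq_bot_iff, ← hRL']
    exact Subgroup.commutator_mono h4 le_rfl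
  have h6 : ⁅⁅R', L⁆, L⁆ = ⊥ := by rw [Subgroup.commutator_comm R' L]; exact h5
  have h7 := Subgroup.commutator_commutator_eq_bot_of_rotate h5 h6
  rw [hperf] at h7
  have h8 : R' ≤ R := hmax ⟨hR₀R.trans hRR', inf_le_left, h7⟩ hRR'
  apply hxR
  rw [Subgroup.mem_subgroupOf]
  exact h8 hxR'


/-- A component `K` of a subgroup `N` (as a group) centralizes, inside `G`, every solvable
subgroup `M ≤ N` normalized by `N`. -/
theorem component_sub_commutes_solvable {G : Type*} [Group G] (N : Subgroup G)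
    (K : Subgroup ↥N) (hK : Cfsg.IsComponent K) (M : Subgroup G) (hMN : M ≤ N)
    (hnorm : N ≤ Subgroup.normalizer (M : Set G)) (hsolv : Group.IsSolvable ↥M) :
    ⁅K.map N.subtype, M⁆ = ⊥ := by
  have hn : (M.subgroupOf N).Normal := (Subgroup.normal_subgroupOf_iff_le_normalizer hMN).2 hnorm
  have hs : Group.IsSolvable ↥(M.subgroupOf N) :=
    Group.isSolvable_of_isSolvable_injective
      (f := (Subgroup.subgroupOfEquivOfLe hMN).toMonoidHom) (Subgroup.subgroupOfEquivOfLe hMN).injective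
  have h1 : ⁅K, M.subgroupOf N⁆ = ⊥ :=
    component_commutes_solvable K (M.subgroupOf N) hK hs
      (by rw [Subgroup.normalizer_eq_top]; exact le_top)
  have h2 := congrArg (Subgroup.map N.subtype) h1
  rw [Subgroup.map_commutator, Subgroup.map_bot, Subgroup.map_subgroupOf_eq_of_le hMN] at h2
  exact h2

theorem isSolvable_of_isPGroup {G : Type*} [Group G] [Finite G] {p : ℕ} [Fact p.Prime]
    (M : Subgroup G) (hM : IsPGroup p M) : Group.IsSolvable ↥M := by
  have : Group.IsNilpotent M := hM.isNilpotent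
  infer_instance

/-- A component of `N` with `P C_Q(P) ≤ N ≤ N_G(P)`, `P ≤ Q = O_p(G)`, centralizes `O_p(G)`. -/
theorem component_centralizes_pCore_aux {G : Type*} [Group G] [Finite G] (p : ℕ)
    [Fact p.Prime] (P N : Subgroup G) (hP : P ≤ Cfsg.pCore p G) (hPN : P ≤ N)
    (hNP : N ≤ Subgroup.normalizer (P : Set G))
    (hCN : Cfsg.pCore p G ⊓ Subgroup.centralizer (P : Set G) ≤ N)
    (K : Subgroup ↥N) (hK : Cfsg.IsComponent K) :
    ⁅K.map N.subtype, Cfsg.pCore p G⁆ = ⊥ := by
  have hQ : IsPGroup p (Cfsg.pCore p G) := pCore_isPGroup p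
  have hperf : ⁅K.map N.subtype, K.map N.subtype⁆ = K.map N.subtype := by
    rw [← Subgroup.map_commutator, component_perfect hK]
  have hQN : (Cfsg.pCore p G ⊓ N) ≤ N := inf_le_right
  have hQNnorm : N ≤ Subgroup.normalizer ((Cfsg.pCore p G ⊓ N : Subgroup G) : Set G) := by
    intro x hx
    rw [Subgroup.mem_normalizer_iff]
    intro y
    have hQn : (Cfsg.pCore p G).Normal := Cfsg.pCore_normal p G
    have h1 : y ∈ Cfsg.pCore p G ↔ x * y * x⁻¹ ∈ Cfsg.pCore p G := by
      constructor
      · intro hy; exact hQn.conj_mem y hy x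
      · intro hy
        have := hQn.conj_mem _ hy x⁻¹
        simpa [mul_assoc] using this
    have h2 : y ∈ N ↔ x * y * x⁻¹ ∈ N := by
      constructor
      · intro hy; exact N.mul_mem (N.mul_mem hx hy) (N.inv_mem hx)
      · intro hy
        have : y = x⁻¹ * (x * y * x⁻¹) * x := by group
        rw [this]
        exact N.mul_mem (N.mul_mem (N.inv_mem hx) hy) hx
    simp only [Subgroup.mem_inf, h1, h2]
  apply perfect_centralizes_pgroup (p := p) (K.map N.subtype) (Cfsg.pCore p G) P hQ hperf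
  · rw [Subgroup.normalizer_eq_top]; exact le_top
  · exact hP
  · exact component_sub_commutes_solvable N K hK P hPN hNP
      (isSolvable_of_isPGroup P (hQ.to_le hP))
  · have h1 := component_sub_commutes_solvable N K hK (Cfsg.pCore p G ⊓ N) hQN hQNnorm
      (isSolvable_of_isPGroup _ (hQ.to_le inf_le_left))
    rw [eq_bot_iff, ← h1]
    exact Subgroup.commutator_mono le_rfl (le_inf inf_le_left hCN)

/-- If `L ≤ C ≤ N`, `C` is subnormal in `G` and `L` is subnormal in `N`, then `L` is subnormal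
in `G`. -/
theorem subnormal_of_sub {G : Type*} [Group G] (N C : Subgroup G) (hCN : C ≤ N)
    (hC : C.IsSubnormal) (K : Subgroup ↥N) (hK : K.IsSubnormal) (hKC : K.map N.subtype ≤ C) :
    (K.map N.subtype).IsSubnormal := by
  have h1 : (K.comap (Subgroup.inclusion hCN)).IsSubnormal := hK.comap _
  have h2 : K.comap (Subgroup.inclusion hCN) = (K.map N.subtype).subgroupOf C := by
    ext x
    rw [Subgroup.mem_comap, Subgroup.mem_subgroupOf, Subgroup.mem_map]
    constructor
    · intro hx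
      exact ⟨_, hx, rfl⟩
    · rintro ⟨y, hy, hyx⟩
      have : y = Subgroup.inclusion hCN x := Subtype.ext (by simpa using hyx)
      rwa [← this]
  rw [h2] at h1
  exact Subgroup.IsSubnormal.trans hKC h1 hC

/-- The components of a subnormal-closed piece: a component of `G` contained in `N` is a
component of `N`. -/
theorem component_subgroupOf {G : Type*} [Group G] (N L : Subgroup G) (hLN : L ≤ N)
    (hL : Cfsg.IsComponent L) : Cfsg.IsComponent (L.subgroupOf N) :=
  ⟨hL.1.subgroupOf, quasisimple_of_mulEquiv (Subgroup.subgroupOfEquivOfLe hLN).symm hL.2⟩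

theorem component_le_layer {G : Type*} [Group G] {L : Subgroup G} (hL : Cfsg.IsComponent L) :
    L ≤ Cfsg.layer G :=
  le_sSup hL

/-- A component of `G` centralizes `O_p(G)`. -/
theorem component_centralizes_pCore {G : Type*} [Group G] [Finite G] (p : ℕ) [Fact p.Prime]
    {L : Subgroup G} (hL : Cfsg.IsComponent L) : ⁅L, Cfsg.pCore p G⁆ = ⊥ := by
  apply component_commutes_solvable L _ hL (isSolvable_of_isPGroup _ (pCore_isPGroup p))
  rw [Subgroup.normalizer_eq_top]; exact le_top

/-- `E(N_G(P)) = E(G)` for `P ≤ O_p(G)`. -/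
theorem layer_normalizer_eq {G : Type*} [Group G] [Finite G] (p : ℕ) [Fact p.Prime]
    (P : Subgroup G) (hP : P ≤ Cfsg.pCore p G) :
    (Cfsg.layer ↥(Subgroup.normalizer (P : Set G))).map (Subgroup.normalizer (P : Set G)).subtype
      = Cfsg.layer G := by
  have hCP : Subgroup.centralizer ((Cfsg.pCore p G : Subgroup G) : Set G) ≤
      Subgroup.normalizer (P : Set G) :=
    (Subgroup.centralizer_le hP).trans (Subgroup.centralizer_le_normalizer _)
  apply le_antisymm
  · rw [Subgroup.map_le_iff_le_comap]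
    apply sSup_le
    intro K hK
    rw [← Subgroup.map_le_iff_le_comap]
    apply component_le_layer
    have h0 := component_centralizes_pCore_aux p P _ hP Subgroup.le_normalizer le_rfl
      (inf_le_right.trans (Subgroup.centralizer_le_normalizer _)) K hK
    refine ⟨?_, quasisimple_of_mulEquiv (K.equivMapOfInjective _ (Subgroup.subtype_injective _)) hK.2⟩
    apply subnormal_of_sub _ (Subgroup.centralizer ((Cfsg.pCore p G : Subgroup G) : Set G)) hCP
      (Subgroup.Normal.isSubnormal inferInstance) K hK.1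
    exact Subgroup.commutator_eq_bot_iff_le_centralizer.1 h0
  · apply sSup_le
    intro L hL
    have hLN : L ≤ Subgroup.normalizer (P : Set G) :=
      (Subgroup.commutator_eq_bot_iff_le_centralizer.1 (component_centralizes_pCore p hL)).trans hCP
    have h1 := component_le_layer (component_subgroupOf _ L hLN hL)
    have h2 := Subgroup.map_mono (f := (Subgroup.normalizer (P : Set G)).subtype) h1
    rwa [Subgroup.map_subgroupOf_eq_of_le hLN] at h2

end Cfsg.Agent.Lib.Helper28
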