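import Mathlib
import Cfsg.Prelude.Def_Local

set_option autoImplicit false

namespace Cfsg.Agent.Lib.Helper28

open scoped Pointwise commutatorElement

/-- Central factors do not change a commutator. -/
theorem commutatorElement_mul_central {X : Type*} [Group X] (a b z w : X)
    (hz : z ∈ Subgroup.center X) (hw : w ∈ Subgroup.center X) :
    ⁅a * z, b * w⁆ = ⁅a, b⁆ := by
  have hz' : ∀ g, Commute z g := fun g => (Subgroup.mem_center_iff.1 hz g).symm
  have hw' : ∀ g, Commute w g := fun g => (Subgroup.mem_center_iff.1 hw g).symm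
  have h1 : ∀ c : X, ⁅z, c⁆ = 1 := fun c => (hz' c).commutator_eq
  have h2 : ∀ c : X, ⁅c, w⁆ = 1 := fun c => (hw' c).symm.commutator_eq
  rw [commutatorElement_mul_left_eq_conj_mul, h1, commutatorElement_mul_right_eq_mul_conj, h2]
  simp

/-- If `H ⊔ Z(X) = ⊤` then the commutator subgroup of `X` lies in `⁅H, H⁆`. -/
theorem commutator_le_of_sup_center_eq_top {X : Type*} [Group X] (H : Subgroup X)
    (h : H ⊔ Subgroup.center X = ⊤) : commutator X ≤ ⁅H, H⁆ := by
  rw [commutator_def, Subgroup.commutator_le]
  intro x _ y _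
  have hx : x ∈ ((H : Subgroup X) : Set X) * (Subgroup.center X : Set X) := by
    rw [← Subgroup.mul_normal, h]; trivial
  have hy : y ∈ ((H : Subgroup X) : Set X) * (Subgroup.center X : Set X) := by
    rw [← Subgroup.mul_normal, h]; trivial
  obtain ⟨a, ha, z, hz, rfl⟩ := hx
  obtain ⟨b, hb, w, hw, rfl⟩ := hy
  rw [commutatorElement_mul_central a b z w hz hw]
  exact Subgroup.commutator_mem_commutator ha hb

/-- In a quasisimple group, every subnormal subgroup is either the whole group or central. -/
theorem quasisimple_subnormal {X : Type*} [Group X] (hX : Cfsg.IsQuasisimple X)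
    (H : Subgroup X) (hH : H.IsSubnormal) : H = ⊤ ∨ H ≤ Subgroup.center X := by
  obtain ⟨hperf, hsimple⟩ := hX
  have hsub : (H.map (QuotientGroup.mk' (Subgroup.center X))).IsSubnormal := hH.quotient
  rcases hsub.eq_bot_or_top_of_isSimpleGroup hsimple with h | h
  · right
    intro x hx
    have : (QuotientGroup.mk' (Subgroup.center X)) x ∈
        H.map (QuotientGroup.mk' (Subgroup.center X)) := ⟨x, hx, rfl⟩
    rw [h, Subgroup.mem_bot] at this
    exact (QuotientGroup.eq_one_iff x).1 this
  · left
    have h1 : H ⊔ Subgroup.center X = ⊤ := by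
      have := congrArg (Subgroup.comap (QuotientGroup.mk' (Subgroup.center X))) h
      rw [Subgroup.comap_map_eq, QuotientGroup.ker_mk', Subgroup.comap_top] at this
      exact this
    have h2 := (commutator_le_of_sup_center_eq_top H h1).trans (Subgroup.commutator_le_self H)
    rw [hperf.commutator_eq_top] at h2
    exact top_le_iff.1 h2

theorem quasisimple_nontrivial {X : Type*} [Group X] (hX : Cfsg.IsQuasisimple X) :
    Nontrivial X := by
  obtain ⟨_, hsimple⟩ := hX
  have : Nontrivial (X ⧸ Subgroup.center X) := hsimple.toNontrivial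
  exact (QuotientGroup.mk'_surjective (Subgroup.center X)).nontrivial

theorem quasisimple_not_solvable {X : Type*} [Group X] (hX : Cfsg.IsQuasisimple X) :
    ¬ Group.IsSolvable X := by
  have := quasisimple_nontrivial hX
  have := hX.1
  exact Group.IsPerfect.not_isSolvable X

theorem map_center_of_mulEquiv {X Y : Type*} [Group X] [Group Y] (e : X ≃* Y) :
    (Subgroup.center X).map e.toMonoidHom = Subgroup.center Y := by
  ext y
  simp only [Subgroup.mem_map, MulEquiv.coe_toMonoidHom, Subgroup.mem_center_iff]
  constructor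
  · rintro ⟨x, hx, rfl⟩ g
    obtain ⟨g', rfl⟩ := e.surjective g
    rw [← map_mul, ← map_mul, hx g']
  · intro hy
    refine ⟨e.symm y, fun g => ?_, by simp⟩
    apply e.injective
    simp [hy (e g)]

theorem quasisimple_of_mulEquiv {X Y : Type*} [Group X] [Group Y] (e : X ≃* Y)
    (hX : Cfsg.IsQuasisimple X) : Cfsg.IsQuasisimple Y := by
  obtain ⟨hperf, hsimple⟩ := hX
  refine ⟨Group.IsPerfect.ofSurjective (f := e.toMonoidHom) e.surjective, ?_⟩
  have e' : X ⧸ Subgroup.center X ≃* Y ⧸ Subgroup.center Y :=
    QuotientGroup.congr (Subgroup.center X) (Subgroup.center Y) e (map_center_of_mulEquiv e)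
  exact e'.symm.isSimpleGroup

/-- If `D ⊔ Z(X) = ⊤` then `Z(D) = D ∩ Z(X)`. -/
theorem center_eq_of_sup_center_eq_top {X : Type*} [Group X] (D : Subgroup X)
    (h : D ⊔ Subgroup.center X = ⊤) (d : D) :
    d ∈ Subgroup.center D ↔ (d : X) ∈ Subgroup.center X := by
  constructor
  · intro hd
    rw [Subgroup.mem_center_iff]
    intro x
    have hx : x ∈ ((D : Subgroup X) : Set X) * (Subgroup.center X : Set X) := by
      rw [← Subgroup.mul_normal, h]; trivial
    obtain ⟨a, ha, z, hz, rfl⟩ := hx
    have h1 : a * (d : X) = (d : X) * a := by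
      have := Subgroup.mem_center_iff.1 hd ⟨a, ha⟩
      exact congrArg Subtype.val this
    have h2 : z * (d : X) = (d : X) * z := (Subgroup.mem_center_iff.1 hz d).symm
    change a * z * (d : X) = (d : X) * (a * z)
    rw [mul_assoc, h2, ← mul_assoc, h1, mul_assoc]
  · intro hd
    rw [Subgroup.mem_center_iff]
    intro a
    apply Subtype.ext
    exact Subgroup.mem_center_iff.1 hd a

/-- If `D ⊔ Z(X) = ⊤` then `D / Z(D) ≃ X / Z(X)`. -/
noncomputable def quotientCenterEquivOfSupCenterEqTop {X : Type*} [Group X] (D : Subgroup X)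
    (h : D ⊔ Subgroup.center X = ⊤) : D ⧸ Subgroup.center D ≃* X ⧸ Subgroup.center X := by
  let φ : D →* X ⧸ Subgroup.center X := (QuotientGroup.mk' (Subgroup.center X)).comp D.subtype
  have hφ : Function.Surjective φ := by
    intro y
    obtain ⟨x, rfl⟩ := QuotientGroup.mk'_surjective _ y
    have hx : x ∈ ((D : Subgroup X) : Set X) * (Subgroup.center X : Set X) := by
      rw [← Subgroup.mul_normal, h]; trivial
    obtain ⟨a, ha, z, hz, rfl⟩ := hx
    refine ⟨⟨a, ha⟩, ?_⟩
    change (QuotientGroup.mk' (Subgroup.center X)) a = (QuotientGroup.mk' (Subgroup.center X)) (a * z)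
    have hz1 : (QuotientGroup.mk' (Subgroup.center X)) z = 1 := (QuotientGroup.eq_one_iff z).2 hz
    rw [map_mul, hz1, mul_one]
  have hker : Subgroup.center D = φ.ker := by
    ext d
    rw [center_eq_of_sup_center_eq_top D h d, MonoidHom.mem_ker]
    change _ ↔ (QuotientGroup.mk' (Subgroup.center X)) (d : X) = 1
    rw [QuotientGroup.mk'_apply, QuotientGroup.eq_one_iff]
  exact (QuotientGroup.quotientMulEquivOfEq hker).trans
    (QuotientGroup.quotientKerEquivOfSurjective φ hφ)

/-- If the central quotient of `X` is non-abelian simple, then `X = X' Z(X)`. -/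
theorem commutator_sup_center_eq_top {X : Type*} [Group X]
    (hs : IsSimpleGroup (X ⧸ Subgroup.center X))
    (hna : ¬ IsMulCommutative (X ⧸ Subgroup.center X)) :
    commutator X ⊔ Subgroup.center X = ⊤ := by
  have hn : ((commutator X).map (QuotientGroup.mk' (Subgroup.center X))).Normal :=
    Subgroup.Normal.map inferInstance _ (QuotientGroup.mk'_surjective _)
  rcases hn.eq_bot_or_eq_top with h | h
  · exfalso
    apply hna
    rw [Subgroup.Normal.quotient_commutative_iff_commutator_le]
    intro x hx
    have : (QuotientGroup.mk' (Subgroup.center X)) x ∈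
        (commutator X).map (QuotientGroup.mk' (Subgroup.center X)) := ⟨x, hx, rfl⟩
    rw [h, Subgroup.mem_bot] at this
    exact (QuotientGroup.eq_one_iff x).1 this
  · have := congrArg (Subgroup.comap (QuotientGroup.mk' (Subgroup.center X))) h
    rw [Subgroup.comap_map_eq, QuotientGroup.ker_mk', Subgroup.comap_top] at this
    exact this

/-- If the central quotient of `X` is non-abelian simple, then `X'` is quasisimple. -/
theorem commutator_quasisimple {X : Type*} [Group X]
    (hs : IsSimpleGroup (X ⧸ Subgroup.center X))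
    (hna : ¬ IsMulCommutative (X ⧸ Subgroup.center X)) :
    Cfsg.IsQuasisimple ↥(commutator X) := by
  have h := commutator_sup_center_eq_top hs hna
  refine ⟨?_, ?_⟩
  · rw [Subgroup.isPerfect_iff]
    exact le_antisymm (Subgroup.commutator_le_self _) (commutator_le_of_sup_center_eq_top _ h)
  · exact (quotientCenterEquivOfSupCenterEqTop _ h).isSimpleGroup

end Cfsg.Agent.Lib.Helper28
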