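import Mathlib
import Cfsg.Agent.Lib.Helper31.BG134Defs
import Cfsg.Agent.Lib.Helper31.BG12a
import Cfsg.Agent.Lib.Helper55.SylowIn
import Cfsg.Agent.Lib.Helper55.Uniq3
import Cfsg.Agent.Lib.Helper15.BG11Z
import Cfsg.Agent.S1350
import Cfsg.Agent.S1423
import Cfsg.Agent.S1424

/-!
# K-S1428-G7 (BG 12.14(d)), modulo the keystones G1 and G6 taken as hypotheses
-/

set_option autoImplicit false

namespace Cfsg.Agent.Lib.Helper28.BG134

open Cfsg Cfsg.Agent.Lib.Helper55 Cfsg.Agent.Lib.Helper31.BG134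

variable {G : Type*} [Group G] [Finite G]

/-- a `q`-subgroup of `K` of index prime to `q` is a Sylow `q`-subgroup of `K` -/
theorem isSylowIn_of_not_dvd_relIndex {q : ℕ} [Fact q.Prime] {K T : Subgroup G} (hTK : T ≤ K)
    (hT : IsPGroup q T) (h : ¬ q ∣ T.relIndex K) : IsSylowIn q K T := by
  refine ⟨hTK, hT, fun T' hT'K hT'q hle => ?_⟩
  have h1 : T.relIndex T' * T'.relIndex K = T.relIndex K :=
    Subgroup.relIndex_mul_relIndex T T' K hle hT'K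
  have h2 : ¬ q ∣ T.relIndex T' := fun hd => h (h1 ▸ Dvd.dvd.mul_right hd _)
  have h3 : T.relIndex T' ∣ Nat.card T' := Subgroup.relIndex_dvd_card T T'
  obtain ⟨n, hn⟩ := hT'q.exists_card_eq
  rw [hn] at h3
  obtain ⟨k, hk, hk'⟩ := (Nat.dvd_prime_pow Fact.out).mp h3
  have h4 : T.relIndex T' = 1 := by
    rcases Nat.eq_zero_or_pos k with rfl | hpos
    · simpa using hk'
    · exfalso; apply h2; rw [hk']; exact dvd_pow_self q hpos.ne'
  have h5 : T' ≤ T := Subgroup.relIndex_eq_one.mp h4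
  exact le_antisymm h5 hle

/-- a nontrivial `q`-group has a subgroup of order `q` -/
theorem exists_card_prime_le {q : ℕ} [Fact q.Prime] {X : Subgroup G} (hXq : IsPGroup q X)
    (hX1 : X ≠ ⊥) : ∃ X' : Subgroup G, X' ≤ X ∧ Nat.card X' = q := by
  have : Nontrivial ↥X := (Subgroup.nontrivial_iff_ne_bot X).mpr hX1
  obtain ⟨n, hn0, hn⟩ := hXq.nontrivial_iff_card.mp inferInstance
  have hdvd : q ∣ Nat.card ↥X := by rw [hn]; exact dvd_pow_self q hn0.ne'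
  obtain ⟨y, hy⟩ := exists_prime_orderOf_dvd_card' q hdvd
  refine ⟨Subgroup.zpowers (y : G), ?_, ?_⟩
  · rw [Subgroup.zpowers_le]; exact y.2
  · rw [Nat.card_zpowers, Subgroup.orderOf_coe, hy]

/-- **BG 12.14(d)**, with the keystones G1 (`le_commutator_of_mem_sigma`) and G6 (`frattini_beta`)
as hypotheses. -/
theorem eq_beta_mul_inf_of (hG : IsMinSimpleOddOrder G)
    (hG1 : ∀ {H : Subgroup G}, IsCoatom H → ∀ {s : ℕ} [Fact s.Prime], s ∈ sigma H →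
      ∀ {X : Subgroup G}, X ≤ H → IsPGroup s X → X ≤ ⁅H, H⁆)
    (hG6 : ∀ {H : Subgroup G}, IsCoatom H → ∀ {q : ℕ} [Fact q.Prime], q ∉ beta H →
      ∀ {Y : Subgroup G}, IsSylowIn q ⁅H, H⁆ Y →
      ∀ h ∈ H, ∃ b ∈ piCoreOf (beta H) H, ∃ n ∈ H ⊓ Subgroup.normalizer (Y : Set G), h = b * n)
    {M L : Subgroup G} (hM : IsCoatom M)
    (hL : IsCoatom L) (hne : L ≠ M) {q : ℕ} [Fact q.Prime] (hqM : q ∈ sigma M) (hqL : q ∈ sigma L)
    {X : Subgroup G} (hXq : IsPGroup q X) (hX1 : X ≠ ⊥) (hXM : X ≤ M)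
    (hNX : Subgroup.normalizer (X : Set G) ≤ L) :
    ∀ l ∈ L, ∃ b ∈ piCoreOf (beta L) L, ∃ m ∈ M ⊓ L, l = b * m := by
  have hXL : X ≤ L := Subgroup.le_normalizer.trans hNX
  have hXML : X ≤ M ⊓ L := le_inf hXM hXL
  obtain ⟨S, hS⟩ := (hXq.comap_subtype : IsPGroup q (X.subgroupOf (M ⊓ L))).exists_le_sylow
  have hXS : X ≤ (S : Subgroup ↥(M ⊓ L)).map (M ⊓ L).subtype := by
    intro x hx
    exact ⟨⟨x, hXML hx⟩, hS (show (⟨x, hXML hx⟩ : ↥(M ⊓ L)) ∈ X.subgroupOf (M ⊓ L) by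
      rw [Subgroup.mem_subgroupOf]; exact hx), rfl⟩
  obtain ⟨hnc, hNS, hidx⟩ :=
    Cfsg.Agent.S1424.result hG M hM q hqM X hXq hX1 hXM L hL hne hNX S hXS
  have hSML : (S : Subgroup ↥(M ⊓ L)).map (M ⊓ L).subtype ≤ M ⊓ L := Subgroup.map_subtype_le _
  have hSq : IsPGroup q ((S : Subgroup ↥(M ⊓ L)).map (M ⊓ L).subtype) := S.isPGroup'.map _
  have hSL : (S : Subgroup ↥(M ⊓ L)).map (M ⊓ L).subtype ≤ L := hSML.trans inf_le_right
  have hSyl : IsSylowIn q L ((S : Subgroup ↥(M ⊓ L)).map (M ⊓ L).subtype) :=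
    isSylowIn_of_not_dvd_relIndex hSL hSq hidx
  -- `q ∉ β(L)`
  have hqβ : q ∉ beta L := by
    intro hβ
    obtain ⟨X', hX'X, hX'c⟩ := exists_card_prime_le hXq hX1
    obtain ⟨P⟩ : Nonempty (Sylow q ↥(sigmaCore L)) := inferInstance
    obtain ⟨-, hU, hPL⟩ :=
      Cfsg.Agent.S1423.result hG L hL q hqL X' (hX'X.trans hXL) hX'c P (Or.inl hβ)
    have hPσ : IsSylowIn q (sigmaCore L)
        ((P : Subgroup ↥(sigmaCore L)).map (sigmaCore L).subtype) := isSylowIn_of_sylow P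
    have hPsyl : IsSylowIn q L ((P : Subgroup ↥(sigmaCore L)).map (sigmaCore L).subtype) :=
      Cfsg.Agent.Lib.Helper15.BG11Z.isSylowIn_of_sigmaCore hG hL hqL hPσ
    obtain ⟨l, hl, hconj⟩ := hSyl.exists_conj hPsyl
    have h1 : (P : Subgroup ↥(sigmaCore L)).map (sigmaCore L).subtype ≤ cj l M := by
      rw [← hconj]
      exact cj_mono (hSML.trans inf_le_left)
    have hcoat : IsCoatom (cj l M) := isCoatom_cj l hM
    obtain ⟨U, hU1, hU2⟩ := hU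
    have e1 : cj l M = U := hU2 _ ⟨hcoat, h1⟩
    have e2 : L = U := hU2 _ ⟨hL, hPL⟩
    exact hnc l (e2.trans e1.symm)
  -- `S ≤ L'`
  have hSc : (S : Subgroup ↥(M ⊓ L)).map (M ⊓ L).subtype ≤ ⁅L, L⁆ := hG1 hL hqL hSL hSq
  have hSyl' : IsSylowIn q ⁅L, L⁆ ((S : Subgroup ↥(M ⊓ L)).map (M ⊓ L).subtype) := by
    refine ⟨hSc, hSq, fun T' hT' hT'q hle => ?_⟩
    have hLL : ⁅L, L⁆ ≤ L := Subgroup.commutator_le.mpr (fun a ha b hb =>
      L.mul_mem (L.mul_mem (L.mul_mem ha hb) (L.inv_mem ha)) (L.inv_mem hb))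
    exact hSyl.2.2 T' (hT'.trans hLL) hT'q hle
  intro l hl
  obtain ⟨b, hb, n, hn, e⟩ := hG6 hL hqβ hSyl' l hl
  exact ⟨b, hb, n, ⟨hNS hn.2, hn.1⟩, e⟩

end Cfsg.Agent.Lib.Helper28.BG134
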