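import Mathlib
import Cfsg.Agent.Lib.Helper28.BG134G7a
import Cfsg.Agent.Lib.Helper65.BG134G1
import Cfsg.Agent.Lib.Helper60.BG134G6

/-!
# K-S1428-G7 (BG 12.14(d)): `L = L_β (M ∩ L)`
-/

set_option autoImplicit false

namespace Cfsg.Agent.Lib.Helper28.BG134

open Cfsg Cfsg.Agent.Lib.Helper55 Cfsg.Agent.Lib.Helper31.BG134

variable {G : Type*} [Group G] [Finite G]

/-- KEYSTONE 142806  K-S1428-G7  (BG 12.14(d)). -/
theorem eq_beta_mul_inf (hG : IsMinSimpleOddOrder G) {M L : Subgroup G} (hM : IsCoatom M)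
    (hL : IsCoatom L) (hne : L ≠ M) {q : ℕ} [Fact q.Prime] (hqM : q ∈ sigma M) (hqL : q ∈ sigma L)
    {X : Subgroup G} (hXq : IsPGroup q X) (hX1 : X ≠ ⊥) (hXM : X ≤ M)
    (hNX : Subgroup.normalizer (X : Set G) ≤ L) :
    ∀ l ∈ L, ∃ b ∈ piCoreOf (beta L) L, ∃ m ∈ M ⊓ L, l = b * m :=
  eq_beta_mul_inf_of hG
    (fun {_} hH {_} _ hs {_} hXH hXs =>
      Cfsg.Agent.Lib.Helper65.BG134.le_commutator_of_mem_sigma hG hH hs hXH hXs)
    (fun {_} hH {_} _ hq {_} hY =>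
      Cfsg.Agent.Lib.Helper60.BG134.frattini_beta hG hH hq hY)
    hM hL hne hqM hqL hXq hX1 hXM hNX

end Cfsg.Agent.Lib.Helper28.BG134
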