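import Mathlib
import Cfsg.Agent.Lib.Helper15.BG142Defs2
import Cfsg.Agent.Lib.Helper31.BG12a
import Cfsg.Agent.Lib.Helper12.CNMaxSub
import Cfsg.Agent.Lib.Helper71.BG11a
import Cfsg.Agent.Lib.Helper13.BG127
import Cfsg.Agent.Lib.Helper13.BG12B
import Cfsg.Agent.Lib.Helper13.BG135
import Cfsg.Agent.Lib.Helper16.BG134Asm
import Cfsg.Agent.Lib.Helper14.BG134G8
import Cfsg.Agent.S1350
import Cfsg.Agent.S1420
import Cfsg.Agent.S1424

/-!
# K-A (143020) `ha_of_htx`: uniqueness (A) of BG 14.2 from T-X and the sigma-partition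
-/

set_option autoImplicit false

namespace Cfsg.Agent.Lib.Helper28.BG142

open Cfsg Cfsg.Agent.Lib.Helper55 Cfsg.Agent.Lib.Helper31.BG134 Cfsg.Agent.Lib.Helper15.BG139
  Cfsg.Agent.Lib.Helper15.BG142

variable {G : Type*} [Group G] [Finite G]

theorem ha_of_htx (hG : IsMinSimpleOddOrder G) (hSP : HSP G) (hTX : HTX G) : HA G := by
  intro M P Y p hM hPM hPc hp13 hY hYc M2 hM2 hNM2
  classical
  have hpp : p.Prime := by rcases hp13 with h | h <;> exact h.1
  have hpσM : p ∉ sigma M := by rcases hp13 with h | h <;> exact h.2.1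
  have hpF : Fact p.Prime := ⟨hpp⟩
  have hqF : Fact (Nat.card Y).Prime := ⟨hYc⟩
  have hY1 : Y ≠ ⊥ := by
    intro h; rw [h, Subgroup.card_bot] at hYc; exact Nat.not_prime_one hYc
  have hP1 : P ≠ ⊥ := by
    intro h; rw [h, Subgroup.card_bot] at hPc; rw [← hPc] at hpp; exact Nat.not_prime_one hpp
  have hYσ : Y ≤ sigmaCore M := hY.trans inf_le_left
  have hYCP : Y ≤ Subgroup.centralizer (P : Set G) := hY.trans inf_le_right
  have hσM : sigmaCore M ≤ M := Subgroup.map_subtype_le _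
  have hYM : Y ≤ M := hYσ.trans hσM
  have hqσM : Nat.card Y ∈ sigma M :=
    Cfsg.Agent.Lib.Helper71.BG11.sigmaCore_pi hG hM hYc (Subgroup.card_dvd_of_le hYσ)
  have hC1 : CP M P ≠ ⊥ := by
    intro h
    apply hY1
    rw [eq_bot_iff, ← h]
    exact hY
  -- the maximal subgroup `H` over `N_G(P)`
  have hPtop : P ≠ ⊤ := by
    intro h
    apply hM.1
    rw [eq_top_iff, ← h]
    exact hPM
  obtain ⟨H, hH, hNH⟩ :=
    Cfsg.Agent.Lib.Helper12.CNMaxSub.exists_coatom_normalizer_le hG hP1 hPtop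
  have hpσH : p ∈ sigma H := hTX M P H p hM hPM hPc hp13 hC1 hH hNH
  have hnc : ∀ g : G, cj g M ≠ H := by
    intro g hg
    apply hpσM
    have h1 : p ∈ sigma (cj g M) := by rw [hg]; exact hpσH
    have := Cfsg.Agent.Lib.Helper31.BG12.mem_sigma_cj h1 g⁻¹
    rwa [cj_inv_cj] at this
  have hqσH : Nat.card Y ∉ sigma H := hSP M H hM hH hnc (Nat.card Y) hqσM
  have hPH : P ≤ H := Subgroup.le_normalizer.trans hNH
  have hPp : IsPGroup p P := IsPGroup.of_card (n := 1) (by rw [hPc, pow_one])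
  have hPHσ : P ≤ sigmaCore H :=
    Cfsg.Agent.Lib.Helper13.BG127.pgroup_le_sigmaCore hG hH hpσH hPH hPp
  have hCPH : Subgroup.centralizer (P : Set G) ≤ H :=
    (Subgroup.centralizer_le_normalizer _).trans hNH
  have hYH : Y ≤ H := hYCP.trans hCPH
  have hYq : IsPGroup (Nat.card Y) Y := IsPGroup.of_card (n := 1) (by rw [pow_one])
  have hHM : H ≠ M := fun h => hnc 1 (by rw [cj_one, h])
  -- elementwise commutation of `P` and `Y`
  have hcomm : ∀ x ∈ P, ∀ y ∈ Y, x * y = y * x := by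
    intro x hx y hy
    exact (Subgroup.mem_centralizer_iff.mp (hYCP hy)) x hx
  have hPCY : P ≤ Subgroup.centralizer (Y : Set G) := by
    intro x hx
    rw [Subgroup.mem_centralizer_iff]
    intro y hy
    exact (hcomm x hx y hy).symm
  -- `q ∉ τ₂(H)`
  have hq2 : Nat.card Y ∉ tau2 H := by
    intro hq2
    obtain ⟨EH, hEH, -⟩ := Cfsg.Agent.Lib.Helper13.BG12.exists_complIn_ge hG hH
      (Cfsg.Agent.S1350.result hG H hH).1 (K := ⊥) bot_le (by
        intro r hr hrd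
        rw [Subgroup.card_bot] at hrd
        exact absurd (Nat.dvd_one.mp hrd) hr.ne_one)
    obtain ⟨y, hy1⟩ := (Subgroup.ne_bot_iff_exists_ne_one).mp hY1
    have hy1' : (y : G) ≠ 1 := fun h => hy1 (Subtype.ext h)
    obtain ⟨x, hx1⟩ := (Subgroup.ne_bot_iff_exists_ne_one).mp hP1
    have hx1' : (x : G) ≠ 1 := fun h => hx1 (Subtype.ext h)
    have hord : orderOf (y : G) = Nat.card Y := by
      have hd : orderOf (y : G) ∣ Nat.card Y := by
        rw [Subgroup.orderOf_coe]; exact orderOf_dvd_natCard y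
      rcases (Nat.dvd_prime hYc).mp hd with h | h
      · exact absurd (orderOf_eq_one_iff.mp h) hy1'
      · exact h
    have hyhat : (y : G) ∈ sigmaHat H :=
      ⟨hYH y.2, x, hPHσ x.2, hx1', (hcomm x x.2 y y.2).symm⟩
    obtain ⟨-, huniq⟩ := (Cfsg.Agent.S1420.result hG H hH EH hEH).2.2.2 (y : G) (hYH y.2) hy1'
      (by
        intro r hr hrd
        rw [hord] at hrd
        rw [(Nat.prime_dvd_prime_iff_eq hr hYc).mp hrd]
        exact hq2) hyhat
    -- `C(y) = C(Y) ≤ N(Y) ≤ M2`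
    have hzp : Subgroup.zpowers (y : G) = Y := by
      apply Subgroup.eq_of_le_of_card_ge
      · rw [Subgroup.zpowers_le]; exact y.2
      · rw [Nat.card_zpowers, hord]
    have hCy : Subgroup.centralizer ({(y : G)} : Set G) ≤ M2 := by
      intro z hz
      have h1 := Cfsg.Agent.Lib.Helper13.BG135.mem_centralizer_zpowers hz
      rw [hzp] at h1
      exact hNM2 (Subgroup.centralizer_le_normalizer _ h1)
    have hM2H : M2 = H := huniq M2 hM2 hCy
    rw [hM2H] at hNM2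
    obtain ⟨-, -, hbot⟩ := Cfsg.Agent.Lib.Helper14.BG134.tau2_and_compl hG hM hH hHM hqσM hqσH
      hYq hY1 hYM hNM2
    apply hP1
    rw [eq_bot_iff, ← hbot]
    exact le_inf hPHσ hPM
  -- `q ∈ τ₁(H) ∪ τ₃(H)`
  have h13 : Nat.card Y ∈ tau1 H ∨ Nat.card Y ∈ tau3 H := by
    rcases Cfsg.Agent.Lib.Helper16.BG134.mem_tau_cases hG hH hYc (Subgroup.card_dvd_of_le hYH)
      hqσH with h | h | h
    · exact Or.inl h
    · exact absurd h hq2
    · exact Or.inr h
  have hCPHY : CP H Y ≠ ⊥ := by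
    intro h
    apply hP1
    rw [eq_bot_iff, ← h]
    exact le_inf hPHσ hPCY
  have hqσM2 : Nat.card Y ∈ sigma M2 := hTX H Y M2 (Nat.card Y) hH hYH rfl h13 hCPHY hM2 hNM2
  by_contra hne
  have hconj : ∃ g : G, cj g M = M2 := by
    by_contra hno
    push Not at hno
    exact hSP M M2 hM hM2 hno (Nat.card Y) hqσM hqσM2
  obtain ⟨g, hg⟩ := hconj
  have hYMM2 : Y ≤ M ⊓ M2 := le_inf hYM (Subgroup.le_normalizer.trans hNM2)
  obtain ⟨S, hS⟩ :=
    (hYq.comap_subtype : IsPGroup (Nat.card Y) (Y.subgroupOf (M ⊓ M2))).exists_le_sylow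
  have hYS : Y ≤ (S : Subgroup ↥(M ⊓ M2)).map (M ⊓ M2).subtype := by
    intro z hz
    exact ⟨⟨z, hYMM2 hz⟩, hS (show (⟨z, hYMM2 hz⟩ : ↥(M ⊓ M2)) ∈ Y.subgroupOf (M ⊓ M2) by
      rw [Subgroup.mem_subgroupOf]; exact hz), rfl⟩
  obtain ⟨hncM2, -, -⟩ :=
    Cfsg.Agent.S1424.result hG M hM (Nat.card Y) hqσM Y hYq hY1 hYM M2 hM2 hne hNM2 S hYS
  exact hncM2 g hg.symm

end Cfsg.Agent.Lib.Helper28.BG142
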