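import Mathlib
import Cfsg.Agent.Lib.Helper71.BG1310Defs
import Cfsg.Agent.Lib.Helper13.BG135
import Cfsg.Agent.S1415
import Cfsg.Agent.S1428

/-!
# K-BG1310-K `NR.le_of_fix` (LEMMA D, (D2)(i)), with LEAF B as a hypothesis
-/

set_option autoImplicit false

namespace Cfsg.Agent.Lib.Helper28.BG1310

open Cfsg Cfsg.Agent.Lib.Helper55 Cfsg.Agent.Lib.Helper31.BG134 Cfsg.Agent.Lib.Helper71.BG1310

variable {G : Type*} [Group G] [Finite G]

/-- a nontrivial finite group has a subgroup of prime order -/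
theorem exists_prime_card_le {K : Subgroup G} (hK : K ≠ ⊥) :
    ∃ Y : Subgroup G, Y ≤ K ∧ (Nat.card Y).Prime := by
  have hnt : Nontrivial ↥K := (Subgroup.nontrivial_iff_ne_bot K).mpr hK
  have h1 : Nat.card ↥K ≠ 1 := by
    intro h
    have := (Nat.card_eq_one_iff_unique.mp h).1
    exact not_subsingleton ↥K this
  obtain ⟨p, hp, hpd⟩ := Nat.exists_prime_and_dvd h1
  have : Fact p.Prime := ⟨hp⟩
  obtain ⟨y, hy⟩ := exists_prime_orderOf_dvd_card' p hpd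
  refine ⟨Subgroup.zpowers (y : G), ?_, ?_⟩
  · rw [Subgroup.zpowers_le]; exact y.2
  · rw [Nat.card_zpowers, Subgroup.orderOf_coe, hy]; exact hp

/-- (D2)(i), with LEAF B (`prime_action_tau3`) as a hypothesis -/
theorem NR.le_of_fix_of {M E E₁ E₃ : Subgroup G} (c : NR M E E₁ E₃)
    (hB : ∀ {Y : Subgroup G}, Y ≤ E₃ → Y ≠ ⊥ → CP M Y = CP M E₃)
    {P : Subgroup G} (hP : P ≤ E₁)
    (hPc : (Nat.card P).Prime) (hfix : E₃ ⊓ Subgroup.centralizer (P : Set G) ≠ ⊥) :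
    CP M E₁ ≤ CP M E₃ := by
  have h28 : Cfsg.Agent.Lib.Helper13.BG135.H1428 G := fun M hM E hE p hp P hPE hP R hRE hR =>
    Cfsg.Agent.S1428.result c.hG M hM E hE p hp P hPE hP R hRE hR
  obtain ⟨-, h15a, -⟩ := Cfsg.Agent.S1415.result c.hG M c.hM E c.hE
  have hE₁c : IsCyclic E₁ := h15a E₁ c.hE₁
  have hP1 : P ≠ ⊥ := by
    intro h
    rw [h, Subgroup.card_bot] at hPc
    exact Nat.not_prime_one hPc
  -- `C_{M_σ}(P) = C_{M_σ}(E₁)`
  have h1 : CP M P = CP M E₁ :=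
    Cfsg.Agent.Lib.Helper13.BG135.prime_action_subgroup c.hG h28 c.hM c.hE c.hE₁ hE₁c hP hP1
  -- `Y ≤ E₃ ∩ C(P)` of prime order
  obtain ⟨Y, hY, hYc⟩ := exists_prime_card_le hfix
  have hY1 : Y ≠ ⊥ := by
    intro h
    rw [h, Subgroup.card_bot] at hYc
    exact Nat.not_prime_one hYc
  have hYE₃ : Y ≤ E₃ := hY.trans inf_le_left
  have hYC : Y ≤ Subgroup.centralizer (P : Set G) := hY.trans inf_le_right
  have hpτ : Nat.card P ∈ tau1 M :=
    c.hE₁.2.1 (Nat.card P) hPc (Subgroup.card_dvd_of_le hP)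
  have h2 : CP M P ≤ CP M Y :=
    Cfsg.Agent.S1428.result c.hG M c.hM E c.hE (Nat.card P) hpτ P (hP.trans c.hE₁.1) rfl Y
      (le_inf (hYE₃.trans c.hE₃.1) hYC) hYc
  rw [← h1, ← hB hYE₃ hY1]
  exact h2

end Cfsg.Agent.Lib.Helper28.BG1310
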