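import Mathlib
import Cfsg.Agent.Lib.Helper31.BG147Defs
import Cfsg.Agent.Lib.Helper55.Basic
import Cfsg.Agent.Lib.Helper55.Uniq2
import Cfsg.Agent.Lib.Helper64.BG14K
import Cfsg.Agent.Lib.Helper71.BG11a

/-!
# K-1369-H (136905): the class support of `Ẑ` is more than half of `G`
-/

set_option autoImplicit false

namespace Cfsg.Agent.Lib.Helper28.BG147

open Cfsg Subgroup Cfsg.Agent.Lib.Helper55 Cfsg.Agent.Lib.Helper11.BG14D Cfsg.Agent.Lib.Helper11.BG144
  Cfsg.Agent.Lib.Helper31.BG147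

variable {G : Type*} [Group G] [Finite G]

/-- the order of a product of two commuting subgroups meeting trivially -/
theorem card_sup_of_commute {K Y : Subgroup G} (hc : Y ≤ centralizer (K : Set G))
    (hinf : K ⊓ Y = ⊥) : Nat.card ↥(K ⊔ Y) = Nat.card K * Nat.card Y := by
  have comm : ∀ (m : K) (n : Y), Commute (K.subtype m) (Y.subtype n) := by
    intro m n
    exact (Subgroup.mem_centralizer_iff.mp (hc n.2) m m.2)
  have hinj : Function.Injective (MonoidHom.noncommCoprod K.subtype Y.subtype comm) := by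
    rw [MonoidHom.noncommCoprod_injective]
    refine ⟨K.subtype_injective, Y.subtype_injective, ?_⟩
    rw [Subgroup.range_subtype, Subgroup.range_subtype, disjoint_iff, hinf]
  have hrange : (MonoidHom.noncommCoprod K.subtype Y.subtype comm).range = K ⊔ Y := by
    rw [MonoidHom.noncommCoprod_range, Subgroup.range_subtype, Subgroup.range_subtype]
  rw [← hrange, ← Nat.card_prod]
  exact (Nat.card_congr (MonoidHom.ofInjective hinj).toEquiv).symm

/-- the arithmetic: `k, s ≥ 3` distinct odd numbers -/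
theorem half_arith {k s c g : ℕ} (hk : Odd k) (hs : Odd s) (hk1 : 1 < k) (hs1 : 1 < s) (hne : k ≠ s)
    (hg : 0 < g) (h : k * s * c = (k - 1) * (s - 1) * g) : g < 2 * c := by
  obtain ⟨a, rfl⟩ := hk
  obtain ⟨b, rfl⟩ := hs
  have ha : 1 ≤ a := by omega
  have hb : 1 ≤ b := by omega
  have hab : a ≠ b := fun h => hne (by rw [h])
  have e1 : 2 * a + 1 - 1 = 2 * a := by omega
  have e2 : 2 * b + 1 - 1 = 2 * b := by omega
  rw [e1, e2] at h
  by_contra hcon
  push Not at hcon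
  -- (2a+1)(2b+1) * 2c ≤ (2a+1)(2b+1) g, and the left side is 2 * (2a)(2b) g
  have h1 : (2 * a + 1) * (2 * b + 1) * (2 * c) ≤ (2 * a + 1) * (2 * b + 1) * g :=
    Nat.mul_le_mul_left _ hcon
  have h2 : (2 * a + 1) * (2 * b + 1) * (2 * c) = 2 * (2 * a * (2 * b) * g) := by
    rw [← h]; ring
  rw [h2] at h1
  have h3 : 2 * (2 * a * (2 * b)) * g ≤ (2 * a + 1) * (2 * b + 1) * g := by
    calc 2 * (2 * a * (2 * b)) * g = 2 * (2 * a * (2 * b) * g) := by ring
      _ ≤ _ := h1
  have h4 : 2 * (2 * a * (2 * b)) ≤ (2 * a + 1) * (2 * b + 1) := Nat.le_of_mul_le_mul_right h3 hg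
  -- 8ab ≤ 4ab + 2a + 2b + 1, i.e. 4ab ≤ 2a + 2b + 1, false for a,b ≥ 1 distinct
  rcases Nat.lt_or_ge a b with hlt | hge
  · have hb2 : 2 ≤ b := by omega
    nlinarith
  · have ha2 : 2 ≤ a := by omega
    nlinarith

theorem csupp_gt_half (hG : IsMinSimpleOddOrder G) (h30 : H1430 G) (h31 : H1431 G) {M K : Subgroup G}
    (hM : IsCoatom M) (hK : IsPiHallOf (kappa M) K M) (hK1 : K ≠ ⊥)
    (hN : ∀ z g : G, z ∈ Zhat M K → g * z * g⁻¹ ∈ Zhat M K → g ∈ K ⊔ Ks M K)
    (hC : ∀ (N : Subgroup G) (X : Set G), X ⊆ (N : Set G) → (∀ n ∈ N, ∀ x ∈ X, n * x * n⁻¹ ∈ X) →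
      (∀ g : G, ∀ x ∈ X, g * x * g⁻¹ ∈ X → g ∈ N) →
      Nat.card N * Set.ncard (csupp X) = Set.ncard X * Nat.card G)
    (hZ : Set.ncard (Zhat M K) = (Nat.card K - 1) * (Nat.card (Ks M K) - 1)) :
    Nat.card K * Nat.card (Ks M K) * Set.ncard (csupp (Zhat M K)) =
        (Nat.card K - 1) * (Nat.card (Ks M K) - 1) * Nat.card G ∧
      Nat.card G < 2 * Set.ncard (csupp (Zhat M K)) := by
  obtain ⟨h1, -, -⟩ := h30 M hM K hK hK1
  have hKM : K ≤ M := hK.1
  have hcent : Ks M K ≤ centralizer (K : Set G) := inf_le_right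
  have hcop : (Nat.card K).Coprime (Nat.card (Ks M K)) := by
    apply Nat.coprime_of_dvd
    intro p hp hpK hpS
    have h1' : p ∈ kappa M := hK.2.1 p hp hpK
    have hle : Ks M K ≤ sigmaCore M := inf_le_left
    have h2 : p ∈ sigma M :=
      Cfsg.Agent.Lib.Helper71.BG11.sigmaCore_pi hG hM hp (hpS.trans (Subgroup.card_dvd_of_le hle))
    exact h1'.2.2.1 h2
  have hinf : K ⊓ Ks M K = ⊥ := (Subgroup.disjoint_of_coprime_natCard hcop).eq_bot
  have hcard := card_sup_of_commute hcent hinf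
  -- `Ks ≠ ⊥`
  have hKs1 : Ks M K ≠ ⊥ := by
    have hcard1 : Nat.card K ≠ 1 := fun h => hK1 (Subgroup.card_eq_one.mp h)
    obtain ⟨p, hp, hpK⟩ := Nat.exists_prime_and_dvd hcard1
    have hpF : Fact p.Prime := ⟨hp⟩
    obtain ⟨k, hk⟩ := exists_prime_orderOf_dvd_card' (G := K) p hpK
    have hko : orderOf (k : G) = p := by rw [Subgroup.orderOf_coe]; exact hk
    have hpκ : p ∈ kappa M := hK.2.1 p hp hpK
    have hk1 : (k : G) ≠ 1 := by
      intro h
      rw [h, orderOf_one] at hko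
      exact hp.one_lt.ne hko
    have hPK : zpowers (k : G) ≤ K := zpowers_le.mpr k.2
    have hPc : Nat.card (zpowers (k : G)) = p := by rw [Nat.card_zpowers, hko]
    have hne := Cfsg.Agent.Lib.Helper64.BG14.cent_ne_bot_of_mem_kappa hG hM hpκ (hPK.trans hKM) hPc
    have hle : sigmaCore M ⊓ centralizer ((zpowers (k : G) : Subgroup G) : Set G) ≤
        sigmaCore M ⊓ centralizer ({(k : G)} : Set G) :=
      inf_le_inf_left _ (centralizer_le (Set.singleton_subset_iff.mpr (mem_zpowers (k : G))))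
    rw [h1 (k : G) k.2 hk1] at hle
    intro hbot
    apply hne
    rw [eq_bot_iff]
    exact hle.trans hbot.le
  -- `N = K ⊔ K*` normalizes `K` and `K*`
  have hNK : K ⊔ Ks M K ≤ normalizer (K : Set G) :=
    sup_le le_normalizer (hcent.trans (centralizer_le_normalizer _))
  have hKcent : K ≤ centralizer ((Ks M K : Subgroup G) : Set G) := by
    intro k hk
    rw [mem_centralizer_iff]
    intro y hy
    exact ((mem_centralizer_iff.mp (hcent hy)) k hk).symm
  have hNKs : K ⊔ Ks M K ≤ normalizer ((Ks M K : Subgroup G) : Set G) :=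
    sup_le (hKcent.trans (centralizer_le_normalizer _)) le_normalizer
  have hnorm : ∀ n ∈ K ⊔ Ks M K, ∀ x ∈ Zhat M K, n * x * n⁻¹ ∈ Zhat M K := by
    intro n hn x hx
    refine ⟨?_, ?_⟩
    · exact (K ⊔ Ks M K).mul_mem ((K ⊔ Ks M K).mul_mem hn hx.1) ((K ⊔ Ks M K).inv_mem hn)
    · rintro (h | h)
      · exact hx.2 (Or.inl ((mem_normalizer_iff.mp (hNK hn) x).mpr h))
      · exact hx.2 (Or.inr ((mem_normalizer_iff.mp (hNKs hn) x).mpr h))
  have hsub : Zhat M K ⊆ ((K ⊔ Ks M K : Subgroup G) : Set G) := fun x hx => hx.1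
  have eq1 := hC (K ⊔ Ks M K) (Zhat M K) hsub hnorm (fun g x hx hgx => hN x g hx hgx)
  rw [hcard, hZ] at eq1
  refine ⟨eq1, ?_⟩
  have hkodd : Odd (Nat.card K) := ms_odd hG K
  have hsodd : Odd (Nat.card (Ks M K)) := ms_odd hG (Ks M K)
  have hk1 : 1 < Nat.card K := by
    rcases Nat.lt_or_ge 1 (Nat.card K) with h | h
    · exact h
    · exfalso
      have hpos : 0 < Nat.card K := Nat.card_pos
      exact hK1 (Subgroup.card_eq_one.mp (by omega))
  have hs1 : 1 < Nat.card (Ks M K) := by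
    rcases Nat.lt_or_ge 1 (Nat.card (Ks M K)) with h | h
    · exact h
    · exfalso
      have hpos : 0 < Nat.card (Ks M K) := Nat.card_pos
      exact hKs1 (Subgroup.card_eq_one.mp (by omega))
  have hne : Nat.card K ≠ Nat.card (Ks M K) := by
    intro h
    rw [h, Nat.coprime_self] at hcop
    omega
  exact half_arith hkodd hsodd hk1 hs1 hne Nat.card_pos eq1

end Cfsg.Agent.Lib.Helper28.BG147
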