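import Mathlib
import Cfsg.Agent.Lib.Helper07.ProjLine
import Cfsg.Agent.Lib.Helper07.PGLCard
import Cfsg.Agent.Lib.Helper07.PermEmbed

set_option autoImplicit false

/-!
# Recognizing `PGL₂(F)` from a Moebius-type action
-/

namespace Cfsg.Agent.Lib.Helper28

open Matrix Cfsg.Agent.Lib.Helper07

open scoped LinearAlgebra.Projectivization MatrixGroups

section points

variable {F : Type*} [Field F]

/-- the vector `(1, 0)` -/
def vInf : Fin 2 → F := ![1, 0]

/-- the vector `(a, 1)` -/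
def vAff (a : F) : Fin 2 → F := ![a, 1]

lemma vInf_ne : (vInf : Fin 2 → F) ≠ 0 := (vec_ne_zero_iff _).mpr (Or.inl (by simp [vInf]))

lemma vAff_ne (a : F) : vAff a ≠ 0 := (vec_ne_zero_iff _).mpr (Or.inr (by simp [vAff]))

/-- the point at infinity -/
def pInf : ℙ F (Fin 2 → F) := Projectivization.mk F vInf vInf_ne

/-- the affine point `a` -/
def pAff (a : F) : ℙ F (Fin 2 → F) := Projectivization.mk F (vAff a) (vAff_ne a)

lemma pAff_injective : Function.Injective (pAff : F → ℙ F (Fin 2 → F)) := by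
  intro a b h
  rw [pAff, pAff, mk_eq_mk_iff_cross] at h
  simp [Helper07.cross, vAff] at h
  linear_combination h

lemma pAff_ne_pInf (a : F) : (pAff a : ℙ F (Fin 2 → F)) ≠ pInf := by
  intro h
  rw [pAff, pInf, mk_eq_mk_iff_cross] at h
  simp [Helper07.cross, vAff, vInf] at h

lemma pInf_eq_p1 : (pInf : ℙ F (Fin 2 → F)) = p1 := rfl

lemma pAff_zero_eq_p2 : (pAff 0 : ℙ F (Fin 2 → F)) = p2 := rfl

lemma pAff_one_eq_p12 : (pAff 1 : ℙ F (Fin 2 → F)) = p12 := rfl

/-- every point is `pInf` or affine -/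
lemma eq_pInf_or_pAff (x : ℙ F (Fin 2 → F)) : x = pInf ∨ ∃ a, x = pAff a := by
  induction x using Projectivization.ind with | _ v hv =>
  by_cases h1 : v 1 = 0
  · left
    rw [pInf, mk_eq_mk_iff_cross]
    simp [Helper07.cross, vInf, h1]
  · right
    refine ⟨v 0 / v 1, ?_⟩
    rw [pAff, mk_eq_mk_iff_cross]
    simp [Helper07.cross, vAff]
    field_simp
    ring

/-- the action of a `2 × 2` matrix on a point -/
lemma mk_smul_point (M : Matrix (Fin 2) (Fin 2) F) (h : M.det ≠ 0) (v w : Fin 2 → F) (hv : v ≠ 0)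
    (hw : w ≠ 0)
    (hc : (M 0 0 * v 0 + M 0 1 * v 1) * w 1 - (M 1 0 * v 0 + M 1 1 * v 1) * w 0 = 0) :
    (ProjGenLinGroup.mk (GeneralLinearGroup.mkOfDetNeZero M h) : PGL(Fin 2, F)) •
      Projectivization.mk F v hv = Projectivization.mk F w hw := by
  rw [Projectivization.PGL.mk_smul_mk, mk_eq_mk_iff_cross]
  simp only [gl_smul_vec, GeneralLinearGroup.val_mkOfDetNeZero, Helper07.cross]
  simp only [Matrix.mulVec, dotProduct, Fin.sum_univ_two]
  exact hc

/-- translation matrix -/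
noncomputable def mTrans (b : F) : GL (Fin 2) F :=
  GeneralLinearGroup.mkOfDetNeZero (!![1, b; 0, 1] : Matrix (Fin 2) (Fin 2) F)
    (by simp [det_fin_two_of])

/-- dilation matrix -/
noncomputable def mDiag (c : F) (hc : c ≠ 0) : GL (Fin 2) F :=
  GeneralLinearGroup.mkOfDetNeZero (!![c, 0; 0, 1] : Matrix (Fin 2) (Fin 2) F)
    (by simpa [det_fin_two_of] using hc)

/-- inversion matrix -/
noncomputable def mSwap (c : F) (hc : c ≠ 0) : GL (Fin 2) F :=
  GeneralLinearGroup.mkOfDetNeZero (!![0, c; 1, 0] : Matrix (Fin 2) (Fin 2) F)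
    (by simpa [det_fin_two_of] using hc)

lemma mTrans_pInf (b : F) : (ProjGenLinGroup.mk (mTrans b) : PGL(Fin 2, F)) • (pInf : ℙ F (Fin 2 → F)) = pInf := by
  rw [pInf, mTrans]
  apply mk_smul_point
  simp [vInf]

lemma mTrans_pAff (b a : F) :
    (ProjGenLinGroup.mk (mTrans b) : PGL(Fin 2, F)) • pAff a = pAff (b + a) := by
  rw [pAff, pAff, mTrans]
  apply mk_smul_point
  simp [vAff]
  ring

lemma mDiag_pInf (c : F) (hc : c ≠ 0) :
    (ProjGenLinGroup.mk (mDiag c hc) : PGL(Fin 2, F)) • (pInf : ℙ F (Fin 2 → F)) = pInf := by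
  rw [pInf, mDiag]
  apply mk_smul_point
  simp [vInf]

lemma mDiag_pAff (c : F) (hc : c ≠ 0) (a : F) :
    (ProjGenLinGroup.mk (mDiag c hc) : PGL(Fin 2, F)) • pAff a = pAff (c * a) := by
  rw [pAff, pAff, mDiag]
  apply mk_smul_point
  simp [vAff]

lemma mSwap_pInf (c : F) (hc : c ≠ 0) :
    (ProjGenLinGroup.mk (mSwap c hc) : PGL(Fin 2, F)) • (pInf : ℙ F (Fin 2 → F)) = pAff 0 := by
  rw [pInf, pAff, mSwap]
  apply mk_smul_point
  simp [vInf, vAff]

lemma mSwap_pAff_zero (c : F) (hc : c ≠ 0) :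
    (ProjGenLinGroup.mk (mSwap c hc) : PGL(Fin 2, F)) • (pAff 0 : ℙ F (Fin 2 → F)) = pInf := by
  rw [pInf, pAff, mSwap]
  apply mk_smul_point
  simp [vInf, vAff]

lemma mSwap_pAff (c : F) (hc : c ≠ 0) (a : F) (ha : a ≠ 0) :
    (ProjGenLinGroup.mk (mSwap c hc) : PGL(Fin 2, F)) • pAff a = pAff (c / a) := by
  rw [pAff, pAff, mSwap]
  apply mk_smul_point
  simp [vAff]
  field_simp
  ring

end points


section actsAs

variable {G X F : Type*} [Group G] [MulAction G X] [Field F]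

/-- `g` acts through `β` like the projective transformation `m` -/
def ActsAs (β : X → ℙ F (Fin 2 → F)) (g : G) (m : PGL(Fin 2, F)) : Prop :=
  ∀ x : X, β (g • x) = m • β x

lemma actsAs_one (β : X → ℙ F (Fin 2 → F)) : ActsAs β (1 : G) 1 := by
  intro x; simp

lemma ActsAs.mul {β : X → ℙ F (Fin 2 → F)} {g g' : G} {m m' : PGL(Fin 2, F)}
    (h : ActsAs β g m) (h' : ActsAs β g' m') : ActsAs β (g * g') (m * m') := by
  intro x
  rw [mul_smul, h, h', mul_smul]

lemma ActsAs.inv {β : X → ℙ F (Fin 2 → F)} {g : G} {m : PGL(Fin 2, F)}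
    (h : ActsAs β g m) : ActsAs β g⁻¹ m⁻¹ := by
  intro x
  have := h (g⁻¹ • x)
  rw [smul_inv_smul] at this
  rw [this, inv_smul_smul]

lemma ActsAs.unique {β : X → ℙ F (Fin 2 → F)} (hβ : Function.Surjective β) {g : G}
    {m m' : PGL(Fin 2, F)} (h : ActsAs β g m) (h' : ActsAs β g m') : m = m' := by
  have key : ∀ y : ℙ F (Fin 2 → F), (m'⁻¹ * m) • y = y := by
    intro y
    obtain ⟨x, rfl⟩ := hβ y
    rw [mul_smul, ← h x, h' x, inv_smul_smul]
  have := pgl_eq_one_of_fix_std (m'⁻¹ * m) (key _) (key _) (key _)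
  calc m = m' * (m'⁻¹ * m) := by group
    _ = m' := by rw [this, mul_one]

/-- the subgroup of elements acting projectively -/
def actsAsSubgroup (β : X → ℙ F (Fin 2 → F)) : Subgroup G where
  carrier := {g | ∃ m, ActsAs β g m}
  one_mem' := ⟨1, actsAs_one β⟩
  mul_mem' := by
    rintro g g' ⟨m, h⟩ ⟨m', h'⟩
    exact ⟨m * m', h.mul h'⟩
  inv_mem' := by
    rintro g ⟨m, h⟩
    exact ⟨m⁻¹, h.inv⟩

/-- if everything acts projectively, and the action is faithful, we get an embedding into `PGL₂` -/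
theorem exists_injective_hom (β : X → ℙ F (Fin 2 → F)) (hβ : Function.Bijective β)
    (hall : ∀ g : G, ∃ m, ActsAs β g m) (hfaith : ∀ g : G, (∀ x : X, g • x = x) → g = 1) :
    ∃ f : G →* PGL(Fin 2, F), Function.Injective f := by
  classical
  choose f hf using hall
  have hmul : ∀ g g', f (g * g') = f g * f g' := fun g g' =>
    ActsAs.unique hβ.2 (hf (g * g')) ((hf g).mul (hf g'))
  have hone : f 1 = 1 := ActsAs.unique hβ.2 (hf 1) (actsAs_one β)
  refine ⟨⟨⟨f, hone⟩, hmul⟩, ?_⟩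
  rw [injective_iff_map_eq_one]
  intro g hg
  apply hfaith
  intro x
  apply hβ.1
  have h1 := hf g x
  have hg' : f g = 1 := hg
  rw [hg', one_smul] at h1
  exact h1

end actsAs


section recog

variable {G X F : Type*} [Group G] [MulAction G X] [Field F]

/-- the Zassenhaus-type computation: `T` acts by translations, `D` by dilations, `u` by an
inversion. -/
theorem moebius_all_actsAs (T D : Subgroup G) (u : G) (inf o : X) (e : G) (heT : e ∈ T) (he1 : e ≠ 1)
    (φ : T → F) (hφ : Function.Injective φ) (hadd : ∀ a b : T, φ (a * b) = φ a + φ b)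
    (hφe : φ ⟨e, heT⟩ = 1)
    (hnorm : ∀ d ∈ D, ∀ t ∈ T, d * t * d⁻¹ ∈ T)
    (hmul : ∀ (d : G) (hd : d ∈ D) (t : T), φ ⟨d * t * d⁻¹, hnorm d hd t t.2⟩ =
        φ ⟨d * e * d⁻¹, hnorm d hd e heT⟩ * φ t)
    (hreg : ∀ a ∈ T, a ≠ 1 → ∃ d ∈ D, d * e * d⁻¹ = a)
    (hTinf : ∀ t ∈ T, t • inf = inf) (hDinf : ∀ d ∈ D, d • inf = inf) (hDo : ∀ d ∈ D, d • o = o)
    (huinf : u • inf = o) (huo : u • o = inf)
    (hinv : ∀ d ∈ D, u * d * u⁻¹ = d⁻¹)
    (β : X → ℙ F (Fin 2 → F)) (hβinf : β inf = pInf) (hβo : ∀ t : T, β ((t : G) • o) = pAff (φ t))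
    (hX : ∀ x : X, x = inf ∨ ∃ t : T, x = (t : G) • o)
    (hgen : Subgroup.closure ((T : Set G) ∪ D ∪ {u}) = ⊤) :
    ∀ g : G, ∃ m, ActsAs β g m := by
  have hφ1 : φ 1 = 0 := by
    have := hadd 1 1
    rw [mul_one] at this
    exact left_eq_add.mp this
  have hβo1 : β o = pAff 0 := by
    have h2 := hβo 1
    simp only [Subgroup.coe_one, one_smul] at h2
    rw [h2, hφ1]
  -- T
  have hT : ∀ t ∈ T, t ∈ actsAsSubgroup (G := G) (F := F) β := by
    intro t' ht'
    refine ⟨ProjGenLinGroup.mk (mTrans (φ ⟨t', ht'⟩)), ?_⟩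
    intro x
    rcases hX x with rfl | ⟨t, rfl⟩
    · rw [hTinf t' ht', hβinf, mTrans_pInf]
    · have : t' • ((t : G) • o) = ((⟨t', ht'⟩ * t : T) : G) • o := by
        rw [Subgroup.coe_mul, mul_smul]
      rw [this, hβo, hβo, hadd, mTrans_pAff]
  -- D
  have hχ0 : ∀ d (hd : d ∈ D), φ ⟨d * e * d⁻¹, hnorm d hd e heT⟩ ≠ 0 := by
    intro d hd h0
    rw [← hφ1] at h0
    have := hφ h0
    have h1 : d * e * d⁻¹ = 1 := congrArg Subtype.val this
    apply he1
    have : e = d⁻¹ * (d * e * d⁻¹) * d := by group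
    rw [this, h1]; group
  have hD : ∀ d ∈ D, d ∈ actsAsSubgroup (G := G) (F := F) β := by
    intro d hd
    refine ⟨ProjGenLinGroup.mk (mDiag _ (hχ0 d hd)), ?_⟩
    intro x
    rcases hX x with rfl | ⟨t, rfl⟩
    · rw [hDinf d hd, hβinf, mDiag_pInf]
    · have hdo : d⁻¹ • o = o := by
        have := hDo d hd
        rw [inv_smul_eq_iff, this]
      have : d • ((t : G) • o) = ((⟨d * t * d⁻¹, hnorm d hd t t.2⟩ : T) : G) • o := by
        show d • ((t : G) • o) = (d * t * d⁻¹) • o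
        rw [mul_smul, mul_smul, hdo]
      rw [this, hβo, hβo, hmul d hd t, mDiag_pAff]
  -- u
  have hu : u ∈ actsAsSubgroup (G := G) (F := F) β := by
    have heo : e • o ≠ o := by
      intro h
      have h1 := hβo ⟨e, heT⟩
      rw [show ((⟨e, heT⟩ : T) : G) = e from rfl, h, hβo1] at h1
      have := pAff_injective h1
      rw [hφe] at this
      exact zero_ne_one this
    have hue : u • (e • o) ≠ inf := by
      intro h
      rw [← huo] at h
      exact heo (MulAction.injective u h)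
    obtain ⟨s, hs⟩ : ∃ s : T, u • (e • o) = (s : G) • o := (hX _).resolve_left hue
    have heinf : e • o ≠ inf := by
      intro h
      have h1 := hβo ⟨e, heT⟩
      rw [show ((⟨e, heT⟩ : T) : G) = e from rfl, h, hβinf] at h1
      exact pAff_ne_pInf _ h1.symm
    have hs1 : φ s ≠ 0 := by
      intro h0
      rw [← hφ1] at h0
      have : s = 1 := hφ h0
      have hs' : u • (e • o) = u • inf := by
        rw [hs, this, Subgroup.coe_one, one_smul, huinf]
      exact heinf (MulAction.injective u hs')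
    refine ⟨ProjGenLinGroup.mk (mSwap (φ s) hs1), ?_⟩
    intro x
    rcases hX x with rfl | ⟨t, rfl⟩
    · rw [huinf, hβinf, mSwap_pInf, hβo1]
    · by_cases ht1 : (t : G) = 1
      · rw [ht1, one_smul, huo, hβinf, hβo1, mSwap_pAff_zero]
      · obtain ⟨d, hd, hdt⟩ := hreg t t.2 ht1
        have hd' : d⁻¹ ∈ D := D.inv_mem hd
        have h1 : u • ((t : G) • o) =
            ((⟨d⁻¹ * s * d⁻¹⁻¹, hnorm d⁻¹ hd' s s.2⟩ : T) : G) • o := by
          show u • ((t : G) • o) = (d⁻¹ * s * d⁻¹⁻¹) • o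
          rw [← hdt, inv_inv]
          have hud : u * d = d⁻¹ * u := by
            have := hinv d hd
            rw [← this]; group
          have hdo : d⁻¹ • o = o := by
            have := hDo d hd
            rw [inv_smul_eq_iff, this]
          calc u • ((d * e * d⁻¹) • o) = u • (d • (e • (d⁻¹ • o))) := by rw [mul_smul, mul_smul]
            _ = (u * d) • (e • o) := by rw [hdo, mul_smul]
            _ = d⁻¹ • (u • (e • o)) := by rw [hud, mul_smul]
            _ = d⁻¹ • ((s : G) • o) := by rw [hs]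
            _ = (d⁻¹ * s * d) • o := by rw [mul_smul, mul_smul, hDo d hd]
        rw [h1, hβo, hβo, hmul d⁻¹ hd' s]
        have hφt : φ t = φ ⟨d * e * d⁻¹, hnorm d hd e heT⟩ := by
          congr 1; exact Subtype.ext hdt.symm
        have hχinv : φ ⟨d⁻¹ * e * d⁻¹⁻¹, hnorm d⁻¹ hd' e heT⟩ *
            φ ⟨d * e * d⁻¹, hnorm d hd e heT⟩ = 1 := by
          rw [← hmul d⁻¹ hd' ⟨d * e * d⁻¹, hnorm d hd e heT⟩, ← hφe]
          congr 1
          apply Subtype.ext
          show d⁻¹ * (d * e * d⁻¹) * d⁻¹⁻¹ = e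
          group
        have hφt0 : φ t ≠ 0 := by rw [hφt]; exact hχ0 d hd
        rw [mSwap_pAff _ _ _ hφt0]
        congr 1
        rw [← hφt] at hχinv
        rw [eq_div_iff hφt0]
        linear_combination (φ s) * hχinv
  have hle : Subgroup.closure ((T : Set G) ∪ D ∪ {u}) ≤ actsAsSubgroup (G := G) (F := F) β := by
    rw [Subgroup.closure_le]
    rintro g ((hg | hg) | hg)
    · exact hT g hg
    · exact hD g hg
    · rw [Set.mem_singleton_iff] at hg; rw [hg]; exact hu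
  intro g
  have : g ∈ actsAsSubgroup (G := G) (F := F) β := hle (by rw [hgen]; trivial)
  exact this

end recog


section final

variable {G X F : Type*} [Group G] [MulAction G X] [Field F]

theorem exists_beta (T : Subgroup G) (inf o : X) (φ : T → F) (hφ : Function.Bijective φ)
    (hTinf : ∀ t ∈ T, t • inf = inf) (ho : o ≠ inf)
    (hTreg : ∀ x : X, x ≠ inf → ∃! t : T, (t : G) • o = x) :
    ∃ β : X → ℙ F (Fin 2 → F), Function.Bijective β ∧ β inf = pInf ∧
      ∀ t : T, β ((t : G) • o) = pAff (φ t) := by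
  classical
  have hne : ∀ t : T, (t : G) • o ≠ inf := by
    intro t h
    apply ho
    have h1 : o = (t : G)⁻¹ • inf := by rw [← h, inv_smul_smul]
    rw [h1, hTinf _ (T.inv_mem t.2)]
  have hcases : ∀ x : X, x = inf ∨ ∃ t : T, x = (t : G) • o := by
    intro x
    by_cases hx : x = inf
    · exact Or.inl hx
    · obtain ⟨t, ht, _⟩ := hTreg x hx
      exact Or.inr ⟨t, ht.symm⟩
  let τ : X → T := fun x => if h : x = inf then 1 else (hTreg x h).choose
  have hτ : ∀ t : T, τ ((t : G) • o) = t := by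
    intro t
    have h := hne t
    show (if h : (t : G) • o = inf then (1 : T) else (hTreg _ h).choose) = t
    rw [dif_neg h]
    exact ((hTreg _ h).choose_spec.2 t rfl).symm
  let β : X → ℙ F (Fin 2 → F) := fun x => if x = inf then pInf else pAff (φ (τ x))
  have hβinf : β inf = pInf := if_pos rfl
  have hβo : ∀ t : T, β ((t : G) • o) = pAff (φ t) := by
    intro t
    show (if (t : G) • o = inf then pInf else pAff (φ (τ ((t : G) • o)))) = pAff (φ t)
    rw [if_neg (hne t), hτ]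
  refine ⟨β, ⟨?_, ?_⟩, hβinf, hβo⟩
  · intro x y hxy
    rcases hcases x with rfl | ⟨t, rfl⟩ <;> rcases hcases y with rfl | ⟨t', rfl⟩
    · rfl
    · rw [hβinf, hβo] at hxy
      exact absurd hxy.symm (pAff_ne_pInf _)
    · rw [hβinf, hβo] at hxy
      exact absurd hxy (pAff_ne_pInf _)
    · rw [hβo, hβo] at hxy
      rw [hφ.1 (pAff_injective hxy)]
  · intro y
    rcases eq_pInf_or_pAff y with rfl | ⟨a, rfl⟩
    · exact ⟨inf, hβinf⟩
    · obtain ⟨t, rfl⟩ := hφ.2 a
      exact ⟨(t : G) • o, hβo t⟩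

/-- Recognition of `PGL₂(F)` from a Moebius-type action. -/
theorem nonempty_mulEquiv_pgl [Finite G] [Fintype F] (T D : Subgroup G) (u : G) (inf o : X) (e : G)
    (heT : e ∈ T) (he1 : e ≠ 1)
    (φ : T → F) (hφ : Function.Bijective φ) (hadd : ∀ a b : T, φ (a * b) = φ a + φ b)
    (hφe : φ ⟨e, heT⟩ = 1)
    (hnorm : ∀ d ∈ D, ∀ t ∈ T, d * t * d⁻¹ ∈ T)
    (hmul : ∀ (d : G) (hd : d ∈ D) (t : T), φ ⟨d * t * d⁻¹, hnorm d hd t t.2⟩ =
        φ ⟨d * e * d⁻¹, hnorm d hd e heT⟩ * φ t)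
    (hreg : ∀ a ∈ T, a ≠ 1 → ∃ d ∈ D, d * e * d⁻¹ = a)
    (hTinf : ∀ t ∈ T, t • inf = inf) (hDinf : ∀ d ∈ D, d • inf = inf) (hDo : ∀ d ∈ D, d • o = o)
    (huinf : u • inf = o) (huo : u • o = inf)
    (hinv : ∀ d ∈ D, u * d * u⁻¹ = d⁻¹)
    (ho : o ≠ inf)
    (hTreg : ∀ x : X, x ≠ inf → ∃! t : T, (t : G) • o = x)
    (hgen : Subgroup.closure ((T : Set G) ∪ D ∪ {u}) = ⊤)
    (hfaith : ∀ g : G, (∀ x : X, g • x = x) → g = 1)
    (hcard : Nat.card (PGL(Fin 2, F)) ≤ Nat.card G) : Nonempty (G ≃* PGL(Fin 2, F)) := by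
  obtain ⟨β, hβ, hβinf, hβo⟩ := exists_beta T inf o φ hφ hTinf ho hTreg
  have hcases : ∀ x : X, x = inf ∨ ∃ t : T, x = (t : G) • o := by
    intro x
    by_cases hx : x = inf
    · exact Or.inl hx
    · obtain ⟨t, ht, _⟩ := hTreg x hx
      exact Or.inr ⟨t, ht.symm⟩
  have hall := moebius_all_actsAs T D u inf o e heT he1 φ hφ.1 hadd hφe hnorm hmul hreg hTinf hDinf
    hDo huinf huo hinv β hβinf hβo hcases hgen
  obtain ⟨f, hf⟩ := exists_injective_hom β hβ hall hfaith
  have : Finite (PGL(Fin 2, F)) := Finite.of_surjective _ ProjGenLinGroup.mk_surjective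
  have hbij : Function.Bijective f := hf.bijective_of_nat_card_le hcard
  exact ⟨MulEquiv.ofBijective f hbij⟩

end final

end Cfsg.Agent.Lib.Helper28
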