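import Mathlib

/-!
# A functional equation on a finite field of odd characteristic

If `σ` satisfies `σ 1 = 1`, `σ (s x) = s⁻¹ σ x` for nonzero squares `s`, and
`σ (1 + σ y) = 1 + σ (-1 - y)`, then `σ x = x⁻¹`.  This is the field-theoretic heart of the
recognition of `PSL₂(q)`, `q` odd, as a Zassenhaus group.
-/

set_option autoImplicit false

namespace Cfsg.Agent.Lib.Helper28

open Polynomial in
/-- every element of a finite field of odd characteristic is a sum of two squares -/
theorem exists_sq_add_sq_eq {F : Type*} [Field F] [Fintype F] (hF : ringChar F ≠ 2) (x : F) :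
    ∃ a b : F, a ^ 2 + b ^ 2 = x := by
  let f : F[X] := X ^ 2
  let g : F[X] := X ^ 2 - C x
  obtain ⟨a, b, hab⟩ : ∃ a b, f.eval a + g.eval b = 0 :=
    FiniteField.exists_root_sum_quadratic (f := f) (g := g) (degree_X_pow 2)
      (degree_X_pow_sub_C (by decide) _) (FiniteField.odd_card_of_char_ne_two hF)
  refine ⟨a, b, ?_⟩
  rw [← sub_eq_zero]
  simpa only [f, g, eval_C, eval_X, eval_pow, eval_sub, ← add_sub_assoc] using hab

/-- the quotient of two nonsquares is a square -/
theorem isSquare_div_of_not_isSquare {F : Type*} [Field F] [Fintype F] (hF : ringChar F ≠ 2)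
    {x ν : F} (hx : x ≠ 0) (hν : ν ≠ 0) (hxs : ¬ IsSquare x) (hνs : ¬ IsSquare ν) :
    IsSquare (x / ν) := by
  rw [FiniteField.isSquare_iff hF (div_ne_zero hx hν), div_pow]
  have h1 := (FiniteField.pow_dichotomy hF hx).resolve_left
    (fun h => hxs ((FiniteField.isSquare_iff hF hx).mpr h))
  have h2 := (FiniteField.pow_dichotomy hF hν).resolve_left
    (fun h => hνs ((FiniteField.isSquare_iff hF hν).mpr h))
  rw [h1, h2]
  simp

theorem sigma_eq_inv {F : Type*} [Field F] [Fintype F] (hF : ringChar F ≠ 2)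
    (hm1 : IsSquare (-1 : F)) (σ : F → F) (h1 : σ 1 = 1)
    (h2 : ∀ s x : F, s ≠ 0 → IsSquare s → x ≠ 0 → σ (s * x) = s⁻¹ * σ x)
    (h3 : ∀ y : F, y ≠ 0 → 1 + σ y ≠ 0 → σ (1 + σ y) = 1 + σ (-1 - y)) :
    ∀ x : F, x ≠ 0 → σ x = x⁻¹ := by
  have hS : ∀ x : F, x ≠ 0 → IsSquare x → σ x = x⁻¹ := by
    intro x hx hxs
    have := h2 x 1 hx hxs one_ne_zero
    rwa [mul_one, h1, mul_one] at this
  obtain ⟨ν, hν⟩ := FiniteField.exists_nonsquare hF
  have hν0 : ν ≠ 0 := by
    rintro rfl
    exact hν IsSquare.zero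
  set c := ν * σ ν with hc
  have hN : ∀ x : F, x ≠ 0 → ¬ IsSquare x → σ x = c / x := by
    intro x hx hxs
    have hsq := isSquare_div_of_not_isSquare hF hx hν0 hxs hν
    have := h2 (x / ν) ν (div_ne_zero hx hν0) hsq hν0
    rw [div_mul_cancel₀ _ hν0] at this
    rw [this, hc]
    field_simp
  by_cases hc1 : c = 1
  · intro x hx
    by_cases hxs : IsSquare x
    · exact hS x hx hxs
    · rw [hN x hx hxs, hc1, one_div]
  · exfalso
    have key : ∀ y : F, y ≠ 0 → IsSquare y → y + 1 ≠ 0 → IsSquare (1 + y⁻¹) := by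
      intro y hy hys hy1
      by_contra hw
      have hw0 : 1 + y⁻¹ ≠ 0 := by
        intro h
        apply hy1
        have : y + 1 = y * (1 + y⁻¹) := by field_simp
        rw [this, h, mul_zero]
      have hσy : σ y = y⁻¹ := hS y hy hys
      have e1 := h3 y hy (by rw [hσy]; exact hw0)
      rw [hσy, hN _ hw0 hw] at e1
      have hny : IsSquare (-y) := by
        have := hm1.mul hys
        rwa [neg_one_mul] at this
      have h5 : -1 - y = (-y) * (1 + y⁻¹) := by field_simp; ring
      have h7 : -1 - y ≠ 0 := by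
        rw [h5]; exact mul_ne_zero (neg_ne_zero.mpr hy) hw0
      have h6 : ¬ IsSquare (-1 - y) := by
        intro h
        apply hw
        have h8 : 1 + y⁻¹ = (-1 - y) * (-y)⁻¹ := by
          rw [h5]; field_simp
        rw [h8]
        exact h.mul (IsSquare.inv hny)
      rw [hN _ h7 h6] at e1
      apply hc1
      have hy1' : -1 - y ≠ 0 := h7
      have e2 : c * (y + 1) = y + 1 := by
        have h9 : c / (1 + y⁻¹) = c * y / (y + 1) := by field_simp
        have h10 : c / (-1 - y) = - c / (y + 1) := by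
          rw [show (-1 - y : F) = -(y + 1) by ring, div_neg, neg_div]
        rw [h9, h10] at e1
        field_simp at e1
        linear_combination e1
      exact mul_right_cancel₀ hy1 (by rw [e2, one_mul])
    obtain ⟨a, b, hab⟩ := exists_sq_add_sq_eq hF ν
    by_cases ha : a = 0
    · apply hν
      rw [← hab, ha]
      simp only [ne_eq, OfNat.ofNat_ne_zero, not_false_eq_true, zero_pow, zero_add]
      exact IsSquare.sq b
    by_cases hb : b = 0
    · apply hν
      rw [← hab, hb]
      simp only [ne_eq, OfNat.ofNat_ne_zero, not_false_eq_true, zero_pow, add_zero]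
      exact IsSquare.sq a
    have hy : (b / a) ^ 2 ≠ 0 := pow_ne_zero _ (div_ne_zero hb ha)
    have hys : IsSquare ((b / a) ^ 2) := IsSquare.sq _
    have hy1 : (b / a) ^ 2 + 1 ≠ 0 := by
      intro h
      apply hν0
      rw [← hab]
      have : a ^ 2 + b ^ 2 = a ^ 2 * ((b / a) ^ 2 + 1) := by field_simp; ring
      rw [this, h, mul_zero]
    have := key _ hy hys hy1
    apply hν
    rw [← hab]
    have h11 : a ^ 2 + b ^ 2 = b ^ 2 * (1 + ((b / a) ^ 2)⁻¹) := by field_simp; ring
    rw [h11]
    exact (IsSquare.sq b).mul this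

end Cfsg.Agent.Lib.Helper28
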