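import Mathlib
import Cfsg.Agent.Lib.Helper28.Moebius
import Cfsg.Agent.Lib.Helper28.SigmaInv

/-!
# Recognition of `PSL₂(F)`, `F` finite of odd characteristic, from a Moebius-type action

`T` acts by translations (coordinatized by `φ : T → F`), `D` by multiplication with the nonzero
squares, `u` is an involution swapping `∞` and `0`, inverting `D` and fixing the point `1`.
Then `u` acts as `x ↦ 1 / x` and the group generated is `PSL₂(F)`.
-/

set_option autoImplicit false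

namespace Cfsg.Agent.Lib.Helper28

open Matrix Projectivization Cfsg.Agent.Lib.Helper07

open scoped MatrixGroups LinearAlgebra.Projectivization

/-- the data of a group acting on `X` with a translation subgroup `T` coordinatized by a field `F`,
a diagonal subgroup `D`, and a labelling `β` of the points by the projective line. -/
structure MData (G X F : Type*) [Group G] [MulAction G X] [Field F] where
  T : Subgroup G
  D : Subgroup G
  inf : X
  o : X
  e : G
  heT : e ∈ T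
  he1 : e ≠ 1
  φ : T → F
  hφ : Function.Bijective φ
  hadd : ∀ a b : T, φ (a * b) = φ a + φ b
  hφe : φ ⟨e, heT⟩ = 1
  hnorm : ∀ d ∈ D, ∀ t ∈ T, d * t * d⁻¹ ∈ T
  hmul : ∀ (d : G) (hd : d ∈ D) (t : T), φ ⟨d * t * d⁻¹, hnorm d hd t t.2⟩ =
    φ ⟨d * e * d⁻¹, hnorm d hd e heT⟩ * φ t
  hTinf : ∀ t ∈ T, t • inf = inf
  hDinf : ∀ d ∈ D, d • inf = inf
  hDo : ∀ d ∈ D, d • o = o
  β : X → ℙ F (Fin 2 → F)
  hβinf : β inf = pInf
  hβo : ∀ t : T, β ((t : G) • o) = pAff (φ t)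
  hX : ∀ x : X, x = inf ∨ ∃ t : T, x = (t : G) • o

namespace MData

variable {G X F : Type*} [Group G] [MulAction G X] [Field F] (M : MData G X F)

/-- inverse of the coordinate -/
noncomputable def τ (x : F) : M.T := (Equiv.ofBijective M.φ M.hφ).symm x

/-- the point with coordinate `x` -/
noncomputable def pt (x : F) : X := (M.τ x : G) • M.o

/-- the multiplier of an element of `D` -/
def χ (d : G) (hd : d ∈ M.D) : F := M.φ ⟨d * M.e * d⁻¹, M.hnorm d hd M.e M.heT⟩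

lemma φ_τ (x : F) : M.φ (M.τ x) = x := (Equiv.ofBijective M.φ M.hφ).apply_symm_apply x

lemma τ_φ (t : M.T) : M.τ (M.φ t) = t := (Equiv.ofBijective M.φ M.hφ).symm_apply_apply t

lemma pt_φ (t : M.T) : M.pt (M.φ t) = (t : G) • M.o := by rw [pt, τ_φ]

lemma β_pt (x : F) : M.β (M.pt x) = pAff x := by rw [pt, M.hβo, φ_τ]

lemma pt_injective : Function.Injective M.pt := fun x y h =>
  pAff_injective (by rw [← M.β_pt, ← M.β_pt, h])

lemma pt_ne_inf (x : F) : M.pt x ≠ M.inf := fun h =>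
  pAff_ne_pInf x (by rw [← M.β_pt, h, M.hβinf])

lemma φ_one : M.φ 1 = 0 := by
  have := M.hadd 1 1
  rw [mul_one] at this
  exact left_eq_add.mp this

lemma pt_zero : M.pt 0 = M.o := by
  have := M.pt_φ 1
  rwa [M.φ_one, Subgroup.coe_one, one_smul] at this

lemma pt_one : M.pt 1 = M.e • M.o := by
  have := M.pt_φ ⟨M.e, M.heT⟩
  rwa [M.hφe] at this

lemma cases (x : X) : x = M.inf ∨ ∃ y, x = M.pt y := by
  rcases M.hX x with h | ⟨t, h⟩
  · exact Or.inl h
  · exact Or.inr ⟨M.φ t, by rw [M.pt_φ, h]⟩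

lemma T_smul_pt (t : G) (ht : t ∈ M.T) (x : F) : t • M.pt x = M.pt (M.φ ⟨t, ht⟩ + x) := by
  have h1 := M.pt_φ (⟨t, ht⟩ * M.τ x)
  rw [M.hadd, M.φ_τ, Subgroup.coe_mul, mul_smul] at h1
  exact h1.symm

lemma D_smul_pt (d : G) (hd : d ∈ M.D) (x : F) : d • M.pt x = M.pt (M.χ d hd * x) := by
  have hdo : d⁻¹ • M.o = M.o := by rw [inv_smul_eq_iff, M.hDo d hd]
  have h1 := M.pt_φ ⟨d * (M.τ x : G) * d⁻¹, M.hnorm d hd _ (M.τ x).2⟩
  rw [M.hmul d hd (M.τ x), M.φ_τ] at h1
  rw [χ, h1]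
  show d • ((M.τ x : G) • M.o) = (d * (M.τ x : G) * d⁻¹) • M.o
  rw [mul_smul, mul_smul, hdo]

lemma χ_ne_zero (d : G) (hd : d ∈ M.D) : M.χ d hd ≠ 0 := by
  intro h0
  rw [χ, ← M.φ_one] at h0
  have := M.hφ.1 h0
  have h1 : d * M.e * d⁻¹ = 1 := congrArg Subtype.val this
  apply M.he1
  have : M.e = d⁻¹ * (d * M.e * d⁻¹) * d := by group
  rw [this, h1]; group

lemma χ_inv_mul (d : G) (hd : d ∈ M.D) : M.χ d⁻¹ (M.D.inv_mem hd) * M.χ d hd = 1 := by
  have hd' : d⁻¹ ∈ M.D := M.D.inv_mem hd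
  rw [χ, χ, ← M.hmul d⁻¹ hd' ⟨d * M.e * d⁻¹, M.hnorm d hd M.e M.heT⟩, ← M.hφe]
  congr 1
  apply Subtype.ext
  show d⁻¹ * (d * M.e * d⁻¹) * d⁻¹⁻¹ = M.e
  group

lemma φ_inv (t : M.T) : M.φ t⁻¹ = - M.φ t := by
  have := M.hadd t⁻¹ t
  rw [inv_mul_cancel, M.φ_one] at this
  exact eq_neg_of_add_eq_zero_left this.symm

lemma actsAs_T (t : G) (ht : t ∈ M.T) :
    ActsAs M.β t (ProjGenLinGroup.mk (mTrans (M.φ ⟨t, ht⟩))) := by
  intro x
  rcases M.cases x with rfl | ⟨y, rfl⟩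
  · rw [M.hTinf t ht, M.hβinf, mTrans_pInf]
  · rw [M.T_smul_pt t ht, M.β_pt, M.β_pt, mTrans_pAff]

lemma actsAs_D (d : G) (hd : d ∈ M.D) :
    ActsAs M.β d (ProjGenLinGroup.mk (mDiag (M.χ d hd) (M.χ_ne_zero d hd))) := by
  intro x
  rcases M.cases x with rfl | ⟨y, rfl⟩
  · rw [M.hDinf d hd, M.hβinf, mDiag_pInf]
  · rw [M.D_smul_pt d hd, M.β_pt, M.β_pt, mDiag_pAff]

/-- the involution `u` acts as `x ↦ 1 / x` -/
theorem actsAs_u [Fintype F] (hF : ringChar F ≠ 2) (hm1 : IsSquare (-1 : F)) (u : G)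
    (huinf : u • M.inf = M.o) (huo : u • M.o = M.inf) (hu2 : u * u = 1)
    (hinv : ∀ d ∈ M.D, u * d * u⁻¹ = d⁻¹) (hue : u • (M.e • M.o) = M.e • M.o)
    (hstab : ∀ g : G, g • M.inf = M.inf → g • M.o = M.o → g ∈ M.D)
    (hsq : ∀ s : F, s ≠ 0 → IsSquare s → ∃ d, ∃ hd : d ∈ M.D, M.χ d hd = s) :
    ActsAs M.β u (ProjGenLinGroup.mk (mSwap (1 : F) one_ne_zero)) := by
  classical
  have hu_ne : ∀ x : F, x ≠ 0 → u • M.pt x ≠ M.inf := by
    intro x hx h
    rw [← huo] at h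
    have := MulAction.injective u h
    rw [← M.pt_zero] at this
    exact hx (M.pt_injective this)
  have hex : ∀ x : F, x ≠ 0 → ∃ y, u • M.pt x = M.pt y := fun x hx =>
    (M.cases _).resolve_left (hu_ne x hx)
  let σ : F → F := fun x => if h : x ≠ 0 then (hex x h).choose else 0
  have hσ : ∀ x : F, x ≠ 0 → u • M.pt x = M.pt (σ x) := by
    intro x hx
    show u • M.pt x = M.pt (if h : x ≠ 0 then (hex x h).choose else 0)
    rw [dif_pos hx]
    exact (hex x hx).choose_spec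
  have hS1 : σ 1 = 1 := by
    have := hσ 1 one_ne_zero
    rw [M.pt_one, hue, ← M.pt_one] at this
    exact (M.pt_injective this).symm
  have hS2 : ∀ s x : F, s ≠ 0 → IsSquare s → x ≠ 0 → σ (s * x) = s⁻¹ * σ x := by
    intro s x hs hss hx
    obtain ⟨d, hd, hds⟩ := hsq s hs hss
    have hd' : d⁻¹ ∈ M.D := M.D.inv_mem hd
    have hud : u * d = d⁻¹ * u := by
      have := hinv d hd
      rw [← this]; group
    have h1 : u • (d • M.pt x) = d⁻¹ • (u • M.pt x) := by
      rw [← mul_smul, hud, mul_smul]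
    rw [M.D_smul_pt d hd, hds, hσ _ (mul_ne_zero hs hx), hσ x hx, M.D_smul_pt d⁻¹ hd'] at h1
    have h2 := M.pt_injective h1
    rw [h2]
    have h3 := M.χ_inv_mul d hd
    rw [hds] at h3
    have : M.χ d⁻¹ hd' = s⁻¹ := eq_inv_of_mul_eq_one_left h3
    rw [this]
  have hσm1 : σ (-1) = -1 := by
    have := hS2 (-1) 1 (neg_ne_zero.mpr one_ne_zero) hm1 one_ne_zero
    rw [mul_one, hS1, mul_one] at this
    rw [this]
    simp
  have he_act : ∀ x : F, M.e • M.pt x = M.pt (1 + x) := by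
    intro x
    rw [M.T_smul_pt M.e M.heT, M.hφe]
  have hei_act : ∀ x : F, M.e⁻¹ • M.pt x = M.pt (-1 + x) := by
    intro x
    rw [M.T_smul_pt M.e⁻¹ (M.T.inv_mem M.heT)]
    have := M.φ_inv ⟨M.e, M.heT⟩
    rw [M.hφe] at this
    have h2 : M.φ ⟨M.e⁻¹, M.T.inv_mem M.heT⟩ = -1 := this
    rw [h2]
  have hm1ne : (-1 : F) ≠ 0 := neg_ne_zero.mpr one_ne_zero
  set δ : G := M.e * (u * M.e⁻¹ * u * M.e * u) with hδ
  have hδinf : δ • M.inf = M.inf := by
    rw [hδ]
    simp only [mul_smul]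
    rw [huinf, ← M.pt_zero, he_act, add_zero, hσ 1 one_ne_zero, hS1, hei_act, neg_add_cancel,
      M.pt_zero, huo, M.hTinf M.e M.heT]
  have hδo : δ • M.o = M.o := by
    rw [hδ]
    simp only [mul_smul]
    rw [huo, M.hTinf M.e M.heT, huinf, ← M.pt_zero, hei_act, add_zero, hσ (-1) hm1ne, hσm1, he_act,
      add_neg_cancel]
  have hδD : δ ∈ M.D := hstab δ hδinf hδo
  have hid : u * M.e * u = M.e * u * M.e⁻¹ * δ := by
    rw [hδ]
    calc u * M.e * u = M.e * (u * u) * M.e⁻¹ * (u * M.e * u) := by rw [hu2]; group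
      _ = _ := by group
  have hid_smul : ∀ y : X, u • (M.e • (u • y)) = M.e • (u • (M.e⁻¹ • (δ • y))) := by
    intro y
    have := congrArg (fun g : G => g • y) hid
    simpa only [mul_smul] using this
  have hχδ : M.χ δ hδD = -1 := by
    have h1 := hid_smul (M.pt (-1))
    rw [hσ (-1) hm1ne, hσm1, he_act, add_neg_cancel, M.pt_zero, huo, M.D_smul_pt δ hδD,
      hei_act] at h1
    -- h1 : inf = e • (u • pt (-1 + χδ * -1))
    have h2 : u • M.pt (-1 + M.χ δ hδD * -1) = M.inf := by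
      have h3 : M.e⁻¹ • M.inf = M.inf := M.hTinf _ (M.T.inv_mem M.heT)
      rw [← h3, h1, inv_smul_smul]
    by_contra hne
    apply hu_ne _ _ h2
    intro h0
    apply hne
    linear_combination -h0
  have hS3 : ∀ y : F, y ≠ 0 → 1 + σ y ≠ 0 → σ (1 + σ y) = 1 + σ (-1 - y) := by
    intro y hy hy1
    have h1 := hid_smul (M.pt y)
    rw [hσ y hy, he_act, hσ _ hy1, M.D_smul_pt δ hδD, hχδ, hei_act] at h1
    have hz : (-1 + -1 * y : F) = -1 - y := by ring
    rw [hz] at h1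
    have hz0 : (-1 - y : F) ≠ 0 := by
      intro h0
      rw [h0, M.pt_zero, huo, M.hTinf M.e M.heT] at h1
      exact M.pt_ne_inf _ h1
    rw [hσ _ hz0, he_act] at h1
    exact M.pt_injective h1
  have hmain := sigma_eq_inv hF hm1 σ hS1 hS2 hS3
  intro x
  rcases M.cases x with rfl | ⟨y, rfl⟩
  · rw [huinf, M.hβinf, mSwap_pInf, ← M.pt_zero, M.β_pt]
  · by_cases hy : y = 0
    · rw [hy, M.pt_zero, huo, M.hβinf, ← M.pt_zero, M.β_pt, mSwap_pAff_zero]
    · rw [hσ y hy, M.β_pt, M.β_pt, mSwap_pAff _ _ _ hy, hmain y hy, one_div]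

end MData

section psl

variable {F : Type*} [Field F]

/-- a matrix whose determinant is a nonzero square is projectively in `PSL₂` -/
lemma exists_psl_toPGL_eq (A : Matrix (Fin 2) (Fin 2) F) (h : A.det ≠ 0) (r : F)
    (hr : A.det = r * r) :
    ∃ m : Matrix.ProjectiveSpecialLinearGroup (Fin 2) F,
      Matrix.ProjectiveSpecialLinearGroup.toPGL m =
        ProjGenLinGroup.mk (GeneralLinearGroup.mkOfDetNeZero A h) := by
  have hr0 : r ≠ 0 := by
    rintro rfl
    apply h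
    rw [hr, mul_zero]
  let S : Matrix.SpecialLinearGroup (Fin 2) F := ⟨r⁻¹ • A, by
    rw [Matrix.det_smul, Fintype.card_fin, hr]
    field_simp⟩
  refine ⟨QuotientGroup.mk S, ?_⟩
  show ProjGenLinGroup.mk (Matrix.SpecialLinearGroup.toGL S) = _
  rw [ProjGenLinGroup.mk_eq_mk_iff]
  refine ⟨Units.mk0 r hr0, ?_⟩
  apply Units.ext
  have h1 : ((Matrix.SpecialLinearGroup.toGL S : GL (Fin 2) F) : Matrix (Fin 2) (Fin 2) F) =
      r⁻¹ • A := rfl
  rw [Units.val_mul, h1]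
  ext i j
  simp [Matrix.mul_apply, Matrix.diagonal_apply]
  fin_cases i <;> fin_cases j <;> simp <;> field_simp

end psl

section pslact

variable {G X F : Type*} [Group G] [MulAction G X] [Field F]

/-- the subgroup of elements acting through `PSL₂` -/
def actsAsPSLSubgroup (β : X → ℙ F (Fin 2 → F)) : Subgroup G where
  carrier := {g | ∃ m : Matrix.ProjectiveSpecialLinearGroup (Fin 2) F,
    ActsAs β g (Matrix.ProjectiveSpecialLinearGroup.toPGL m)}
  one_mem' := ⟨1, by rw [map_one]; exact actsAs_one β⟩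
  mul_mem' := by
    rintro g g' ⟨m, h⟩ ⟨m', h'⟩
    exact ⟨m * m', by rw [map_mul]; exact h.mul h'⟩
  inv_mem' := by
    rintro g ⟨m, h⟩
    exact ⟨m⁻¹, by rw [map_inv]; exact h.inv⟩

/-- if everything acts through `PSL₂`, and the action is faithful, we get an embedding into
`PSL₂` -/
theorem exists_injective_hom_psl (β : X → ℙ F (Fin 2 → F)) (hβ : Function.Bijective β)
    (hall : ∀ g : G, ∃ m : Matrix.ProjectiveSpecialLinearGroup (Fin 2) F,
      ActsAs β g (Matrix.ProjectiveSpecialLinearGroup.toPGL m))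
    (hfaith : ∀ g : G, (∀ x : X, g • x = x) → g = 1) :
    ∃ f : G →* Matrix.ProjectiveSpecialLinearGroup (Fin 2) F, Function.Injective f := by
  classical
  choose f hf using hall
  have huniq : ∀ (g : G) (m : Matrix.ProjectiveSpecialLinearGroup (Fin 2) F),
      ActsAs β g (Matrix.ProjectiveSpecialLinearGroup.toPGL m) → f g = m := by
    intro g m hm
    exact Matrix.ProjectiveSpecialLinearGroup.toPGL_injective (ActsAs.unique hβ.2 (hf g) hm)
  have hmul : ∀ g g', f (g * g') = f g * f g' := fun g g' =>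
    huniq _ _ (by rw [map_mul]; exact (hf g).mul (hf g'))
  have hone : f 1 = 1 := huniq _ _ (by rw [map_one]; exact actsAs_one β)
  refine ⟨⟨⟨f, hone⟩, hmul⟩, ?_⟩
  rw [injective_iff_map_eq_one]
  intro g hg
  apply hfaith
  intro x
  apply hβ.1
  have h1 := hf g x
  have hg' : f g = 1 := hg
  rw [hg', map_one, one_smul] at h1
  exact h1

/-- Recognition of `PSL₂(F)`, `F` of odd characteristic with `-1` a square. -/
theorem MData.nonempty_mulEquiv_psl [Finite G] [Fintype F] (M : MData G X F)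
    (hF : ringChar F ≠ 2) (hm1 : IsSquare (-1 : F)) (u : G)
    (huinf : u • M.inf = M.o) (huo : u • M.o = M.inf) (hu2 : u * u = 1)
    (hinv : ∀ d ∈ M.D, u * d * u⁻¹ = d⁻¹) (hue : u • (M.e • M.o) = M.e • M.o)
    (hstab : ∀ g : G, g • M.inf = M.inf → g • M.o = M.o → g ∈ M.D)
    (hsq : ∀ s : F, s ≠ 0 → IsSquare s → ∃ d, ∃ hd : d ∈ M.D, M.χ d hd = s)
    (hDsq : ∀ d (hd : d ∈ M.D), IsSquare (M.χ d hd))
    (hβbij : Function.Bijective M.β)
    (hgen : Subgroup.closure ((M.T : Set G) ∪ M.D ∪ {u}) = ⊤)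
    (hfaith : ∀ g : G, (∀ x : X, g • x = x) → g = 1)
    (hcard : Nat.card (Matrix.ProjectiveSpecialLinearGroup (Fin 2) F) ≤ Nat.card G) :
    Nonempty (G ≃* Matrix.ProjectiveSpecialLinearGroup (Fin 2) F) := by
  have hT : ∀ t ∈ M.T, t ∈ actsAsPSLSubgroup (G := G) (F := F) M.β := by
    intro t ht
    obtain ⟨m, hm⟩ := exists_psl_toPGL_eq (!![1, M.φ ⟨t, ht⟩; 0, 1] : Matrix (Fin 2) (Fin 2) F)
      (by simp [det_fin_two_of]) 1 (by simp [det_fin_two_of])
    exact ⟨m, by rw [hm]; exact M.actsAs_T t ht⟩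
  have hD : ∀ d ∈ M.D, d ∈ actsAsPSLSubgroup (G := G) (F := F) M.β := by
    intro d hd
    obtain ⟨r, hr⟩ := hDsq d hd
    obtain ⟨m, hm⟩ := exists_psl_toPGL_eq (!![M.χ d hd, 0; 0, 1] : Matrix (Fin 2) (Fin 2) F)
      (by simpa [det_fin_two_of] using M.χ_ne_zero d hd) r (by simpa [det_fin_two_of] using hr)
    exact ⟨m, by rw [hm]; exact M.actsAs_D d hd⟩
  have hu : u ∈ actsAsPSLSubgroup (G := G) (F := F) M.β := by
    obtain ⟨r, hr⟩ := hm1
    obtain ⟨m, hm⟩ := exists_psl_toPGL_eq (!![0, 1; 1, 0] : Matrix (Fin 2) (Fin 2) F)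
      (by simp [det_fin_two_of]) r (by simpa [det_fin_two_of] using hr)
    exact ⟨m, by rw [hm]; exact M.actsAs_u hF ⟨r, hr⟩ u huinf huo hu2 hinv hue hstab hsq⟩
  have hle : Subgroup.closure ((M.T : Set G) ∪ M.D ∪ {u}) ≤
      actsAsPSLSubgroup (G := G) (F := F) M.β := by
    rw [Subgroup.closure_le]
    rintro g ((hg | hg) | hg)
    · exact hT g hg
    · exact hD g hg
    · rw [Set.mem_singleton_iff] at hg; rw [hg]; exact hu
  have hall : ∀ g : G, ∃ m : Matrix.ProjectiveSpecialLinearGroup (Fin 2) F,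
      ActsAs M.β g (Matrix.ProjectiveSpecialLinearGroup.toPGL m) := by
    intro g
    have : g ∈ actsAsPSLSubgroup (G := G) (F := F) M.β := hle (by rw [hgen]; trivial)
    exact this
  obtain ⟨f, hf⟩ := exists_injective_hom_psl M.β hβbij hall hfaith
  have : Finite (Matrix.ProjectiveSpecialLinearGroup (Fin 2) F) :=
    Finite.of_surjective _ (QuotientGroup.mk_surjective (s := Subgroup.center _))
  have hbij : Function.Bijective f := hf.bijective_of_nat_card_le hcard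
  exact ⟨MulEquiv.ofBijective f hbij⟩

end pslact

end Cfsg.Agent.Lib.Helper28
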