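import Mathlib

/-!
# Schur's lemma: a commuting irreducible family of endomorphisms generates a field

Let `A` be a finite abelian group and `S` a commuting family of endomorphisms of `A` such that the
only `S`-invariant subgroups are `⊥` and `⊤`.  Then the subring generated by `S` is a finite field
`E`, and evaluating at a nonzero `e : A` identifies `E` with `A`.  We transport everything to the
`GaloisField`.
-/

set_option autoImplicit false
set_option linter.style.haveILetI false

namespace Cfsg.Agent.Lib.Helper28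

theorem schur_field {A : Type*} [AddCommGroup A] [Finite A] (S : Set (AddMonoid.End A))
    (hcomm : ∀ a ∈ S, ∀ b ∈ S, a * b = b * a)
    (hirr : ∀ M : AddSubgroup A, (∀ s ∈ S, ∀ m ∈ M, s m ∈ M) → M = ⊥ ∨ M = ⊤)
    (e : A) (he : e ≠ 0) :
    ∃ (p n : ℕ) (_ : Fact p.Prime) (φ : A ≃+ GaloisField p n), n ≠ 0 ∧ φ e = 1 ∧
      ∀ s ∈ S, ∀ x : A, φ (s x) = φ (s e) * φ x := by
  classical
  set E : Subring (AddMonoid.End A) := Subring.closure S with hE
  have hSE : S ⊆ E := Subring.subset_closure
  have hc := Subring.isMulCommutative_closure hcomm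
  have hEcomm : ∀ a b : E, a * b = b * a := fun a b => hc.is_comm.comm a b
  have hzero_apply : ∀ x : A, ((0 : E) : AddMonoid.End A) x = 0 := fun x => rfl
  have hone_apply : ∀ x : A, ((1 : E) : AddMonoid.End A) x = x := fun x => rfl
  have hmul_apply : ∀ (a b : E) (x : A), ((a * b : E) : AddMonoid.End A) x =
      (a : AddMonoid.End A) ((b : AddMonoid.End A) x) := fun a b x => rfl
  -- nonzero elements are injective
  have hinj : ∀ a : E, a ≠ 0 → Function.Injective (a : AddMonoid.End A) := by
    intro a ha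
    rw [injective_iff_map_eq_zero]
    let ker : AddSubgroup A :=
      { carrier := {x | (a : AddMonoid.End A) x = 0}
        zero_mem' := map_zero _
        add_mem' := by
          intro x y hx hy
          show (a : AddMonoid.End A) (x + y) = 0
          rw [map_add, hx, hy, add_zero]
        neg_mem' := by
          intro x hx
          show (a : AddMonoid.End A) (-x) = 0
          rw [map_neg, hx, neg_zero] }
    have hker : ker = ⊥ ∨ ker = ⊤ := by
      apply hirr
      intro s hs m hm
      have hm' : (a : AddMonoid.End A) m = 0 := hm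
      show (a : AddMonoid.End A) (s m) = 0
      have h1 : a * ⟨s, hSE hs⟩ = ⟨s, hSE hs⟩ * a := hEcomm a ⟨s, hSE hs⟩
      have h2 := congrArg (fun c : E => (c : AddMonoid.End A) m) h1
      simp only [hmul_apply] at h2
      rw [h2, hm', map_zero]
    rcases hker with h | h
    · intro x hx
      have : x ∈ ker := hx
      rw [h] at this
      exact this
    · exfalso
      apply ha
      apply Subtype.ext
      apply AddMonoid.End.ext
      intro x
      have : x ∈ ker := by rw [h]; trivial
      exact this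
  haveI : Nontrivial E := ⟨⟨0, 1, fun h => he (by
      have := congrArg (fun a : E => (a : AddMonoid.End A) e) h
      simp only [hzero_apply, hone_apply] at this
      exact this.symm)⟩⟩
  haveI : NoZeroDivisors E := ⟨fun {a b} hab => by
      by_contra hcon
      push Not at hcon
      apply hcon.2
      apply Subtype.ext
      apply AddMonoid.End.ext
      intro x
      apply hinj a hcon.1
      have := congrArg (fun c : E => (c : AddMonoid.End A) x) hab
      simp only [hzero_apply, hmul_apply] at this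
      rw [this]
      show (0 : A) = (a : AddMonoid.End A) (((0 : E) : AddMonoid.End A) x)
      rw [hzero_apply, map_zero]⟩
  haveI : Finite E := Finite.of_injective (fun a : E => ((a : AddMonoid.End A) : A → A)) (by
      intro a b h
      apply Subtype.ext
      exact DFunLike.coe_injective h)
  letI iC : CommRing E := { (inferInstance : Ring E) with mul_comm := hEcomm }
  haveI : IsDomain E := NoZeroDivisors.to_isDomain E
  letI := Fintype.ofFinite E
  letI iF : Field E := Fintype.fieldOfDomain E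
  -- evaluation
  let ev : E →+ A :=
    { toFun := fun a => (a : AddMonoid.End A) e
      map_zero' := rfl
      map_add' := fun a b => rfl }
  have hev_inj : Function.Injective ev := by
    rw [injective_iff_map_eq_zero]
    intro a ha
    by_contra hne
    apply he
    apply hinj a hne
    rw [map_zero]
    exact ha
  have hev_surj : Function.Surjective ev := by
    let rng : AddSubgroup A :=
      { carrier := Set.range ev
        zero_mem' := ⟨0, map_zero ev⟩
        add_mem' := by
          rintro _ _ ⟨x, rfl⟩ ⟨y, rfl⟩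
          exact ⟨x + y, map_add ev x y⟩
        neg_mem' := by
          rintro _ ⟨x, rfl⟩
          exact ⟨-x, map_neg ev x⟩ }
    have : rng = ⊥ ∨ rng = ⊤ := by
      apply hirr
      rintro s hs _ ⟨a, rfl⟩
      exact ⟨⟨s, hSE hs⟩ * a, rfl⟩
    rcases this with h | h
    · exfalso
      apply he
      have : ev 1 ∈ rng := ⟨1, rfl⟩
      rw [h] at this
      exact this
    · intro x
      have : x ∈ rng := by rw [h]; trivial
      exact this
  let ψ : E ≃+ A := AddEquiv.ofBijective ev ⟨hev_inj, hev_surj⟩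
  have hψ : ∀ a : E, ψ a = (a : AddMonoid.End A) e := fun a => rfl
  obtain ⟨p, _, n, hp, hcard⟩ := FiniteField.card' E
  haveI : Fact p.Prime := ⟨hp⟩
  letI : Fintype (GaloisField p n) := Fintype.ofFinite _
  have hcardeq : Fintype.card E = Fintype.card (GaloisField p n) := by
    rw [hcard, ← Nat.card_eq_fintype_card (α := GaloisField p n), GaloisField.card p n n.ne_zero]
  let ι : E ≃+* GaloisField p n := FiniteField.ringEquivOfCardEq hcardeq
  have hsymm_one : ψ.symm e = 1 := by
    rw [AddEquiv.symm_apply_eq, hψ]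
    rfl
  have hsymm_mul : ∀ s (hs : s ∈ S) (x : A), ψ.symm (s x) = ⟨s, hSE hs⟩ * ψ.symm x := by
    intro s hs x
    rw [AddEquiv.symm_apply_eq, hψ]
    have : x = ψ (ψ.symm x) := (ψ.apply_symm_apply x).symm
    conv_lhs => rw [this, hψ]
    rfl
  refine ⟨p, n, ⟨hp⟩, ψ.symm.trans ι.toAddEquiv, n.ne_zero, ?_, ?_⟩
  · show ι (ψ.symm e) = 1
    rw [hsymm_one, map_one]
  · intro s hs x
    show ι (ψ.symm (s x)) = ι (ψ.symm (s e)) * ι (ψ.symm x)
    rw [hsymm_mul s hs x, hsymm_mul s hs e, hsymm_one, mul_one, map_mul]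

section coord

variable {G : Type*} [Group G]

/-- If `T` is a finite commutative subgroup, normalized by a commutative subgroup `D` acting
irreducibly on it, then `T` can be coordinatized by a finite field so that
conjugation by `D` becomes multiplication. -/
theorem exists_coord_schur (T D : Subgroup G) [Finite T]
    (hTcomm : ∀ a ∈ T, ∀ b ∈ T, a * b = b * a) (hDcomm : ∀ a ∈ D, ∀ b ∈ D, a * b = b * a)
    (hnorm : ∀ d ∈ D, ∀ t ∈ T, d * t * d⁻¹ ∈ T) (e : G) (heT : e ∈ T) (he1 : e ≠ 1)
    (hirr : ∀ M : Subgroup G, M ≤ T → (∀ d ∈ D, ∀ m ∈ M, d * m * d⁻¹ ∈ M) → M = ⊥ ∨ M = T) :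
    ∃ (p n : ℕ) (_ : Fact p.Prime) (φ : T → GaloisField p n), n ≠ 0 ∧ Function.Bijective φ ∧
      (∀ a b : T, φ (a * b) = φ a + φ b) ∧ φ ⟨e, heT⟩ = 1 ∧
      ∀ (d : G) (hd : d ∈ D) (t : T), φ ⟨d * t * d⁻¹, hnorm d hd t t.2⟩ =
        φ ⟨d * e * d⁻¹, hnorm d hd e heT⟩ * φ t := by
  classical
  letI iT : CommGroup ↥T :=
    { (inferInstance : Group ↥T) with
      mul_comm := fun a b => Subtype.ext (hTcomm a a.2 b b.2) }
  haveI : Finite (Additive ↥T) := inferInstanceAs (Finite ↥T)
  let cf : D → Additive ↥T → Additive ↥T := fun d a =>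
    Additive.ofMul ⟨(d : G) * (Additive.toMul a : T) * (d : G)⁻¹,
      hnorm d d.2 _ (Additive.toMul a : T).2⟩
  have cf_add : ∀ (d : D) (a b : Additive ↥T), cf d (a + b) = cf d a + cf d b := by
    intro d a b
    show Additive.ofMul (⟨(d : G) * ((Additive.toMul a * Additive.toMul b : T) : G) * (d : G)⁻¹, _⟩ : T) =
      Additive.ofMul ((⟨(d : G) * (Additive.toMul a : T) * (d : G)⁻¹, _⟩ : T) *
        (⟨(d : G) * (Additive.toMul b : T) * (d : G)⁻¹, _⟩ : T))
    congr 1
    apply Subtype.ext
    simp [mul_assoc]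
  let c : D → AddMonoid.End (Additive ↥T) := fun d => AddMonoidHom.mk' (cf d) (cf_add d)
  have hc_apply : ∀ (d : D) (a : Additive ↥T), c d a = cf d a := fun d a => rfl
  set S : Set (AddMonoid.End (Additive ↥T)) := Set.range c with hS
  have hcomm : ∀ a ∈ S, ∀ b ∈ S, a * b = b * a := by
    rintro _ ⟨d, rfl⟩ _ ⟨d', rfl⟩
    apply AddMonoid.End.ext
    intro a
    show c d (c d' a) = c d' (c d a)
    rw [hc_apply, hc_apply, hc_apply, hc_apply]
    show Additive.ofMul (⟨(d : G) * ((d' : G) * (Additive.toMul a : T) * (d' : G)⁻¹) * (d : G)⁻¹, _⟩ : T) =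
      Additive.ofMul (⟨(d' : G) * ((d : G) * (Additive.toMul a : T) * (d : G)⁻¹) * (d' : G)⁻¹, _⟩ : T)
    congr 1
    apply Subtype.ext
    show (d : G) * ((d' : G) * (Additive.toMul a : T) * (d' : G)⁻¹) * (d : G)⁻¹ =
      (d' : G) * ((d : G) * (Additive.toMul a : T) * (d : G)⁻¹) * (d' : G)⁻¹
    have h1 : (d : G) * (d' : G) = (d' : G) * (d : G) := hDcomm d d.2 d' d'.2
    have h2 : (d' : G)⁻¹ * (d : G)⁻¹ = (d : G)⁻¹ * (d' : G)⁻¹ := by
      rw [← mul_inv_rev, ← mul_inv_rev, h1]
    calc (d : G) * ((d' : G) * (Additive.toMul a : T) * (d' : G)⁻¹) * (d : G)⁻¹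
        = ((d : G) * (d' : G)) * (Additive.toMul a : T) * ((d' : G)⁻¹ * (d : G)⁻¹) := by group
      _ = ((d' : G) * (d : G)) * (Additive.toMul a : T) * ((d : G)⁻¹ * (d' : G)⁻¹) := by rw [h1, h2]
      _ = _ := by group
  have hirr' : ∀ M : AddSubgroup (Additive ↥T), (∀ s ∈ S, ∀ m ∈ M, s m ∈ M) → M = ⊥ ∨ M = ⊤ := by
    intro M hM
    let M' : Subgroup G :=
      { carrier := {g | ∃ h : g ∈ T, Additive.ofMul (⟨g, h⟩ : T) ∈ M}
        one_mem' := ⟨T.one_mem, M.zero_mem⟩
        mul_mem' := by
          rintro x y ⟨hx, hxM⟩ ⟨hy, hyM⟩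
          exact ⟨T.mul_mem hx hy, M.add_mem hxM hyM⟩
        inv_mem' := by
          rintro x ⟨hx, hxM⟩
          exact ⟨T.inv_mem hx, M.neg_mem hxM⟩ }
    have hM'T : M' ≤ T := fun g hg => hg.1
    have hM'inv : ∀ d ∈ D, ∀ m ∈ M', d * m * d⁻¹ ∈ M' := by
      rintro d hd m ⟨hm, hmM⟩
      exact ⟨hnorm d hd m hm, hM (c ⟨d, hd⟩) ⟨⟨d, hd⟩, rfl⟩ _ hmM⟩
    rcases hirr M' hM'T hM'inv with h | h
    · left
      rw [eq_bot_iff]
      intro a ha
      have : ((Additive.toMul a : T) : G) ∈ M' := ⟨(Additive.toMul a : T).2, ha⟩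
      rw [h, Subgroup.mem_bot] at this
      rw [AddSubgroup.mem_bot]
      have h1 : (Additive.toMul a : T) = 1 := Subtype.ext this
      exact h1
    · right
      rw [eq_top_iff]
      intro a _
      have : ((Additive.toMul a : T) : G) ∈ M' := by rw [h]; exact (Additive.toMul a : T).2
      obtain ⟨_, h2⟩ := this
      exact h2
  have he' : Additive.ofMul (⟨e, heT⟩ : T) ≠ 0 := by
    intro h
    apply he1
    have : (⟨e, heT⟩ : T) = 1 := h
    exact congrArg Subtype.val this
  obtain ⟨p, n, hp, φ, hn, hφe, hφmul⟩ := schur_field S hcomm hirr' _ he'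
  refine ⟨p, n, hp, fun t => φ (Additive.ofMul t), hn, ?_, ?_, hφe, ?_⟩
  · exact φ.bijective.comp Additive.ofMul.bijective
  · intro a b
    show φ (Additive.ofMul (a * b)) = φ (Additive.ofMul a) + φ (Additive.ofMul b)
    rw [← map_add]
    rfl
  · intro d hd t
    exact hφmul (c ⟨d, hd⟩) ⟨⟨d, hd⟩, rfl⟩ (Additive.ofMul t)

end coord

end Cfsg.Agent.Lib.Helper28
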