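import Mathlib
import Cfsg.Agent.S0035

set_option autoImplicit false

/-!
# Frobenius' theorem in action form, and the dichotomy for normal subgroups of Frobenius groups
-/

namespace Cfsg.Agent.Lib.Helper28

open MulAction

open scoped Pointwise

section frobAct

variable {X Y : Type*} [Group X] [Finite X] [MulAction X Y]

/-- Frobenius' theorem for a transitive action in which only the identity fixes two points: the
identity together with the fixed-point-free elements forms a normal subgroup, transitive on the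
points, and every normal subgroup either lies in it or contains it. -/
theorem frobenius_action (y₀ : Y) (htrans : ∀ y : Y, ∃ x : X, x • y₀ = y)
    (hne : ∃ x : X, x ≠ 1 ∧ x • y₀ = y₀) (hmove : ∃ x : X, x • y₀ ≠ y₀)
    (htwo : ∀ (x : X) (y y' : Y), y ≠ y' → x • y = y → x • y' = y' → x = 1) :
    ∃ K : Subgroup X, K.Normal ∧ (∀ x, x ∈ K ↔ x = 1 ∨ ∀ y : Y, x • y ≠ y) ∧
      (∀ y : Y, ∃ k ∈ K, k • y₀ = y) ∧
      (∀ L : Subgroup X, L.Normal → L ≤ K ∨ K ≤ L) := by
  classical
  set D : Subgroup X := stabilizer X y₀ with hD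
  have hconj : ∀ g x : X, x ∈ MulAut.conj g • D ↔ x • (g • y₀) = g • y₀ := by
    intro g x
    rw [Cfsg.Agent.S0034.mem_conj_smul_iff', hD, mem_stabilizer_iff, mul_smul, mul_smul,
      inv_smul_eq_iff]
  have hFC : Cfsg.IsFrobeniusComplement D := by
    refine ⟨?_, ?_, ?_⟩
    · obtain ⟨x, hx1, hx⟩ := hne
      intro h
      apply hx1
      have : x ∈ D := hx
      rw [h] at this
      exact Subgroup.mem_bot.1 this
    · obtain ⟨x, hx⟩ := hmove
      intro h
      apply hx
      have : x ∈ D := by rw [h]; trivial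
      exact this
    · intro g hg
      rw [Subgroup.eq_bot_iff_forall]
      intro x hx
      obtain ⟨hx1, hx2⟩ := Subgroup.mem_inf.1 hx
      rw [hconj] at hx2
      have hgy : y₀ ≠ g • y₀ := fun h => hg h.symm
      exact htwo x y₀ (g • y₀) hgy hx1 hx2
  obtain ⟨K, hKset, hKn, hKc⟩ := Cfsg.Agent.S0035.result D hFC
  have hKmem : ∀ x, x ∈ K ↔ x = 1 ∨ ∀ y : Y, x • y ≠ y := by
    intro x
    have : x ∈ K ↔ x ∈ Cfsg.frobeniusKernel D := by
      rw [← hKset]; rfl
    rw [this]
    show (x = 1 ∨ ∀ g : X, x ∉ MulAut.conj g • D) ↔ _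
    constructor
    · rintro (h | h)
      · exact Or.inl h
      · right
        intro y hy
        obtain ⟨g, rfl⟩ := htrans y
        exact h g ((hconj g x).2 hy)
    · rintro (h | h)
      · exact Or.inl h
      · right
        intro g hg
        exact h _ ((hconj g x).1 hg)
  have hKtrans : ∀ y : Y, ∃ k ∈ K, k • y₀ = y := by
    intro y
    obtain ⟨x, hx⟩ := htrans y
    have hprod : x ∈ ((K : Set X) * (D : Set X)) := by
      have := hKc.mul_eq
      rw [this]; trivial
    obtain ⟨k, hk, d, hd, hkd⟩ := Set.mem_mul.1 hprod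
    refine ⟨k, hk, ?_⟩
    have hd' : d • y₀ = y₀ := hd
    rw [← hx, ← hkd, mul_smul, hd']
  refine ⟨K, hKn, hKmem, hKtrans, ?_⟩
  intro L hL
  by_cases hLK : L ≤ K
  · exact Or.inl hLK
  · right
    obtain ⟨x, hxL, hxK⟩ := SetLike.not_le_iff_exists.1 hLK
    rw [hKmem] at hxK
    push Not at hxK
    obtain ⟨hx1, y, hy⟩ := hxK
    obtain ⟨g, rfl⟩ := htrans y
    -- d fixes y₀
    set d : X := g⁻¹ * x * g with hd
    have hdL : d ∈ L := by
      have := hL.conj_mem x hxL g⁻¹
      simpa [hd] using this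
    have hdy : d • y₀ = y₀ := by
      rw [hd, mul_smul, mul_smul, hy, inv_smul_smul]
    have hd1 : d ≠ 1 := by
      intro h
      apply hx1
      have : x = g * d * g⁻¹ := by rw [hd]; group
      rw [this, h]; group
    -- the commutator map on K
    have hcK : ∀ k : K, (k : X)⁻¹ * d⁻¹ * k * d ∈ K := by
      intro k
      have h1 : d⁻¹ * (k : X) * d ∈ K := by
        have := hKn.conj_mem k k.2 d⁻¹
        simpa using this
      have : (k : X)⁻¹ * d⁻¹ * k * d = (k : X)⁻¹ * (d⁻¹ * k * d) := by group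
      rw [this]
      exact K.mul_mem (K.inv_mem k.2) h1
    have hcL : ∀ k : K, (k : X)⁻¹ * d⁻¹ * k * d ∈ L := by
      intro k
      have h1 : (k : X)⁻¹ * d⁻¹ * k ∈ L := by
        have := hL.conj_mem d⁻¹ (L.inv_mem hdL) (k : X)⁻¹
        simpa using this
      exact L.mul_mem h1 hdL
    have hinj : Function.Injective (fun k : K => (⟨(k : X)⁻¹ * d⁻¹ * k * d, hcK k⟩ : K)) := by
      intro k k' hkk'
      have h0 : (k : X)⁻¹ * d⁻¹ * k * d = (k' : X)⁻¹ * d⁻¹ * k' * d := congrArg Subtype.val hkk'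
      have h1 : (k : X)⁻¹ * d⁻¹ * k = (k' : X)⁻¹ * d⁻¹ * k' := mul_right_cancel h0
      set z : X := (k' : X) * (k : X)⁻¹ with hz
      have hzK : z ∈ K := K.mul_mem k'.2 (K.inv_mem k.2)
      have hzd : z * d⁻¹ = d⁻¹ * z := by
        calc z * d⁻¹ = (k' : X) * ((k : X)⁻¹ * d⁻¹ * k) * (k : X)⁻¹ := by rw [hz]; group
          _ = (k' : X) * ((k' : X)⁻¹ * d⁻¹ * k') * (k : X)⁻¹ := by rw [h1]
          _ = d⁻¹ * z := by rw [hz]; group
      have hzd' : d * z = z * d := by
        calc d * z = d * (z * d⁻¹) * d := by group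
          _ = d * (d⁻¹ * z) * d := by rw [hzd]
          _ = z * d := by group
      have hz1 : z = 1 := by
        by_contra hz1
        have hfpf := ((hKmem z).1 hzK).resolve_left hz1
        apply hd1
        apply htwo d y₀ (z • y₀) (fun h => hfpf y₀ h.symm) hdy
        rw [← mul_smul, hzd', mul_smul, hdy]
      apply Subtype.ext
      have : (k' : X) = z * k := by rw [hz]; group
      rw [this, hz1, one_mul]
    have hsurj := Finite.surjective_of_injective hinj
    intro k hk
    obtain ⟨k', hk'⟩ := hsurj ⟨k, hk⟩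
    have : (k' : X)⁻¹ * d⁻¹ * k' * d = k := congrArg Subtype.val hk'
    rw [← this]
    exact hcL k'

end frobAct

end Cfsg.Agent.Lib.Helper28
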