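import Mathlib
import Cfsg.Agent.Lib.Helper28.FrobAct
import Cfsg.Agent.Lib.Helper63.TwoTransRegular

set_option autoImplicit false

/-!
# Normal subgroups of Zassenhaus groups
-/

namespace Cfsg.Agent.Lib.Helper28

open MulAction

/-- the Zassenhaus axioms in elementary form, without the "no regular normal subgroup" clause -/
structure ZPre (G Ω : Type*) [Group G] [MulAction G Ω] : Prop where
  faithful : ∀ g : G, (∀ x : Ω, g • x = x) → g = 1
  trans2 : ∀ a b c d : Ω, a ≠ b → c ≠ d → ∃ g : G, g • a = c ∧ g • b = d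
  three : ∀ (g : G) (a b c : Ω), a ≠ b → b ≠ c → a ≠ c → g • a = a → g • b = b → g • c = c → g = 1
  two : ∃ g : G, g ≠ 1 ∧ ∃ a b : Ω, a ≠ b ∧ g • a = a ∧ g • b = b

section zpre

variable {G Ω : Type*} [Group G] [MulAction G Ω]

theorem ZPre.finite [Finite Ω] (h : ZPre G Ω) : Finite G := by
  have hinj : Function.Injective (MulAction.toPermHom G Ω) := by
    rw [injective_iff_map_eq_one]
    intro g hg
    apply h.faithful
    intro x
    have := congrArg (fun σ : Equiv.Perm Ω => σ x) hg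
    simpa using this
  exact Finite.of_injective _ hinj

theorem ZPre.two_stab_ne (h : ZPre G Ω) {a b : Ω} (hab : a ≠ b) :
    ∃ x : G, x ≠ 1 ∧ x • a = a ∧ x • b = b := by
  obtain ⟨g₀, hg₀, a', b', hab', ha', hb'⟩ := h.two
  obtain ⟨t, hta, htb⟩ := h.trans2 a' b' a b hab' hab
  refine ⟨t * g₀ * t⁻¹, ?_, ?_, ?_⟩
  · intro hh
    apply hg₀
    have : g₀ = t⁻¹ * (t * g₀ * t⁻¹) * t := by group
    rw [this, hh]; group
  · rw [← hta, mul_smul, mul_smul, inv_smul_smul, ha']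
  · rw [← htb, mul_smul, mul_smul, inv_smul_smul, hb']

theorem ZPre.exists_third (h : ZPre G Ω) {a b : Ω} (hab : a ≠ b) : ∃ c : Ω, c ≠ a ∧ c ≠ b := by
  obtain ⟨x, hx1, hxa, hxb⟩ := h.two_stab_ne hab
  by_contra hcon
  push Not at hcon
  apply hx1
  apply h.faithful
  intro c
  by_cases hca : c = a
  · rw [hca, hxa]
  · rw [hcon c hca, hxb]

/-- the Frobenius kernel of a point stabilizer -/
theorem ZPre.exists_kernel [Finite Ω] (h : ZPre G Ω) (a : Ω) :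
    ∃ K : Subgroup G, K ≤ stabilizer G a ∧
      (∀ x ∈ stabilizer G a, x ∈ K ↔ x = 1 ∨ ∀ c : Ω, c ≠ a → x • c ≠ c) ∧
      (∀ b c : Ω, b ≠ a → c ≠ a → ∃ k ∈ K, k • b = c) ∧
      (∀ L : Subgroup G, L ≤ stabilizer G a → (∀ x ∈ stabilizer G a, ∀ l ∈ L, x * l * x⁻¹ ∈ L) →
        L ≤ K ∨ K ≤ L) := by
  classical
  have : Finite G := h.finite
  -- a second point
  obtain ⟨b, hba⟩ : ∃ b : Ω, b ≠ a := by
    obtain ⟨g₀, hg₀, a', b', hab', -, -⟩ := h.two
    by_cases ha' : a' = a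
    · exact ⟨b', fun hh => hab' (ha'.trans hh.symm)⟩
    · exact ⟨a', ha'⟩
  have hsm : ∀ (x : stabilizer G a) (y : SubMulAction.ofStabilizer G a),
      ((x • y : SubMulAction.ofStabilizer G a) : Ω) = (x : G) • (y : Ω) := fun x y => rfl
  obtain ⟨K', hK'n, hK'mem, hK'trans, hK'dich⟩ :=
    frobenius_action (X := stabilizer G a) (Y := SubMulAction.ofStabilizer G a) ⟨b, hba⟩
      (by
        rintro ⟨c, hc⟩
        obtain ⟨g, hga, hgb⟩ := h.trans2 a b a c (Ne.symm hba) (Ne.symm hc)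
        exact ⟨⟨g, hga⟩, Subtype.ext hgb⟩)
      (by
        obtain ⟨x, hx1, hxa, hxb⟩ := h.two_stab_ne (Ne.symm hba)
        exact ⟨⟨x, hxa⟩, fun hh => hx1 (congrArg Subtype.val hh), Subtype.ext hxb⟩)
      (by
        obtain ⟨c, hca, hcb⟩ := h.exists_third (Ne.symm hba)
        obtain ⟨g, hga, hgb⟩ := h.trans2 a b a c (Ne.symm hba) (Ne.symm hca)
        refine ⟨⟨g, hga⟩, fun hh => hcb ?_⟩
        have : g • b = b := congrArg Subtype.val hh
        rw [← hgb, this])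
      (by
        rintro ⟨x, hx⟩ ⟨y, hy⟩ ⟨y', hy'⟩ hne hfy hfy'
        apply Subtype.ext
        have hyy' : y ≠ y' := fun hh => hne (Subtype.ext hh)
        exact h.three x a y y' (Ne.symm hy) hyy' (Ne.symm hy') hx (congrArg Subtype.val hfy)
          (congrArg Subtype.val hfy'))
  refine ⟨K'.map (stabilizer G a).subtype, ?_, ?_, ?_, ?_⟩
  · rintro x ⟨k, -, rfl⟩
    exact k.2
  · intro x hx
    have hmem : x ∈ K'.map (stabilizer G a).subtype ↔ (⟨x, hx⟩ : stabilizer G a) ∈ K' := by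
      constructor
      · rintro ⟨k, hk, hkx⟩
        have : k = ⟨x, hx⟩ := Subtype.ext hkx
        rwa [← this]
      · intro hk
        exact ⟨⟨x, hx⟩, hk, rfl⟩
    rw [hmem, hK'mem]
    constructor
    · rintro (hh | hh)
      · exact Or.inl (congrArg Subtype.val hh)
      · right
        intro c hc hfix
        exact hh ⟨c, hc⟩ (Subtype.ext hfix)
    · rintro (hh | hh)
      · exact Or.inl (Subtype.ext hh)
      · right
        rintro ⟨c, hc⟩ hfix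
        exact hh c hc (congrArg Subtype.val hfix)
  · intro b' c hb' hc
    obtain ⟨k₁, hk₁, hk₁b⟩ := hK'trans ⟨b', hb'⟩
    obtain ⟨k₂, hk₂, hk₂c⟩ := hK'trans ⟨c, hc⟩
    refine ⟨((k₂ * k₁⁻¹ : stabilizer G a) : G), ⟨k₂ * k₁⁻¹, K'.mul_mem hk₂ (K'.inv_mem hk₁), rfl⟩, ?_⟩
    have h1 : (k₁ : G) • b = b' := congrArg Subtype.val hk₁b
    have h2 : (k₂ : G) • b = c := congrArg Subtype.val hk₂c
    rw [Subgroup.coe_mul, Subgroup.coe_inv, mul_smul, ← h1, inv_smul_smul, h2]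
  · intro L hL hLn
    have hLn' : (L.subgroupOf (stabilizer G a)).Normal := by
      constructor
      intro l hl x
      rw [Subgroup.mem_subgroupOf] at hl ⊢
      exact hLn x x.2 l hl
    rcases hK'dich _ hLn' with hh | hh
    · left
      intro l hl
      exact ⟨⟨l, hL hl⟩, hh (Subgroup.mem_subgroupOf.2 hl), rfl⟩
    · right
      rintro x ⟨k, hk, rfl⟩
      exact Subgroup.mem_subgroupOf.1 (hh hk)

end zpre


section normal

variable {G Ω : Type*} [Group G] [MulAction G Ω]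

theorem ZPre.trans1 (h : ZPre G Ω) (c d : Ω) : ∃ g : G, g • c = d := by
  by_cases hcd : c = d
  · exact ⟨1, by rw [one_smul, hcd]⟩
  · obtain ⟨g, hg, -⟩ := h.trans2 c d d c hcd (Ne.symm hcd)
    exact ⟨g, hg⟩

/-- a nontrivial normal subgroup is transitive -/
theorem ZPre.normal_trans (h : ZPre G Ω) (N : Subgroup G) [hNn : N.Normal] (hN : N ≠ ⊥)
    (c d : Ω) : ∃ n ∈ N, n • c = d := by
  by_cases hcd : c = d
  · exact ⟨1, N.one_mem, by rw [one_smul, hcd]⟩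
  · obtain ⟨n, hn1⟩ := (Subgroup.ne_bot_iff_exists_ne_one).1 hN
    have hn1' : (n : G) ≠ 1 := fun hh => hn1 (Subtype.ext hh)
    have : ∃ x : Ω, (n : G) • x ≠ x := by
      by_contra hcon
      push Not at hcon
      exact hn1' (h.faithful _ hcon)
    obtain ⟨x, hx⟩ := this
    obtain ⟨g, hgx, hgnx⟩ := h.trans2 x ((n : G) • x) c d (Ne.symm hx) hcd
    refine ⟨g * n * g⁻¹, hNn.conj_mem _ n.2 g, ?_⟩
    rw [mul_smul, mul_smul, ← hgx, inv_smul_smul, hgnx]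

/-- Lemma A: a nontrivial normal subgroup of a Zassenhaus group has nontrivial two-point
stabilizers. -/
theorem ZPre.normal_two_stab_ne [Finite Ω] (h : ZPre G Ω)
    (hreg : ∀ M : Subgroup G, M.Normal → (∀ x y : Ω, ∃ m ∈ M, m • x = y) →
      ∃ a : Ω, ∃ m ∈ M, m ≠ 1 ∧ m • a = a)
    (N : Subgroup G) [hNn : N.Normal] (hN : N ≠ ⊥) {a b : Ω} (hab : a ≠ b) :
    ∃ n ∈ N, n ≠ 1 ∧ n • a = a ∧ n • b = b := by
  classical
  have : Finite G := h.finite
  by_contra hcon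
  push Not at hcon
  -- two-point stabilizers in N are trivial
  have H0 : ∀ c d : Ω, c ≠ d → ∀ n ∈ N, n • c = c → n • d = d → n = 1 := by
    intro c d hcd n hn hnc hnd
    obtain ⟨g, hga, hgb⟩ := h.trans2 a b c d hab hcd
    by_contra hn1
    apply hcon (g⁻¹ * n * g⁻¹⁻¹) (hNn.conj_mem n hn g⁻¹)
    · intro hh
      apply hn1
      have : n = g * (g⁻¹ * n * g⁻¹⁻¹) * g⁻¹ := by group
      rw [this, hh]; group
    · rw [inv_inv, mul_smul, mul_smul, hga, hnc, ← hga, inv_smul_smul]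
    · rw [inv_inv, mul_smul, mul_smul, hgb, hnd, ← hgb, inv_smul_smul]
  have htransN := h.normal_trans N hN
  -- N_a ≠ 1
  obtain ⟨a', m, hm, hm1, hma'⟩ := hreg N hNn htransN
  obtain ⟨g, hg⟩ := h.trans1 a' a
  have hsmN : ∀ (n : N) (y : Ω), n • y = (n : G) • y := fun n y => rfl
  obtain ⟨M', hM'n, hM'mem, hM'trans, -⟩ :=
    frobenius_action (X := N) (Y := Ω) a
      (by
        intro y
        obtain ⟨n, hn, hny⟩ := htransN a y
        exact ⟨⟨n, hn⟩, hny⟩)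
      (by
        refine ⟨⟨g * m * g⁻¹, hNn.conj_mem m hm g⟩, ?_, ?_⟩
        · intro hh
          apply hm1
          have h1 : g * m * g⁻¹ = 1 := congrArg Subtype.val hh
          have : m = g⁻¹ * (g * m * g⁻¹) * g := by group
          rw [this, h1]; group
        · show (g * m * g⁻¹) • a = a
          rw [mul_smul, mul_smul, ← hg, inv_smul_smul, hma'])
      (by
        obtain ⟨n, hn, hnb⟩ := htransN a b
        exact ⟨⟨n, hn⟩, fun hh => hab (hh.symm.trans hnb)⟩)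
      (by
        rintro ⟨x, hx⟩ y y' hyy' hy hy'
        apply Subtype.ext
        exact H0 y y' hyy' x hx hy hy')
  -- the kernel as a subgroup of G
  have hMn : (M'.map N.subtype).Normal := by
    constructor
    rintro x ⟨m', hm', rfl⟩ g'
    have hmemN : g' * (m' : G) * g'⁻¹ ∈ N := hNn.conj_mem _ m'.2 g'
    refine ⟨⟨_, hmemN⟩, ?_, rfl⟩
    show (⟨_, hmemN⟩ : N) ∈ M'
    rw [hM'mem]
    rcases (hM'mem m').1 hm' with hh | hh
    · left
      apply Subtype.ext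
      show g' * (m' : G) * g'⁻¹ = 1
      rw [hh]; simp
    · right
      intro y hy
      apply hh (g'⁻¹ • y)
      have hy' : (g' * (m' : G) * g'⁻¹) • y = y := hy
      show (m' : G) • (g'⁻¹ • y) = g'⁻¹ • y
      rw [mul_smul, mul_smul] at hy'
      exact (smul_eq_iff_eq_inv_smul g').1 hy'
  have hMtrans : ∀ x y : Ω, ∃ m ∈ M'.map N.subtype, m • x = y := by
    intro x y
    obtain ⟨k₁, hk₁, hk₁x⟩ := hM'trans x
    obtain ⟨k₂, hk₂, hk₂y⟩ := hM'trans y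
    refine ⟨((k₂ * k₁⁻¹ : N) : G), ⟨k₂ * k₁⁻¹, M'.mul_mem hk₂ (M'.inv_mem hk₁), rfl⟩, ?_⟩
    have h1 : (k₁ : G) • a = x := hk₁x
    have h2 : (k₂ : G) • a = y := hk₂y
    rw [Subgroup.coe_mul, Subgroup.coe_inv, mul_smul, ← h1, inv_smul_smul, h2]
  obtain ⟨a'', m'', ⟨m₀, hm₀, rfl⟩, hm''1, hm''a⟩ := hreg _ hMn hMtrans
  rcases (hM'mem m₀).1 hm₀ with hh | hh
  · apply hm''1
    show (m₀ : G) = 1
    rw [hh]; rfl
  · exact hh a'' hm''a

end normal


section normal2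

variable {G Ω : Type*} [Group G] [MulAction G Ω]

/-- a nontrivial normal subgroup of a Zassenhaus group satisfies the elementary Zassenhaus axioms -/
theorem ZPre.normal_zpre [Finite Ω] (h : ZPre G Ω)
    (hreg : ∀ M : Subgroup G, M.Normal → (∀ x y : Ω, ∃ m ∈ M, m • x = y) →
      ∃ a : Ω, ∃ m ∈ M, m ≠ 1 ∧ m • a = a)
    (N : Subgroup G) [hNn : N.Normal] (hN : N ≠ ⊥) : ZPre N Ω := by
  obtain ⟨g₀, hg₀, a, b, hab, -, -⟩ := h.two
  have hsmN : ∀ (n : N) (y : Ω), n • y = (n : G) • y := fun n y => rfl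
  refine ⟨?_, ?_, ?_, ?_⟩
  · intro n hn
    apply Subtype.ext
    exact h.faithful _ hn
  · intro a b c d hab hcd
    obtain ⟨K, hKle, hKmem, hKtrans, hKdich⟩ := h.exists_kernel a
    obtain ⟨n, hnN, hn1, hna, hnb⟩ := h.normal_two_stab_ne hreg N hN hab
    have hKN : K ≤ N ⊓ stabilizer G a := by
      rcases hKdich (N ⊓ stabilizer G a) inf_le_right (by
        intro x hx l hl
        exact ⟨hNn.conj_mem l hl.1 x, (stabilizer G a).mul_mem ((stabilizer G a).mul_mem hx hl.2)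
          ((stabilizer G a).inv_mem hx)⟩) with hh | hh
      · exfalso
        have hnK : n ∈ K := hh ⟨hnN, hna⟩
        rcases (hKmem n hna).1 hnK with h1 | h1
        · exact hn1 h1
        · exact h1 b (Ne.symm hab) hnb
      · exact hh
    obtain ⟨n₁, hn₁N, hn₁a⟩ := h.normal_trans N hN a c
    have hd' : n₁⁻¹ • d ≠ a := by
      intro hh
      apply hcd
      rw [← hn₁a, ← hh, smul_inv_smul]
    obtain ⟨k, hk, hkb⟩ := hKtrans b (n₁⁻¹ • d) (Ne.symm hab) hd'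
    have hkN := (hKN hk).1
    have hka : k • a = a := (hKN hk).2
    refine ⟨⟨n₁ * k, N.mul_mem hn₁N hkN⟩, ?_, ?_⟩
    · show (n₁ * k) • a = c
      rw [mul_smul, hka, hn₁a]
    · show (n₁ * k) • b = d
      rw [mul_smul, hkb, smul_inv_smul]
  · intro n a b c hab hbc hac ha hb hc
    apply Subtype.ext
    exact h.three n a b c hab hbc hac ha hb hc
  · obtain ⟨n, hnN, hn1, hna, hnb⟩ := h.normal_two_stab_ne hreg N hN hab
    exact ⟨⟨n, hnN⟩, fun hh => hn1 (congrArg Subtype.val hh), a, b, hab, hna, hnb⟩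

end normal2


section regular

variable {G Ω : Type*} [Group G] [MulAction G Ω]

/-- an abelian regular subgroup `M₁ ≤ N` normalized by the (2-transitive) normal subgroup `N` is normal
in `G` -/
theorem ZPre.regular_normal (h : ZPre G Ω) (N : Subgroup G) [hNn : N.Normal] (hNZ : ZPre N Ω)
    (M₁ : Subgroup G) (hM₁N : M₁ ≤ N) (hnorm : ∀ n ∈ N, ∀ m ∈ M₁, n * m * n⁻¹ ∈ M₁)
    (htr : ∀ x y : Ω, ∃ m ∈ M₁, m • x = y) (hsr : ∀ a : Ω, ∀ m ∈ M₁, m • a = a → m = 1)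
    (hab : ∀ x ∈ M₁, ∀ y ∈ M₁, x * y = y * x) : M₁.Normal := by
  obtain ⟨g₀, hg₀, a, b, hab', -, -⟩ := h.two
  -- self-centralizing
  have hself : ∀ x : G, (∀ m ∈ M₁, x * m = m * x) → x ∈ M₁ := by
    intro x hx
    obtain ⟨m₁, hm₁, hm₁a⟩ := htr a (x • a)
    have hy : m₁⁻¹ * x = 1 := by
      apply h.faithful
      intro p
      obtain ⟨m', hm', rfl⟩ := htr a p
      have hcomm : (m₁⁻¹ * x) * m' = m' * (m₁⁻¹ * x) := by
        calc (m₁⁻¹ * x) * m' = m₁⁻¹ * (x * m') := by group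
          _ = m₁⁻¹ * (m' * x) := by rw [hx m' hm']
          _ = (m₁⁻¹ * m') * x := by group
          _ = (m' * m₁⁻¹) * x := by rw [hab _ (M₁.inv_mem hm₁) _ hm']
          _ = m' * (m₁⁻¹ * x) := by group
      rw [← mul_smul, hcomm, mul_smul]
      congr 1
      rw [mul_smul, ← hm₁a, inv_smul_smul]
    have : x = m₁ * (m₁⁻¹ * x) := by group
    rw [this, hy, mul_one]
    exact hm₁
  -- conjugacy of nonidentity elements under `N_a`
  have hconj : ∀ m₀ ∈ M₁, ∀ m' ∈ M₁, m₀ ≠ 1 → m' ≠ 1 → ∃ s ∈ N, s * m₀ * s⁻¹ = m' := by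
    intro m₀ hm₀ m' hm' hm₀1 hm'1
    have h1 : a ≠ m₀ • a := fun hh => hm₀1 (hsr a m₀ hm₀ hh.symm)
    have h2 : a ≠ m' • a := fun hh => hm'1 (hsr a m' hm' hh.symm)
    obtain ⟨s, hsa, hsm⟩ := hNZ.trans2 a (m₀ • a) a (m' • a) h1 h2
    have hsa' : (s : G) • a = a := hsa
    have hsm' : (s : G) • (m₀ • a) = m' • a := hsm
    refine ⟨s, s.2, ?_⟩
    have hmem : (s : G) * m₀ * (s : G)⁻¹ ∈ M₁ := hnorm s s.2 m₀ hm₀
    have hfix : (m'⁻¹ * ((s : G) * m₀ * (s : G)⁻¹)) • a = a := by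
      have hsinv : (s : G)⁻¹ • a = a := by rw [inv_smul_eq_iff, hsa']
      rw [mul_smul, mul_smul, mul_smul, hsinv, hsm', inv_smul_smul]
    have := hsr a _ (M₁.mul_mem (M₁.inv_mem hm') hmem) hfix
    calc (s : G) * m₀ * (s : G)⁻¹ = m' * (m'⁻¹ * ((s : G) * m₀ * (s : G)⁻¹)) := by group
      _ = m' := by rw [this, mul_one]
  constructor
  intro m hm g
  by_cases hm1 : m = 1
  · rw [hm1]; simp
  by_cases hA : ∃ m₀ ∈ M₁, m₀ ≠ 1 ∧ g * m₀ * g⁻¹ ∈ M₁
  · obtain ⟨m₀, hm₀, hm₀1, hgm₀⟩ := hA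
    obtain ⟨s, hs, hsm⟩ := hconj m₀ hm₀ m hm hm₀1 hm1
    have hgs : g * s * g⁻¹ ∈ N := hNn.conj_mem s hs g
    have := hnorm _ hgs _ hgm₀
    have heq : g * s * g⁻¹ * (g * m₀ * g⁻¹) * (g * s * g⁻¹)⁻¹ = g * m * g⁻¹ := by
      rw [← hsm]; group
    rwa [heq] at this
  · push Not at hA
    exfalso
    -- x = g m g⁻¹ centralizes M₁
    have hxN : g * m * g⁻¹ ∈ N := hNn.conj_mem m (hM₁N hm) g
    have hcent : ∀ m₁ ∈ M₁, (g * m * g⁻¹) * m₁ = m₁ * (g * m * g⁻¹) := by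
      intro m₁ hm₁
      -- c = x m₁ x⁻¹ m₁⁻¹
      have hc1 : (g * m * g⁻¹) * m₁ * (g * m * g⁻¹)⁻¹ * m₁⁻¹ ∈ M₁ :=
        M₁.mul_mem (hnorm _ hxN _ hm₁) (M₁.inv_mem hm₁)
      -- c = g m₃ g⁻¹ with m₃ ∈ M₁
      have hn' : g⁻¹ * m₁ * g ∈ N := by
        have := hNn.conj_mem m₁ (hM₁N hm₁) g⁻¹
        simpa using this
      have hm₃ : m * ((g⁻¹ * m₁ * g) * m⁻¹ * (g⁻¹ * m₁ * g)⁻¹) ∈ M₁ :=
        M₁.mul_mem hm (hnorm _ hn' _ (M₁.inv_mem hm))
      have hceq : (g * m * g⁻¹) * m₁ * (g * m * g⁻¹)⁻¹ * m₁⁻¹ =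
          g * (m * ((g⁻¹ * m₁ * g) * m⁻¹ * (g⁻¹ * m₁ * g)⁻¹)) * g⁻¹ := by group
      have hm₃1 : m * ((g⁻¹ * m₁ * g) * m⁻¹ * (g⁻¹ * m₁ * g)⁻¹) = 1 := by
        by_contra hne
        exact hA _ hm₃ hne (hceq ▸ hc1)
      have hc : (g * m * g⁻¹) * m₁ * (g * m * g⁻¹)⁻¹ * m₁⁻¹ = 1 := by
        rw [hceq, hm₃1]; group
      calc (g * m * g⁻¹) * m₁ = ((g * m * g⁻¹) * m₁ * (g * m * g⁻¹)⁻¹ * m₁⁻¹) * m₁ * (g * m * g⁻¹) := by
            group
        _ = m₁ * (g * m * g⁻¹) := by rw [hc, one_mul]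
    exact hA m hm hm1 (hself _ hcent)

end regular

end Cfsg.Agent.Lib.Helper28
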