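import Mathlib
import Cfsg.Prelude.Def_LieExceptional
import Cfsg.Agent.Lib.Helper28.ZassNormal

set_option autoImplicit false

/-!
# Conversions between `Cfsg.IsZassenhausGroup` and the elementary form `ZPre` + no regular normal subgroup
-/

namespace Cfsg.Agent.Lib.Helper28

open MulAction

section conv

variable {G Ω : Type*} [Group G] [MulAction G Ω]

/-- the "no regular normal subgroup" clause, in elementary form -/
def ZReg (G Ω : Type*) [Group G] [MulAction G Ω] : Prop :=
  ∀ M : Subgroup G, M.Normal → (∀ x y : Ω, ∃ m ∈ M, m • x = y) →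
      ∃ a : Ω, ∃ m ∈ M, m ≠ 1 ∧ m • a = a

theorem zpre_of_isZassenhausGroup (hZ : Cfsg.IsZassenhausGroup G Ω) : ZPre G Ω := by
  obtain ⟨hf, h2, h3, htwo, -⟩ := hZ
  refine ⟨?_, ?_, h3, htwo⟩
  · intro g hg
    apply hf.eq_of_smul_eq_smul
    intro x
    rw [hg x, one_smul]
  · intro a b c d hab hcd
    exact (MulAction.is_two_pretransitive_iff.1 h2) hab hcd

theorem zreg_of_isZassenhausGroup (hZ : Cfsg.IsZassenhausGroup G Ω) : ZReg G Ω := by
  obtain ⟨-, -, -, -, hreg⟩ := hZ
  intro M hM htr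
  have hpre : MulAction.IsPretransitive M Ω := by
    constructor
    intro x y
    obtain ⟨m, hm, hmx⟩ := htr x y
    exact ⟨⟨m, hm⟩, hmx⟩
  obtain ⟨a, ha⟩ := hreg M hM hpre
  obtain ⟨m, hm1⟩ := (Subgroup.ne_bot_iff_exists_ne_one).1 ha
  refine ⟨a, (m : M), (m : M).2, ?_, ?_⟩
  · intro hh
    apply hm1
    apply Subtype.ext
    apply Subtype.ext
    exact hh
  · exact m.2

theorem isZassenhausGroup_of_zpre (h : ZPre G Ω) (hreg : ZReg G Ω) :
    Cfsg.IsZassenhausGroup G Ω := by
  refine ⟨?_, ?_, h.three, h.two, ?_⟩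
  · constructor
    intro g₁ g₂ hg
    have : g₂⁻¹ * g₁ = 1 := by
      apply h.faithful
      intro x
      rw [mul_smul, hg x, inv_smul_smul]
    calc g₁ = g₂ * (g₂⁻¹ * g₁) := by group
      _ = g₂ := by rw [this, mul_one]
  · rw [MulAction.is_two_pretransitive_iff]
    intro a b c d hab hcd
    exact h.trans2 a b c d hab hcd
  · intro M hM hpre
    obtain ⟨a, m, hm, hm1, hma⟩ := hreg M hM (by
      intro x y
      obtain ⟨m, hm⟩ := hpre.exists_smul_eq x y
      exact ⟨m, m.2, hm⟩)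
    refine ⟨a, ?_⟩
    intro hbot
    apply hm1
    have : (⟨m, hm⟩ : M) ∈ stabilizer M a := hma
    rw [hbot, Subgroup.mem_bot] at this
    exact congrArg Subtype.val this

end conv

section main

variable {G Ω : Type*} [Group G] [MulAction G Ω]

/-- a nontrivial normal subgroup of a Zassenhaus group has no regular normal subgroup -/
theorem ZPre.normal_zreg [Finite Ω] (h : ZPre G Ω) (hreg : ZReg G Ω)
    (N : Subgroup G) [hNn : N.Normal] (hN : N ≠ ⊥) : ZReg N Ω := by
  classical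
  have hfin : Finite G := h.finite
  have hNZ : ZPre N Ω := h.normal_zpre hreg N hN
  intro M hMn htr
  by_contra hcon
  push Not at hcon
  -- semiregular
  have hsr : ∀ a : Ω, ∀ m ∈ M, m • a = a → m = 1 := by
    intro a m hm hma
    by_contra hm1
    exact hcon a m hm hm1 hma
  obtain ⟨g₀, hg₀, a, b, hab, -, -⟩ := h.two
  have hMne : M ≠ ⊥ := by
    intro hbot
    obtain ⟨m, hm, hmab⟩ := htr a b
    rw [hbot, Subgroup.mem_bot] at hm
    rw [hm, one_smul] at hmab
    exact hab hmab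
  have h2 : IsMultiplyPretransitive N Ω 2 := by
    rw [MulAction.is_two_pretransitive_iff]
    intro a b c d hab hcd
    exact hNZ.trans2 a b c d hab hcd
  obtain ⟨hcomm, -⟩ :=
    Cfsg.Agent.Lib.Helper63.elementary_abelian_of_semiregular_normal h2 M hMne a hsr
  -- the image in G
  have hM₁n : (M.map N.subtype).Normal := by
    apply h.regular_normal N hNZ (M.map N.subtype)
    · rintro x ⟨m, -, rfl⟩
      exact m.2
    · rintro n hn x ⟨m, hm, rfl⟩
      refine ⟨⟨n, hn⟩ * m * ⟨n, hn⟩⁻¹, hMn.conj_mem m hm ⟨n, hn⟩, rfl⟩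
    · intro x y
      obtain ⟨m, hm, hmx⟩ := htr x y
      exact ⟨(m : G), ⟨m, hm, rfl⟩, hmx⟩
    · rintro a x ⟨m, hm, rfl⟩ hma
      have := hsr a m hm hma
      rw [this]; rfl
    · rintro x ⟨m, hm, rfl⟩ y ⟨m', hm', rfl⟩
      have := hcomm m hm m' hm'
      exact congrArg Subtype.val this
  obtain ⟨a', x, ⟨m, hm, rfl⟩, hx1, hxa⟩ := hreg (M.map N.subtype) hM₁n (by
    intro x y
    obtain ⟨m, hm, hmx⟩ := htr x y
    exact ⟨(m : G), ⟨m, hm, rfl⟩, hmx⟩)
  apply hx1
  have := hsr a' m hm hxa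
  rw [this]; rfl

end main

end Cfsg.Agent.Lib.Helper28
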