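import Mathlib
import Cfsg.Agent.S0741

/-!
# Zassenhaus groups with `2 d = n - 1`, `d` even: elements swapping two points are involutions

The double count of S0741 is an equality when `2 d ≤ n - 1`, so every element interchanging
`a` and `b` is an involution with exactly two fixed points.
-/

set_option autoImplicit false

namespace Cfsg.Agent.Lib.Helper28

open MulAction Cfsg.Agent.S0740 Cfsg.Agent.S0741

theorem swapper_invol {G Ω : Type*} [Group G] [Finite G] [MulAction G Ω] [Fintype Ω]
    (hZ : Cfsg.IsZassenhausGroup G Ω) {a b : Ω} (hab : a ≠ b)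
    (heven : Even (Nat.card ↥(MulAction.stabilizer G a ⊓ MulAction.stabilizer G b)))
    (hd : 2 * Nat.card ↥(MulAction.stabilizer G a ⊓ MulAction.stabilizer G b) ≤
      Fintype.card Ω - 2) (t : G) (hta : t • a = b) (htb : t • b = a) :
    orderOf t = 2 ∧ ∃ c : Ω, t • c = c := by
  classical
  have : Fact (Nat.Prime 2) := ⟨Nat.prime_two⟩
  have := Fintype.ofFinite G
  set d := Nat.card ↥(MulAction.stabilizer G a ⊓ MulAction.stabilizer G b) with hdd
  set N := Fintype.card Ω with hN
  obtain ⟨z0, hz0⟩ := exists_prime_orderOf_dvd_card'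
    (G := ↥(MulAction.stabilizer G a ⊓ MulAction.stabilizer G b)) 2 heven.two_dvd
  obtain ⟨z, hz, hza, hzb⟩ : ∃ z : G, orderOf z = 2 ∧ z • a = a ∧ z • b = b :=
    ⟨(z0 : G), by rw [Subgroup.orderOf_coe]; exact hz0, (Subgroup.mem_inf.mp z0.2).1,
      (Subgroup.mem_inf.mp z0.2).2⟩
  obtain ⟨hzz, hz1⟩ := (orderOf_two_iff z).mp hz
  set C : Finset G := Finset.univ.filter
    (fun t : G => orderOf t = 2 ∧ (Finset.univ.filter (fun x : Ω => t • x = x)).card = 2) with hC
  set X : Finset (Σ _ : G, Ω) := C.sigma (fun t => Finset.univ.filter (fun c : Ω => ¬ (t • c = c)))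
    with hX
  have hXcard : X.card = C.card * (N - 2) := by
    rw [hX, Finset.card_sigma, Finset.sum_const_nat]
    intro t ht
    have h2 := (Finset.mem_filter.mp ht).2.2
    have := Finset.card_filter_add_card_filter_not (s := (Finset.univ : Finset Ω))
      (fun x : Ω => t • x = x)
    rw [Finset.card_univ] at this
    omega
  have hoff : (Finset.univ : Finset Ω).offDiag.card = N * N - N := by
    rw [Finset.offDiag_card, Finset.card_univ]
  let f : (Σ _ : G, Ω) → Ω × Ω := fun x => (x.2, x.1 • x.2)
  have hmaps : ∀ x ∈ X, f x ∈ (Finset.univ : Finset Ω).offDiag := by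
    intro x hx
    rw [hX, Finset.mem_sigma] at hx
    have := (Finset.mem_filter.mp hx.2).2
    rw [Finset.mem_offDiag]
    exact ⟨Finset.mem_univ _, Finset.mem_univ _, fun h => this h.symm⟩
  -- the injection of a fibre into the swappers
  have hfib_inj : ∀ c e : Ω, Set.InjOn (fun x : (Σ _ : G, Ω) => x.1)
      (X.filter (fun x => f x = (c, e)) : Set (Σ _ : G, Ω)) := by
    intro c e x hx x' hx' hxx'
    have h1 := (Finset.mem_filter.mp (Finset.mem_coe.mp hx)).2
    have h2 := (Finset.mem_filter.mp (Finset.mem_coe.mp hx')).2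
    simp only [f, Prod.mk.injEq] at h1 h2
    obtain ⟨t, c1⟩ := x
    obtain ⟨t', c2⟩ := x'
    simp only at hxx' h1 h2
    subst hxx'
    rw [h1.1, h2.1]
  have hfib_maps : ∀ c e : Ω, ∀ x ∈ X.filter (fun x => f x = (c, e)),
      x.1 ∈ Finset.univ.filter (fun t : G => t • c = e ∧ t • e = c) := by
    intro c e x hx
    obtain ⟨hxX, hxp⟩ := Finset.mem_filter.mp hx
    rw [hX, Finset.mem_sigma] at hxX
    have hord := (Finset.mem_filter.mp hxX.1).2.1
    obtain ⟨hsq, _⟩ := (orderOf_two_iff x.1).mp hord
    simp only [f, Prod.mk.injEq] at hxp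
    obtain ⟨h1, h2⟩ := hxp
    rw [h1] at h2
    simp only [Finset.mem_filter, Finset.mem_univ, true_and]
    refine ⟨h2, ?_⟩
    rw [← h2, ← mul_smul, hsq, one_smul]
  have hfib_le : ∀ p ∈ (Finset.univ : Finset Ω).offDiag,
      (X.filter (fun x => f x = p)).card ≤ d := by
    rintro ⟨c, e⟩ hp
    have hce : c ≠ e := (Finset.mem_offDiag.mp hp).2.2
    calc (X.filter (fun x => f x = (c, e))).card
        ≤ (Finset.univ.filter (fun t : G => t • c = e ∧ t • e = c)).card :=
          Finset.card_le_card_of_injOn (fun x => x.1) (hfib_maps c e) (hfib_inj c e)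
      _ ≤ Nat.card ↥(stabilizer G c ⊓ stabilizer G e) := card_swappers_le c e
      _ = d := card_stab_pair hZ hab hce
  have hsum : X.card = ∑ p ∈ (Finset.univ : Finset Ω).offDiag,
      (X.filter (fun x => f x = p)).card :=
    Finset.card_eq_sum_card_fiberwise hmaps
  -- bound 3
  have hbound3 : N * N - N ≤ 2 * C.card := by
    rw [← hoff]
    have H : ∀ p : Ω × Ω, p.1 ≠ p.2 → ∃ g : G, g • a = p.1 ∧ g • b = p.2 :=
      fun p hp => is_two_pretransitive_iff.mp hZ.2.1 hab hp
    choose! g hg using H
    set τ : Ω × Ω → G := fun p => g p * z * (g p)⁻¹ with hτ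
    have hτ1 : ∀ p : Ω × Ω, p.1 ≠ p.2 → τ p • p.1 = p.1 := by
      intro p hp
      obtain ⟨h1, h2⟩ := hg p hp
      conv_lhs => rw [← h1]
      simp only [hτ, mul_smul, inv_smul_smul, hza]
      exact h1
    have hτ2 : ∀ p : Ω × Ω, p.1 ≠ p.2 → τ p • p.2 = p.2 := by
      intro p hp
      obtain ⟨h1, h2⟩ := hg p hp
      conv_lhs => rw [← h2]
      simp only [hτ, mul_smul, inv_smul_smul, hzb]
      exact h2
    have hτord : ∀ p : Ω × Ω, orderOf (τ p) = 2 := by
      intro p
      rw [orderOf_two_iff]
      constructor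
      · have : τ p * τ p = g p * (z * z) * (g p)⁻¹ := by simp only [hτ]; group
        rw [this, hzz]; group
      · intro h1
        apply hz1
        have : z = (g p)⁻¹ * τ p * g p := by simp only [hτ]; group
        rw [this, h1]; group
    have hτfix : ∀ p : Ω × Ω, p.1 ≠ p.2 →
        Finset.univ.filter (fun x : Ω => τ p • x = x) = {p.1, p.2} := by
      intro p hp
      exact fixedFin_eq_pair hZ (τ p) ((orderOf_two_iff _).mp (hτord p)).2 hp (hτ1 p hp) (hτ2 p hp)
    apply Finset.card_le_mul_card_image_of_maps_to (f := τ)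
    · intro p hp
      have hp' : p.1 ≠ p.2 := (Finset.mem_offDiag.mp hp).2.2
      rw [hC, Finset.mem_filter]
      refine ⟨Finset.mem_univ _, hτord p, ?_⟩
      rw [hτfix p hp', Finset.card_pair hp']
    · intro t _
      rcases (Finset.univ.offDiag.filter (fun p : Ω × Ω => τ p = t)).eq_empty_or_nonempty
        with h | h
      · rw [h]; simp
      · obtain ⟨p0, hp0⟩ := h
        obtain ⟨hp0off, hp0t⟩ := Finset.mem_filter.mp hp0
        have hp0' : p0.1 ≠ p0.2 := (Finset.mem_offDiag.mp hp0off).2.2
        have hsub : Finset.univ.offDiag.filter (fun p : Ω × Ω => τ p = t) ⊆ {p0, p0.swap} := by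
          intro p hp
          obtain ⟨hpoff, hpt⟩ := Finset.mem_filter.mp hp
          have hp' : p.1 ≠ p.2 := (Finset.mem_offDiag.mp hpoff).2.2
          have heq : ({p.1, p.2} : Finset Ω) = {p0.1, p0.2} := by
            rw [← hτfix p hp', ← hτfix p0 hp0', hpt, hp0t]
          have h1 : p.1 ∈ ({p0.1, p0.2} : Finset Ω) := by rw [← heq]; simp
          have h2 : p.2 ∈ ({p0.1, p0.2} : Finset Ω) := by rw [← heq]; simp
          simp only [Finset.mem_insert, Finset.mem_singleton] at h1 h2 ⊢
          rcases h1 with h1 | h1 <;> rcases h2 with h2 | h2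
          · exact absurd (h1.trans h2.symm) hp'
          · left; exact Prod.ext h1 h2
          · right; exact Prod.ext h1 h2
          · exact absurd (h1.trans h2.symm) hp'
        calc _ ≤ ({p0, p0.swap} : Finset (Ω × Ω)).card := Finset.card_le_card hsub
          _ ≤ 2 := Finset.card_le_two
  have hN2 : 2 ≤ N := by
    rw [hN]
    have : ({a, b} : Finset Ω).card ≤ Fintype.card Ω := Finset.card_le_univ _
    rw [Finset.card_pair hab] at this
    exact this
  have hpos : 0 < N * N - N := by
    have : N * N ≥ 2 * N := Nat.mul_le_mul_right N hN2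
    omega
  -- the fibre over (a, b) is full
  have hab_mem : (a, b) ∈ (Finset.univ : Finset Ω).offDiag := by
    rw [Finset.mem_offDiag]
    exact ⟨Finset.mem_univ _, Finset.mem_univ _, hab⟩
  have hfull : (X.filter (fun x => f x = (a, b))).card = d := by
    by_contra hne
    have hlt : (X.filter (fun x => f x = (a, b))).card < d :=
      lt_of_le_of_ne (hfib_le _ hab_mem) hne
    have hsumlt : ∑ p ∈ (Finset.univ : Finset Ω).offDiag, (X.filter (fun x => f x = p)).card <
        ∑ _p ∈ (Finset.univ : Finset Ω).offDiag, d :=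
      Finset.sum_lt_sum hfib_le ⟨(a, b), hab_mem, hlt⟩
    rw [Finset.sum_const, smul_eq_mul, hoff, ← hsum, hXcard] at hsumlt
    -- C.card * (N - 2) < (N*N - N) * d
    have h1 : (N * N - N) * (N - 2) ≤ 2 * C.card * (N - 2) := Nat.mul_le_mul_right _ hbound3
    have h2 : (N * N - N) * (2 * d) ≤ (N * N - N) * (N - 2) := Nat.mul_le_mul_left _ hd
    nlinarith
  -- hence every swapper is in C
  have himage : (X.filter (fun x => f x = (a, b))).image (fun x => x.1) =
      Finset.univ.filter (fun t : G => t • a = b ∧ t • b = a) := by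
    apply Finset.eq_of_subset_of_card_le
    · intro s hs
      obtain ⟨x, hx, rfl⟩ := Finset.mem_image.mp hs
      exact hfib_maps a b x hx
    · rw [Finset.card_image_of_injOn (hfib_inj a b), hfull]
      exact card_swappers_le a b
  have ht : t ∈ Finset.univ.filter (fun t : G => t • a = b ∧ t • b = a) := by
    simp only [Finset.mem_filter, Finset.mem_univ, true_and]
    exact ⟨hta, htb⟩
  rw [← himage] at ht
  obtain ⟨x, hx, rfl⟩ := Finset.mem_image.mp ht
  have hxX := (Finset.mem_filter.mp hx).1
  rw [hX, Finset.mem_sigma] at hxX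
  obtain ⟨-, hord, hfix⟩ := Finset.mem_filter.mp hxX.1
  refine ⟨hord, ?_⟩
  have hne : (Finset.univ.filter (fun y : Ω => x.1 • y = y)).Nonempty := by
    rw [← Finset.card_pos, hfix]; norm_num
  obtain ⟨c, hc⟩ := hne
  exact ⟨c, (Finset.mem_filter.mp hc).2⟩

end Cfsg.Agent.Lib.Helper28
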