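import Mathlib
import Cfsg.Agent.Lib.Helper28.ZassNormal
import Cfsg.Agent.Lib.Helper28.ZassConv
import Cfsg.Agent.Lib.Helper28.ZassSwap
import Cfsg.Agent.Lib.Helper28.SchurField
import Cfsg.Agent.Lib.Helper28.MoebiusOdd
import Cfsg.Agent.Lib.Helper26.MinConf
import Cfsg.Agent.S0738

/-!
# Zassenhaus groups of degree `q + 1` with two-point stabilizer of even order `(q - 1) / 2`
are `PSL₂(q)`
-/

set_option autoImplicit false
set_option linter.style.haveILetI false

namespace Cfsg.Agent.Lib.Helper28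

open MulAction

section kernel

variable {G Ω : Type*} [Group G] [MulAction G Ω]

/-- the Frobenius kernel of a point stabilizer: normal and regular -/
theorem ZPre.exists_regular_kernel [Finite Ω] (h : ZPre G Ω) (a : Ω) :
    ∃ K : Subgroup G, K ≤ stabilizer G a ∧ (K.subgroupOf (stabilizer G a)).Normal ∧
      (∀ y z : Ω, y ≠ a → z ≠ a → ∃! u : K, (u : G) • y = z) ∧
      (∀ k ∈ K, k ≠ 1 → ∀ c : Ω, c ≠ a → k • c ≠ c) := by
  obtain ⟨K, hKle, hKmem, hKtrans, -⟩ := h.exists_kernel a
  have hfpf : ∀ k ∈ K, k ≠ 1 → ∀ c : Ω, c ≠ a → k • c ≠ c := by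
    intro k hk hk1
    exact ((hKmem k (hKle hk)).mp hk).resolve_left hk1
  refine ⟨K, hKle, ?_, ?_, hfpf⟩
  · constructor
    rintro ⟨k, hka⟩ hk ⟨g, hga⟩
    rw [Subgroup.mem_subgroupOf] at hk ⊢
    show g * k * g⁻¹ ∈ K
    have hga' : g • a = a := hga
    have hgia : g⁻¹ • a = a := by rw [inv_smul_eq_iff, hga']
    have hmem : g * k * g⁻¹ ∈ stabilizer G a :=
      (stabilizer G a).mul_mem ((stabilizer G a).mul_mem hga hka) ((stabilizer G a).inv_mem hga)
    rw [hKmem _ hmem]
    by_cases hk1 : k = 1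
    · left; rw [hk1]; group
    · right
      intro c hca hfix
      have hc' : g⁻¹ • c ≠ a := by
        intro h1
        apply hca
        rw [← hga', ← h1, smul_inv_smul]
      apply hfpf k hk hk1 (g⁻¹ • c) hc'
      have h2 : g⁻¹ • ((g * k * g⁻¹) • c) = g⁻¹ • c := by rw [hfix]
      simpa only [mul_smul, inv_smul_smul] using h2
  · intro y z hy hz
    obtain ⟨k, hk, hkyz⟩ := hKtrans y z hy hz
    refine ⟨⟨k, hk⟩, hkyz, ?_⟩
    rintro ⟨k', hk'⟩ hk'yz
    have hk'yz' : k' • y = z := hk'yz
    apply Subtype.ext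
    show k' = k
    by_contra hne
    have hmem : k⁻¹ * k' ∈ K := K.mul_mem (K.inv_mem hk) hk'
    have hne1 : k⁻¹ * k' ≠ 1 := by
      intro h1
      apply hne
      have : k' = k * (k⁻¹ * k') := by group
      rw [this, h1, mul_one]
    apply hfpf _ hmem hne1 y hy
    rw [mul_smul, hk'yz', ← hkyz, inv_smul_smul]

/-- orders of the kernel and of the whole group -/
theorem ZPre.card_of_regular_kernel [Finite G] [Fintype Ω] (h : ZPre G Ω) {a b : Ω} (hab : a ≠ b)
    (K : Subgroup G) (hKle : K ≤ stabilizer G a)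
    (hreg : ∀ y z : Ω, y ≠ a → z ≠ a → ∃! u : K, (u : G) • y = z) :
    Nat.card K = Fintype.card Ω - 1 ∧
      Nat.card G = Fintype.card Ω *
        (Nat.card K * Nat.card ↥(stabilizer G a ⊓ stabilizer G b)) := by
  classical
  have hKa : ∀ u ∈ K, u • a = a := fun u hu => mem_stabilizer_iff.mp (hKle hu)
  have hKb : ∀ u : K, (u : G) • b ≠ a := by
    intro u hub
    have : (u : G)⁻¹ • a = b := by rw [← hub, inv_smul_smul]
    rw [hKa _ (K.inv_mem u.2)] at this
    exact hab this
  constructor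
  · have e : ↥K ≃ {y : Ω // y ≠ a} :=
      Equiv.ofBijective (fun u => ⟨(u : G) • b, hKb u⟩)
        ⟨by
          intro u v huv
          have huv' : (u : G) • b = (v : G) • b := congrArg Subtype.val huv
          obtain ⟨w, -, hw⟩ := hreg b ((v : G) • b) hab.symm (hKb v)
          exact (hw u huv').trans (hw v rfl).symm, by
          intro y
          obtain ⟨w, hw, -⟩ := hreg b y.1 hab.symm y.2
          exact ⟨w, Subtype.ext hw⟩⟩
    rw [Nat.card_congr e, Nat.card_eq_fintype_card, Fintype.card_subtype_compl,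
      Fintype.card_subtype_eq]
  · have : IsPretransitive G Ω := ⟨fun x y => h.trans1 x y⟩
    have h1 := Subgroup.card_mul_index (stabilizer G a)
    rw [index_stabilizer_of_transitive G a, Nat.card_eq_fintype_card (α := Ω)] at h1
    have h2 : Nat.card (stabilizer G a) =
        Nat.card K * Nat.card ↥(stabilizer G a ⊓ stabilizer G b) := by
      rw [← Nat.card_prod]
      symm
      apply Nat.card_eq_of_bijective (fun x : ↥K × ↥(stabilizer G a ⊓ stabilizer G b) =>
        (⟨(x.1 : G) * (x.2 : G), (stabilizer G a).mul_mem (hKle x.1.2)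
          (Subgroup.mem_inf.mp x.2.2).1⟩ : stabilizer G a))
      constructor
      · rintro ⟨k, d⟩ ⟨k', d'⟩ hx
        have hx' : (k : G) * (d : G) = (k' : G) * (d' : G) := congrArg Subtype.val hx
        have hdb : (d : G) • b = b := mem_stabilizer_iff.mp (Subgroup.mem_inf.mp d.2).2
        have hd'b : (d' : G) • b = b := mem_stabilizer_iff.mp (Subgroup.mem_inf.mp d'.2).2
        have hkb : (k : G) • b = (k' : G) • b := by
          have := congrArg (fun g : G => g • b) hx'
          simpa only [mul_smul, hdb, hd'b] using this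
        obtain ⟨w, -, hw⟩ := hreg b ((k' : G) • b) hab.symm (hKb k')
        have hkk' : k = k' := (hw k hkb).trans (hw k' rfl).symm
        subst hkk'
        have : (d : G) = (d' : G) := mul_left_cancel hx'
        rw [Subtype.ext this]
      · rintro ⟨g, hg⟩
        have hga : g • a = a := mem_stabilizer_iff.mp hg
        have hgb : g • b ≠ a := by
          intro hh
          rw [← hga] at hh
          exact hab (MulAction.injective g hh).symm
        obtain ⟨k, hk, -⟩ := hreg b (g • b) hab.symm hgb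
        refine ⟨⟨k, ⟨(k : G)⁻¹ * g, ?_⟩⟩, ?_⟩
        · rw [Subgroup.mem_inf, mem_stabilizer_iff, mem_stabilizer_iff]
          refine ⟨?_, ?_⟩
          · rw [mul_smul, hga, hKa _ (K.inv_mem k.2)]
          · rw [mul_smul, ← hk, inv_smul_smul]
        · apply Subtype.ext
          show (k : G) * ((k : G)⁻¹ * g) = g
          group
    rw [← h1, h2, mul_comm]

end kernel

section main

open scoped MatrixGroups

theorem zassenhaus_psl {G Ω : Type*} [Group G] [Finite G] [MulAction G Ω] [Fintype Ω]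
    (hZ : Cfsg.IsZassenhausGroup G Ω) {a b : Ω} (hab : a ≠ b)
    (heven : Even (Nat.card ↥(stabilizer G a ⊓ stabilizer G b)))
    (hd : 2 * Nat.card ↥(stabilizer G a ⊓ stabilizer G b) ≤ Fintype.card Ω - 2) :
    ∃ (p n : ℕ) (_ : Fact p.Prime), n ≠ 0 ∧ p ≠ 2 ∧ Fintype.card Ω = p ^ n + 1 ∧
      Nonempty (G ≃* Matrix.ProjectiveSpecialLinearGroup (Fin 2) (GaloisField p n)) := by
  classical
  have hpre := zpre_of_isZassenhausGroup hZ
  have h741 := Cfsg.Agent.S0741.result hZ hab heven
  set H : Subgroup G := stabilizer G a ⊓ stabilizer G b with hH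
  set d := Nat.card ↥H with hdd
  set N := Fintype.card Ω with hN
  have hN2d : N - 2 = 2 * d := le_antisymm h741 hd
  have hdpos : 0 < d := Nat.card_pos
  have hN2 : 2 ≤ N := by
    have : ({a, b} : Finset Ω).card ≤ Fintype.card Ω := Finset.card_le_univ _
    rw [Finset.card_pair hab] at this
    exact this
  have hNeq : N = 2 * d + 2 := by omega
  have hHa : ∀ g ∈ H, g • a = a := fun g hg => mem_stabilizer_iff.mp (Subgroup.mem_inf.mp hg).1
  have hHb : ∀ g ∈ H, g • b = b := fun g hg => mem_stabilizer_iff.mp (Subgroup.mem_inf.mp hg).2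
  have hHmem : ∀ g : G, g • a = a → g • b = b → g ∈ H := fun g h1 h2 =>
    Subgroup.mem_inf.mpr ⟨mem_stabilizer_iff.mpr h1, mem_stabilizer_iff.mpr h2⟩
  -- the kernel
  obtain ⟨K, hKle, hKn, hreg, hfpf⟩ := hpre.exists_regular_kernel a
  have hKa : ∀ u ∈ K, u • a = a := fun u hu => mem_stabilizer_iff.mp (hKle hu)
  obtain ⟨hKcard, hGcard⟩ := hpre.card_of_regular_kernel hab K hKle hreg
  obtain ⟨hKcommI, p0, f0, hp0, hexp0, hNpf0⟩ :=
    Cfsg.Agent.S0738.result hZ hab h741 K hKle hKn hreg
  have hKcomm : ∀ x ∈ K, ∀ y ∈ K, x * y = y * x := by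
    intro x hx y hy
    have := hKcommI.is_comm.comm (⟨x, hx⟩ : K) ⟨y, hy⟩
    exact congrArg Subtype.val this
  have hKcard' : Nat.card K = 2 * d + 1 := by omega
  have hTreg : ∀ x : Ω, x ≠ a → ∃! t : K, (t : G) • b = x := fun x hx => hreg b x hab.symm hx
  have hnorm : ∀ g ∈ H, ∀ t ∈ K, g * t * g⁻¹ ∈ K := by
    intro g hg t ht
    have := hKn.conj_mem ⟨t, hKle ht⟩ (Subgroup.mem_subgroupOf.mpr ht)
      ⟨g, (Subgroup.mem_inf.mp hg).1⟩
    exact Subgroup.mem_subgroupOf.mp this
  -- the swapper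
  obtain ⟨u, hua, hub⟩ := hpre.trans2 a b b a hab hab.symm
  obtain ⟨huord, c, huc⟩ := swapper_invol hZ hab heven hd u hua hub
  obtain ⟨hu2, hu1⟩ := Cfsg.Agent.S0740.orderOf_two_iff u |>.mp huord
  have hui : u⁻¹ = u := inv_eq_of_mul_eq_one_right hu2
  have hinv : ∀ g ∈ H, u * g * u⁻¹ = g⁻¹ := by
    intro g hg
    have h1 : (u * g) • a = b := by rw [mul_smul, hHa g hg, hua]
    have h2 : (u * g) • b = a := by rw [mul_smul, hHb g hg, hub]
    obtain ⟨ho, -⟩ := swapper_invol hZ hab heven hd (u * g) h1 h2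
    obtain ⟨hsq, -⟩ := Cfsg.Agent.S0740.orderOf_two_iff (u * g) |>.mp ho
    rw [hui]
    calc u * g * u = (u * g * (u * g)) * g⁻¹ := by group
      _ = g⁻¹ := by rw [hsq, one_mul]
  have hHcomm : ∀ x ∈ H, ∀ y ∈ H, x * y = y * x := by
    intro x hx y hy
    have h1 := hinv (x * y) (H.mul_mem hx hy)
    have h2 : u * (x * y) * u⁻¹ = (u * x * u⁻¹) * (u * y * u⁻¹) := by group
    rw [h2, hinv x hx, hinv y hy, mul_inv_rev] at h1
    have h3 := congrArg (fun g => g⁻¹) h1
    simpa using h3.symm
  -- the base point `e`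
  have hca : c ≠ a := by
    rintro rfl
    rw [hua] at huc
    exact hab huc.symm
  have hcb : c ≠ b := by
    rintro rfl
    rw [hub] at huc
    exact hab huc
  obtain ⟨⟨e, heK⟩, hec, -⟩ := hTreg c hca
  have hec' : e • b = c := hec
  have he1 : e ≠ 1 := by
    rintro rfl
    rw [one_smul] at hec'
    exact hcb hec'.symm
  have hue : u • (e • b) = e • b := by rw [hec', huc]
  -- freeness of the action of `H` on `K`
  have hfree : ∀ g ∈ H, g ≠ 1 → ∀ x ∈ K, g * x = x * g → x = 1 := by
    intro g hg hg1 x hx hcomm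
    by_contra hx1
    apply hg1
    have hxb : x • b ≠ b := hfpf x hx hx1 b hab.symm
    have hxba : x • b ≠ a := by
      intro hh
      have : x⁻¹ • a = b := by rw [← hh, inv_smul_smul]
      rw [hKa _ (K.inv_mem hx)] at this
      exact hab this
    have hgx : g • (x • b) = x • b := by rw [← mul_smul, hcomm, mul_smul, hHb g hg]
    exact hpre.three g a b (x • b) hab (Ne.symm hxb) (Ne.symm hxba) (hHa g hg) (hHb g hg) hgx
  -- irreducibility
  have hirr : ∀ M : Subgroup G, M ≤ K → (∀ g ∈ H, ∀ m ∈ M, g * m * g⁻¹ ∈ M) →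
      M = ⊥ ∨ M = K := by
    intro M hMK hMinv
    by_cases hMbot : M = ⊥
    · exact Or.inl hMbot
    right
    have hdvd : Nat.card H ∣ Nat.card M - Nat.card (⊥ : Subgroup G) := by
      apply Helper26.card_dvd_card_sub_of_free H M ⊥ bot_le
      · intro g hg
        rw [Subgroup.mem_normalizer_iff]
        intro m
        constructor
        · intro hm
          exact hMinv g hg m hm
        · intro hm
          have := hMinv g⁻¹ (H.inv_mem hg) _ hm
          have h2 : g⁻¹ * (g * m * g⁻¹) * g⁻¹⁻¹ = m := by group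
          rwa [h2] at this
      · intro g _
        rw [Subgroup.mem_normalizer_iff]
        intro m
        rw [Subgroup.mem_bot, Subgroup.mem_bot]
        constructor
        · rintro rfl; group
        · intro hm
          have : m = g⁻¹ * (g * m * g⁻¹) * g := by group
          rw [this, hm]; group
      · intro g hg hg1 x hx hcomm
        rw [Subgroup.mem_bot]
        exact hfree g hg hg1 x (hMK hx) hcomm
    rw [Subgroup.card_bot] at hdvd
    have hM1 : 1 < Nat.card M := by
      rw [Subgroup.one_lt_card_iff_ne_bot]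
      exact hMbot
    have hMdvd : Nat.card M ∣ Nat.card K := Subgroup.card_dvd_of_le hMK
    have hdle : d ≤ Nat.card M - 1 := Nat.le_of_dvd (by omega) hdvd
    obtain ⟨q, hq⟩ := hMdvd
    have hq1 : q = 1 := by
      rw [hKcard'] at hq
      rcases q with _ | _ | q
      · omega
      · rfl
      · exfalso
        have : Nat.card M * (q + 1 + 1) ≥ Nat.card M * 2 := Nat.mul_le_mul_left _ (by omega)
        omega
    rw [hq1, mul_one] at hq
    exact Subgroup.eq_of_le_of_card_ge hMK (le_of_eq hq)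
  have : Finite K := inferInstance
  obtain ⟨p, n, hp, φ, hn, hφbij, hadd, hφe, hmul⟩ :=
    exists_coord_schur K H hKcomm hHcomm hnorm e heK he1 hirr
  -- the field
  letI : Fintype (GaloisField p n) := Fintype.ofFinite _
  have hFcardN : Nat.card (GaloisField p n) = 2 * d + 1 := by
    rw [← Nat.card_eq_of_bijective φ hφbij, hKcard']
  have hFcard : Fintype.card (GaloisField p n) = 2 * d + 1 := by
    rw [← Nat.card_eq_fintype_card, hFcardN]
  have hpn : p ^ n = 2 * d + 1 := by rw [← GaloisField.card p n hn, hFcardN]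
  have hp2 : p ≠ 2 := by
    rintro rfl
    have h1 : Even (2 ^ n) := (Nat.even_pow.mpr ⟨even_two, hn⟩)
    rw [hpn] at h1
    rcases h1 with ⟨r, hr⟩
    omega
  have hF : ringChar (GaloisField p n) ≠ 2 := by
    rw [ringChar.eq (GaloisField p n) p]
    exact hp2
  have hm1 : IsSquare (-1 : GaloisField p n) := by
    rw [FiniteField.isSquare_neg_one_iff, hFcard]
    rcases heven with ⟨r, hr⟩
    omega
  have hdiv2 : Fintype.card (GaloisField p n) / 2 = d := by rw [hFcard]; omega
  -- the labelling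
  obtain ⟨β, hβbij, hβinf, hβo⟩ := exists_beta K a b φ hφbij hKa hab.symm hTreg
  have hX : ∀ x : Ω, x = a ∨ ∃ t : K, x = (t : G) • b := by
    intro x
    by_cases hx : x = a
    · exact Or.inl hx
    · obtain ⟨t, ht, -⟩ := hTreg x hx
      exact Or.inr ⟨t, ht.symm⟩
  let M : MData G Ω (GaloisField p n) :=
    { T := K, D := H, inf := a, o := b, e := e, heT := heK, he1 := he1, φ := φ, hφ := hφbij,
      hadd := hadd, hφe := hφe, hnorm := hnorm, hmul := hmul, hTinf := hKa, hDinf := hHa,
      hDo := hHb, β := β, hβinf := hβinf, hβo := hβo, hX := hX }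
  -- the multiplier character
  have hχdef : ∀ g (hg : g ∈ H), M.χ g hg = φ ⟨g * e * g⁻¹, hnorm g hg e heK⟩ := fun g hg => rfl
  have hχmul : ∀ g g' (hg : g ∈ H) (hg' : g' ∈ H),
      M.χ (g * g') (H.mul_mem hg hg') = M.χ g hg * M.χ g' hg' := by
    intro g g' hg hg'
    rw [hχdef, hχdef, hχdef, ← hmul g hg ⟨g' * e * g'⁻¹, hnorm g' hg' e heK⟩]
    congr 1
    apply Subtype.ext
    show g * g' * e * (g * g')⁻¹ = g * (g' * e * g'⁻¹) * g⁻¹
    group
  have hχone : M.χ 1 H.one_mem = 1 := by
    rw [hχdef, ← hφe]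
    congr 1
    apply Subtype.ext
    show 1 * e * 1⁻¹ = e
    group
  have hχcongr : ∀ g g' (hg : g ∈ H) (hg' : g' ∈ H), g = g' → M.χ g hg = M.χ g' hg' := by
    intro g g' hg hg' h
    subst h
    rfl
  have hχpow : ∀ g (hg : g ∈ H) (k : ℕ), M.χ (g ^ k) (H.pow_mem hg k) = (M.χ g hg) ^ k := by
    intro g hg k
    induction k with
    | zero =>
      have h0 := hχcongr (g ^ 0) 1 (H.pow_mem hg 0) H.one_mem (pow_zero g)
      rw [h0, hχone]
      exact (pow_zero _).symm
    | succ k ih =>
      have h0 := hχcongr (g ^ (k + 1)) (g ^ k * g) (H.pow_mem hg (k + 1))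
        (H.mul_mem (H.pow_mem hg k) hg) (pow_succ g k)
      rw [h0, hχmul (g ^ k) g (H.pow_mem hg k) hg, ih]
      exact (pow_succ _ k).symm
  have hpowd : ∀ g ∈ H, g ^ d = 1 := by
    intro g hg
    have := pow_card_eq_one' (G := ↥H) (x := ⟨g, hg⟩)
    exact congrArg Subtype.val this
  have hχd : ∀ g (hg : g ∈ H), (M.χ g hg) ^ d = 1 := by
    intro g hg
    rw [← hχpow g hg d, ← hχone]
    exact hχcongr _ _ _ _ (hpowd g hg)
  have hDsq : ∀ g (hg : g ∈ M.D), IsSquare (M.χ g hg) := by
    intro g hg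
    rw [FiniteField.isSquare_iff hF (M.χ_ne_zero g hg), hdiv2]
    exact hχd g hg
  have hχinj : ∀ g g' (hg : g ∈ H) (hg' : g' ∈ H), M.χ g hg = M.χ g' hg' → g = g' := by
    intro g g' hg hg' hχ
    rw [hχdef, hχdef] at hχ
    have h1 : g * e * g⁻¹ = g' * e * g'⁻¹ := congrArg Subtype.val (hφbij.1 hχ)
    by_contra hne
    have hne1 : g'⁻¹ * g ≠ 1 := by
      intro h2
      apply hne
      have : g = g' * (g'⁻¹ * g) := by group
      rw [this, h2, mul_one]
    apply he1
    apply hfree (g'⁻¹ * g) (H.mul_mem (H.inv_mem hg') hg) hne1 e heK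
    calc g'⁻¹ * g * e = g'⁻¹ * (g * e * g⁻¹) * g := by group
      _ = g'⁻¹ * (g' * e * g'⁻¹) * g := by rw [h1]
      _ = e * (g'⁻¹ * g) := by group
  have hsq : ∀ s : GaloisField p n, s ≠ 0 → IsSquare s → ∃ g, ∃ hg : g ∈ M.D, M.χ g hg = s := by
    intro s hs hss
    have hsd : s ^ d = 1 := by
      rw [← hdiv2]
      exact (FiniteField.isSquare_iff hF hs).mp hss
    haveI : Fintype ↥H := Fintype.ofFinite _
    set R : Finset (GaloisField p n) := (Polynomial.nthRoots d (1 : GaloisField p n)).toFinset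
      with hR
    set I : Finset (GaloisField p n) := Finset.univ.image (fun g : ↥H => M.χ g.1 g.2) with hI
    have hIcard : I.card = d := by
      rw [hI, Finset.card_image_of_injective, Finset.card_univ, ← Nat.card_eq_fintype_card]
      intro g g' hgg
      exact Subtype.ext (hχinj g.1 g'.1 g.2 g'.2 hgg)
    have hIR : I ⊆ R := by
      intro x hx
      obtain ⟨g, -, rfl⟩ := Finset.mem_image.mp hx
      rw [hR, Multiset.mem_toFinset, Polynomial.mem_nthRoots hdpos]
      exact hχd g.1 g.2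
    have hRcard : R.card ≤ d :=
      (Multiset.toFinset_card_le _).trans (Polynomial.card_nthRoots d 1)
    have hIeqR : I = R := Finset.eq_of_subset_of_card_le hIR (by rw [hIcard]; exact hRcard)
    have hsR : s ∈ R := by
      rw [hR, Multiset.mem_toFinset, Polynomial.mem_nthRoots hdpos]
      exact hsd
    rw [← hIeqR] at hsR
    obtain ⟨g, -, hg⟩ := Finset.mem_image.mp hsR
    exact ⟨g.1, g.2, hg⟩
  -- generation
  have hgen : Subgroup.closure ((M.T : Set G) ∪ M.D ∪ {u}) = ⊤ := by
    rw [eq_top_iff]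
    intro g _
    show g ∈ Subgroup.closure ((K : Set G) ∪ H ∪ {u})
    set L := Subgroup.closure ((K : Set G) ∪ H ∪ {u}) with hL
    have hKL : ∀ k ∈ K, k ∈ L := fun k hk => Subgroup.subset_closure (Or.inl (Or.inl hk))
    have hHL : ∀ k ∈ H, k ∈ L := fun k hk => Subgroup.subset_closure (Or.inl (Or.inr hk))
    have huL : u ∈ L := Subgroup.subset_closure (Or.inr rfl)
    have hstabL : ∀ g : G, g • a = a → g ∈ L := by
      intro g hga
      have hgb : g • b ≠ a := by
        intro hh
        rw [← hga] at hh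
        exact hab (MulAction.injective g hh).symm
      obtain ⟨k, hk, -⟩ := hTreg (g • b) hgb
      have hk' : (k : G) • b = g • b := hk
      have h1 : (k : G)⁻¹ * g ∈ H :=
        hHmem _ (by rw [mul_smul, hga, hKa _ (K.inv_mem k.2)])
          (by rw [mul_smul, ← hk', inv_smul_smul])
      have h2 : g = (k : G) * ((k : G)⁻¹ * g) := by group
      rw [h2]
      exact L.mul_mem (hKL k k.2) (hHL _ h1)
    by_cases hga : g • a = a
    · exact hstabL g hga
    · obtain ⟨k, hk, -⟩ := hTreg (g • a) hga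
      have hk' : (k : G) • b = g • a := hk
      have h1 : (u * (k : G)⁻¹ * g) • a = a := by
        rw [mul_smul, mul_smul, ← hk', inv_smul_smul, hub]
      have h2 := hstabL _ h1
      have h3 : g = (k : G) * u⁻¹ * (u * (k : G)⁻¹ * g) := by group
      rw [h3]
      exact L.mul_mem (L.mul_mem (hKL k k.2) (L.inv_mem huL)) h2
  -- orders
  have hGcard' : Nat.card G = (2 * d + 2) * ((2 * d + 1) * d) := by
    have : Nat.card G = N * (Nat.card K * d) := hGcard
    rw [this, hKcard', hNeq]
  have hcard : Nat.card (Matrix.ProjectiveSpecialLinearGroup (Fin 2) (GaloisField p n)) ≤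
      Nat.card G := by
    have h1 := Cfsg.Agent.Lib.Helper07.card_psl_two (F := GaloisField p n)
    rw [hFcard] at h1
    have e1 : 2 * d + 1 - 1 = 2 * d := by omega
    have e2 : (2 * d + 1) ^ 2 - 1 = 4 * d * d + 4 * d := by
      have : (2 * d + 1) ^ 2 = 4 * d * d + 4 * d + 1 := by ring
      omega
    have e3 : (2 * d + 1) ^ 2 - (2 * d + 1) = (2 * d + 1) * (2 * d) := by
      have : (2 * d + 1) ^ 2 = (2 * d + 1) * (2 * d) + (2 * d + 1) := by ring
      omega
    have e4 : Nat.gcd 2 (2 * d) = 2 := Nat.gcd_eq_left (dvd_mul_right 2 d)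
    rw [e1, e2, e3, e4] at h1
    rw [hGcard']
    set P := Nat.card (Matrix.ProjectiveSpecialLinearGroup (Fin 2) (GaloisField p n)) with hP
    have h2 : (4 * d) * P = (4 * d) * ((2 * d + 2) * ((2 * d + 1) * d)) := by
      calc (4 * d) * P = 2 * (2 * d * P) := by ring
        _ = (4 * d * d + 4 * d) * ((2 * d + 1) * (2 * d)) := h1
        _ = _ := by ring
    exact le_of_eq (Nat.eq_of_mul_eq_mul_left (by omega) h2)
  refine ⟨p, n, hp, hn, hp2, ?_, ?_⟩
  · show N = p ^ n + 1
    rw [hpn, hNeq]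
  · exact M.nonempty_mulEquiv_psl hF hm1 u hua hub hu2 hinv hue
      (fun g h1 h2 => hHmem g h1 h2) hsq hDsq hβbij hgen hpre.faithful hcard

end main

end Cfsg.Agent.Lib.Helper28
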