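import Mathlib
import Cfsg.Prelude.Def_Local
import Cfsg.Agent.Lib.Helper12.LBDefs
import Cfsg.Agent.Lib.Helper29.LBalance

set_option autoImplicit false
universe u

/-! K-S1301-LB-PC (keystone 1301008, architect helper12): a 2-component is `QC`. -/

namespace Cfsg.Agent.Lib.Helper28.LB

open Cfsg Cfsg.Agent.Lib.Helper12.LB

variable {G : Type u} [Group G] [Finite G]

theorem qc_of_pcomp (H : Subgroup G) (J : Subgroup ↥H) (hJ : IsPComponent 2 J) :
    QC H (J.map H.subtype) := by
  have : Fact (Nat.Prime 2) := ⟨Nat.prime_two⟩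
  have hsub : (J.map H.subtype).subgroupOf H = J := by
    rw [Subgroup.subgroupOf, Subgroup.comap_map_eq_self_of_injective H.subtype_injective]
  refine ⟨⟨Subgroup.map_subtype_le J, ?_⟩, ?_, ?_⟩
  · show IsComponent (img H (J.map H.subtype))
    unfold img
    rw [hsub]
    exact hJ.2.1
  · have h1 := Cfsg.Agent.Lib.Helper29.pcomp_perfect 2 J hJ
    rw [← Subgroup.map_commutator, h1]
  · have h2 := Cfsg.Agent.Lib.Helper29.pcomp_noCoprimeIndexNormal 2 J hJ
    exact Cfsg.Agent.Lib.Helper29.noCoprimeIndexNormal_of_mulEquiv 2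
      (J.equivMapOfInjective H.subtype H.subtype_injective).symm h2

end Cfsg.Agent.Lib.Helper28.LB
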