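import Mathlib

/-! K-152 keystone 135601 P0 `exists_coprime_compl` (helper28), pure. -/

set_option autoImplicit false

namespace Cfsg.Agent.Lib.Helper28.BG152

/-- a `q`-subgroup `P` of `H` lies in the normal Sylow `q`-subgroup `Q` of `H` -/
theorem le_of_normal_sylow {X : Type*} [Group X] [Finite X] (q : ℕ) [Fact q.Prime]
    (H Q P : Subgroup X) (hQq : IsPGroup q Q) (hQH : Q ≤ H)
    (hsyl : ¬ q ∣ Q.relIndex H) (hPq : IsPGroup q P) (hPH : P ≤ H)
    (hPn : P ≤ Subgroup.normalizer (Q : Set X)) : P ≤ Q := by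
  have hq : q.Prime := Fact.out
  have hQP : IsPGroup q (Q ⊔ P : Subgroup X) := IsPGroup.to_sup_of_normal_left' hQq hPq hPn
  have hle : Q ⊔ P ≤ H := sup_le hQH hPH
  have hmul := Subgroup.relIndex_mul_relIndex (H := Q) (K := Q ⊔ P) (L := H) le_sup_left hle
  obtain ⟨k, hk⟩ := IsPGroup.iff_card.mp hQP
  have hdvd : Q.relIndex (Q ⊔ P) ∣ q ^ k := hk ▸ Subgroup.relIndex_dvd_card Q (Q ⊔ P)
  obtain ⟨j, -, hj⟩ := (Nat.dvd_prime_pow hq).mp hdvd
  have hj0 : j = 0 := by
    by_contra hne
    apply hsyl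
    rw [← hmul, hj]
    exact Dvd.dvd.mul_right (dvd_pow_self q hne) _
  rw [hj0, pow_zero, Subgroup.relIndex_eq_one] at hj
  exact le_sup_right.trans hj

/-- K-152-P0 (pure) -/
theorem exists_coprime_compl {X : Type*} [Group X] [Finite X] (q : ℕ) [Fact q.Prime]
    (H Q D : Subgroup X) (hQq : IsPGroup q Q) (hQn : H ≤ Subgroup.normalizer (Q : Set X))
    (hsyl : ¬ q ∣ Q.relIndex H) (hQD : Q ⊔ D = H) (hD : Group.IsNilpotent D) :
    ∃ D₀ : Subgroup X, D₀ ≤ D ∧ Group.IsNilpotent D₀ ∧ (Nat.card D₀).Coprime q ∧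
      Q ⊔ D₀ = H ∧ Q ⊓ D₀ = ⊥ := by
  have hq : q.Prime := Fact.out
  have hQH : Q ≤ H := hQD ▸ le_sup_left
  have hDH : D ≤ H := hQD ▸ le_sup_right
  obtain ⟨S⟩ : Nonempty (Sylow q D) := inferInstance
  have hSn : (S : Subgroup D).Normal := inferInstance
  obtain ⟨C, hC⟩ := Subgroup.exists_right_complement'_of_coprime
    (N := (S : Subgroup D)) S.card_coprime_index
  -- order of `C`
  have hCcard : Nat.card C = (S : Subgroup D).index := hC.symm.index_eq_card.symm
  have hCq : (Nat.card C).Coprime q := by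
    rw [hCcard, Nat.coprime_comm]
    exact (Nat.Prime.coprime_iff_not_dvd hq).mpr S.not_dvd_index
  have hmapcard : Nat.card (C.map D.subtype) = Nat.card C :=
    Subgroup.card_map_of_injective D.subtype_injective
  -- `S ≤ Q`
  have hSQ : (S : Subgroup D).map D.subtype ≤ Q := by
    apply le_of_normal_sylow q H Q _ hQq hQH hsyl (S.isPGroup'.map _)
    · exact (Subgroup.map_subtype_le _).trans hDH
    · exact ((Subgroup.map_subtype_le _).trans hDH).trans hQn
  refine ⟨C.map D.subtype, Subgroup.map_subtype_le _, ?_, ?_, ?_, ?_⟩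
  · have e : C ≃* C.map D.subtype := C.equivMapOfInjective D.subtype D.subtype_injective
    have hCn : Group.IsNilpotent C := inferInstance
    exact Group.nilpotent_of_mulEquiv e
  · rw [hmapcard]; exact hCq
  · apply le_antisymm
    · exact sup_le hQH ((Subgroup.map_subtype_le _).trans hDH)
    · rw [← hQD]
      refine sup_le le_sup_left ?_
      have h1 : (S : Subgroup D).map D.subtype ⊔ C.map D.subtype = D := by
        rw [← Subgroup.map_sup, hC.sup_eq_top, ← MonoidHom.range_eq_map, Subgroup.range_subtype]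
      calc D = (S : Subgroup D).map D.subtype ⊔ C.map D.subtype := h1.symm
        _ ≤ Q ⊔ C.map D.subtype := sup_le_sup_right hSQ _
  · apply disjoint_iff.mp
    apply Subgroup.disjoint_of_coprime_natCard
    obtain ⟨k, hk⟩ := IsPGroup.iff_card.mp hQq
    rw [hk, hmapcard]
    exact (Nat.Coprime.pow_left k hCq.symm)

end Cfsg.Agent.Lib.Helper28.BG152
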