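import Mathlib
import Cfsg.Prelude.Def_HallClasses
import Cfsg.Agent.Lib.Helper06.HallSym.Defs

/-!
# K-S2536-N2: arithmetic of the intransitive case for Hall subgroups of `Sym(n)`
-/

namespace Cfsg.Agent.Lib.Helper28.HallSym

open Cfsg.Agent.Lib.Helper06.HallSym
open scoped Nat

/-- A prime `p ≤ a + b` bigger than both `a` and `b` divides `C(a+b, a)`. -/
theorem prime_dvd_choose_of_gt {p a b : ℕ} (hp : p.Prime) (hpn : p ≤ a + b) (ha : a < p)
    (hb : b < p) : p ∣ (a + b).choose a := by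
  have h := Nat.add_choose_mul_factorial_mul_factorial a b
  have h1 : p ∣ (a + b)! := (hp.dvd_factorial).mpr hpn
  rw [← h] at h1
  rcases (hp.dvd_mul).mp h1 with h2 | h2
  · rcases (hp.dvd_mul).mp h2 with h3 | h3
    · rw [Nat.choose_symm_add]; exact h3
    · exact absurd ((hp.dvd_factorial).mp h3) (by omega)
  · exact absurd ((hp.dvd_factorial).mp h2) (by omega)

/-- A prime `c` does not divide `C(d + c, d)` when `d < c`. -/
theorem prime_not_dvd_choose_add {c d : ℕ} (hc : c.Prime) (hd : d < c) :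
    ¬ c ∣ (d + c).choose d := by
  have hL := @Choose.choose_modEq_choose_mod_mul_choose_div_nat (d + c) d c ⟨hc⟩
  have h1 : (d + c) % c = d := by
    rw [Nat.add_mod_right]; exact Nat.mod_eq_of_lt hd
  have h2 : d % c = d := Nat.mod_eq_of_lt hd
  have h3 : (d + c) / c = 1 := by
    rw [Nat.add_div_right _ hc.pos, Nat.div_eq_of_lt hd]
  have h4 : d / c = 0 := Nat.div_eq_of_lt hd
  rw [h1, h2, h3, h4] at hL
  simp only [Nat.choose_self, Nat.choose_zero_right, mul_one] at hL
  intro hdvd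
  have h5 : (d + c).choose d % c = 0 := Nat.mod_eq_zero_of_dvd hdvd
  have h6 : (d + c).choose d % c = 1 % c := hL
  rw [h5, Nat.mod_eq_of_lt hc.one_lt] at h6
  exact absurd h6 (by norm_num)

/-- For `c ∈ {7, 8}` and `1 ≤ d ≤ c`, `2` or `3` divides `C(d + c, d)`. -/
theorem two_or_three_dvd_choose {c d : ℕ} (hc : c = 7 ∨ c = 8) (hd : 1 ≤ d) (hdc : d ≤ c) :
    2 ∣ (d + c).choose d ∨ 3 ∣ (d + c).choose d := by
  rcases hc with rfl | rfl <;> interval_cases d <;> decide

theorem core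
    (hnt2 : ∀ a b : ℕ, 1 ≤ a → a ≤ b → (∀ p : ℕ, p.Prime → p ≤ b → ¬ p ∣ Nat.choose (a + b) a) →
      (a = 1 ∧ (b + 1).Prime) ∨ (a = 3 ∧ b = 4))
    (π : Set ℕ) (d c : ℕ) (hd : 1 ≤ d) (hdc : d ≤ c) (hCc : Cls π c)
    (hch : ∀ p : ℕ, p.Prime → p ∈ π → ¬ p ∣ Nat.choose (d + c) d)
    (hc : c.Prime → c ∉ π → d < c) : Cls π (d + c) := by
  classical
  by_cases hT : Triv π (d + c)
  · exact Or.inl hT
  have hT1 : ¬ (∀ r s : ℕ, r.Prime → s.Prime → r ≤ d + c → s ≤ d + c → r ∈ π → s ∈ π → r = s) :=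
    fun h => hT (Or.inl h)
  push Not at hT1
  obtain ⟨r, s, hr, hs, hrn, hsn, hrπ, hsπ, hrs⟩ := hT1
  -- every prime of `π` up to `d + c` is `≤ c`
  have key : ∀ p : ℕ, p.Prime → p ∈ π → p ≤ d + c → p ≤ c := by
    intro p hp hpπ hpn
    by_contra hlt
    exact hch p hp hpπ (prime_dvd_choose_of_gt hp hpn (by omega) (by omega))
  have hrc : r ≤ c := key r hr hrπ hrn
  have hsc : s ≤ c := key s hs hsπ hsn
  rcases hCc with hTc | hAc | hBc
  · rcases hTc with h1 | h2
    · exact absurd (h1 r s hr hs hrc hsc hrπ hsπ) hrs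
    · rcases hnt2 d c hd hdc (fun p hp hpc => hch p hp (h2 p hp hpc)) with ⟨rfl, hp1⟩ | ⟨rfl, rfl⟩
      · refine Or.inr (Or.inl ⟨by rwa [add_comm], ?_⟩)
        intro t ht htn
        constructor
        · intro htπ
          have := key t ht htπ htn
          omega
        · intro hlt
          exact h2 t ht (by omega)
      · refine Or.inr (Or.inr ⟨Or.inl rfl, ?_⟩)
        intro t ht htn
        constructor
        · intro htπ
          have h4 : t ≤ 4 := key t ht htπ htn
          have h2' := ht.two_le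
          interval_cases t
          · exact Or.inl rfl
          · exact Or.inr rfl
          · exact absurd ht (by norm_num)
        · rintro (rfl | rfl)
          · exact h2 2 ht (by norm_num)
          · exact h2 3 ht (by norm_num)
  · obtain ⟨hcp, hA⟩ := hAc
    have hcπ : c ∉ π := fun h => lt_irrefl c ((hA c hcp le_rfl).mp h)
    have hdlt : d < c := hc hcp hcπ
    have hall : ∀ p : ℕ, p.Prime → p ≤ c → ¬ p ∣ Nat.choose (d + c) d := by
      intro p hp hpc
      rcases lt_or_eq_of_le hpc with hlt | rfl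
      · exact hch p hp ((hA p hp hpc).mpr hlt)
      · exact prime_not_dvd_choose_add hp hdlt
    rcases hnt2 d c hd hdc hall with ⟨rfl, hp1⟩ | ⟨rfl, rfl⟩
    · -- `c` and `c + 1` both prime: `c = 2`
      exfalso
      have hrlt : r < c := (hA r hr hrc).mp hrπ
      have hr2 := hr.two_le
      rcases hcp.eq_two_or_odd with h2 | hodd
      · omega
      · rcases hp1.eq_two_or_odd with h2 | hodd'
        · omega
        · omega
    · exact absurd hcp (by norm_num)
  · obtain ⟨hc78, hB⟩ := hBc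
    exfalso
    have hc7 : 7 ≤ c := by rcases hc78 with rfl | rfl <;> norm_num
    have h2π : 2 ∈ π := (hB 2 Nat.prime_two (by omega)).mpr (Or.inl rfl)
    have h3π : 3 ∈ π := (hB 3 Nat.prime_three (by omega)).mpr (Or.inr rfl)
    rcases two_or_three_dvd_choose hc78 hd hdc with h | h
    · exact hch 2 Nat.prime_two h2π h
    · exact hch 3 Nat.prime_three h3π h

/-- **K-S2536-N2.** Arithmetic of the intransitive case. -/
theorem intr_arith
    (hnt2 : ∀ a b : ℕ, 1 ≤ a → a ≤ b → (∀ p : ℕ, p.Prime → p ≤ b → ¬ p ∣ Nat.choose (a + b) a) →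
      (a = 1 ∧ (b + 1).Prime) ∨ (a = 3 ∧ b = 4))
    (π : Set ℕ) (a b : ℕ) (ha : 1 ≤ a) (hb : 1 ≤ b) (hCa : Cls π a) (hCb : Cls π b)
    (hch : ∀ p : ℕ, p.Prime → p ∈ π → ¬ p ∣ Nat.choose (a + b) a)
    (haπ : ∀ p : ℕ, p.Prime → p ∣ a → p ∈ π) : Cls π (a + b) := by
  rcases le_or_gt a b with hab | hab
  · refine core hnt2 π a b ha hab hCb hch ?_
    intro hbp hbπ
    rcases lt_or_eq_of_le hab with h | rfl
    · exact h
    · exact absurd (haπ a hbp dvd_rfl) hbπ
  · have h := core hnt2 π b a hb hab.le hCa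
      (by
        intro p hp hpπ
        rw [add_comm b a, ← Nat.choose_symm_add]
        exact hch p hp hpπ)
      (fun hap haπ' => absurd (haπ a hap dvd_rfl) haπ')
    rwa [add_comm] at h

end Cfsg.Agent.Lib.Helper28.HallSym
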