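import Mathlib
import Cfsg.Agent.Lib.Helper06.NFDefs

set_option autoImplicit false

/-!
# K-S0688-5b2 : the prime `r` is `2` (for helper6's near-field project)
-/

namespace Cfsg.Agent.Lib.Helper28.NF

section Abstract

/-- `v^n * u = c^n * u * v^n` when `v * u = c * u * v` and `c` commutes with `v`. -/
theorem pow_mul_comm_class2 {H : Type*} [Group H] {u v c : H} (hvu : v * u = c * u * v)
    (hcv : c * v = v * c) (n : ℕ) :
    v ^ n * u = c ^ n * u * v ^ n := by
  induction n with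
  | zero => simp
  | succ n ih =>
    have hcvn : v * c ^ n = c ^ n * v := ((show Commute c v from hcv).pow_left n).eq.symm
    calc v ^ (n+1) * u = v * (v ^ n * u) := by rw [pow_succ', mul_assoc]
      _ = v * (c ^ n * u * v ^ n) := by rw [ih]
      _ = (v * c ^ n) * u * v ^ n := by simp only [mul_assoc]
      _ = c ^ n * (v * u) * v ^ n := by rw [hcvn]; simp only [mul_assoc]
      _ = c ^ (n+1) * u * v ^ (n+1) := by
          rw [hvu, pow_succ, pow_succ']; simp only [mul_assoc]

/-- the class-two power formula. -/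
theorem mul_pow_class2 {H : Type*} [Group H] {u v c : H} (hvu : v * u = c * u * v)
    (hcu : c * u = u * c) (hcv : c * v = v * c) (n : ℕ) :
    (u * v) ^ n = u ^ n * v ^ n * c ^ (n.choose 2) := by
  induction n with
  | zero => simp
  | succ n ih =>
    have h1 := pow_mul_comm_class2 hvu hcv n
    have hch : (n+1).choose 2 = n + n.choose 2 := by
      rw [Nat.choose_succ_succ, Nat.choose_one_right]
    have hcu' : Commute c u := hcu
    have hcv' : Commute c v := hcv
    have e1 : c ^ (n.choose 2) * (u * v) = (u * v) * c ^ (n.choose 2) :=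
      ((hcu'.mul_right hcv').pow_left _).eq
    have e2 : u ^ n * c ^ n = c ^ n * u ^ n := ((hcu'.pow_pow n n).eq).symm
    have e3 : c ^ n * (u ^ (n+1) * v ^ (n+1)) = (u ^ (n+1) * v ^ (n+1)) * c ^ n :=
      (((hcu'.pow_right _).mul_right (hcv'.pow_right _)).pow_left _).eq
    calc (u * v) ^ (n+1) = (u * v) ^ n * (u * v) := pow_succ _ _
      _ = u ^ n * v ^ n * (c ^ (n.choose 2) * (u * v)) := by rw [ih]; simp only [mul_assoc]
      _ = u ^ n * (v ^ n * u) * v * c ^ (n.choose 2) := by rw [e1]; simp only [mul_assoc]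
      _ = (u ^ n * c ^ n) * u * v ^ n * v * c ^ (n.choose 2) := by rw [h1]; simp only [mul_assoc]
      _ = c ^ n * (u ^ (n+1) * v ^ (n+1)) * c ^ (n.choose 2) := by
          rw [e2, pow_succ, pow_succ]; simp only [mul_assoc]
      _ = u ^ (n+1) * v ^ (n+1) * c ^ ((n+1).choose 2) := by
          rw [e3, hch, pow_add c n (n.choose 2)]; simp only [mul_assoc]

variable {H : Type*} [Group H] [Finite H]

theorem prime_eq_two
    (hcyc : ∀ M : Subgroup H, (∀ a ∈ M, ∀ b ∈ M, a * b = b * a) → IsCyclic M)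
    (A B : Subgroup H) (r : ℕ) (hr : r.Prime) (_hAB : A < B)
    (hBC : B ≤ Subgroup.centralizer (A : Set H))
    (_hZ : ∀ x ∈ B, (∀ y ∈ B, x * y = y * x) → x ∈ A)
    (hcomm : ∀ x ∈ B, ∀ y ∈ B, x * y * x⁻¹ * y⁻¹ ∈ A) (hexp : ∀ x ∈ B, x ^ r ∈ A)
    (hrel : A.relIndex B = r ^ 2) :
    r = 2 := by
  by_contra hr2
  have : Fact r.Prime := ⟨hr⟩
  have hcen : ∀ a ∈ A, ∀ b ∈ B, a * b = b * a := fun a ha b hb =>
    (Subgroup.mem_centralizer_iff.mp (hBC hb)) a ha
  have hmul : ∀ u ∈ B, ∀ v ∈ B, (u * v) ^ r = u ^ r * v ^ r := by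
    intro u hu v hv
    obtain ⟨c, hc⟩ : ∃ c, c = v * u * v⁻¹ * u⁻¹ := ⟨_, rfl⟩
    have hcA : c ∈ A := hc ▸ hcomm v hv u hu
    have hvu : v * u = c * u * v := by rw [hc]; group
    have hcu : c * u = u * c := hcen c hcA u hu
    have hcv : c * v = v * c := hcen c hcA v hv
    have h1 := pow_mul_comm_class2 hvu hcv r
    have h2 : v ^ r * u = u * v ^ r := hcen _ (hexp v hv) u hu
    have hcr : c ^ r = 1 := by
      rw [h2, mul_assoc] at h1
      have : c ^ r * (u * v ^ r) = 1 * (u * v ^ r) := by rw [one_mul]; exact h1.symm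
      exact mul_right_cancel this
    have h3 := mul_pow_class2 hvu hcu hcv r
    have hdvd : r ∣ r.choose 2 :=
      hr.dvd_choose_self (by norm_num) (lt_of_le_of_ne hr.two_le (Ne.symm hr2))
    obtain ⟨k, hk⟩ := hdvd
    rw [h3, hk, pow_mul, hcr, one_pow, mul_one]
  let φ : B →* B :=
    { toFun := fun u => u ^ r
      map_one' := one_pow r
      map_mul' := fun u v => Subtype.ext (by simpa using hmul u u.2 v v.2) }
  have hφ : ∀ u : B, ((φ u : B) : H) = (u : H) ^ r := fun u => by simp [φ]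
  have hker : ∀ u : B, u ∈ φ.ker → (u : H) ^ r = 1 := by
    intro u hu
    rw [MonoidHom.mem_ker] at hu
    rw [← hφ, hu]; rfl
  have hrange : φ.range ≤ A.subgroupOf B := by
    rintro _ ⟨u, rfl⟩
    rw [Subgroup.mem_subgroupOf, hφ]
    exact hexp u u.2
  have hc1 : Nat.card φ.ker * Nat.card φ.range = Nat.card B := by
    rw [← Subgroup.index_ker, mul_comm]; exact Subgroup.index_mul_card _
  have hc2 : Nat.card (A.subgroupOf B) * r ^ 2 = Nat.card B := by
    rw [← hrel]; exact Subgroup.card_mul_index (A.subgroupOf B)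
  have hc3 : Nat.card φ.range ≤ Nat.card (A.subgroupOf B) := Subgroup.card_le_of_le hrange
  have hpos : 0 < Nat.card φ.range := Nat.card_pos
  have hc4 : r ^ 2 ≤ Nat.card φ.ker := by
    by_contra hlt
    rw [not_le] at hlt
    have h5 : Nat.card φ.ker * Nat.card φ.range < r ^ 2 * Nat.card φ.range :=
      Nat.mul_lt_mul_of_pos_right hlt hpos
    have h6 : r ^ 2 * Nat.card φ.range ≤ r ^ 2 * Nat.card (A.subgroupOf B) :=
      Nat.mul_le_mul_left _ hc3
    rw [hc1, ← hc2, mul_comm] at h5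
    exact absurd (lt_of_lt_of_le h5 h6) (lt_irrefl _)
  have hp : IsPGroup r φ.ker := by
    intro g
    refine ⟨1, ?_⟩
    rw [pow_one]
    apply Subtype.ext
    apply Subtype.ext
    simpa using hker g g.2
  obtain ⟨n, hn⟩ := IsPGroup.iff_card.mp hp
  have hn2 : 2 ≤ n := by
    rw [hn] at hc4
    exact (Nat.pow_le_pow_iff_right hr.one_lt).mp hc4
  have hdvd : r ^ 2 ∣ Nat.card φ.ker := by rw [hn]; exact pow_dvd_pow r hn2
  obtain ⟨K, hK⟩ := Sylow.exists_subgroup_card_pow_prime r hdvd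
  have hKc : ∀ a b : K, a * b = b * a := (IsPGroup.isMulCommutative_of_card_eq_prime_sq hK).is_comm.comm
  let f : φ.ker →* H := B.subtype.comp φ.ker.subtype
  have hf : Function.Injective f :=
    (Subgroup.subtype_injective B).comp (Subgroup.subtype_injective φ.ker)
  have hMc : ∀ a ∈ K.map f, ∀ b ∈ K.map f, a * b = b * a := by
    rintro _ ⟨a, ha, rfl⟩ _ ⟨b, hb, rfl⟩
    rw [← map_mul, ← map_mul]
    exact congrArg f (congrArg Subtype.val (hKc ⟨a, ha⟩ ⟨b, hb⟩))
  have := hcyc (K.map f) hMc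
  have hMcard : Nat.card (K.map f) = r ^ 2 := by
    rw [Subgroup.card_map_of_injective hf, hK]
  obtain ⟨g, hg⟩ := IsCyclic.exists_ofOrder_eq_natCard (α := K.map f)
  have hgr : g ^ r = 1 := by
    obtain ⟨k, hk, hkg⟩ := g.2
    apply Subtype.ext
    rw [Subgroup.coe_pow, Subgroup.coe_one, ← hkg]
    exact hker k k.2
  have : r ^ 2 ∣ r := by
    rw [← hMcard, ← hg]; exact orderOf_dvd_of_pow_eq_one hgr
  have h7 := Nat.le_of_dvd hr.pos this
  have h8 : r < r ^ 2 := by
    rw [pow_two]; exact lt_mul_self hr.one_lt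
  exact absurd h7 (not_le.mpr h8)

end Abstract

end Cfsg.Agent.Lib.Helper28.NF
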