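import Mathlib
import Cfsg.Agent.Lib.Helper06.NFDefs
import Cfsg.Agent.Lib.Helper28.NF5b2

set_option autoImplicit false

/-!
# K-S0688-5b3 : `|A| ≡ 2 mod 4` (for helper6's near-field project)
-/

namespace Cfsg.Agent.Lib.Helper28.NF

section Abstract

variable {H : Type*} [Group H] [Finite H]

/-- If all abelian subgroups are cyclic, two commuting involutions coincide. -/
theorem involution_unique_of_cyc
    (hcyc : ∀ M : Subgroup H, (∀ a ∈ M, ∀ b ∈ M, a * b = b * a) → IsCyclic M)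
    {w z : H} (hw2 : w ^ 2 = 1) (hw1 : w ≠ 1) (hz2 : z ^ 2 = 1) (hz1 : z ≠ 1)
    (hwz : w * z = z * w) : w = z := by
  classical
  have hk : ∀ x ∈ ({w, z} : Set H), ∀ y ∈ ({w, z} : Set H), x * y = y * x := by
    intro x hx y hy
    rcases hx with rfl | rfl <;> rcases hy with rfl | rfl
    · rfl
    · exact hwz
    · exact hwz.symm
    · rfl
  have hM : ∀ a ∈ Subgroup.closure ({w, z} : Set H), ∀ b ∈ Subgroup.closure ({w, z} : Set H),
      a * b = b * a := by
    intro a ha b hb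
    exact congrArg Subtype.val
      ((Subgroup.isMulCommutative_closure hk).is_comm.comm ⟨a, ha⟩ ⟨b, hb⟩)
  have hc := hcyc _ hM
  let _ : Fintype (Subgroup.closure ({w, z} : Set H)) := Fintype.ofFinite _
  have hwM : w ∈ Subgroup.closure ({w, z} : Set H) := Subgroup.subset_closure (by simp)
  have hzM : z ∈ Subgroup.closure ({w, z} : Set H) := Subgroup.subset_closure (by simp)
  have hwo : orderOf (⟨w, hwM⟩ : Subgroup.closure ({w, z} : Set H)) = 2 := by
    rw [← Subgroup.orderOf_coe]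
    exact orderOf_eq_prime hw2 hw1
  have hzo : orderOf (⟨z, hzM⟩ : Subgroup.closure ({w, z} : Set H)) = 2 := by
    rw [← Subgroup.orderOf_coe]
    exact orderOf_eq_prime hz2 hz1
  have h2 : 2 ∣ Fintype.card (Subgroup.closure ({w, z} : Set H)) := by
    rw [← hwo]; exact orderOf_dvd_card
  have h1 := IsCyclic.card_orderOf_eq_totient (α := Subgroup.closure ({w, z} : Set H)) h2
  rw [Nat.totient_two] at h1
  have := Finset.card_le_one.mp h1.le ⟨w, hwM⟩ (by simp [hwo]) ⟨z, hzM⟩ (by simp [hzo])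
  exact congrArg Subtype.val this

theorem card_mod_four
    (hcyc : ∀ M : Subgroup H, (∀ a ∈ M, ∀ b ∈ M, a * b = b * a) → IsCyclic M)
    (A B : Subgroup H) (hAB : A < B)
    (hBC : B ≤ Subgroup.centralizer (A : Set H))
    (hZ : ∀ x ∈ B, (∀ y ∈ B, x * y = y * x) → x ∈ A)
    (hcomm : ∀ x ∈ B, ∀ y ∈ B, x * y * x⁻¹ * y⁻¹ ∈ A) (hexp : ∀ x ∈ B, x ^ 2 ∈ A)
    (_hrel : A.relIndex B = 4) :
    Nat.card A % 4 = 2 := by
  have hcen : ∀ a ∈ A, ∀ b ∈ B, a * b = b * a := fun a ha b hb =>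
    (Subgroup.mem_centralizer_iff.mp (hBC hb)) a ha
  have hAcomm : ∀ a ∈ A, ∀ b ∈ A, a * b = b * a := fun a ha b hb => hcen a ha b (hAB.le hb)
  have hAcyc : IsCyclic A := hcyc A hAcomm
  obtain ⟨x, hxB, hxA⟩ := SetLike.exists_of_lt hAB
  have hex : ∃ y ∈ B, x * y ≠ y * x := by
    by_contra h
    apply hxA
    apply hZ x hxB
    intro y hy
    by_contra h'
    exact h ⟨y, hy, h'⟩
  obtain ⟨y, hyB, hxy⟩ := hex
  obtain ⟨z, hz⟩ : ∃ z, z = y * x * y⁻¹ * x⁻¹ := ⟨_, rfl⟩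
  have hzA : z ∈ A := hz ▸ hcomm y hyB x hxB
  have hyx : y * x = z * x * y := by rw [hz]; group
  have hz1 : z ≠ 1 := by
    intro h
    rw [h, one_mul] at hyx
    exact hxy hyx.symm
  have hzx : z * x = x * z := hcen z hzA x hxB
  have hzy : z * y = y * z := hcen z hzA y hyB
  have hz2 : z ^ 2 = 1 := by
    have h1 := pow_mul_comm_class2 hyx hzy 2
    have h2 : y ^ 2 * x = x * y ^ 2 := hcen _ (hexp y hyB) x hxB
    rw [h2, mul_assoc] at h1
    have : z ^ 2 * (x * y ^ 2) = 1 * (x * y ^ 2) := by rw [one_mul]; exact h1.symm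
    exact mul_right_cancel this
  -- unique involution
  have huniq : ∀ w ∈ B, w ^ 2 = 1 → w ≠ 1 → w = z := by
    intro w hwB hw2 hw1
    exact involution_unique_of_cyc hcyc hw2 hw1 hz2 hz1 (hcen z hzA w hwB).symm
  -- squares of elements outside `A` are non-squares in `A`
  have hns : ∀ u ∈ B, u ∉ A → ∀ a ∈ A, a ^ 2 ≠ u ^ 2 := by
    intro u huB huA a haA h
    have hau : a * u = u * a := hcen a haA u huB
    have hw : (u * a⁻¹) ^ 2 = 1 := by
      have hc : Commute u a⁻¹ := Commute.inv_right (show Commute u a from hau.symm)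
      rw [hc.mul_pow, inv_pow, h, mul_inv_cancel]
    have hwB : u * a⁻¹ ∈ B := B.mul_mem huB (B.inv_mem (hAB.le haA))
    have hw1 : u * a⁻¹ ≠ 1 := by
      intro h1
      apply huA
      have : u = a := by rwa [mul_inv_eq_one] at h1
      rw [this]; exact haA
    have h3 := huniq _ hwB hw hw1
    apply huA
    have : u = z * a := by rw [← h3]; group
    rw [this]; exact A.mul_mem hzA haA
  -- generator of `A`
  obtain ⟨g, hg⟩ := IsCyclic.exists_generator (α := A)
  have hgo : orderOf (g : H) = Nat.card A := by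
    rw [Subgroup.orderOf_coe]
    exact orderOf_eq_card_of_forall_mem_zpowers hg
  have hodd : ∀ a ∈ A, (∀ b ∈ A, b ^ 2 ≠ a) → ∃ i : ℤ, Odd i ∧ (g : H) ^ i = a := by
    intro a ha hnsq
    obtain ⟨i, hi⟩ := Subgroup.mem_zpowers_iff.mp (hg ⟨a, ha⟩)
    have hi' : (g : H) ^ i = a := by
      have := congrArg Subtype.val hi
      simpa using this
    refine ⟨i, ?_, hi'⟩
    by_contra hodd
    rw [Int.not_odd_iff_even] at hodd
    obtain ⟨j, hj⟩ := hodd
    apply hnsq ((g : H) ^ j) (A.zpow_mem g.2 j)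
    rw [← hi', hj, zpow_add, pow_two]
  -- `x`, `y`, `x * y` lie outside `A`
  have hyA : y ∉ A := fun h => hxy (hcen y h x hxB).symm
  have hxyA : x * y ∉ A := by
    intro h
    have h1 := hcen (x * y) h x hxB
    apply hxy
    have : x * (y * x) = x * (x * y) := by rw [← mul_assoc, h1]
    exact (mul_left_cancel this).symm
  have hx2 : x ^ 2 ∈ A := hexp x hxB
  have hy2 : y ^ 2 ∈ A := hexp y hyB
  obtain ⟨i, hi, hgi⟩ := hodd (x ^ 2) hx2 (fun b hb => hns x hxB hxA b hb)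
  obtain ⟨j, hj, hgj⟩ := hodd (y ^ 2) hy2 (fun b hb => hns y hyB hyA b hb)
  have hxy2 : (x * y) ^ 2 = x ^ 2 * y ^ 2 * z := by
    have := mul_pow_class2 hyx hzx hzy 2
    simpa using this
  -- `z` is a non-square
  have hzns : ∀ b ∈ A, b ^ 2 ≠ z := by
    intro t htA ht
    obtain ⟨k, hk⟩ : Even (i + j) := hi.add_odd hj
    have hs : ((g : H) ^ k) ^ 2 = x ^ 2 * y ^ 2 := by
      rw [← hgi, ← hgj, ← zpow_add, hk, zpow_add, pow_two]
    have hsA : (g : H) ^ k ∈ A := A.zpow_mem g.2 k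
    apply hns (x * y) (B.mul_mem hxB hyB) hxyA ((g : H) ^ k * t) (A.mul_mem hsA htA)
    have hc : Commute ((g : H) ^ k) t := hAcomm _ hsA _ htA
    rw [hc.mul_pow, hs, ht, hxy2]
  obtain ⟨k, hk, hgk⟩ := hodd z hzA hzns
  -- 2 ∣ |A|
  have h2 : 2 ∣ Nat.card A := by
    have : orderOf (⟨z, hzA⟩ : A) = 2 := by
      rw [← Subgroup.orderOf_coe]
      exact orderOf_eq_prime hz2 hz1
    rw [← this]; exact orderOf_dvd_natCard _
  -- 4 ∤ |A|
  have h4 : ¬ 4 ∣ Nat.card A := by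
    intro h4
    have h5 : (g : H) ^ (2 * k) = 1 := by
      rw [mul_comm, zpow_mul, hgk]
      exact_mod_cast hz2
    have h6 := (orderOf_dvd_iff_zpow_eq_one.mpr h5)
    rw [hgo] at h6
    have h7 : (4 : ℤ) ∣ 2 * k := dvd_trans (by exact_mod_cast h4) h6
    obtain ⟨m, hm⟩ := hk
    omega
  omega

end Abstract

end Cfsg.Agent.Lib.Helper28.NF
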