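import Mathlib
import Cfsg.Agent.Lib.Helper28.NF5b2

set_option autoImplicit false

/-!
# Common set-up for K-S3360-SYMG and K-S3360-CA (helper6's S3360 project)

`A ≤ B`, `A` central in `B`, `[B,B] ≤ A`, `B/A` of exponent `r`.
-/

universe u

namespace Cfsg.Agent.Lib.Helper28.NF2

open Cfsg.Agent.Lib.Helper28.NF

variable {H : Type u} [Group H]

/-- the standing hypotheses on the section `B/A`. -/
structure Sec (A B : Subgroup H) (r : ℕ) : Prop where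
  hAB : A ≤ B
  hcen : ∀ a ∈ A, ∀ b ∈ B, a * b = b * a
  hcomm : ∀ x ∈ B, ∀ y ∈ B, x * y * x⁻¹ * y⁻¹ ∈ A
  hexp : ∀ x ∈ B, x ^ r ∈ A

namespace Sec

variable {A B : Subgroup H} {r : ℕ}

theorem comm_A (s : Sec A B r) : ∀ a ∈ A, ∀ b ∈ A, a * b = b * a :=
  fun a ha b hb => s.hcen a ha b (s.hAB hb)

/-- commutators of elements of `B` have `r`-th power one. -/
theorem comm_pow (s : Sec A B r) {u v : H} (hu : u ∈ B) (hv : v ∈ B) :
    (v * u * v⁻¹ * u⁻¹) ^ r = 1 := by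
  obtain ⟨c, hc⟩ : ∃ c, c = v * u * v⁻¹ * u⁻¹ := ⟨_, rfl⟩
  rw [← hc]
  have hcA : c ∈ A := hc ▸ s.hcomm v hv u hu
  have hvu : v * u = c * u * v := by rw [hc]; group
  have hcv : c * v = v * c := s.hcen c hcA v hv
  have h1 := pow_mul_comm_class2 hvu hcv r
  have h2 : v ^ r * u = u * v ^ r := s.hcen _ (s.hexp v hv) u hu
  rw [h2, mul_assoc] at h1
  have : c ^ r * (u * v ^ r) = 1 * (u * v ^ r) := by rw [one_mul]; exact h1.symm
  exact mul_right_cancel this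

theorem comm_mul_left (s : Sec A B r) {b1 b1' b2 : H} (h1 : b1 ∈ B) (h1' : b1' ∈ B) (h2 : b2 ∈ B) :
    (b1 * b1') * b2 * (b1 * b1')⁻¹ * b2⁻¹
      = (b1 * b2 * b1⁻¹ * b2⁻¹) * (b1' * b2 * b1'⁻¹ * b2⁻¹) := by
  obtain ⟨c', hc'⟩ : ∃ c', c' = b1' * b2 * b1'⁻¹ * b2⁻¹ := ⟨_, rfl⟩
  obtain ⟨c, hc⟩ : ∃ c, c = b1 * b2 * b1⁻¹ * b2⁻¹ := ⟨_, rfl⟩
  have hc'A : c' ∈ A := hc' ▸ s.hcomm b1' h1' b2 h2
  have hcA : c ∈ A := hc ▸ s.hcomm b1 h1 b2 h2
  have e1 : c' * b1 = b1 * c' := s.hcen c' hc'A b1 h1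
  have e2 : c * c' = c' * c := s.comm_A c hcA c' hc'A
  calc (b1 * b1') * b2 * (b1 * b1')⁻¹ * b2⁻¹
      = (b1 * c') * (b2 * b1⁻¹ * b2⁻¹) := by rw [hc']; group
    _ = (c' * b1) * (b2 * b1⁻¹ * b2⁻¹) := by rw [e1]
    _ = c' * c := by rw [hc]; group
    _ = c * c' := e2.symm
    _ = (b1 * b2 * b1⁻¹ * b2⁻¹) * (b1' * b2 * b1'⁻¹ * b2⁻¹) := by rw [hc, hc']

theorem comm_mul_right (s : Sec A B r) {b1 b2 b2' : H} (h1 : b1 ∈ B) (h2 : b2 ∈ B) (h2' : b2' ∈ B) :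
    b1 * (b2 * b2') * b1⁻¹ * (b2 * b2')⁻¹
      = (b1 * b2 * b1⁻¹ * b2⁻¹) * (b1 * b2' * b1⁻¹ * b2'⁻¹) := by
  obtain ⟨c', hc'⟩ : ∃ c', c' = b1 * b2' * b1⁻¹ * b2'⁻¹ := ⟨_, rfl⟩
  have hc'A : c' ∈ A := hc' ▸ s.hcomm b1 h1 b2' h2'
  have e1 : c' * b2 = b2 * c' := s.hcen c' hc'A b2 h2
  calc b1 * (b2 * b2') * b1⁻¹ * (b2 * b2')⁻¹
      = (b1 * b2 * b1⁻¹ * b2⁻¹) * ((b2 * c') * b2⁻¹) := by rw [hc']; group
    _ = (b1 * b2 * b1⁻¹ * b2⁻¹) * ((c' * b2) * b2⁻¹) := by rw [e1]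
    _ = (b1 * b2 * b1⁻¹ * b2⁻¹) * c' := by group
    _ = (b1 * b2 * b1⁻¹ * b2⁻¹) * (b1 * b2' * b1⁻¹ * b2'⁻¹) := by rw [hc']

theorem comm_of_mem_left (s : Sec A B r) {a b : H} (ha : a ∈ A) (hb : b ∈ B) :
    a * b * a⁻¹ * b⁻¹ = 1 := by
  rw [s.hcen a ha b hb]; group

theorem comm_of_mem_right (s : Sec A B r) {a b : H} (ha : a ∈ A) (hb : b ∈ B) :
    b * a * b⁻¹ * a⁻¹ = 1 := by
  rw [← s.hcen a ha b hb]; group

theorem normal (s : Sec A B r) : (A.subgroupOf B).Normal := by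
  refine ⟨fun n hn g => ?_⟩
  rw [Subgroup.mem_subgroupOf] at hn ⊢
  have h := s.hcen _ hn _ g.2
  have : ((g * n * g⁻¹ : B) : H) = (n : H) := by
    push_cast
    rw [← h]; group
  rw [this]; exact hn

/-- the subgroup of elements of `A` of order dividing `r`. -/
def omega (s : Sec A B r) : Subgroup H where
  carrier := {a | a ∈ A ∧ a ^ r = 1}
  one_mem' := ⟨A.one_mem, one_pow _⟩
  mul_mem' := by
    rintro a b ⟨ha, har⟩ ⟨hb, hbr⟩
    refine ⟨A.mul_mem ha hb, ?_⟩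
    have hab : Commute a b := s.comm_A a ha b hb
    rw [hab.mul_pow, har, hbr, one_mul]
  inv_mem' := by
    rintro a ⟨ha, har⟩
    exact ⟨A.inv_mem ha, by rw [inv_pow, har, inv_one]⟩

theorem mem_omega (s : Sec A B r) {a : H} : a ∈ s.omega ↔ a ∈ A ∧ a ^ r = 1 := Iff.rfl

/-- `omega` is commutative. -/
@[reducible] def omegaCommGroup (s : Sec A B r) : CommGroup s.omega :=
  { (inferInstance : Group s.omega) with
    mul_comm := fun a b => Subtype.ext (s.comm_A a.1 a.2.1 b.1 b.2.1) }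

/-- the commutator map `B × B → omega`. -/
def cm (s : Sec A B r) (b1 b2 : B) : s.omega :=
  ⟨(b1 : H) * b2 * (b1 : H)⁻¹ * (b2 : H)⁻¹, s.hcomm _ b1.2 _ b2.2,
    s.comm_pow (u := (b2 : H)) (v := (b1 : H)) b2.2 b1.2⟩

theorem cm_val (s : Sec A B r) (b1 b2 : B) :
    ((s.cm b1 b2 : s.omega) : H) = (b1 : H) * b2 * (b1 : H)⁻¹ * (b2 : H)⁻¹ := rfl

theorem cm_mul_left (s : Sec A B r) (b1 b1' b2 : B) :
    s.cm (b1 * b1') b2 = s.cm b1 b2 * s.cm b1' b2 := by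
  apply Subtype.ext
  rw [Subgroup.coe_mul, cm_val, cm_val, cm_val, Subgroup.coe_mul]
  exact s.comm_mul_left b1.2 b1'.2 b2.2

theorem cm_mul_right (s : Sec A B r) (b1 b2 b2' : B) :
    s.cm b1 (b2 * b2') = s.cm b1 b2 * s.cm b1 b2' := by
  apply Subtype.ext
  rw [Subgroup.coe_mul, cm_val, cm_val, cm_val, Subgroup.coe_mul]
  exact s.comm_mul_right b1.2 b2.2 b2'.2

theorem cm_self (s : Sec A B r) (b : B) : s.cm b b = 1 := by
  apply Subtype.ext
  rw [cm_val, Subgroup.coe_one]; group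

theorem cm_of_mem_left (s : Sec A B r) {a b : B} (ha : (a : H) ∈ A) : s.cm a b = 1 := by
  apply Subtype.ext
  rw [cm_val, Subgroup.coe_one]; exact s.comm_of_mem_left ha b.2

theorem cm_of_mem_right (s : Sec A B r) {a b : B} (ha : (a : H) ∈ A) : s.cm b a = 1 := by
  apply Subtype.ext
  rw [cm_val, Subgroup.coe_one]; exact s.comm_of_mem_right ha b.2

theorem cm_eq_one_iff (s : Sec A B r) (b1 b2 : B) :
    s.cm b1 b2 = 1 ↔ (b1 : H) * b2 = b2 * b1 := by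
  constructor
  · intro h
    have := congrArg Subtype.val h
    rw [cm_val, Subgroup.coe_one] at this
    have h2 : (b1 : H) * b2 * (b1 : H)⁻¹ * (b2 : H)⁻¹ * (b2 * b1) = 1 * (b2 * b1) := by rw [this]
    rw [one_mul] at h2
    rw [← h2]; group
  · intro h
    apply Subtype.ext
    rw [cm_val, Subgroup.coe_one, h]; group

section Quot

variable (s : Sec A B r) [(A.subgroupOf B).Normal]
include s

/-- the quotient `B/A` is commutative. -/
@[reducible] def quotCommGroup : CommGroup (B ⧸ A.subgroupOf B) :=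
  { (inferInstance : Group (B ⧸ A.subgroupOf B)) with
    mul_comm := by
      intro u v
      induction u using QuotientGroup.induction_on with
      | H b1 =>
      induction v using QuotientGroup.induction_on with
      | H b2 =>
      rw [← QuotientGroup.mk_mul, ← QuotientGroup.mk_mul, QuotientGroup.eq, Subgroup.mem_subgroupOf]
      have := s.hcomm _ (B.inv_mem b2.2) _ (B.inv_mem b1.2)
      have e : (((b1 * b2)⁻¹ * (b2 * b1) : B) : H) =
          (b2 : H)⁻¹ * (b1 : H)⁻¹ * (b2 : H)⁻¹⁻¹ * (b1 : H)⁻¹⁻¹ := by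
        push_cast; group
      rw [e]
      exact this }

theorem quot_pow (u : B ⧸ A.subgroupOf B) : u ^ r = 1 := by
  induction u using QuotientGroup.induction_on with
  | H b =>
  rw [← QuotientGroup.mk_pow, QuotientGroup.eq_one_iff, Subgroup.mem_subgroupOf]
  push_cast
  exact s.hexp _ b.2

omit s [(A.subgroupOf B).Normal] in
theorem card_quot : Nat.card (B ⧸ A.subgroupOf B) = A.relIndex B := by
  rw [Subgroup.relIndex, Subgroup.index_eq_card]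

/-- the commutator pairing on `B/A`. -/
noncomputable def pair (u v : B ⧸ A.subgroupOf B) : s.omega :=
  s.cm u.out v.out

omit [(A.subgroupOf B).Normal] in
theorem pair_mk (b1 b2 : B) :
    s.pair (QuotientGroup.mk b1) (QuotientGroup.mk b2) = s.cm b1 b2 := by
  obtain ⟨h1, e1⟩ := QuotientGroup.mk_out_eq_mul (A.subgroupOf B) b1
  obtain ⟨h2, e2⟩ := QuotientGroup.mk_out_eq_mul (A.subgroupOf B) b2
  have hh1 : ((h1 : B) : H) ∈ A := Subgroup.mem_subgroupOf.mp h1.2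
  have hh2 : ((h2 : B) : H) ∈ A := Subgroup.mem_subgroupOf.mp h2.2
  let _ := s.omegaCommGroup
  unfold pair
  rw [e1, e2, cm_mul_left, cm_mul_right, cm_mul_right, s.cm_of_mem_left hh1, s.cm_of_mem_left hh1,
    s.cm_of_mem_right hh2]
  simp

end Quot

end Sec

end Cfsg.Agent.Lib.Helper28.NF2
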