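import Mathlib
import Cfsg.Agent.Lib.Helper28.NF2Sec

set_option autoImplicit false

/-!
# K-S3360-CA : `relIndex_centralizer_dvd_prod` (for helper6's S3360 project)
-/

universe u

namespace Cfsg.Agent.Lib.Helper28.NF2

variable {H : Type u} [Group H] [Finite H]

/-- a finite cyclic group embeds in `ℂˣ`. -/
theorem exists_injective_hom_complex_units (A : Type u) [Group A] [Finite A] [IsCyclic A] :
    ∃ ι : A →* ℂˣ, Function.Injective ι := by
  have : NeZero (Nat.card A) := ⟨Nat.card_pos.ne'⟩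
  have : NeZero ((Nat.card A : ℕ) : ℂ) := ⟨by exact_mod_cast (NeZero.ne (Nat.card A))⟩
  have hcard : Nat.card (rootsOfUnity (Nat.card A) ℂ) = Nat.card A :=
    HasEnoughRootsOfUnity.natCard_rootsOfUnity ℂ (Nat.card A)
  let e : A ≃* rootsOfUnity (Nat.card A) ℂ := mulEquivOfCyclicCardEq hcard.symm
  refine ⟨(rootsOfUnity (Nat.card A) ℂ).subtype.comp e.toMonoidHom, ?_⟩
  exact (Subgroup.subtype_injective _).comp e.injective

theorem relIndex_centralizer_dvd_prod (A B : Subgroup H) (r w : ℕ) (hr : r.Prime)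
    (hAcyc : IsCyclic A) (hBn : B.Normal) (hAB : A ≤ B) (hBC : B ≤ Subgroup.centralizer (A : Set H))
    (hcomm : ∀ x ∈ B, ∀ y ∈ B, x * y * x⁻¹ * y⁻¹ ∈ A) (hexp : ∀ x ∈ B, x ^ r ∈ A)
    (hrel : A.relIndex B = r ^ w)
    (hCB : Subgroup.centralizer (B : Set H) ⊓ Subgroup.centralizer (A : Set H) = A)
    (hAut : ∀ (X : Type u) [CommGroup X] [Finite X], (∀ x : X, x ^ r = 1) → Nat.card X = r ^ w →
      Nat.card (MulAut X) ∣ ∏ i ∈ Finset.range w, (r ^ w - r ^ i)) :
    A.relIndex (Subgroup.centralizer (A : Set H)) ∣ r ^ w * ∏ i ∈ Finset.range w, (r ^ w - r ^ i) := by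
  classical
  have s : Sec A B r :=
    ⟨hAB, fun a ha b hb => (Subgroup.mem_centralizer_iff.mp (hBC hb)) a ha, hcomm, hexp⟩
  have hN : (A.subgroupOf B).Normal := s.normal
  let cgX : CommGroup (B ⧸ A.subgroupOf B) := s.quotCommGroup
  obtain ⟨C, hC⟩ : ∃ C : Subgroup H, C = Subgroup.centralizer (A : Set H) := ⟨_, rfl⟩
  rw [← hC]
  have hCa : ∀ c ∈ C, ∀ a ∈ A, a * c = c * a := by
    intro c hc a ha
    rw [hC] at hc
    exact Subgroup.mem_centralizer_iff.mp hc a ha
  have hAC : A ≤ C := fun a ha => by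
    rw [hC]; exact hBC (hAB ha)
  -- conjugation by `c` on `B`
  have hσval : ∀ (c : H) (b : B), ((MulAut.conjNormal c b : B) : H) = c * b * c⁻¹ :=
    fun c b => MulAut.conjNormal_apply c b
  have hσA : ∀ c ∈ C, ∀ b : B, (b : H) ∈ A → MulAut.conjNormal c b = b := by
    intro c hc b hb
    apply Subtype.ext
    rw [hσval, ← hCa c hc _ hb]; group
  have he : ∀ c : C, (A.subgroupOf B).map ((MulAut.conjNormal (c : H) : B ≃* B) : B →* B)
      = A.subgroupOf B := by
    intro c
    ext b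
    constructor
    · rintro ⟨a, ha, rfl⟩
      have haA : (a : H) ∈ A := Subgroup.mem_subgroupOf.mp ha
      show MulAut.conjNormal (c : H) a ∈ A.subgroupOf B
      rw [hσA c c.2 a haA]; exact ha
    · intro hb
      have hbA : (b : H) ∈ A := Subgroup.mem_subgroupOf.mp hb
      exact ⟨b, hb, hσA c c.2 b hbA⟩
  let φfun : C → MulAut (B ⧸ A.subgroupOf B) := fun c =>
    QuotientGroup.congr (A.subgroupOf B) (A.subgroupOf B) (MulAut.conjNormal (c : H)) (he c)
  have hφmk : ∀ (c : C) (b : B), φfun c (QuotientGroup.mk b)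
      = QuotientGroup.mk (MulAut.conjNormal (c : H) b) := by
    intro c b
    show QuotientGroup.congr (A.subgroupOf B) (A.subgroupOf B) (MulAut.conjNormal (c : H)) (he c)
      (QuotientGroup.mk b) = _
    rw [QuotientGroup.congr_mk]
  let φ : C →* MulAut (B ⧸ A.subgroupOf B) := MonoidHom.mk' φfun (by
    intro c c'
    ext u
    induction u using QuotientGroup.induction_on with
    | H b =>
    rw [MulAut.mul_apply, hφmk, hφmk, hφmk, Subgroup.coe_mul, map_mul, MulAut.mul_apply])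
  have hφapp : ∀ c : C, φ c = φfun c := fun c => rfl
  -- (1) the index of the kernel
  have h1 : φ.ker.index ∣ ∏ i ∈ Finset.range w, (r ^ w - r ^ i) := by
    rw [Subgroup.index_ker]
    refine (Subgroup.card_subgroup_dvd_card φ.range).trans ?_
    apply hAut (B ⧸ A.subgroupOf B) (fun u => s.quot_pow u)
    rw [Sec.card_quot, hrel]
  -- elements of the kernel have commutators with `B` in `A`
  have hD : ∀ c : C, c ∈ φ.ker → ∀ b : B, (c : H) * b * (c : H)⁻¹ * (b : H)⁻¹ ∈ A := by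
    intro c hc b
    rw [MonoidHom.mem_ker] at hc
    have h := congrArg (fun f => f (QuotientGroup.mk b⁻¹)) hc
    simp only [MulAut.one_apply] at h
    rw [hφapp, hφmk, QuotientGroup.eq, Subgroup.mem_subgroupOf] at h
    have e : (((MulAut.conjNormal (c : H) b⁻¹)⁻¹ * b⁻¹ : B) : H)
        = (c : H) * b * (c : H)⁻¹ * (b : H)⁻¹ := by
      push_cast; rw [hσval]; push_cast; group
    rw [e] at h; exact h
  have hDconv : ∀ c : C, (∀ b : B, (c : H) * b * (c : H)⁻¹ * (b : H)⁻¹ ∈ A) → c ∈ φ.ker := by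
    intro c hc
    rw [MonoidHom.mem_ker]
    ext u
    induction u using QuotientGroup.induction_on with
    | H b =>
    rw [MulAut.one_apply, hφapp, hφmk, QuotientGroup.eq, Subgroup.mem_subgroupOf]
    have e : (((MulAut.conjNormal (c : H) b)⁻¹ * b : B) : H)
        = (c : H) * (b⁻¹ : B) * (c : H)⁻¹ * ((b⁻¹ : B) : H)⁻¹ := by
      push_cast; rw [hσval]; group
    rw [e]; exact hc b⁻¹
  have hAD : A.subgroupOf C ≤ φ.ker := by
    intro c hc
    have hcA : (c : H) ∈ A := Subgroup.mem_subgroupOf.mp hc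
    apply hDconv
    intro b
    rw [s.comm_of_mem_left hcA b.2]; exact A.one_mem
  -- (2) the hom into the dual
  obtain ⟨ι, hι⟩ := exists_injective_hom_complex_units A
  let D : Subgroup C := φ.ker
  let gfun : D → B →* ℂˣ := fun c =>
    { toFun := fun b => ι ⟨((c : C) : H) * b * ((c : C) : H)⁻¹ * (b : H)⁻¹, hD c c.2 b⟩
      map_one' := by
        have : (⟨((c : C) : H) * ((1 : B) : H) * ((c : C) : H)⁻¹ * ((1 : B) : H)⁻¹, hD c c.2 1⟩ : A) = 1 := by
          apply Subtype.ext; simp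
        rw [this, map_one]
      map_mul' := by
        intro b b'
        rw [← map_mul]
        congr 1
        apply Subtype.ext
        show ((c : C) : H) * ((b * b' : B) : H) * ((c : C) : H)⁻¹ * ((b * b' : B) : H)⁻¹
          = (((c : C) : H) * b * ((c : C) : H)⁻¹ * (b : H)⁻¹) * (((c : C) : H) * b' * ((c : C) : H)⁻¹ * (b' : H)⁻¹)
        obtain ⟨d, hd⟩ : ∃ d, d = ((c : C) : H) * b' * ((c : C) : H)⁻¹ * (b' : H)⁻¹ := ⟨_, rfl⟩
        have hdA : d ∈ A := hd ▸ hD c c.2 b'
        have hdb : d * b = b * d := s.hcen d hdA b b.2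
        rw [← hd]
        calc ((c : C) : H) * ((b * b' : B) : H) * ((c : C) : H)⁻¹ * ((b * b' : B) : H)⁻¹
            = (((c : C) : H) * b * ((c : C) : H)⁻¹ * (b : H)⁻¹) * ((b * d) * (b : H)⁻¹) := by
              rw [hd]; push_cast; group
          _ = (((c : C) : H) * b * ((c : C) : H)⁻¹ * (b : H)⁻¹) * ((d * b) * (b : H)⁻¹) := by rw [hdb]
          _ = (((c : C) : H) * b * ((c : C) : H)⁻¹ * (b : H)⁻¹) * d := by group }
  have hgval : ∀ (c : D) (b : B), gfun c b
      = ι ⟨((c : C) : H) * b * ((c : C) : H)⁻¹ * (b : H)⁻¹, hD c c.2 b⟩ := fun c b => rfl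
  have hgker : ∀ c : D, A.subgroupOf B ≤ (gfun c).ker := by
    intro c a ha
    have haA : (a : H) ∈ A := Subgroup.mem_subgroupOf.mp ha
    rw [MonoidHom.mem_ker, hgval]
    have : (⟨((c : C) : H) * a * ((c : C) : H)⁻¹ * (a : H)⁻¹, hD c c.2 a⟩ : A) = 1 := by
      apply Subtype.ext
      show ((c : C) : H) * a * ((c : C) : H)⁻¹ * (a : H)⁻¹ = 1
      rw [← hCa _ (c : C).2 _ haA]; group
    rw [this, map_one]
  let Ψfun : D → ((B ⧸ A.subgroupOf B) →* ℂˣ) := fun c =>
    QuotientGroup.lift (A.subgroupOf B) (gfun c) (hgker c)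
  have hΨmk : ∀ (c : D) (b : B), Ψfun c (QuotientGroup.mk b) = gfun c b := by
    intro c b
    show QuotientGroup.lift (A.subgroupOf B) (gfun c) (hgker c) (QuotientGroup.mk b) = _
    rw [QuotientGroup.lift_mk]
  let Ψ : D →* ((B ⧸ A.subgroupOf B) →* ℂˣ) := MonoidHom.mk' Ψfun (by
    intro c c'
    refine MonoidHom.ext fun u => ?_
    induction u using QuotientGroup.induction_on with
    | H b =>
    rw [MonoidHom.mul_apply, hΨmk, hΨmk, hΨmk, hgval, hgval, hgval, mul_comm, ← map_mul]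
    congr 2
    show (((c * c' : D) : C) : H) * b * (((c * c' : D) : C) : H)⁻¹ * (b : H)⁻¹
      = (((c' : C) : H) * b * ((c' : C) : H)⁻¹ * (b : H)⁻¹) * (((c : C) : H) * b * ((c : C) : H)⁻¹ * (b : H)⁻¹)
    obtain ⟨d, hd⟩ : ∃ d, d = ((c' : C) : H) * b * ((c' : C) : H)⁻¹ * (b : H)⁻¹ := ⟨_, rfl⟩
    have hdA : d ∈ A := hd ▸ hD c' c'.2 b
    have hdc : d * ((c : C) : H) = ((c : C) : H) * d := hCa _ (c : C).2 d hdA
    rw [← hd]
    calc (((c * c' : D) : C) : H) * b * (((c * c' : D) : C) : H)⁻¹ * (b : H)⁻¹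
        = (((c : C) : H) * d) * ((b : H) * ((c : C) : H)⁻¹ * (b : H)⁻¹) := by
          rw [hd]; push_cast; group
      _ = (d * ((c : C) : H)) * ((b : H) * ((c : C) : H)⁻¹ * (b : H)⁻¹) := by rw [hdc]
      _ = d * (((c : C) : H) * b * ((c : C) : H)⁻¹ * (b : H)⁻¹) := by group)
  have hΨapp : ∀ c : D, Ψ c = Ψfun c := fun c => rfl
  -- kernel of Ψ
  have hΨker : Ψ.ker = (A.subgroupOf C).subgroupOf D := by
    ext c
    rw [MonoidHom.mem_ker, Subgroup.mem_subgroupOf, Subgroup.mem_subgroupOf]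
    constructor
    · intro h
      have hcB : ((c : C) : H) ∈ Subgroup.centralizer (B : Set H) := by
        rw [Subgroup.mem_centralizer_iff]
        intro b hb
        have h2 := congrArg (fun f => f (QuotientGroup.mk (⟨b, hb⟩ : B))) h
        simp only [MonoidHom.one_apply] at h2
        rw [hΨapp, hΨmk, hgval, ← map_one ι] at h2
        have h3 := congrArg Subtype.val (hι h2)
        simp only [Subgroup.coe_one] at h3
        -- h3 : c * b * c⁻¹ * b⁻¹ = 1
        have h4 : ((c : C) : H) * b * ((c : C) : H)⁻¹ * b⁻¹ * (b * ((c : C) : H)) = 1 * (b * ((c : C) : H)) := by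
          rw [h3]
        rw [one_mul] at h4
        rw [← h4]; group
      have : ((c : C) : H) ∈ Subgroup.centralizer (B : Set H) ⊓ Subgroup.centralizer (A : Set H) :=
        ⟨hcB, hC ▸ (c : C).2⟩
      rw [hCB] at this
      exact this
    · intro hcA
      refine MonoidHom.ext fun u => ?_
      induction u using QuotientGroup.induction_on with
      | H b =>
      rw [hΨapp, hΨmk, hgval, MonoidHom.one_apply]
      have : (⟨((c : C) : H) * b * ((c : C) : H)⁻¹ * (b : H)⁻¹, hD c c.2 b⟩ : A) = 1 := by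
        apply Subtype.ext
        show ((c : C) : H) * b * ((c : C) : H)⁻¹ * (b : H)⁻¹ = 1
        exact s.comm_of_mem_left hcA b.2
      rw [this, map_one]
  -- (3) index of ker Ψ
  have h2 : Ψ.ker.index ∣ r ^ w := by
    rw [Subgroup.index_ker]
    refine (Subgroup.card_subgroup_dvd_card Ψ.range).trans ?_
    have : NeZero (Monoid.exponent (B ⧸ A.subgroupOf B)) :=
      ⟨Monoid.exponent_ne_zero_of_finite⟩
    have : NeZero ((Monoid.exponent (B ⧸ A.subgroupOf B) : ℕ) : ℂ) :=
      ⟨by exact_mod_cast (NeZero.ne (Monoid.exponent (B ⧸ A.subgroupOf B)))⟩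
    rw [CommGroup.card_monoidHom_of_hasEnoughRootsOfUnity (B ⧸ A.subgroupOf B) ℂ, Sec.card_quot, hrel]
  -- (4) combine
  have h3 : (A.subgroupOf C).relIndex D * D.index = (A.subgroupOf C).index :=
    Subgroup.relIndex_mul_index hAD
  have h4 : (A.subgroupOf C).relIndex D = Ψ.ker.index := by
    rw [hΨker]; rfl
  have h5 : A.relIndex C = (A.subgroupOf C).index := rfl
  rw [h5, ← h3, h4]
  exact Nat.mul_dvd_mul h2 h1

end Cfsg.Agent.Lib.Helper28.NF2
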