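import Mathlib
import Cfsg.Agent.Lib.Helper28.NF2Sec

set_option autoImplicit false

/-!
# K-S3360-SYMG : `prime_bound_of_section` (for helper6's S3360 project)
-/

universe u

namespace Cfsg.Agent.Lib.Helper28.NF2

variable {H : Type u} [Group H] [Finite H]

theorem prime_bound_of_section (A B : Subgroup H) (r l : ℕ) (hr : r.Prime) (hl : l.Prime) (hlr : l ≠ r)
    (hAcyc : IsCyclic A) (hAB : A ≤ B) (hBC : B ≤ Subgroup.centralizer (A : Set H))
    (hZ : ∀ x ∈ B, (∀ y ∈ B, x * y = y * x) → x ∈ A)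
    (hcomm : ∀ x ∈ B, ∀ y ∈ B, x * y * x⁻¹ * y⁻¹ ∈ A) (hexp : ∀ x ∈ B, x ^ r ∈ A)
    (x : H) (hxA : x ∈ Subgroup.centralizer (A : Set H)) (hxB : ∀ b ∈ B, x * b * x⁻¹ ∈ B)
    (hxl : x ^ l = 1) (hxn : ∃ b ∈ B, x * b * x⁻¹ * b⁻¹ ∉ A)
    (hSym : ∀ (W Z : Type u) [CommGroup W] [Finite W] [CommGroup Z], Nat.card Z = r →
      ∀ f : W → W → Z, (∀ u v w, f (u * v) w = f u w * f v w) → (∀ u v w, f u (v * w) = f u v * f u w) →
      (∀ v, f v v = 1) → (∀ v, (∀ w, f v w = 1) → v = 1) →
      ∀ y : MulAut W, (∀ u v, f (y u) (y v) = f u v) → y ^ l = 1 → (∃ w, y w ≠ w) →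
      ∃ j : ℕ, 0 < j ∧ r ^ (2 * j) ≤ Nat.card W ∧ l ∣ r ^ (2 * j) - 1) :
    ∃ j : ℕ, 0 < j ∧ r ^ (2 * j) ≤ A.relIndex B ∧ l ∣ r ^ (2 * j) - 1 := by
  classical
  have s : Sec A B r :=
    ⟨hAB, fun a ha b hb => (Subgroup.mem_centralizer_iff.mp (hBC hb)) a ha, hcomm, hexp⟩
  have hxa : ∀ a ∈ A, a * x = x * a := Subgroup.mem_centralizer_iff.mp hxA
  have hN : (A.subgroupOf B).Normal := s.normal
  let cgW : CommGroup (B ⧸ A.subgroupOf B) := s.quotCommGroup
  let cgZ : CommGroup s.omega := s.omegaCommGroup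
  -- a nontrivial commutator
  obtain ⟨b0, hb0B, hb0⟩ := hxn
  have hb0A : b0 ∉ A := by
    intro h
    apply hb0
    have : x * b0 * x⁻¹ * b0⁻¹ = 1 := by rw [← hxa b0 h]; group
    rw [this]; exact A.one_mem
  have hexy : ∃ y ∈ B, b0 * y ≠ y * b0 := by
    by_contra hcon
    push Not at hcon
    exact hb0A (hZ b0 hb0B hcon)
  obtain ⟨y0, hy0B, hy0⟩ := hexy
  -- card Z = r
  have hZcard : Nat.card s.omega = r := by
    have hle : s.omega ≤ A := fun a ha => ha.1
    have hcyc : IsCyclic s.omega :=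
      isCyclic_of_injective (Subgroup.inclusion hle) (Subgroup.inclusion_injective hle)
    have h1 : Monoid.exponent s.omega ∣ r := by
      apply Monoid.exponent_dvd_of_forall_pow_eq_one
      intro g
      apply Subtype.ext
      rw [Subgroup.coe_pow, Subgroup.coe_one]
      exact g.2.2
    rw [IsCyclic.exponent_eq_card] at h1
    rcases (Nat.dvd_prime hr).mp h1 with h | h
    · exfalso
      have hsub : Subsingleton s.omega := (Nat.card_eq_one_iff_unique.mp h).1
      have : s.cm ⟨b0, hb0B⟩ ⟨y0, hy0B⟩ = 1 := Subsingleton.elim _ _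
      rw [s.cm_eq_one_iff] at this
      exact hy0 this
    · exact h
  -- the conjugation automorphism of `B`
  let φ : B →* B :=
    { toFun := fun b => ⟨x * b * x⁻¹, hxB b b.2⟩
      map_one' := by apply Subtype.ext; simp
      map_mul' := by
        intro a b
        apply Subtype.ext
        show x * ((a * b : B) : H) * x⁻¹ = (x * a * x⁻¹) * (x * b * x⁻¹)
        push_cast; group }
  have hφval : ∀ b : B, ((φ b : B) : H) = x * b * x⁻¹ := fun b => rfl
  have hφinj : Function.Injective φ := by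
    intro a b hab
    have := congrArg Subtype.val hab
    rw [hφval, hφval] at this
    apply Subtype.ext
    have h2 : x⁻¹ * (x * (a : H) * x⁻¹) * x = x⁻¹ * (x * (b : H) * x⁻¹) * x := by rw [this]
    simpa [mul_assoc] using h2
  let φe : B ≃* B := MulEquiv.ofBijective φ ⟨hφinj, Finite.surjective_of_injective hφinj⟩
  have hφe : ∀ b : B, φe b = φ b := fun b => rfl
  have hφA : ∀ b : B, (b : H) ∈ A → φ b = b := by
    intro b hb
    apply Subtype.ext
    rw [hφval, ← hxa _ hb]; group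
  have he : (A.subgroupOf B).map (φe : B →* B) = A.subgroupOf B := by
    ext b
    constructor
    · rintro ⟨a, ha, rfl⟩
      have haA : (a : H) ∈ A := Subgroup.mem_subgroupOf.mp ha
      show φe a ∈ A.subgroupOf B
      rw [hφe, hφA a haA]; exact ha
    · intro hb
      have hbA : (b : H) ∈ A := Subgroup.mem_subgroupOf.mp hb
      exact ⟨b, hb, by show φe b = b; rw [hφe, hφA b hbA]⟩
  let y : MulAut (B ⧸ A.subgroupOf B) :=
    QuotientGroup.congr (A.subgroupOf B) (A.subgroupOf B) φe he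
  have hy_mk : ∀ b : B, y (QuotientGroup.mk b) = QuotientGroup.mk (φ b) := by
    intro b
    show QuotientGroup.congr (A.subgroupOf B) (A.subgroupOf B) φe he (QuotientGroup.mk b) = _
    rw [QuotientGroup.congr_mk]; rfl
  -- powers of `y`
  have hypow : ∀ k : ℕ, ∀ b : B, ∃ b' : B, (b' : H) = x ^ k * b * (x ^ k)⁻¹ ∧
      (y ^ k) (QuotientGroup.mk b) = QuotientGroup.mk b' := by
    intro k
    induction k with
    | zero => intro b; exact ⟨b, by simp, by simp⟩
    | succ k ih =>
      intro b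
      obtain ⟨b', hb', hyb'⟩ := ih b
      refine ⟨φ b', ?_, ?_⟩
      · rw [hφval, hb', pow_succ']; group
      · rw [pow_succ', MulAut.mul_apply, hyb', hy_mk]
  have hyl : y ^ l = 1 := by
    ext u
    induction u using QuotientGroup.induction_on with
    | H b =>
    obtain ⟨b', hb', hyb'⟩ := hypow l b
    rw [hyb', MulAut.one_apply]
    congr 1
    apply Subtype.ext
    rw [hb', hxl]; simp
  have hy1 : ∃ w, y w ≠ w := by
    refine ⟨QuotientGroup.mk ⟨b0, hb0B⟩, ?_⟩
    rw [hy_mk]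
    intro h
    rw [QuotientGroup.eq, Subgroup.mem_subgroupOf] at h
    have h1 : ((((φ ⟨b0, hb0B⟩)⁻¹ * ⟨b0, hb0B⟩ : B)) : H) = (x * b0 * x⁻¹)⁻¹ * b0 := by
      push_cast; rw [hφval]
    rw [h1] at h
    -- the inverse, conjugated by b0
    have h2 : ((x * b0 * x⁻¹)⁻¹ * b0)⁻¹ ∈ A := A.inv_mem h
    have h3 := s.hcen _ h2 b0 hb0B
    apply hb0
    have : x * b0 * x⁻¹ * b0⁻¹ = b0 * ((x * b0 * x⁻¹)⁻¹ * b0)⁻¹ * b0⁻¹ := by group
    rw [this, ← h3]
    have : ((x * b0 * x⁻¹)⁻¹ * b0)⁻¹ * b0 * b0⁻¹ = ((x * b0 * x⁻¹)⁻¹ * b0)⁻¹ := by group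
    rw [this]; exact h2
  have hmul1 : ∀ u v w, s.pair (u * v) w = s.pair u w * s.pair v w := by
    intro u v w
    induction u using QuotientGroup.induction_on with
    | H b1 =>
    induction v using QuotientGroup.induction_on with
    | H b2 =>
    induction w using QuotientGroup.induction_on with
    | H b3 =>
    rw [← QuotientGroup.mk_mul, s.pair_mk, s.pair_mk, s.pair_mk, s.cm_mul_left]
  have hmul2 : ∀ u v w, s.pair u (v * w) = s.pair u v * s.pair u w := by
    intro u v w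
    induction u using QuotientGroup.induction_on with
    | H b1 =>
    induction v using QuotientGroup.induction_on with
    | H b2 =>
    induction w using QuotientGroup.induction_on with
    | H b3 =>
    rw [← QuotientGroup.mk_mul, s.pair_mk, s.pair_mk, s.pair_mk, s.cm_mul_right]
  have halt : ∀ v, s.pair v v = 1 := by
    intro v
    induction v using QuotientGroup.induction_on with
    | H b => rw [s.pair_mk, s.cm_self]
  have hnd : ∀ v, (∀ w, s.pair v w = 1) → v = 1 := by
    intro v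
    induction v using QuotientGroup.induction_on with
    | H b =>
    intro hv
    rw [QuotientGroup.eq_one_iff, Subgroup.mem_subgroupOf]
    apply hZ _ b.2
    intro b' hb'
    have := hv (QuotientGroup.mk ⟨b', hb'⟩)
    rw [s.pair_mk, s.cm_eq_one_iff] at this
    exact this
  have hinv : ∀ u v, s.pair (y u) (y v) = s.pair u v := by
    intro u v
    induction u using QuotientGroup.induction_on with
    | H b1 =>
    induction v using QuotientGroup.induction_on with
    | H b2 =>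
    rw [hy_mk, hy_mk, s.pair_mk, s.pair_mk]
    apply Subtype.ext
    rw [Sec.cm_val, Sec.cm_val, hφval, hφval]
    have hc := hxa _ (s.hcomm _ b1.2 _ b2.2)
    have : x * (b1 : H) * x⁻¹ * (x * (b2 : H) * x⁻¹) * (x * (b1 : H) * x⁻¹)⁻¹ * (x * (b2 : H) * x⁻¹)⁻¹
        = x * ((b1 : H) * b2 * (b1 : H)⁻¹ * (b2 : H)⁻¹) * x⁻¹ := by group
    rw [this, ← hc]; group
  obtain ⟨j, hj0, hjle, hjdvd⟩ :=
    hSym (B ⧸ A.subgroupOf B) s.omega hZcard s.pair hmul1 hmul2 halt hnd y hinv hyl hy1
  exact ⟨j, hj0, by rw [← Sec.card_quot (A := A) (B := B)]; exact hjle, hjdvd⟩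

end Cfsg.Agent.Lib.Helper28.NF2
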