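import Mathlib
import Cfsg.Agent.Lib.Helper06.PMinAlt.Defs

/-!
# K-PMinAlt-C9 (two orbits give a good pair), with the leaves C6, C7, C8a as hypotheses
-/

set_option autoImplicit false

namespace Cfsg.Agent.Lib.Helper28.PMinAlt

open Equiv Equiv.Perm
open Cfsg.Agent.Lib.Helper06.PMinAlt

section Perm
variable {α : Type*} [Fintype α] [DecidableEq α]

theorem orbRel_refl (S : Subgroup (Perm α)) (x : α) : orbRel S x x := ⟨1, S.one_mem, rfl⟩

theorem orbRel_symm {S : Subgroup (Perm α)} {x y : α} (h : orbRel S x y) : orbRel S y x := by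
  obtain ⟨s, hs, rfl⟩ := h
  exact ⟨s⁻¹, S.inv_mem hs, by simp⟩

theorem orbRel_trans {S : Subgroup (Perm α)} {x y z : α} (h : orbRel S x y) (h' : orbRel S y z) :
    orbRel S x z := by
  obtain ⟨s, hs, rfl⟩ := h
  obtain ⟨t, ht, rfl⟩ := h'
  exact ⟨t * s, S.mul_mem ht hs, by simp⟩

theorem orbRel_equivalence (S : Subgroup (Perm α)) : Equivalence (orbRel S) :=
  ⟨orbRel_refl S, orbRel_symm, orbRel_trans⟩

theorem orbRel_smul {S : Subgroup (Perm α)} {s : Perm α} (hs : s ∈ S) {x y : α} (h : orbRel S x y) :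
    orbRel S (s x) (s y) := by
  obtain ⟨t, ht, rfl⟩ := h
  exact ⟨s * t * s⁻¹, S.mul_mem (S.mul_mem hs ht) (S.inv_mem hs), by simp⟩

/-- a point with an orbit of at least two points is moved by some element -/
theorem exists_moves_of_two_le {S : Subgroup (Perm α)} {x : α}
    (h : 2 ≤ {y | orbRel S x y}.ncard) : ∃ s ∈ S, s x ≠ x := by
  by_contra hcon
  push Not at hcon
  have : {y | orbRel S x y} = {x} := by
    ext y
    simp only [Set.mem_setOf_eq, Set.mem_singleton_iff]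
    constructor
    · rintro ⟨s, hs, rfl⟩; exact hcon s hs
    · rintro rfl; exact orbRel_refl S y
  rw [this, Set.ncard_singleton] at h
  omega

/-- **K-PMinAlt-C9**, with C6, C7, C8a as hypotheses. -/
theorem exists_goodPair_two_orbits_of
    (hC6 : ∀ (S L : Subgroup (Perm α)) (x : α), L ≤ S → (∀ s ∈ S, s x = x → s ∈ L) →
      (∀ y y', blockRel S x L y y' → orbRel S x y ∧ orbRel S y y') ∧
      (∀ y, orbRel S x y → blockRel S x L y y) ∧
      (∀ y y', blockRel S x L y y' → blockRel S x L y' y) ∧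
      (∀ y y' y'', blockRel S x L y y' → blockRel S x L y' y'' → blockRel S x L y y'') ∧
      (∀ s ∈ S, ∀ y y', blockRel S x L y y' → blockRel S x L (s y) (s y')))
    (hC7 : ∀ (S L : Subgroup (Perm α)) (x : α), L ≤ S → (∀ s ∈ S, s x = x → s ∈ L) →
      ∀ y, orbRel S x y →
      {y' | blockRel S x L y y'}.ncard * Nat.card ↥(S ⊓ MulAction.stabilizer (Perm α) x) =
        Nat.card ↥L)
    (hC8a : ∀ (S : Subgroup (Perm α)), IsPGroup 3 S → ∀ x : α, (∃ s ∈ S, s x ≠ x) →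
      ∃ L : Subgroup (Perm α), L ≤ S ∧ (∀ s ∈ S, s x = x → s ∈ L) ∧
        Nat.card ↥L = 3 * Nat.card ↥(S ⊓ MulAction.stabilizer (Perm α) x))
    (S : Subgroup (Perm α)) (hS : IsPGroup 3 S) (x₁ x₂ : α)
    (hdisj : ¬ orbRel S x₁ x₂) (hcov : ∀ y, orbRel S x₁ y ∨ orbRel S x₂ y)
    (h1 : 9 ≤ {y | orbRel S x₁ y}.ncard) (h2 : 3 ≤ {y | orbRel S x₂ y}.ncard) :
    ∃ r₁ r₂ : α → α → Prop, GoodPair S r₁ r₂ := by
  classical
  obtain ⟨L₁, hL₁S, hst₁, hc₁⟩ := hC8a S hS x₁ (exists_moves_of_two_le (by omega))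
  obtain ⟨L₂, hL₂S, hst₂, hc₂⟩ := hC8a S hS x₂ (exists_moves_of_two_le (by omega))
  obtain ⟨a1, b1, c1, d1, e1⟩ := hC6 S L₁ x₁ hL₁S hst₁
  obtain ⟨a2, b2, c2, d2, e2⟩ := hC6 S L₂ x₂ hL₂S hst₂
  -- the two orbits are disjoint
  have hno : ∀ y, orbRel S x₁ y → orbRel S x₂ y → False := fun y h h' =>
    hdisj (orbRel_trans h (orbRel_symm h'))
  -- class sizes
  have hpos₁ : 0 < Nat.card ↥(S ⊓ MulAction.stabilizer (Perm α) x₁) := Nat.card_pos
  have hpos₂ : 0 < Nat.card ↥(S ⊓ MulAction.stabilizer (Perm α) x₂) := Nat.card_pos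
  have hn₁ : ∀ y, orbRel S x₁ y → {y' | blockRel S x₁ L₁ y y'}.ncard = 3 := by
    intro y hy
    have := hC7 S L₁ x₁ hL₁S hst₁ y hy
    rw [hc₁] at this
    exact Nat.eq_of_mul_eq_mul_right hpos₁ this
  have hn₂ : ∀ y, orbRel S x₂ y → {y' | blockRel S x₂ L₂ y y'}.ncard = 3 := by
    intro y hy
    have := hC7 S L₂ x₂ hL₂S hst₂ y hy
    rw [hc₂] at this
    exact Nat.eq_of_mul_eq_mul_right hpos₂ this
  refine ⟨fun y y' => blockRel S x₁ L₁ y y' ∨ blockRel S x₂ L₂ y y', orbRel S, ?_⟩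
  have hcls₁ : ∀ y, orbRel S x₁ y →
      {y' | blockRel S x₁ L₁ y y' ∨ blockRel S x₂ L₂ y y'} = {y' | blockRel S x₁ L₁ y y'} := by
    intro y hy
    ext y'
    simp only [Set.mem_setOf_eq]
    constructor
    · rintro (h | h)
      · exact h
      · exact (hno y hy (a2 y y' h).1).elim
    · exact Or.inl
  have hcls₂ : ∀ y, orbRel S x₂ y →
      {y' | blockRel S x₁ L₁ y y' ∨ blockRel S x₂ L₂ y y'} = {y' | blockRel S x₂ L₂ y y'} := by
    intro y hy
    ext y'
    simp only [Set.mem_setOf_eq]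
    constructor
    · rintro (h | h)
      · exact (hno y (a1 y y' h).1 hy).elim
      · exact h
    · exact Or.inr
  refine
    { eqv₁ := ⟨?_, ?_, ?_⟩
      eqv₂ := orbRel_equivalence S
      inv₁ := ?_
      inv₂ := fun s hs x y h => orbRel_smul hs h
      le := ?_
      card₁ := ?_
      room := ?_
      ne_top := ⟨x₁, x₂, hdisj⟩ }
  · intro y
    rcases hcov y with h | h
    · exact Or.inl (b1 y h)
    · exact Or.inr (b2 y h)
  · rintro y y' (h | h)
    · exact Or.inl (c1 y y' h)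
    · exact Or.inr (c2 y y' h)
  · rintro y y' y'' (h | h) (h' | h')
    · exact Or.inl (d1 y y' y'' h h')
    · exact (hno y' (orbRel_trans (a1 y y' h).1 (a1 y y' h).2) (a2 y' y'' h').1).elim
    · exact (hno y' (a1 y' y'' h').1 (orbRel_trans (a2 y y' h).1 (a2 y y' h).2)).elim
    · exact Or.inr (d2 y y' y'' h h')
  · rintro s hs y y' (h | h)
    · exact Or.inl (e1 s hs y y' h)
    · exact Or.inr (e2 s hs y y' h)
  · rintro y y' (h | h)
    · exact (a1 y y' h).2
    · exact (a2 y y' h).2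
  · intro y
    rcases hcov y with h | h
    · show {y' | blockRel S x₁ L₁ y y' ∨ blockRel S x₂ L₂ y y'}.ncard = 3
      rw [hcls₁ y h]; exact hn₁ y h
    · show {y' | blockRel S x₁ L₁ y y' ∨ blockRel S x₂ L₂ y y'}.ncard = 3
      rw [hcls₂ y h]; exact hn₂ y h
  · -- room
    by_contra hcon
    push Not at hcon
    have hsub : {y | orbRel S x₁ y} ⊆ {y' | blockRel S x₁ L₁ x₁ y' ∨ blockRel S x₂ L₂ x₁ y'} := by
      intro y hy
      exact hcon x₁ y hy
    have hle := Set.ncard_le_ncard hsub (Set.toFinite _)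
    rw [hcls₁ x₁ (orbRel_refl S x₁), hn₁ x₁ (orbRel_refl S x₁)] at hle
    omega

end Perm

end Cfsg.Agent.Lib.Helper28.PMinAlt
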