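import Mathlib
import Cfsg.Agent.Lib.Helper28.PMinAltC9a
import Cfsg.Agent.Lib.Helper21.PMinAltC6
import Cfsg.Agent.Lib.Helper96.PMinAltC8

/-!
# K-PMinAlt-C9: two orbits (sizes `≥ 9`, `≥ 3`) give a good pair
-/

set_option autoImplicit false

namespace Cfsg.Agent.Lib.Helper28.PMinAlt

open Equiv Equiv.Perm
open Cfsg.Agent.Lib.Helper06.PMinAlt

section Perm
variable {α : Type*} [Fintype α] [DecidableEq α]

/-- **K-PMinAlt-C9.** -/
theorem exists_goodPair_two_orbits (S : Subgroup (Perm α)) (hS : IsPGroup 3 S) (x₁ x₂ : α)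
    (hdisj : ¬ orbRel S x₁ x₂) (hcov : ∀ y, orbRel S x₁ y ∨ orbRel S x₂ y)
    (h1 : 9 ≤ {y | orbRel S x₁ y}.ncard) (h2 : 3 ≤ {y | orbRel S x₂ y}.ncard) :
    ∃ r₁ r₂ : α → α → Prop, GoodPair S r₁ r₂ :=
  exists_goodPair_two_orbits_of
    (fun S L x hL hstab => Cfsg.Agent.Lib.Helper21.PMinAlt.blockRel_props S L x hL hstab)
    (fun S L x hL hstab y hy => Cfsg.Agent.Lib.Helper21.PMinAlt.blockRel_ncard S L x hL hstab y hy)
    (fun S hS x hx => Cfsg.Agent.Lib.Helper96.PMinAlt.exists_ladder_one S hS x hx)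
    S hS x₁ x₂ hdisj hcov h1 h2

end Perm

end Cfsg.Agent.Lib.Helper28.PMinAlt
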