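import Mathlib
import Cfsg.Prelude.Def_Involutions
import Cfsg.Agent.Lib.Helper41.Conj

set_option autoImplicit false

/-!
# Strongly embedded subgroups: the elementary counting theory (Bender / Gorenstein 9.2.1)
-/

namespace Cfsg.Agent.Lib.Helper28

open Cfsg Cfsg.Agent.Lib.Helper41

variable {G : Type*} [Group G]

theorem orderOf_conj_eq (g t : G) : orderOf (g * t * g⁻¹) = orderOf t := by
  have := MulEquiv.orderOf_eq (MulAut.conj g) t
  rwa [MulAut.conj_apply] at this

theorem inv_eq_self_of_orderOf_two {t : G} (ht : orderOf t = 2) : t⁻¹ = t := by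
  have h : t ^ 2 = 1 := by rw [← ht]; exact pow_orderOf_eq_one t
  rw [inv_eq_iff_mul_eq_one, ← sq, h]

theorem mul_self_of_orderOf_two {t : G} (ht : orderOf t = 2) : t * t = 1 := by
  have h : t ^ 2 = 1 := by rw [← ht]; exact pow_orderOf_eq_one t
  rwa [sq] at h

theorem ne_one_of_orderOf_two {t : G} (ht : orderOf t = 2) : t ≠ 1 := by
  rintro rfl
  simp at ht

/-- If `r` inverts `c` and has odd order, then `c = c⁻¹`. -/
theorem eq_inv_of_odd_order_inverts {r c : G} (h : r * c * r⁻¹ = c⁻¹) (hodd : Odd (orderOf r)) :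
    c = c⁻¹ := by
  obtain ⟨k, hk⟩ := hodd
  have h2 : Commute (r ^ 2) c := by
    have h' : r * c⁻¹ * r⁻¹ = c := by
      have := congrArg Inv.inv h
      simpa [mul_assoc] using this
    rw [sq]
    show r * r * c = c * (r * r)
    calc r * r * c = r * (r * c * r⁻¹) * r := by simp [mul_assoc]
      _ = r * c⁻¹ * r⁻¹ * (r * r) := by rw [h]; simp [mul_assoc]
      _ = c * (r * r) := by rw [h']
  have h3 : Commute (r ^ (2 * k)) c := by
    rw [pow_mul]; exact h2.pow_left k
  have h4 : r ^ (2 * k) = r⁻¹ := by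
    have : r ^ (2 * k) * r = 1 := by
      rw [← pow_succ, ← hk]; exact pow_orderOf_eq_one r
    exact eq_inv_of_mul_eq_one_left this
  rw [h4] at h3
  have h5 : Commute r c := by
    have := h3.inv_left
    simpa using this
  have : r * c * r⁻¹ = c := by
    rw [h5.eq]; group
  rw [← h, this]

theorem eq_one_of_eq_inv_of_odd {c : G} (h : c = c⁻¹) (hodd : Odd (orderOf c)) : c = 1 := by
  have h2 : c ^ 2 = 1 := by
    rw [sq]
    nth_rewrite 1 [h]
    exact inv_mul_cancel c
  have hd : orderOf c ∣ 2 := orderOf_dvd_of_pow_eq_one h2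
  have hco : Nat.Coprime (orderOf c) 2 := Nat.coprime_two_right.2 hodd
  have : orderOf c = 1 := Nat.Coprime.eq_one_of_dvd hco hd
  exact orderOf_eq_one_iff.1 this

/-- Two involutions whose product has odd order are conjugate, by a power of the product. -/
theorem exists_conj_of_odd_orderOf_mul {t u : G} (ht : orderOf t = 2) (hu : orderOf u = 2)
    (hodd : Odd (orderOf (t * u))) : ∃ c ∈ Subgroup.zpowers (t * u), c * t * c⁻¹ = u := by
  obtain ⟨k, hk⟩ := hodd
  have htt := mul_self_of_orderOf_two ht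
  have huu := mul_self_of_orderOf_two hu
  have hti := inv_eq_self_of_orderOf_two ht
  have hui := inv_eq_self_of_orderOf_two hu
  set r := t * u with hr
  -- t r t⁻¹ = r⁻¹
  have h1 : t * r * t⁻¹ = r⁻¹ := by
    rw [hr, mul_inv_rev, hti, hui]
    calc t * (t * u) * t = (t * t) * u * t := by group
      _ = u * t := by rw [htt, one_mul]
  have h2 : ∀ n : ℕ, t * r ^ n * t⁻¹ = (r ^ n)⁻¹ := by
    intro n
    have : t * r ^ n * t⁻¹ = (t * r * t⁻¹) ^ n := by
      rw [conj_pow]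
    rw [this, h1, inv_pow]
  refine ⟨r ^ k, Subgroup.pow_mem _ (Subgroup.mem_zpowers r) k, ?_⟩
  -- r^k t r^{-k} = t r^{-2k} = t r
  have h3 : r ^ (2 * k) * r = 1 := by
    rw [← pow_succ, ← hk]; exact pow_orderOf_eq_one r
  have h4 : (r ^ k)⁻¹ * (r ^ k)⁻¹ = r := by
    have : r ^ (2 * k) = r ^ k * r ^ k := by rw [two_mul, pow_add]
    rw [this] at h3
    have h5 : r = (r ^ k * r ^ k)⁻¹ := eq_inv_of_mul_eq_one_right h3
    have h5' : (r ^ k)⁻¹ * (r ^ k)⁻¹ = (r ^ k * r ^ k)⁻¹ := by rw [mul_inv_rev]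
    rw [h5']; exact h5.symm
  have h6 : t * (r ^ k)⁻¹ = r ^ k * t := by
    have := h2 k
    calc t * (r ^ k)⁻¹ = t * (t * r ^ k * t⁻¹) := by rw [this]
      _ = (t * t) * r ^ k * t⁻¹ := by simp [mul_assoc]
      _ = r ^ k * t := by rw [htt, one_mul, hti]
  calc r ^ k * t * (r ^ k)⁻¹ = t * (r ^ k)⁻¹ * (r ^ k)⁻¹ := by rw [h6]
    _ = t * ((r ^ k)⁻¹ * (r ^ k)⁻¹) := by group
    _ = t * r := by rw [h4]
    _ = u := by rw [hr, ← mul_assoc, htt, one_mul]

section se

variable [Finite G] {H : Subgroup G} (hH : IsStronglyEmbedded H)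

include hH

omit [Finite G] in
/-- Fusion control: if an involution `t` of `H` has `g t g⁻¹ ∈ H`, then `g ∈ H`. -/
theorem se_mem_of_conj_mem {t g : G} (ht : orderOf t = 2) (htH : t ∈ H)
    (hg : g * t * g⁻¹ ∈ H) : g ∈ H := by
  by_contra hgH
  have hodd := hH.2.2 g hgH
  have hmem : g * t * g⁻¹ ∈ H ⊓ lc g H := ⟨hg, conj_mem_lc htH⟩
  have hord : orderOf (g * t * g⁻¹) = 2 := by rw [orderOf_conj_eq, ht]
  have h2 : 2 ∣ Nat.card ↥(H ⊓ lc g H) := by
    have := orderOf_dvd_natCard (⟨_, hmem⟩ : ↥(H ⊓ lc g H))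
    rwa [Subgroup.orderOf_mk, hord] at this
  exact (Nat.not_even_iff_odd.2 hodd) (even_iff_two_dvd.2 h2)

theorem se_exists_involution : ∃ t : G, orderOf t = 2 ∧ t ∈ H := by
  have h2 : 2 ∣ Nat.card H := even_iff_two_dvd.1 hH.2.1
  obtain ⟨t, ht⟩ := exists_prime_orderOf_dvd_card' 2 h2
  exact ⟨t, by rw [Subgroup.orderOf_coe]; exact ht, t.2⟩

/-- The product of an involution in `H` and an involution outside `H` has odd order. -/
theorem se_odd_orderOf_mul {t u : G} (ht : orderOf t = 2) (htH : t ∈ H) (hu : orderOf u = 2)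
    (huH : u ∉ H) : Odd (orderOf (t * u)) := by
  rw [← Nat.not_even_iff_odd]
  rintro ⟨k, hk⟩
  have htt := mul_self_of_orderOf_two ht
  have huu := mul_self_of_orderOf_two hu
  have hti := inv_eq_self_of_orderOf_two ht
  have hui := inv_eq_self_of_orderOf_two hu
  set r := t * u with hr
  have hr0 : 0 < orderOf r := orderOf_pos r
  have hk0 : 0 < k := by omega
  -- z = r^k is an involution
  have hz : orderOf (r ^ k) = 2 := by
    rw [orderOf_pow' r hk0.ne', hk]
    have hg : Nat.gcd (k + k) k = k := by simp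
    rw [hg]
    exact Nat.div_eq_of_eq_mul_left hk0 (by ring)
  have hzi := inv_eq_self_of_orderOf_two hz
  have h1 : t * r * t⁻¹ = r⁻¹ := by
    rw [hr, mul_inv_rev, hti, hui]
    calc t * (t * u) * t = (t * t) * u * t := by group
      _ = u * t := by rw [htt, one_mul]
  have h1' : u * r * u⁻¹ = r⁻¹ := by
    rw [hr, mul_inv_rev, hti, hui]
    calc u * (t * u) * u = u * t * (u * u) := by group
      _ = u * t := by rw [huu, mul_one]
  have h2 : t * r ^ k * t⁻¹ = r ^ k := by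
    have : t * r ^ k * t⁻¹ = (t * r * t⁻¹) ^ k := by rw [conj_pow]
    rw [this, h1, inv_pow, hzi]
  have h2' : u * r ^ k * u⁻¹ = r ^ k := by
    have : u * r ^ k * u⁻¹ = (u * r * u⁻¹) ^ k := by rw [conj_pow]
    rw [this, h1', inv_pow, hzi]
  -- z centralizes t, so z ∈ H
  have h3 : r ^ k * t * (r ^ k)⁻¹ = t := by
    calc r ^ k * t * (r ^ k)⁻¹ = (t * r ^ k * t⁻¹) * t * (r ^ k)⁻¹ := by rw [h2]
      _ = t := by group
  have hzH : r ^ k ∈ H := se_mem_of_conj_mem hH ht htH (by rw [h3]; exact htH)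
  exact huH (se_mem_of_conj_mem hH hz hzH (by rw [h2']; exact hzH))

/-- Every involution of `G` is conjugate to any given involution of `H`. -/
theorem se_exists_conj {t u : G} (ht : orderOf t = 2) (htH : t ∈ H) (hu : orderOf u = 2)
    (huH : u ∉ H) : ∃ c : G, c * t * c⁻¹ = u := by
  obtain ⟨c, _, hc⟩ := exists_conj_of_odd_orderOf_mul ht hu (se_odd_orderOf_mul hH ht htH hu huH)
  exact ⟨c, hc⟩

/-- Every involution lies in a conjugate of `H`. -/
theorem se_exists_fixed (i : G) (hi : orderOf i = 2) : ∃ a : G, a⁻¹ * i * a ∈ H := by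
  by_cases hiH : i ∈ H
  · exact ⟨1, by simpa using hiH⟩
  · obtain ⟨t, ht, htH⟩ := se_exists_involution hH
    obtain ⟨c, hc⟩ := se_exists_conj hH ht htH hi hiH
    refine ⟨c, ?_⟩
    rw [← hc]
    have : c⁻¹ * (c * t * c⁻¹) * c = t := by group
    rw [this]; exact htH

omit [Finite G] in
/-- ... and the conjugate (as a coset) is unique. -/
theorem se_fixed_unique {i a b : G} (hi : orderOf i = 2) (ha : a⁻¹ * i * a ∈ H)
    (hb : b⁻¹ * i * b ∈ H) : a⁻¹ * b ∈ H := by
  have hord : orderOf (b⁻¹ * i * b) = 2 := by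
    have := orderOf_conj_eq b⁻¹ i
    rw [inv_inv] at this
    rw [this, hi]
  apply se_mem_of_conj_mem hH hord hb
  have : a⁻¹ * b * (b⁻¹ * i * b) * (a⁻¹ * b)⁻¹ = a⁻¹ * i * a := by group
  rw [this]; exact ha

end se

section counting

/-- involutions in the coset `q` -/
abbrev InvCoset (H : Subgroup G) (q : G ⧸ H) : Type _ :=
  {i : G // orderOf i = 2 ∧ (QuotientGroup.mk i : G ⧸ H) = q}

/-- involutions in `H` -/
abbrev InvIn (H : Subgroup G) : Type _ := {t : G // orderOf t = 2 ∧ t ∈ H}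

/-- involutions fixing the coset `z` -/
abbrev InvFix (H : Subgroup G) (z : G ⧸ H) : Type _ := {i : G // orderOf i = 2 ∧ i • z = z}

theorem smul_mk_eq_iff {H : Subgroup G} (i a b : G) :
    i • (QuotientGroup.mk a : G ⧸ H) = QuotientGroup.mk b ↔ a⁻¹ * i⁻¹ * b ∈ H := by
  rw [MulAction.Quotient.smul_mk, QuotientGroup.eq]
  simp [mul_assoc]

theorem smul_mk_self_iff {H : Subgroup G} (i a : G) :
    i • (QuotientGroup.mk a : G ⧸ H) = QuotientGroup.mk a ↔ a⁻¹ * i * a ∈ H := by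
  rw [smul_mk_eq_iff, ← inv_mem_iff]
  simp [mul_assoc]

variable [Finite G] {H : Subgroup G} (hH : IsStronglyEmbedded H)

omit [Finite G] in
theorem card_invFix (z : G ⧸ H) : Nat.card (InvFix H z) = Nat.card (InvIn H) := by
  induction z using QuotientGroup.induction_on with
  | H a =>
    refine Nat.card_congr ⟨fun i => ⟨a⁻¹ * i.1 * a, ?_, ?_⟩, fun t => ⟨a * t.1 * a⁻¹, ?_, ?_⟩, ?_, ?_⟩
    · have := orderOf_conj_eq a⁻¹ i.1
      rw [inv_inv] at this
      rw [this, i.2.1]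
    · exact (smul_mk_self_iff _ _).1 i.2.2
    · rw [orderOf_conj_eq, t.2.1]
    · rw [smul_mk_self_iff]
      have : a⁻¹ * (a * t.1 * a⁻¹) * a = t.1 := by group
      rw [this]; exact t.2.2
    · intro i; apply Subtype.ext; simp [mul_assoc]
    · intro t; apply Subtype.ext; simp [mul_assoc]

include hH in
theorem card_involutions_eq_sum_fix :
    Nat.card {i : G // orderOf i = 2} = Nat.card (G ⧸ H) * Nat.card (InvIn H) := by
  classical
  have := Fintype.ofFinite (G ⧸ H)
  have e : (Σ z : G ⧸ H, InvFix H z) ≃ {i : G // orderOf i = 2} := by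
    refine Equiv.ofBijective (fun p => ⟨p.2.1, p.2.2.1⟩) ⟨?_, ?_⟩
    · rintro ⟨z, i, hi, hz⟩ ⟨z', i', hi', hz'⟩ h
      have h' : i = i' := congrArg Subtype.val h
      subst h'
      have hzz : z = z' := by
        induction z using QuotientGroup.induction_on with
        | H a =>
          induction z' using QuotientGroup.induction_on with
          | H b =>
            rw [QuotientGroup.eq]
            exact se_fixed_unique hH hi ((smul_mk_self_iff _ _).1 hz) ((smul_mk_self_iff _ _).1 hz')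
      subst hzz
      rfl
    · rintro ⟨i, hi⟩
      obtain ⟨a, ha⟩ := se_exists_fixed hH i hi
      exact ⟨⟨QuotientGroup.mk a, i, hi, (smul_mk_self_iff _ _).2 ha⟩, rfl⟩
  rw [← Nat.card_congr e, Nat.card_sigma]
  simp only [card_invFix, Finset.sum_const, Finset.card_univ, smul_eq_mul,
    Nat.card_eq_fintype_card]

theorem card_involutions_eq_sum_coset [Fintype (G ⧸ H)] :
    Nat.card {i : G // orderOf i = 2} = ∑ q : G ⧸ H, Nat.card (InvCoset H q) := by
  have e : (Σ q : G ⧸ H, InvCoset H q) ≃ {i : G // orderOf i = 2} :=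
    ⟨fun p => ⟨p.2.1, p.2.2.1⟩, fun i => ⟨QuotientGroup.mk i.1, i.1, i.2, rfl⟩, by
      rintro ⟨q, i, hi, rfl⟩; rfl, by
      rintro ⟨i, hi⟩; rfl⟩
  rw [← Nat.card_congr e, Nat.card_sigma]

include hH in
/-- The injectivity at the heart of the count. -/
theorem se_inj {t i j : G} (ht : orderOf t = 2) (htH : t ∈ H) (hi : orderOf i = 2)
    (hiH : i ∉ H) (hj : orderOf j = 2) (hij : i⁻¹ * j ∈ H)
    (hc : (i⁻¹ * j) * t * (i⁻¹ * j)⁻¹ = t) : i = j := by
  have hii := inv_eq_self_of_orderOf_two hi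
  have hji := inv_eq_self_of_orderOf_two hj
  have hi2 := mul_self_of_orderOf_two hi
  have hti := inv_eq_self_of_orderOf_two ht
  set c := i⁻¹ * j with hcdef
  have hcinv : c⁻¹ = j * i := by rw [hcdef, mul_inv_rev, inv_inv, hji]
  have hci : i * c * i⁻¹ = c⁻¹ := by
    rw [hcinv, hcdef, hii]
    calc i * (i * j) * i = (i * i) * j * i := by simp [mul_assoc]
      _ = j * i := by rw [hi2, one_mul]
  have hci' : i⁻¹ * c * i = c⁻¹ := by
    rw [hii]; rw [hii] at hci; exact hci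
  have hcD : c ∈ H ⊓ lc i H := by
    refine Subgroup.mem_inf.2 ⟨hij, ?_⟩
    rw [mem_lc, hci']
    exact H.inv_mem hij
  have hoddD := hH.2.2 i hiH
  have hcodd : Odd (orderOf c) := by
    have h1 := orderOf_dvd_natCard (⟨c, hcD⟩ : ↥(H ⊓ lc i H))
    rw [Subgroup.orderOf_mk] at h1
    exact Odd.of_dvd_nat hoddD h1
  have hrodd := se_odd_orderOf_mul hH ht htH hi hiH
  have htc : t * c⁻¹ * t⁻¹ = c⁻¹ := by
    have h1 : c * t = t * c := by
      calc c * t = (c * t * c⁻¹) * c := by simp [mul_assoc]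
        _ = t * c := by rw [hc]
    have h2 : t * c⁻¹ = c⁻¹ * t := by
      calc t * c⁻¹ = c⁻¹ * (c * t) * c⁻¹ := by simp
        _ = c⁻¹ * (t * c) * c⁻¹ := by rw [h1]
        _ = c⁻¹ * t := by simp [mul_assoc]
    rw [h2]; simp
  have hrc : (t * i) * c * (t * i)⁻¹ = c⁻¹ := by
    calc (t * i) * c * (t * i)⁻¹ = t * (i * c * i⁻¹) * t⁻¹ := by simp [mul_assoc]
      _ = c⁻¹ := by rw [hci, htc]
  have hc1 : c = 1 := eq_one_of_eq_inv_of_odd (eq_inv_of_odd_order_inverts hrc hrodd) hcodd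
  have : i⁻¹ * j = 1 := hc1
  rw [inv_mul_eq_one] at this
  exact this

/-- The map `i ↦ (u⁻¹ i) t (u⁻¹ i)⁻¹` from the involutions of the coset `uH` to those of `H`. -/
def cosetMap (H : Subgroup G) (u t : G) (ht : orderOf t = 2) (htH : t ∈ H)
    (i : InvCoset H (QuotientGroup.mk u)) : InvIn H :=
  ⟨(u⁻¹ * i.1) * t * (u⁻¹ * i.1)⁻¹, by rw [orderOf_conj_eq, ht], by
    have h : u⁻¹ * i.1 ∈ H := QuotientGroup.eq.1 i.2.2.symm
    exact H.mul_mem (H.mul_mem h htH) (H.inv_mem h)⟩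

include hH in
theorem cosetMap_injective {u t : G} (huH : u ∉ H) (ht : orderOf t = 2)
    (htH : t ∈ H) : Function.Injective (cosetMap H u t ht htH) := by
  rintro ⟨i, hi, hiq⟩ ⟨j, hj, hjq⟩ h
  have h' : (u⁻¹ * i) * t * (u⁻¹ * i)⁻¹ = (u⁻¹ * j) * t * (u⁻¹ * j)⁻¹ := congrArg Subtype.val h
  have hiH' : u⁻¹ * i ∈ H := QuotientGroup.eq.1 hiq.symm
  have hjH' : u⁻¹ * j ∈ H := QuotientGroup.eq.1 hjq.symm
  have hiH : i ∉ H := by
    intro hi'
    apply huH
    have : u⁻¹ ∈ H := by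
      have := H.mul_mem hiH' (H.inv_mem hi')
      simpa [mul_assoc] using this
    exact H.inv_mem_iff.1 this
  have hij : i⁻¹ * j ∈ H := by
    have := H.mul_mem (H.inv_mem hiH') hjH'
    have e : (u⁻¹ * i)⁻¹ * (u⁻¹ * j) = i⁻¹ * j := by group
    rwa [e] at this
  have hc : (i⁻¹ * j) * t * (i⁻¹ * j)⁻¹ = t := by
    have e : (i⁻¹ * j) * t * (i⁻¹ * j)⁻¹ =
        (u⁻¹ * i)⁻¹ * ((u⁻¹ * j) * t * (u⁻¹ * j)⁻¹) * (u⁻¹ * i) := by group
    rw [e, ← h']; group
  apply Subtype.ext
  exact se_inj hH ht htH hi hiH hj hij hc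

include hH in
theorem card_invCoset_le (q : G ⧸ H) : Nat.card (InvCoset H q) ≤ Nat.card (InvIn H) := by
  by_cases hne : Nonempty (InvCoset H q)
  · obtain ⟨u, hu, rfl⟩ := hne
    by_cases huH : u ∈ H
    · -- the coset is `H` itself
      apply Nat.card_le_card_of_injective (fun i : InvCoset H (QuotientGroup.mk u) =>
        (⟨i.1, i.2.1, by
          have h : u⁻¹ * i.1 ∈ H := QuotientGroup.eq.1 i.2.2.symm
          have := H.mul_mem huH h
          simpa using this⟩ : InvIn H))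
      intro i j h
      apply Subtype.ext
      have h' := congrArg Subtype.val h
      exact h'
    · obtain ⟨t, ht, htH⟩ := se_exists_involution hH
      exact Nat.card_le_card_of_injective _ (cosetMap_injective hH huH ht htH)
  · rw [not_nonempty_iff] at hne
    rw [Nat.card_of_isEmpty]
    exact Nat.zero_le _

include hH in
/-- **Bender's count**: every coset of a strongly embedded subgroup `H` contains exactly as many
involutions as `H`. -/
theorem card_invCoset (q : G ⧸ H) : Nat.card (InvCoset H q) = Nat.card (InvIn H) := by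
  classical
  have := Fintype.ofFinite (G ⧸ H)
  have h1 := card_involutions_eq_sum_fix hH
  have h2 := card_involutions_eq_sum_coset (H := H)
  have h3 : ∑ q : G ⧸ H, Nat.card (InvCoset H q) = ∑ _q : G ⧸ H, Nat.card (InvIn H) := by
    rw [← h2, h1]
    simp [Nat.card_eq_fintype_card]
  exact (Finset.sum_eq_sum_iff_of_le (fun q _ => card_invCoset_le hH q)).1 h3 q (Finset.mem_univ q)

include hH in
/-- Any two involutions of `H` are conjugate by an element of `D = H ∩ uHu⁻¹` inverted by `u`. -/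
theorem se_exists_conj_in_D {u s t : G} (hu : orderOf u = 2) (huH : u ∉ H)
    (hs : orderOf s = 2) (hsH : s ∈ H) (ht : orderOf t = 2) (htH : t ∈ H) :
    ∃ d ∈ H ⊓ lc u H, d * s * d⁻¹ = t ∧ u * d * u⁻¹ = d⁻¹ := by
  have hinj := cosetMap_injective hH huH hs hsH
  have hbij := hinj.bijective_of_nat_card_le (le_of_eq (card_invCoset hH (QuotientGroup.mk u)).symm)
  obtain ⟨⟨i, hi, hiq⟩, hit⟩ := hbij.2 ⟨t, ht, htH⟩
  have hd : (u⁻¹ * i) * s * (u⁻¹ * i)⁻¹ = t := congrArg Subtype.val hit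
  have hdH : u⁻¹ * i ∈ H := QuotientGroup.eq.1 hiq.symm
  have hui := inv_eq_self_of_orderOf_two hu
  have hii := inv_eq_self_of_orderOf_two hi
  have hinv : u * (u⁻¹ * i) * u⁻¹ = (u⁻¹ * i)⁻¹ := by
    rw [mul_inv_rev, inv_inv, hii]
    simp
    exact hui
  refine ⟨u⁻¹ * i, Subgroup.mem_inf.2 ⟨hdH, ?_⟩, hd, hinv⟩
  rw [mem_lc]
  have : u⁻¹ * (u⁻¹ * i) * u = u * (u⁻¹ * i) * u⁻¹ := by rw [hui]
  rw [this, hinv]
  exact H.inv_mem hdH

end counting

end Cfsg.Agent.Lib.Helper28
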