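import Mathlib
import Cfsg.Agent.Lib.Helper28.ZassConv
import Cfsg.Agent.Lib.Helper28.StronglyEmbedded

set_option autoImplicit false

/-!
# Zassenhaus groups of odd degree are simple
-/

namespace Cfsg.Agent.Lib.Helper28

open MulAction Cfsg Cfsg.Agent.Lib.Helper41

section odd

variable {G Ω : Type*} [Group G] [MulAction G Ω]

/-- an involution of a Zassenhaus group of odd degree has exactly one fixed point -/
theorem ZPre.invol_fixed_unique [Finite Ω] (h : ZPre G Ω) (hodd : Odd (Nat.card Ω)) {i : G}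
    (hi : i * i = 1) (hi1 : i ≠ 1) : ∃! x : Ω, i • x = x := by
  classical
  have hP : IsPGroup 2 (Subgroup.zpowers i) := by
    rintro ⟨g, hg⟩
    refine ⟨1, ?_⟩
    obtain ⟨k, rfl⟩ := Subgroup.mem_zpowers_iff.1 hg
    apply Subtype.ext
    show (i ^ k) ^ 2 ^ 1 = 1
    rw [pow_one, ← zpow_natCast, ← zpow_mul, mul_comm, zpow_mul, zpow_natCast, sq, hi, one_zpow]
  have hmod := hP.card_modEq_card_fixedPoints Ω
  have hfix : ∀ x : Ω, x ∈ fixedPoints (Subgroup.zpowers i) Ω ↔ i • x = x := by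
    intro x
    rw [mem_fixedPoints]
    constructor
    · intro hx; exact hx ⟨i, Subgroup.mem_zpowers i⟩
    · rintro hx ⟨g, hg⟩
      obtain ⟨k, rfl⟩ := Subgroup.mem_zpowers_iff.1 hg
      have : i ∈ stabilizer G x := hx
      exact Subgroup.zpow_mem _ this k
  have hoddF : Odd (Set.ncard (fixedPoints (Subgroup.zpowers i) Ω)) := by
    rw [← Nat.card_coe_set_eq]
    rw [Nat.odd_iff] at hodd ⊢
    rw [← hodd]
    exact hmod.symm
  have hpos : 0 < Set.ncard (fixedPoints (Subgroup.zpowers i) Ω) := hoddF.pos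
  obtain ⟨x, hx⟩ := (Set.ncard_pos (Set.toFinite _)).1 hpos
  refine ⟨x, (hfix x).1 hx, ?_⟩
  intro y hy
  by_contra hne
  have h1 : 1 < Set.ncard (fixedPoints (Subgroup.zpowers i) Ω) :=
    (Set.one_lt_ncard_iff (Set.toFinite _)).2 ⟨y, x, (hfix y).2 hy, hx, hne⟩
  have h2 : 2 < Set.ncard (fixedPoints (Subgroup.zpowers i) Ω) := by
    rcases hoddF with ⟨m, hm⟩
    omega
  obtain ⟨a, b, c, ha, hb, hc, hab, hac, hbc⟩ := (Set.two_lt_ncard_iff (Set.toFinite _)).1 h2
  exact hi1 (h.three i a b c hab hbc hac ((hfix a).1 ha) ((hfix b).1 hb) ((hfix c).1 hc))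

/-- an element of order two is an involution in the elementary sense -/
theorem mul_self_and_ne_one_of_orderOf_two {t : G} (ht : orderOf t = 2) : t * t = 1 ∧ t ≠ 1 :=
  ⟨mul_self_of_orderOf_two ht, ne_one_of_orderOf_two ht⟩

/-- fixed-point-free (off `c`) elements of the point stabilizer lie in every nontrivial normal
subgroup -/
theorem ZPre.fpf_mem_normal [Finite Ω] (h : ZPre G Ω) (hreg : ZReg G Ω)
    (N : Subgroup G) [hNn : N.Normal] (hN : N ≠ ⊥) {c : Ω} {x : G} (hxc : x • c = c)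
    (hx : ∀ d : Ω, d ≠ c → x • d ≠ d) : x ∈ N := by
  obtain ⟨K, hKle, hKmem, hKtrans, hKdich⟩ := h.exists_kernel c
  obtain ⟨b, hbc⟩ : ∃ b : Ω, c ≠ b := by
    obtain ⟨g₀, hg₀, a', b', hab', -, -⟩ := h.two
    by_cases ha' : c = a'
    · exact ⟨b', fun hh => hab' (ha'.symm.trans hh)⟩
    · exact ⟨a', ha'⟩
  obtain ⟨n, hnN, hn1, hna, hnb⟩ := h.normal_two_stab_ne hreg N hN hbc
  have hKN : K ≤ N ⊓ stabilizer G c := by
    rcases hKdich (N ⊓ stabilizer G c) inf_le_right (by
      intro x hx l hl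
      exact ⟨hNn.conj_mem l hl.1 x, (stabilizer G c).mul_mem ((stabilizer G c).mul_mem hx hl.2)
        ((stabilizer G c).inv_mem hx)⟩) with hh | hh
    · exfalso
      have hnK : n ∈ K := hh ⟨hnN, hna⟩
      rcases (hKmem n hna).1 hnK with h1 | h1
      · exact hn1 h1
      · exact h1 b (Ne.symm hbc) hnb
    · exact hh
  exact (hKN ((hKmem x hxc).2 (Or.inr hx))).1

/-- every involution lies in every nontrivial normal subgroup -/
theorem ZPre.invol_mem_normal [Finite Ω] (h : ZPre G Ω) (hreg : ZReg G Ω) (hodd : Odd (Nat.card Ω))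
    (N : Subgroup G) [hNn : N.Normal] (hN : N ≠ ⊥) {t : G} (ht : orderOf t = 2) : t ∈ N := by
  obtain ⟨htt, ht1⟩ := mul_self_and_ne_one_of_orderOf_two ht
  obtain ⟨c, hc, huniq⟩ := h.invol_fixed_unique hodd htt ht1
  exact h.fpf_mem_normal hreg N hN hc (fun d hd hh => hd (huniq d hh))

/-- the point stabilizer is strongly embedded -/
theorem ZPre.stabilizer_stronglyEmbedded [Finite Ω] (h : ZPre G Ω) (hodd : Odd (Nat.card Ω))
    (a : Ω) : IsStronglyEmbedded (stabilizer G a) := by
  classical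
  have hfin : Finite G := h.finite
  obtain ⟨b, hba⟩ : ∃ b : Ω, a ≠ b := by
    obtain ⟨g₀, hg₀, a', b', hab', -, -⟩ := h.two
    by_cases ha' : a = a'
    · exact ⟨b', fun hh => hab' (ha'.symm.trans hh)⟩
    · exact ⟨a', ha'⟩
  refine ⟨?_, ?_, ?_⟩
  · intro htop
    obtain ⟨g, hg⟩ := h.trans1 a b
    have : g ∈ stabilizer G a := by rw [htop]; exact Subgroup.mem_top g
    exact hba (this.symm.trans hg)
  · -- an involution in `G`
    obtain ⟨g, hga, hgb⟩ := h.trans2 a b b a hba (Ne.symm hba)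
    have h2 : 2 ∣ orderOf g := by
      by_contra hnd
      have hoddg : Odd (orderOf g) := by
        rw [← Nat.not_even_iff_odd, even_iff_two_dvd]; exact hnd
      obtain ⟨k, hk⟩ := hoddg
      have hg2 : (g ^ 2) • a = a := by rw [sq, mul_smul, hga, hgb]
      have hg2k : (g ^ (2 * k)) • a = a := by
        rw [pow_mul]
        have : g ^ 2 ∈ stabilizer G a := hg2
        exact Subgroup.pow_mem _ this k
      have : g ^ (2 * k + 1) = 1 := by rw [← hk]; exact pow_orderOf_eq_one g
      have h3 : (g ^ (2 * k + 1)) • a = b := by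
        rw [pow_succ', mul_smul, hg2k, hga]
      rw [this, one_smul] at h3
      exact hba h3
    have h2G : 2 ∣ Nat.card G := h2.trans (orderOf_dvd_natCard g)
    obtain ⟨t, ht⟩ := exists_prime_orderOf_dvd_card' 2 h2G
    obtain ⟨htt, ht1⟩ := mul_self_and_ne_one_of_orderOf_two ht
    obtain ⟨c, hc, -⟩ := h.invol_fixed_unique hodd htt ht1
    obtain ⟨x, hx⟩ := h.trans1 c a
    have hmem : x * t * x⁻¹ ∈ stabilizer G a := by
      show (x * t * x⁻¹) • a = a
      rw [mul_smul, mul_smul, ← hx, inv_smul_smul, hc]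
    have hord : orderOf (x * t * x⁻¹) = 2 := by rw [orderOf_conj_eq, ht]
    have := orderOf_dvd_natCard (⟨_, hmem⟩ : stabilizer G a)
    rw [Subgroup.orderOf_mk, hord] at this
    exact even_iff_two_dvd.2 this
  · intro g hg
    rw [← Nat.not_even_iff_odd, even_iff_two_dvd]
    intro h2
    obtain ⟨t, ht⟩ := exists_prime_orderOf_dvd_card' 2 h2
    have ht' : orderOf (t : G) = 2 := by rw [Subgroup.orderOf_coe]; exact ht
    obtain ⟨htt, ht1⟩ := mul_self_and_ne_one_of_orderOf_two ht'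
    obtain ⟨c, hc, huniq⟩ := h.invol_fixed_unique hodd htt ht1
    have hta : (t : G) • a = a := t.2.1
    have htga : (t : G) • (g • a) = g • a := by
      have h' : (t : G) ∈ lc g (stabilizer G a) := t.2.2
      rw [mem_lc] at h'
      have h'' : (g⁻¹ * (t : G) * g) • a = a := h'
      rw [mul_smul, mul_smul] at h''
      exact inv_smul_eq_iff.1 h''
    apply hg
    show g • a = a
    exact (huniq (g • a) htga).trans (huniq a hta).symm

/-- **Zassenhaus groups of odd degree are simple.** -/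
theorem ZPre.simple_of_odd [Finite Ω] (h : ZPre G Ω) (hreg : ZReg G Ω) (hodd : Odd (Nat.card Ω)) :
    IsSimpleGroup G := by
  classical
  have hfin : Finite G := h.finite
  obtain ⟨g₀, hg₀, a, b, hab, -, -⟩ := h.two
  have hSE := h.stabilizer_stronglyEmbedded hodd a
  refine { exists_pair_ne := ⟨g₀, 1, hg₀⟩, eq_bot_or_eq_top_of_normal := ?_ }
  intro N hNn
  by_cases hN : N = ⊥
  · exact Or.inl hN
  right
  -- an involution `t` in `H`
  obtain ⟨t, ht, htH⟩ := se_exists_involution hSE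
  have hta : t • a = a := htH
  obtain ⟨htt, ht1⟩ := mul_self_and_ne_one_of_orderOf_two ht
  obtain ⟨ct, hct, htuniq⟩ := h.invol_fixed_unique hodd htt ht1
  -- an involution `u` fixing `b`
  obtain ⟨g, hg⟩ := h.trans1 a b
  have hu : orderOf (g * t * g⁻¹) = 2 := by rw [orderOf_conj_eq, ht]
  have hub : (g * t * g⁻¹) • b = b := by
    rw [mul_smul, mul_smul, ← hg, inv_smul_smul, hta]
  generalize g * t * g⁻¹ = u at hu hub
  obtain ⟨huu, hu1⟩ := mul_self_and_ne_one_of_orderOf_two hu
  obtain ⟨cu, hcu, huniq⟩ := h.invol_fixed_unique hodd huu hu1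
  have hua : u • a ≠ a := fun hh => hab ((huniq a hh).trans (huniq b hub).symm)
  obtain ⟨c, hc_def⟩ : ∃ c : Ω, c = u • a := ⟨_, rfl⟩
  have hca : c ≠ a := by rw [hc_def]; exact hua
  have huc : u • c = a := by rw [hc_def, ← mul_smul, huu, one_smul]
  have huinv : u⁻¹ • a = c := by rw [inv_smul_eq_iff, huc]
  have huH : u ∉ stabilizer G a := fun hh => hua hh
  -- the map `InvCoset → D`
  have hφ : ∀ i : InvCoset (stabilizer G a) (QuotientGroup.mk u), (u⁻¹ * i.1) • a = a ∧
      (u⁻¹ * i.1) • c = c := by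
    rintro ⟨i, hi, hiq⟩
    have h1 : u⁻¹ * i ∈ stabilizer G a := QuotientGroup.eq.1 hiq.symm
    have h1' : (u⁻¹ * i) • a = a := h1
    refine ⟨h1', ?_⟩
    have hia : i • a = c := by
      rw [mul_smul, inv_smul_eq_iff] at h1'
      rw [h1', hc_def]
    have hii := mul_self_of_orderOf_two hi
    have hic : i • c = a := by rw [← hia, ← mul_smul, hii, one_smul]
    show (u⁻¹ * i) • c = c
    rw [mul_smul, hic, huinv]
  -- the map `D → InvIn H`
  let D : Subgroup G := stabilizer G a ⊓ stabilizer G c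
  have hψ : ∀ d : D, orderOf ((d : G) * t * (d : G)⁻¹) = 2 ∧
      (d : G) * t * (d : G)⁻¹ ∈ stabilizer G a := by
    intro d
    refine ⟨by rw [orderOf_conj_eq, ht], ?_⟩
    exact (stabilizer G a).mul_mem ((stabilizer G a).mul_mem d.2.1 htH)
      ((stabilizer G a).inv_mem d.2.1)
  have hψinj : Function.Injective
      (fun d : D => (⟨(d : G) * t * (d : G)⁻¹, hψ d⟩ : InvIn (stabilizer G a))) := by
    intro d d' hdd
    have hdd' : (d : G) * t * (d : G)⁻¹ = (d' : G) * t * (d' : G)⁻¹ := congrArg Subtype.val hdd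
    -- e = d'⁻¹ d centralizes t
    have hcomm : ((d' : G)⁻¹ * (d : G)) * t = t * ((d' : G)⁻¹ * (d : G)) := by
      calc ((d' : G)⁻¹ * (d : G)) * t = (d' : G)⁻¹ * ((d : G) * t * (d : G)⁻¹) * (d : G) := by group
        _ = (d' : G)⁻¹ * ((d' : G) * t * (d' : G)⁻¹) * (d : G) := by rw [hdd']
        _ = t * ((d' : G)⁻¹ * (d : G)) := by group
    have hea : ((d' : G)⁻¹ * (d : G)) • a = a := by
      have h1 : (d : G) • a = a := d.2.1
      have h2 : (d' : G) • a = a := d'.2.1
      rw [mul_smul, h1, inv_smul_eq_iff, h2]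
    have hec : ((d' : G)⁻¹ * (d : G)) • c = c := by
      have h1 : (d : G) • c = c := d.2.2
      have h2 : (d' : G) • c = c := d'.2.2
      rw [mul_smul, h1, inv_smul_eq_iff, h2]
    have hetc : ((d' : G)⁻¹ * (d : G)) • (t • c) = t • c := by
      rw [← mul_smul, hcomm, mul_smul, hec]
    have htc_c : t • c ≠ c := fun hh => hca ((htuniq c hh).trans (htuniq a hta).symm)
    have htc_a : t • c ≠ a := by
      intro hh
      apply hca
      have : t • c = t • a := by rw [hh, hta]
      exact smul_left_cancel t this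
    have he1 := h.three _ a c (t • c) (Ne.symm hca) (Ne.symm htc_c) (Ne.symm htc_a) hea hec hetc
    apply Subtype.ext
    calc (d : G) = (d' : G) * ((d' : G)⁻¹ * (d : G)) := by group
      _ = (d' : G) := by rw [he1, mul_one]
  have hφinj : Function.Injective
      (fun i : InvCoset (stabilizer G a) (QuotientGroup.mk u) => (⟨u⁻¹ * i.1, hφ i⟩ : D)) := by
    intro i i' hii'
    have : u⁻¹ * i.1 = u⁻¹ * i'.1 := congrArg Subtype.val hii'
    exact Subtype.ext (mul_left_cancel this)
  have hcard1 : Nat.card D ≤ Nat.card (InvIn (stabilizer G a)) :=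
    Nat.card_le_card_of_injective _ hψinj
  have hcard2 := card_invCoset hSE (QuotientGroup.mk u : G ⧸ stabilizer G a)
  have hφbij := hφinj.bijective_of_nat_card_le (by rw [hcard2]; exact hcard1)
  -- `D ≤ N`
  have huN : u ∈ N := h.invol_mem_normal hreg hodd N hN hu
  have hDN : ∀ d : G, d • a = a → d • c = c → d ∈ N := by
    intro d hda hdc
    obtain ⟨⟨i, hi, hiq⟩, hid⟩ := hφbij.2 ⟨d, hda, hdc⟩
    have hid' : u⁻¹ * i = d := congrArg Subtype.val hid
    rw [← hid']
    exact N.mul_mem (N.inv_mem huN) (h.invol_mem_normal hreg hodd N hN hi)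
  -- `G = N D`
  have hNZ : ZPre N Ω := h.normal_zpre hreg N hN
  rw [eq_top_iff]
  intro x _
  have hne : x • a ≠ x • c := fun hh => hca (smul_left_cancel x hh).symm
  obtain ⟨n, hna, hnc⟩ := hNZ.trans2 a c (x • a) (x • c) (Ne.symm hca) hne
  have hna' : (n : G) • a = x • a := hna
  have hnc' : (n : G) • c = x • c := hnc
  have hmem : (n : G)⁻¹ * x ∈ N := by
    apply hDN
    · rw [mul_smul, inv_smul_eq_iff, hna']
    · rw [mul_smul, inv_smul_eq_iff, hnc']
  have : x = (n : G) * ((n : G)⁻¹ * x) := by group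
  rw [this]
  exact N.mul_mem n.2 hmem

end odd

end Cfsg.Agent.Lib.Helper28
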