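import Mathlib
import Cfsg.Agent.Lib.Helper26.NormalPP
import Cfsg.Agent.Lib.Helper02.FrobComplement

set_option autoImplicit false

/-!
# `q`-subgroups of Frobenius complements are cyclic (`q` odd)
-/

namespace Cfsg.Agent.Lib.Helper28

section frob

variable {X : Type*} [Group X] [Finite X]

/-- `q`-subgroups (`q` odd) of a group acting fixed-point-freely are cyclic -/
theorem frob_compl_pgroup_cyclic (K H : Subgroup X) [K.Normal] (hK : K ≠ ⊥)
    (hfpf : ∀ h ∈ H, h ≠ 1 → K ⊓ Subgroup.centralizer {h} = ⊥) {q : ℕ} [hq : Fact q.Prime]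
    (hq2 : q ≠ 2) (P : Subgroup X) (hPH : P ≤ H) (hP : IsPGroup q P) : IsCyclic P := by
  by_contra hnc
  have hnc' : ¬ IsCyclic (⊤ : Subgroup P) := by
    intro h
    exact hnc (isCyclic_of_surjective (Subgroup.topEquiv (G := P)) Subgroup.topEquiv.surjective)
  obtain ⟨B, -, -, hBexp, hBcard⟩ :=
    Cfsg.Agent.Lib.Helper26.exists_normal_exp_p_sq hq2 hP (⊤ : Subgroup P) hnc'
  have hEcard : Nat.card (B.map P.subtype) = q * q := by
    rw [Subgroup.card_map_of_injective P.subtype_injective, hBcard, sq]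
  have hEP : B.map P.subtype ≤ P := Subgroup.map_subtype_le B
  have hEH : B.map P.subtype ≤ H := hEP.trans hPH
  have hEp : IsPGroup q (B.map P.subtype) := hP.to_le hEP
  have hEsolv : Group.IsSolvable (B.map P.subtype) := by
    haveI := hEp.isNilpotent
    infer_instance
  have hEcyc : IsCyclic (B.map P.subtype) :=
    Cfsg.Agent.Lib.Helper02.cyclic_of_card_mul_of_fpf K H hK hfpf _ hEH hEsolv q q hq.out hq.out
      hEcard
  obtain ⟨g, hg⟩ := hEcyc.exists_generator
  have hord : orderOf g = q * q := by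
    rw [orderOf_eq_card_of_forall_mem_zpowers hg, hEcard]
  have hgq : g ^ q = 1 := by
    obtain ⟨g', ⟨b, hb, hbg⟩⟩ := g
    apply Subtype.ext
    show g' ^ q = 1
    rw [← hbg]
    have := hBexp b hb
    show (P.subtype b) ^ q = 1
    rw [← map_pow, this, map_one]
  have hdvd : q * q ∣ q := by
    rw [← hord]; exact orderOf_dvd_of_pow_eq_one hgq
  have hq1 : 1 < q := hq.out.one_lt
  have := Nat.le_of_dvd hq.out.pos hdvd
  nlinarith

end frob

end Cfsg.Agent.Lib.Helper28
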