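import Mathlib

set_option autoImplicit false

/-!
# A Z-group of index two equal to the commutator subgroup is cyclic and inverted
-/

namespace Cfsg.Agent.Lib.Helper28

open Subgroup

section GT

variable {N : Type*} [Group N]

/-- in a group with a subgroup `D` of index 2, commutators lie in `D` -/
theorem commutator_le_of_index_two (D : Subgroup N) (hD : D.index = 2) : commutator N ≤ D := by
  rw [commutator_def, Subgroup.commutator_le]
  intro x _ y _
  rw [commutatorElement_def]
  have h1 := Subgroup.mul_mem_iff_of_index_two hD (a := x) (b := y)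
  have h2 := Subgroup.mul_mem_iff_of_index_two hD (a := x⁻¹) (b := y⁻¹)
  rw [inv_mem_iff, inv_mem_iff] at h2
  have h3 := Subgroup.mul_mem_iff_of_index_two hD (a := x * y) (b := x⁻¹ * y⁻¹)
  have : x * y * x⁻¹ * y⁻¹ = (x * y) * (x⁻¹ * y⁻¹) := by group
  rw [this, h3, h1, h2]

/-- a Z-group `D` of index two in `N` with `D ≤ N'` is cyclic and inverted by every element
outside `D` -/
theorem cyclic_inverted_of_le_commutator [Finite N] (D : Subgroup N) (hD : D.index = 2)
    [IsZGroup D] (hle : D ≤ commutator N) :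
    IsCyclic D ∧ ∀ s : N, s ∉ D → ∀ d ∈ D, s * d * s⁻¹ = d⁻¹ := by
  haveI hDn : D.Normal := Subgroup.normal_of_index_eq_two hD
  have hcomm : commutator N = D := le_antisymm (commutator_le_of_index_two D hD) hle
  -- `D' = ⁅D, D⁆` is cyclic
  have hC : IsCyclic (⁅D, D⁆ : Subgroup N) := by
    have h0 : IsCyclic (commutator D) := IsZGroup.isCyclic_commutator D
    let f := Subgroup.equivMapOfInjective (commutator D) _ D.subtype_injective
    rw [Subgroup.map_subtype_commutator] at f
    exact isCyclic_of_surjective f f.surjective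
  -- `N'` centralizes `D'`
  have hcent : commutator N ≤ Subgroup.centralizer (⁅D, D⁆ : Subgroup N) := by
    let _ := (hC.mulAutMulEquiv _).toMonoidHom.commGroupOfInjective (hC.mulAutMulEquiv _).injective
    have h := Abelianization.commutator_subset_ker (⁅D, D⁆ : Subgroup N).normalizerMonoidHom
    rwa [Subgroup.normalizerMonoidHom_ker, Subgroup.normalizer_eq_top,
      ← Subgroup.map_subtype_le_map_subtype, Subgroup.map_subtype_commutator,
        Subgroup.map_subgroupOf_eq_of_le le_top] at h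
  rw [hcomm, Subgroup.le_centralizer_iff] at hcent
  -- `D` is commutative
  have hDcomm : ∀ x ∈ D, ∀ y ∈ D, x * y = y * x := by
    have h : commutator D ≤ Subgroup.center D := by
      suffices h : (commutator D).map D.subtype ≤ Subgroup.centralizer D by
        simpa [SetLike.le_def, Subgroup.mem_center_iff, Subgroup.mem_centralizer_iff] using h
      rw [Subgroup.map_subtype_commutator]
      exact hcent
    rw [← Abelianization.ker_of D] at h
    let _ := commGroupOfCyclicCenterQuotient Abelianization.of h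
    intro x hx y hy
    have := mul_comm (⟨x, hx⟩ : D) ⟨y, hy⟩
    exact congrArg Subtype.val this
  refine ⟨?_, ?_⟩
  · have h : commutator D ≤ Subgroup.center D := by
      suffices h : (commutator D).map D.subtype ≤ Subgroup.centralizer D by
        simpa [SetLike.le_def, Subgroup.mem_center_iff, Subgroup.mem_centralizer_iff] using h
      rw [Subgroup.map_subtype_commutator]
      exact hcent
    rw [← Abelianization.ker_of D] at h
    let _ := commGroupOfCyclicCenterQuotient Abelianization.of h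
    infer_instance
  · intro s hs
    -- basic facts
    have hσD : ∀ d ∈ D, s * d * s⁻¹ ∈ D := fun d hd => hDn.conj_mem d hd s
    have hF1 : ∀ z : N, z ∉ D → ∀ d ∈ D, z * d * z⁻¹ = s * d * s⁻¹ := by
      intro z hz d hd
      have he : s⁻¹ * z ∈ D := by
        rw [Subgroup.mul_mem_iff_of_index_two hD, inv_mem_iff]
        exact ⟨fun h => absurd h hs, fun h => absurd h hz⟩
      have h1 := hDcomm _ he d hd
      calc z * d * z⁻¹ = s * ((s⁻¹ * z) * d) * (s⁻¹ * z)⁻¹ * s⁻¹ := by group
        _ = s * (d * (s⁻¹ * z)) * (s⁻¹ * z)⁻¹ * s⁻¹ := by rw [h1]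
        _ = s * d * s⁻¹ := by group
    have hs2 : s * s ∈ D := by
      rw [Subgroup.mul_mem_iff_of_index_two hD]
    have hF2 : ∀ d ∈ D, s * (s * d * s⁻¹) * s⁻¹ = d := by
      intro d hd
      have h1 := hDcomm _ hs2 d hd
      calc s * (s * d * s⁻¹) * s⁻¹ = ((s * s) * d) * (s * s)⁻¹ := by group
        _ = (d * (s * s)) * (s * s)⁻¹ := by rw [h1]
        _ = d := by group
    -- the subgroup of inverted elements
    let I : Subgroup N :=
      { carrier := {d | d ∈ D ∧ s * d * s⁻¹ = d⁻¹}
        one_mem' := ⟨D.one_mem, by simp⟩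
        mul_mem' := by
          rintro x y ⟨hx, hx'⟩ ⟨hy, hy'⟩
          refine ⟨D.mul_mem hx hy, ?_⟩
          calc s * (x * y) * s⁻¹ = (s * x * s⁻¹) * (s * y * s⁻¹) := by group
            _ = x⁻¹ * y⁻¹ := by rw [hx', hy']
            _ = (y * x)⁻¹ := by group
            _ = (x * y)⁻¹ := by rw [hDcomm x hx y hy]
        inv_mem' := by
          rintro x ⟨hx, hx'⟩
          refine ⟨D.inv_mem hx, ?_⟩
          calc s * x⁻¹ * s⁻¹ = (s * x * s⁻¹)⁻¹ := by group
            _ = (x⁻¹)⁻¹ := by rw [hx'] }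
    have hF3 : ∀ d ∈ D, d * (s * d * s⁻¹)⁻¹ ∈ I := by
      intro d hd
      refine ⟨D.mul_mem hd (D.inv_mem (hσD d hd)), ?_⟩
      calc s * (d * (s * d * s⁻¹)⁻¹) * s⁻¹ = (s * d * s⁻¹) * (s * (s * d * s⁻¹) * s⁻¹)⁻¹ := by group
        _ = (s * d * s⁻¹) * d⁻¹ := by rw [hF2 d hd]
        _ = (d * (s * d * s⁻¹)⁻¹)⁻¹ := by group
    have hI : commutator N ≤ I := by
      rw [commutator_def, Subgroup.commutator_le]
      intro x _ y _
      rw [commutatorElement_def]
      by_cases hx : x ∈ D
      · by_cases hy : y ∈ D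
        · have : x * y * x⁻¹ * y⁻¹ = 1 := by
            rw [hDcomm x hx y hy]; group
          rw [this]; exact I.one_mem
        · have h1 := hF1 y hy x⁻¹ (D.inv_mem hx)
          have : x * y * x⁻¹ * y⁻¹ = x * (s * x * s⁻¹)⁻¹ := by
            calc x * y * x⁻¹ * y⁻¹ = x * (y * x⁻¹ * y⁻¹) := by group
              _ = x * (s * x⁻¹ * s⁻¹) := by rw [h1]
              _ = x * (s * x * s⁻¹)⁻¹ := by group
          rw [this]; exact hF3 x hx
      · by_cases hy : y ∈ D
        · have h1 := hF1 x hx y hy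
          have : x * y * x⁻¹ * y⁻¹ = (y * (s * y * s⁻¹)⁻¹)⁻¹ := by
            calc x * y * x⁻¹ * y⁻¹ = (x * y * x⁻¹) * y⁻¹ := by group
              _ = (s * y * s⁻¹) * y⁻¹ := by rw [h1]
              _ = (y * (s * y * s⁻¹)⁻¹)⁻¹ := by group
          rw [this]; exact I.inv_mem (hF3 y hy)
        · have he : x⁻¹ * y ∈ D := by
            rw [Subgroup.mul_mem_iff_of_index_two hD, inv_mem_iff]
            exact ⟨fun h => absurd h hx, fun h => absurd h hy⟩
          have h1 := hF1 x hx _ he
          have h2 := hF1 x hx _ (D.mul_mem (hσD _ he) (D.inv_mem he))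
          have : x * y * x⁻¹ * y⁻¹ = (x⁻¹ * y) * (s * (x⁻¹ * y) * s⁻¹)⁻¹ := by
            calc x * y * x⁻¹ * y⁻¹ = x * ((x * (x⁻¹ * y) * x⁻¹) * (x⁻¹ * y)⁻¹) * x⁻¹ := by group
              _ = x * ((s * (x⁻¹ * y) * s⁻¹) * (x⁻¹ * y)⁻¹) * x⁻¹ := by rw [h1]
              _ = s * ((s * (x⁻¹ * y) * s⁻¹) * (x⁻¹ * y)⁻¹) * s⁻¹ := h2
              _ = (s * (s * (x⁻¹ * y) * s⁻¹) * s⁻¹) * (s * (x⁻¹ * y) * s⁻¹)⁻¹ := by group
              _ = (x⁻¹ * y) * (s * (x⁻¹ * y) * s⁻¹)⁻¹ := by rw [hF2 _ he]
          rw [this]; exact hF3 _ he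
    intro d hd
    exact (hI (hle hd)).2

end GT

end Cfsg.Agent.Lib.Helper28
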