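import Mathlib
import Cfsg.Agent.Lib.Helper28.ZassConv
import Cfsg.Agent.Lib.Helper28.IndexTwoInvert
import Cfsg.Agent.Lib.Helper28.FrobComplCyclic

set_option autoImplicit false

/-!
# The two-point stabilizer of a Zassenhaus group, when it has odd order
-/

namespace Cfsg.Agent.Lib.Helper28

open MulAction

/-- the setwise stabilizer of `{a, b}` -/
def setStab2 (G : Type*) {Ω : Type*} [Group G] [MulAction G Ω] (a b : Ω) : Subgroup G where
  carrier := {g | (g • a = a ∧ g • b = b) ∨ (g • a = b ∧ g • b = a)}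
  one_mem' := Or.inl ⟨one_smul _ _, one_smul _ _⟩
  mul_mem' := by
    rintro x y (⟨hxa, hxb⟩ | ⟨hxa, hxb⟩) (⟨hya, hyb⟩ | ⟨hya, hyb⟩)
    · left; exact ⟨by rw [mul_smul, hya, hxa], by rw [mul_smul, hyb, hxb]⟩
    · right; exact ⟨by rw [mul_smul, hya, hxb], by rw [mul_smul, hyb, hxa]⟩
    · right; exact ⟨by rw [mul_smul, hya, hxa], by rw [mul_smul, hyb, hxb]⟩
    · left; exact ⟨by rw [mul_smul, hya, hxb], by rw [mul_smul, hyb, hxa]⟩
  inv_mem' := by
    rintro x (⟨hxa, hxb⟩ | ⟨hxa, hxb⟩)
    · left; exact ⟨by rw [inv_smul_eq_iff, hxa], by rw [inv_smul_eq_iff, hxb]⟩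
    · right; exact ⟨by rw [inv_smul_eq_iff, hxb], by rw [inv_smul_eq_iff, hxa]⟩

section two

variable {G Ω : Type*} [Group G] [MulAction G Ω]

theorem mem_setStab2 {a b : Ω} {g : G} :
    g ∈ setStab2 G a b ↔ (g • a = a ∧ g • b = b) ∨ (g • a = b ∧ g • b = a) := Iff.rfl

theorem twoStab_le_setStab2 (a b : Ω) : stabilizer G a ⊓ stabilizer G b ≤ setStab2 G a b :=
  fun _ hg => Or.inl ⟨hg.1, hg.2⟩

theorem ZPre.fix_ab (h : ZPre G Ω) {a b c : Ω} (hab : a ≠ b) {x : G} (hx1 : x ≠ 1)
    (hxa : x • a = a) (hxb : x • b = b) (hxc : x • c = c) : c = a ∨ c = b := by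
  by_contra hcon
  push Not at hcon
  exact hx1 (h.three x a b c hab (Ne.symm hcon.2) (Ne.symm hcon.1) hxa hxb hxc)

/-- if `x ≠ 1` and its conjugate `y x y⁻¹` both fix `a` and `b`, then `y` permutes `{a, b}` -/
theorem ZPre.mem_setStab2_of_conj (h : ZPre G Ω) {a b : Ω} (hab : a ≠ b) {x y : G} (hx1 : x ≠ 1)
    (hxa : x • a = a) (hxb : x • b = b) (hya : (y * x * y⁻¹) • a = a)
    (hyb : (y * x * y⁻¹) • b = b) : y ∈ setStab2 G a b := by
  have h1 : y * x * y⁻¹ ≠ 1 := by
    intro hh
    apply hx1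
    have : x = y⁻¹ * (y * x * y⁻¹) * y := by group
    rw [this, hh]; group
  have h2 : (y * x * y⁻¹) • (y • a) = y • a := by
    rw [mul_smul, mul_smul, inv_smul_smul, hxa]
  have h3 : (y * x * y⁻¹) • (y • b) = y • b := by
    rw [mul_smul, mul_smul, inv_smul_smul, hxb]
  have hne : y • a ≠ y • b := fun hh => hab (smul_left_cancel y hh)
  rcases h.fix_ab hab h1 hya hyb h2 with ha | ha <;> rcases h.fix_ab hab h1 hya hyb h3 with hb | hb
  · exact absurd (ha.trans hb.symm) hne
  · exact Or.inl ⟨ha, hb⟩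
  · exact Or.inr ⟨ha, hb⟩
  · exact absurd (ha.trans hb.symm) hne

/-- elements of odd order permuting `{a, b}` fix both points -/
theorem fix_of_odd_of_mem_setStab2 {a b : Ω} (hab : a ≠ b) {y : G} (hy : y ∈ setStab2 G a b)
    (hodd : Odd (orderOf y)) : y • a = a ∧ y • b = b := by
  rcases hy with hy | ⟨hya, hyb⟩
  · exact hy
  · exfalso
    obtain ⟨k, hk⟩ := hodd
    have hg2 : (y ^ 2) • a = a := by rw [sq, mul_smul, hya, hyb]
    have hg2k : (y ^ (2 * k)) • a = a := by
      rw [pow_mul]
      have : y ^ 2 ∈ stabilizer G a := hg2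
      exact Subgroup.pow_mem _ this k
    have h1 : y ^ (2 * k + 1) = 1 := by rw [← hk]; exact pow_orderOf_eq_one y
    have h3 : (y ^ (2 * k + 1)) • a = b := by
      rw [pow_succ', mul_smul, hg2k, hya]
    rw [h1, one_smul] at h3
    exact hab h3

/-- `q`-subgroups (`q` odd) of the two-point stabilizer are cyclic -/
theorem ZPre.pgroup_twoStab_cyclic [Finite Ω] (h : ZPre G Ω) {a b : Ω} (hab : a ≠ b)
    {q : ℕ} [hq : Fact q.Prime] (hq2 : q ≠ 2) (P : Subgroup G)
    (hPD : P ≤ stabilizer G a ⊓ stabilizer G b) (hP : IsPGroup q P) : IsCyclic P := by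
  classical
  have hfin : Finite G := h.finite
  obtain ⟨K, hKle, hKmem, hKtrans, -⟩ := h.exists_kernel a
  -- `K` is normalized by the stabilizer
  have hKn : (K.subgroupOf (stabilizer G a)).Normal := by
    constructor
    rintro ⟨k, hk⟩ hkK ⟨g, hg⟩
    have hkK' : k ∈ K := hkK
    show g * k * g⁻¹ ∈ K
    have hmem : g * k * g⁻¹ ∈ stabilizer G a :=
      (stabilizer G a).mul_mem ((stabilizer G a).mul_mem hg hk) ((stabilizer G a).inv_mem hg)
    rw [hKmem _ hmem]
    rcases (hKmem k hk).1 hkK' with h1 | h1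
    · left; rw [h1]; group
    · right
      intro c hc hfix
      have hg' : g • a = a := hg
      apply h1 (g⁻¹ • c)
      · intro hh
        apply hc
        rw [inv_smul_eq_iff, hg'] at hh
        exact hh
      · rw [mul_smul, mul_smul] at hfix
        rw [← hfix, inv_smul_smul]
        conv_rhs => rw [← hfix]
        simp [smul_smul]
  -- `K ≠ ⊥`
  obtain ⟨c, hca, hcb⟩ := h.exists_third hab
  have hKne : K.subgroupOf (stabilizer G a) ≠ ⊥ := by
    obtain ⟨k, hk, hkb⟩ := hKtrans b c (Ne.symm hab) hca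
    intro hbot
    have hmem : (⟨k, hKle hk⟩ : stabilizer G a) ∈ K.subgroupOf (stabilizer G a) := hk
    rw [hbot, Subgroup.mem_bot] at hmem
    have hk1 : k = 1 := congrArg Subtype.val hmem
    rw [hk1, one_smul] at hkb
    exact hcb hkb.symm
  -- the action is fixed-point-free
  have hfpf : ∀ x ∈ (stabilizer G a ⊓ stabilizer G b).subgroupOf (stabilizer G a), x ≠ 1 →
      K.subgroupOf (stabilizer G a) ⊓ Subgroup.centralizer {x} = ⊥ := by
    rintro ⟨x, hxa⟩ hxD hx1
    have hxb : x • b = b := hxD.2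
    have hxa' : x • a = a := hxa
    rw [eq_bot_iff]
    rintro ⟨k, hka⟩ ⟨hkK, hkc⟩
    have hkK' : k ∈ K := hkK
    rw [Subgroup.mem_bot]
    apply Subtype.ext
    show k = 1
    by_contra hk1
    have hcomm : k * x = x * k := by
      have := Subgroup.mem_centralizer_iff.1 hkc ⟨x, hxa⟩ (Set.mem_singleton _)
      exact (congrArg Subtype.val this).symm
    have hka' : k • a = a := hka
    have hfpf := ((hKmem k hka).1 hkK').resolve_left hk1
    have hkb_b : k • b ≠ b := hfpf b (Ne.symm hab)
    have hkb_a : k • b ≠ a := by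
      intro hh
      apply hab
      have : k • b = k • a := by rw [hh, hka']
      exact (smul_left_cancel k this).symm
    have hxkb : x • (k • b) = k • b := by
      rw [← mul_smul, ← hcomm, mul_smul, hxb]
    apply hx1
    apply Subtype.ext
    show x = 1
    exact h.three x a b (k • b) hab (Ne.symm hkb_b) (Ne.symm hkb_a) hxa' hxb hxkb
  -- apply the Frobenius complement lemma
  have hPa : P ≤ stabilizer G a := hPD.trans inf_le_left
  have hcyc : IsCyclic (P.subgroupOf (stabilizer G a)) := by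
    apply frob_compl_pgroup_cyclic (K.subgroupOf (stabilizer G a))
      ((stabilizer G a ⊓ stabilizer G b).subgroupOf (stabilizer G a)) hKne hfpf hq2
    · intro x hx
      exact hPD hx
    · exact hP.comap_of_injective ((stabilizer G a).subtype) (Subgroup.subtype_injective _)
  exact isCyclic_of_surjective (Subgroup.subgroupOfEquivOfLe hPa)
    (Subgroup.subgroupOfEquivOfLe hPa).surjective

/-- the two-point stabilizer, when of odd order, is a Z-group -/
theorem ZPre.isZGroup_twoStab [Finite Ω] (h : ZPre G Ω) {a b : Ω} (hab : a ≠ b)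
    (hodd : Odd (Nat.card ↥(stabilizer G a ⊓ stabilizer G b))) :
    IsZGroup ↥(stabilizer G a ⊓ stabilizer G b) := by
  have hfin : Finite G := h.finite
  refine ⟨fun p hp P => ?_⟩
  haveI : Fact p.Prime := ⟨hp⟩
  by_cases hp2 : p = 2
  · subst hp2
    -- `P` is trivial
    have hcard : Nat.card P = 1 := by
      obtain ⟨k, hk⟩ := (IsPGroup.iff_card.1 P.isPGroup')
      have hdvd : Nat.card P ∣ Nat.card ↥(stabilizer G a ⊓ stabilizer G b) :=
        Subgroup.card_subgroup_dvd_card _
      rcases Nat.eq_zero_or_pos k with hk0 | hk0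
      · rw [hk, hk0, pow_zero]
      · exfalso
        have h2 : 2 ∣ Nat.card ↥(stabilizer G a ⊓ stabilizer G b) := by
          refine dvd_trans ?_ hdvd
          rw [hk]
          exact dvd_pow_self 2 hk0.ne'
        exact (Nat.not_even_iff_odd.2 hodd) (even_iff_two_dvd.2 h2)
    haveI : Subsingleton P := (Nat.card_eq_one_iff_unique.1 hcard).1
    exact isCyclic_of_subsingleton
  · have hcyc : IsCyclic ((P : Subgroup _).map (stabilizer G a ⊓ stabilizer G b).subtype) := by
      apply h.pgroup_twoStab_cyclic hab hp2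
      · exact Subgroup.map_subtype_le _
      · exact P.isPGroup'.map _
    let f := Subgroup.equivMapOfInjective (P : Subgroup _)
      (stabilizer G a ⊓ stabilizer G b).subtype (Subgroup.subtype_injective _)
    exact isCyclic_of_surjective f.symm f.symm.surjective

/-- for each prime `q` dividing the odd order of the two-point stabilizer `D`, some Sylow
`q`-subgroup of `G` lies in `D`, and its normalizer permutes `{a, b}` -/
theorem ZPre.exists_sylow_le_twoStab [Finite Ω] (h : ZPre G Ω) {a b : Ω} (hab : a ≠ b)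
    (hodd : Odd (Nat.card ↥(stabilizer G a ⊓ stabilizer G b))) {q : ℕ} [hq : Fact q.Prime]
    (hqd : q ∣ Nat.card ↥(stabilizer G a ⊓ stabilizer G b)) :
    ∃ P : Sylow q G, (P : Subgroup G) ≤ stabilizer G a ⊓ stabilizer G b ∧
      Subgroup.normalizer ((P : Subgroup G) : Set G) ≤ setStab2 G a b := by
  have hfin : Finite G := h.finite
  have hqodd : Odd q := by
    rw [← Nat.not_even_iff_odd, even_iff_two_dvd]
    intro h2
    exact (Nat.not_even_iff_odd.2 hodd) (even_iff_two_dvd.2 (h2.trans hqd))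
  obtain ⟨x, hx⟩ := exists_prime_orderOf_dvd_card' q hqd
  have hx' : orderOf (x : G) = q := by rw [Subgroup.orderOf_coe]; exact hx
  have hx1 : (x : G) ≠ 1 := by
    intro hh
    rw [hh, orderOf_one] at hx'
    exact hq.out.one_lt.ne hx'
  have hxa : (x : G) • a = a := x.2.1
  have hxb : (x : G) • b = b := x.2.2
  have hzp : IsPGroup q (Subgroup.zpowers (x : G)) := by
    apply IsPGroup.of_card (n := 1)
    rw [Nat.card_zpowers, hx', pow_one]
  obtain ⟨P, hxP⟩ := hzp.exists_le_sylow
  have hxP' : (x : G) ∈ (P : Subgroup G) := hxP (Subgroup.mem_zpowers _)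
  have hoddP : ∀ y ∈ (P : Subgroup G), Odd (orderOf y) := by
    intro y hy
    obtain ⟨k, hk⟩ := (IsPGroup.iff_orderOf.1 P.isPGroup') ⟨y, hy⟩
    rw [Subgroup.orderOf_mk] at hk
    rw [hk]
    exact hqodd.pow
  -- a nontrivial central element
  haveI : Nontrivial (P : Subgroup G) := ⟨⟨⟨x, hxP'⟩, 1, fun hh => hx1 (congrArg Subtype.val hh)⟩⟩
  haveI := P.isPGroup'.center_nontrivial
  obtain ⟨z, hz1⟩ := exists_ne (1 : Subgroup.center (P : Subgroup G))
  have hzx : ((z : (P : Subgroup G)) : G) * (x : G) = (x : G) * ((z : (P : Subgroup G)) : G) := by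
    have := Subgroup.mem_center_iff.1 z.2 ⟨x, hxP'⟩
    exact (congrArg Subtype.val this).symm
  have hz1' : ((z : (P : Subgroup G)) : G) ≠ 1 := by
    intro hh
    apply hz1
    apply Subtype.ext
    apply Subtype.ext
    exact hh
  have hzmem : ((z : (P : Subgroup G)) : G) ∈ setStab2 G a b := by
    apply h.mem_setStab2_of_conj hab hx1 hxa hxb
    · have : ((z : (P : Subgroup G)) : G) * (x : G) * ((z : (P : Subgroup G)) : G)⁻¹ = x := by
        rw [hzx]; group
      rw [this]; exact hxa
    · have : ((z : (P : Subgroup G)) : G) * (x : G) * ((z : (P : Subgroup G)) : G)⁻¹ = x := by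
        rw [hzx]; group
      rw [this]; exact hxb
  obtain ⟨hza, hzb⟩ := fix_of_odd_of_mem_setStab2 hab hzmem (hoddP _ (z : (P : Subgroup G)).2)
  have hPD : (P : Subgroup G) ≤ stabilizer G a ⊓ stabilizer G b := by
    intro y hy
    have hyz : y * ((z : (P : Subgroup G)) : G) * y⁻¹ = ((z : (P : Subgroup G)) : G) := by
      have := Subgroup.mem_center_iff.1 z.2 ⟨y, hy⟩
      have h' : y * ((z : (P : Subgroup G)) : G) = ((z : (P : Subgroup G)) : G) * y :=
        congrArg Subtype.val this
      rw [h']; group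
    have hymem : y ∈ setStab2 G a b := by
      apply h.mem_setStab2_of_conj hab hz1' hza hzb
      · rw [hyz]; exact hza
      · rw [hyz]; exact hzb
    exact fix_of_odd_of_mem_setStab2 hab hymem (hoddP y hy)
  refine ⟨P, hPD, ?_⟩
  intro g hg
  have hgx : g * (x : G) * g⁻¹ ∈ (P : Subgroup G) := (Subgroup.mem_normalizer_iff.1 hg _).1 hxP'
  have := hPD hgx
  exact h.mem_setStab2_of_conj hab hx1 hxa hxb this.1 this.2

/-- Burnside: with no normal `q`-complement, a Sylow `q`-subgroup is not central in its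
normalizer -/
theorem not_normalizer_le_centralizer_of_no_complement [Finite G] {q : ℕ} [Fact q.Prime]
    (P : Sylow q G)
    (hnil : ¬ ∃ N : Subgroup G, N.Normal ∧ N.index = q ^ (Nat.card G).factorization q) :
    ¬ Subgroup.normalizer ((P : Subgroup G) : Set G) ≤
      Subgroup.centralizer ((P : Subgroup G) : Set G) := by
  intro hP
  apply hnil
  refine ⟨(MonoidHom.transferSylow P hP).ker, inferInstance, ?_⟩
  have hc := MonoidHom.ker_transferSylow_isComplement' P hP
  rw [hc.symm.index_eq_card, P.card_eq_multiplicity]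

end two

end Cfsg.Agent.Lib.Helper28
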