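import Mathlib
import Cfsg.Agent.Lib.Helper28.ZassTwoPoint

set_option autoImplicit false

/-!
# The two-point stabilizer of a Zassenhaus group, when it has odd order: main theorem
-/

namespace Cfsg.Agent.Lib.Helper28

open MulAction

section main

variable {G Ω : Type*} [Group G] [MulAction G Ω]

/-- the two-point stabilizer has index two in the setwise stabilizer -/
theorem ZPre.index_twoStab (h : ZPre G Ω) {a b : Ω} (hab : a ≠ b) :
    ((stabilizer G a ⊓ stabilizer G b).subgroupOf (setStab2 G a b)).index = 2 := by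
  obtain ⟨s, hsa, hsb⟩ := h.trans2 a b b a hab (Ne.symm hab)
  rw [Subgroup.index_eq_two_iff]
  refine ⟨⟨s, Or.inr ⟨hsa, hsb⟩⟩, ?_⟩
  rintro ⟨g, hg⟩
  rcases hg with ⟨hga, hgb⟩ | ⟨hga, hgb⟩
  · right
    refine ⟨⟨hga, hgb⟩, ?_⟩
    intro hh
    have h1 : (g * s) • a = a := hh.1
    rw [mul_smul, hsa, hgb] at h1
    exact hab h1.symm
  · left
    refine ⟨⟨?_, ?_⟩, ?_⟩
    · show (g * s) • a = a
      rw [mul_smul, hsa, hgb]
    · show (g * s) • b = b
      rw [mul_smul, hsb, hga]
    · intro hh
      have h1 : g • a = a := hh.1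
      rw [hga] at h1
      exact hab h1.symm

/-- with no normal `q`-complements, the two-point stabilizer lies in the commutator subgroup of
the setwise stabilizer -/
theorem ZPre.twoStab_le_commutator [Finite Ω] (h : ZPre G Ω) {a b : Ω} (hab : a ≠ b)
    (hodd : Odd (Nat.card ↥(stabilizer G a ⊓ stabilizer G b)))
    (hnil : ∀ q : ℕ, q.Prime → q ∣ Nat.card ↥(stabilizer G a ⊓ stabilizer G b) →
      ¬ ∃ N : Subgroup G, N.Normal ∧ N.index = q ^ (Nat.card G).factorization q) :
    (stabilizer G a ⊓ stabilizer G b).subgroupOf (setStab2 G a b) ≤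
      commutator ↥(setStab2 G a b) := by
  classical
  have hfin : Finite G := h.finite
  haveI := h.isZGroup_twoStab hab hodd
  have hDN : stabilizer G a ⊓ stabilizer G b ≤ setStab2 G a b := twoStab_le_setStab2 a b
  -- Step 1
  have step1 : ∀ q : ℕ, q.Prime → q ∣ Nat.card ↥(stabilizer G a ⊓ stabilizer G b) →
      ∃ Q : Sylow q ↥(setStab2 G a b), (Q : Subgroup ↥(setStab2 G a b)) ≤
        (stabilizer G a ⊓ stabilizer G b).subgroupOf (setStab2 G a b) ⊓
          commutator ↥(setStab2 G a b) := by
    intro q hq hqd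
    haveI : Fact q.Prime := ⟨hq⟩
    obtain ⟨P, hPD, hPN⟩ := h.exists_sylow_le_twoStab hab hodd hqd
    have hPleN : (P : Subgroup G) ≤ setStab2 G a b := hPD.trans hDN
    have hQcoe : ((P.subtype hPleN : Sylow q ↥(setStab2 G a b)) : Subgroup ↥(setStab2 G a b)) =
        (P : Subgroup G).subgroupOf (setStab2 G a b) := Sylow.coe_subtype _ _
    haveI : IsCyclic ((P.subtype hPleN : Sylow q ↥(setStab2 G a b)) :
        Subgroup ↥(setStab2 G a b)) := by
      have h1 : IsCyclic ((P : Subgroup G).subgroupOf (stabilizer G a ⊓ stabilizer G b)) :=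
        IsPGroup.isCyclic_of_isZGroup (P.isPGroup'.comap_of_injective
          (stabilizer G a ⊓ stabilizer G b).subtype (Subgroup.subtype_injective _))
      have h2 : IsCyclic (P : Subgroup G) :=
        isCyclic_of_surjective (Subgroup.subgroupOfEquivOfLe hPD)
          (Subgroup.subgroupOfEquivOfLe hPD).surjective
      rw [hQcoe]
      exact isCyclic_of_surjective (Subgroup.subgroupOfEquivOfLe hPleN).symm
        (Subgroup.subgroupOfEquivOfLe hPleN).symm.surjective
    refine ⟨P.subtype hPleN, ?_⟩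
    rcases Sylow.normalizer_le_centralizer_or_le_commutator (P.subtype hPleN) with hc | hc
    · exfalso
      apply not_normalizer_le_centralizer_of_no_complement P (hnil q hq hqd)
      intro g hg
      have hgN : g ∈ setStab2 G a b := hPN hg
      have hgQ : (⟨g, hgN⟩ : ↥(setStab2 G a b)) ∈ Subgroup.normalizer
          (((P.subtype hPleN : Sylow q ↥(setStab2 G a b)) : Subgroup ↥(setStab2 G a b)) :
            Set ↥(setStab2 G a b)) := by
        rw [Subgroup.mem_normalizer_iff]
        intro n
        rw [hQcoe]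
        simp only [Subgroup.mem_subgroupOf]
        exact Subgroup.mem_normalizer_iff.1 hg n
      have hcen := hc hgQ
      rw [Subgroup.mem_centralizer_iff] at hcen ⊢
      intro y hy
      have hyQ : (⟨y, hPleN hy⟩ : ↥(setStab2 G a b)) ∈
          (((P.subtype hPleN : Sylow q ↥(setStab2 G a b)) : Subgroup ↥(setStab2 G a b)) :
            Set ↥(setStab2 G a b)) := by
        show (⟨y, hPleN hy⟩ : ↥(setStab2 G a b)) ∈
          ((P.subtype hPleN : Sylow q ↥(setStab2 G a b)) : Subgroup ↥(setStab2 G a b))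
        rw [hQcoe]
        exact hy
      exact congrArg Subtype.val (hcen _ hyQ)
    · refine le_inf ?_ hc
      rw [hQcoe]
      intro n hn
      exact hPD hn
  -- Step 2: counting
  have hle : (stabilizer G a ⊓ stabilizer G b).subgroupOf (setStab2 G a b) ⊓
      commutator ↥(setStab2 G a b) ≤
        (stabilizer G a ⊓ stabilizer G b).subgroupOf (setStab2 G a b) := inf_le_left
  have hcardD : Nat.card ((stabilizer G a ⊓ stabilizer G b).subgroupOf (setStab2 G a b)) =
      Nat.card ↥(stabilizer G a ⊓ stabilizer G b) :=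
    Nat.card_congr (Subgroup.subgroupOfEquivOfLe hDN).toEquiv
  have hdvd : Nat.card ((stabilizer G a ⊓ stabilizer G b).subgroupOf (setStab2 G a b)) ∣
      Nat.card ↥((stabilizer G a ⊓ stabilizer G b).subgroupOf (setStab2 G a b) ⊓
        commutator ↥(setStab2 G a b)) := by
    rw [← Nat.factorization_prime_le_iff_dvd Nat.card_pos.ne' Nat.card_pos.ne']
    intro q hq
    by_cases hqd : q ∣ Nat.card ((stabilizer G a ⊓ stabilizer G b).subgroupOf (setStab2 G a b))
    · haveI : Fact q.Prime := ⟨hq⟩
      obtain ⟨Q, hQ⟩ := step1 q hq (hcardD ▸ hqd)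
      have h1 : Nat.card (Q : Subgroup ↥(setStab2 G a b)) ∣ _ := Subgroup.card_dvd_of_le hQ
      rw [Q.card_eq_multiplicity, hq.pow_dvd_iff_le_factorization Nat.card_pos.ne'] at h1
      refine le_trans ?_ h1
      exact (Nat.factorization_le_iff_dvd Nat.card_pos.ne' Nat.card_pos.ne').2
        (Subgroup.card_subgroup_dvd_card _) q
    · rw [Nat.factorization_eq_zero_of_not_dvd hqd]
      exact Nat.zero_le _
  have heq := Subgroup.eq_of_le_of_card_ge hle (Nat.le_of_dvd Nat.card_pos hdvd)
  rw [← heq]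
  exact inf_le_right

/-- **Main theorem**: in a Zassenhaus group whose two-point stabilizer `D` has odd order and which
has no normal `q`-complement for the primes `q ∣ |D|`, `D` is cyclic, self-centralizing, and inverted
by every element interchanging the two points. -/
theorem ZPre.twoStab_main [Finite Ω] (h : ZPre G Ω) {a b : Ω} (hab : a ≠ b)
    (hodd : Odd (Nat.card ↥(stabilizer G a ⊓ stabilizer G b)))
    (hnil : ∀ q : ℕ, q.Prime → q ∣ Nat.card ↥(stabilizer G a ⊓ stabilizer G b) →
      ¬ ∃ N : Subgroup G, N.Normal ∧ N.index = q ^ (Nat.card G).factorization q) :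
    IsCyclic ↥(stabilizer G a ⊓ stabilizer G b) ∧
      Subgroup.centralizer ((stabilizer G a ⊓ stabilizer G b : Subgroup G) : Set G) =
        stabilizer G a ⊓ stabilizer G b ∧
      ∀ s : G, s • a = b → s • b = a → ∀ d ∈ stabilizer G a ⊓ stabilizer G b,
        s * d * s⁻¹ = d⁻¹ := by
  classical
  have hfin : Finite G := h.finite
  haveI := h.isZGroup_twoStab hab hodd
  have hDN : stabilizer G a ⊓ stabilizer G b ≤ setStab2 G a b := twoStab_le_setStab2 a b
  haveI : IsZGroup ((stabilizer G a ⊓ stabilizer G b).subgroupOf (setStab2 G a b)) :=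
    IsZGroup.of_injective (f := (Subgroup.subgroupOfEquivOfLe hDN).toMonoidHom)
      (Subgroup.subgroupOfEquivOfLe hDN).injective
  obtain ⟨hcyc, hinv⟩ := cyclic_inverted_of_le_commutator _ (h.index_twoStab hab)
    (h.twoStab_le_commutator hab hodd hnil)
  have hcycD : IsCyclic ↥(stabilizer G a ⊓ stabilizer G b) :=
    isCyclic_of_surjective (Subgroup.subgroupOfEquivOfLe hDN)
      (Subgroup.subgroupOfEquivOfLe hDN).surjective
  have hinvD : ∀ s : G, s • a = b → s • b = a → ∀ d ∈ stabilizer G a ⊓ stabilizer G b,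
      s * d * s⁻¹ = d⁻¹ := by
    intro s hsa hsb d hd
    have hsN : s ∈ setStab2 G a b := Or.inr ⟨hsa, hsb⟩
    have hsD : (⟨s, hsN⟩ : setStab2 G a b) ∉
        (stabilizer G a ⊓ stabilizer G b).subgroupOf (setStab2 G a b) := by
      intro hh
      have h1 : s • a = a := hh.1
      rw [hsa] at h1
      exact hab h1.symm
    have := hinv ⟨s, hsN⟩ hsD ⟨d, hDN hd⟩ hd
    exact congrArg Subtype.val this
  refine ⟨hcycD, ?_, hinvD⟩
  have hcommD : ∀ x ∈ stabilizer G a ⊓ stabilizer G b, ∀ y ∈ stabilizer G a ⊓ stabilizer G b,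
      x * y = y * x := by
    intro x hx y hy
    letI := IsCyclic.commGroup (α := ↥(stabilizer G a ⊓ stabilizer G b))
    have := mul_comm (⟨x, hx⟩ : ↥(stabilizer G a ⊓ stabilizer G b)) ⟨y, hy⟩
    exact congrArg Subtype.val this
  ext g
  constructor
  · intro hg
    obtain ⟨x, hx1, hxa, hxb⟩ := h.two_stab_ne hab
    have hxD : x ∈ stabilizer G a ⊓ stabilizer G b := ⟨hxa, hxb⟩
    have hgx : x * g = g * x := Subgroup.mem_centralizer_iff.1 hg x hxD
    have hconj : g * x * g⁻¹ = x := by rw [← hgx]; group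
    have hgN : g ∈ setStab2 G a b := by
      apply h.mem_setStab2_of_conj hab hx1 hxa hxb
      · rw [hconj]; exact hxa
      · rw [hconj]; exact hxb
    rcases hgN with ⟨hga, hgb⟩ | ⟨hga, hgb⟩
    · exact ⟨hga, hgb⟩
    · exfalso
      have h1 := hinvD g hga hgb x hxD
      rw [hconj] at h1
      have hx2 : x ^ 2 = 1 := by
        rw [sq]
        nth_rewrite 1 [h1]
        exact inv_mul_cancel x
      have hd2 : orderOf x ∣ 2 := orderOf_dvd_of_pow_eq_one hx2
      have hdD : orderOf x ∣ Nat.card ↥(stabilizer G a ⊓ stabilizer G b) := by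
        have := orderOf_dvd_natCard (⟨x, hxD⟩ : ↥(stabilizer G a ⊓ stabilizer G b))
        rwa [Subgroup.orderOf_mk] at this
      have hcop : Nat.Coprime 2 (Nat.card ↥(stabilizer G a ⊓ stabilizer G b)) :=
        Nat.coprime_two_left.2 hodd
      have := Nat.eq_one_of_dvd_coprimes hcop hd2 hdD
      exact hx1 (orderOf_eq_one_iff.1 this)
  · intro hg
    rw [Subgroup.mem_centralizer_iff]
    intro y hy
    exact hcommD y hy g hg

end main

end Cfsg.Agent.Lib.Helper28
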