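import Mathlib
import Cfsg.Agent.Lib.Helper28.ZassPSL
import Cfsg.Agent.Lib.Helper28.ZassTwoPointMain
import Cfsg.Agent.Lib.Helper28.StronglyEmbedded

/-!
# Involutions in Zassenhaus groups with two-point stabilizer of odd order
-/

set_option autoImplicit false
set_option linter.style.haveILetI false

namespace Cfsg.Agent.Lib.Helper28

open MulAction Cfsg.Agent.S0740 Cfsg.Agent.S0741

section invol

variable {G Ω : Type*} [Group G] [MulAction G Ω]

/-- double counting: pairs (involution in `C`, point moved by it) -/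
theorem sum_moved_le [Fintype G] [Fintype Ω] [DecidableEq Ω] (hZ : Cfsg.IsZassenhausGroup G Ω)
    {a b : Ω} (hab : a ≠ b) (C : Finset G) (hC : ∀ t ∈ C, orderOf t = 2) :
    ∑ t ∈ C, (Finset.univ.filter (fun c : Ω => ¬ t • c = c)).card ≤
      Nat.card ↥(stabilizer G a ⊓ stabilizer G b) *
        (Fintype.card Ω * Fintype.card Ω - Fintype.card Ω) := by
  classical
  set d := Nat.card ↥(stabilizer G a ⊓ stabilizer G b) with hd
  set N := Fintype.card Ω with hN
  set X : Finset (Σ _ : G, Ω) := C.sigma (fun t => Finset.univ.filter (fun c : Ω => ¬ (t • c = c)))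
    with hX
  have hXcard : X.card = ∑ t ∈ C, (Finset.univ.filter (fun c : Ω => ¬ t • c = c)).card := by
    rw [hX, Finset.card_sigma]
  rw [← hXcard]
  have hoff : (Finset.univ : Finset Ω).offDiag.card = N * N - N := by
    rw [Finset.offDiag_card, Finset.card_univ]
  rw [← hoff]
  apply Finset.card_le_mul_card_image_of_maps_to (f := fun x : (Σ _ : G, Ω) => (x.2, x.1 • x.2))
  · intro x hx
    rw [hX, Finset.mem_sigma] at hx
    have := (Finset.mem_filter.mp hx.2).2
    rw [Finset.mem_offDiag]
    exact ⟨Finset.mem_univ _, Finset.mem_univ _, fun h => this h.symm⟩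
  · rintro ⟨c, e⟩ hp
    have hce : c ≠ e := (Finset.mem_offDiag.mp hp).2.2
    calc (X.filter (fun x => (x.2, x.1 • x.2) = (c, e))).card
        ≤ (Finset.univ.filter (fun t : G => t • c = e ∧ t • e = c)).card := by
          apply Finset.card_le_card_of_injOn (fun x => x.1)
          · intro x hx
            obtain ⟨hxX, hxp⟩ := Finset.mem_filter.mp hx
            rw [hX, Finset.mem_sigma] at hxX
            have hord := hC _ hxX.1
            obtain ⟨hsq, _⟩ := (orderOf_two_iff x.1).mp hord
            simp only [Prod.mk.injEq] at hxp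
            obtain ⟨h1, h2⟩ := hxp
            rw [h1] at h2
            simp only [Finset.coe_filter, Finset.mem_univ, true_and, Set.mem_ofPred_eq]
            refine ⟨h2, ?_⟩
            rw [← h2, ← mul_smul, hsq, one_smul]
          · intro x hx x' hx' hxx'
            have h1 := (Finset.mem_filter.mp (Finset.mem_coe.mp hx)).2
            have h2 := (Finset.mem_filter.mp (Finset.mem_coe.mp hx')).2
            simp only [Prod.mk.injEq] at h1 h2
            obtain ⟨t, c1⟩ := x
            obtain ⟨t', c2⟩ := x'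
            simp only at hxx' h1 h2
            subst hxx'
            rw [h1.1, h2.1]
      _ ≤ Nat.card ↥(stabilizer G c ⊓ stabilizer G e) := card_swappers_le c e
      _ = d := card_stab_pair hZ hab hce

/-- an involution fixes at most one point when the two-point stabilizers have odd order -/
theorem invol_fixed_unique_of_odd [Finite G] (hZ : Cfsg.IsZassenhausGroup G Ω) {a b : Ω} (hab : a ≠ b)
    (hodd : Odd (Nat.card ↥(stabilizer G a ⊓ stabilizer G b))) {t : G} (ht : orderOf t = 2)
    {x y : Ω} (hx : t • x = x) (hy : t • y = y) : x = y := by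
  by_contra hxy
  have hmem : t ∈ stabilizer G x ⊓ stabilizer G y :=
    Subgroup.mem_inf.mpr ⟨mem_stabilizer_iff.mpr hx, mem_stabilizer_iff.mpr hy⟩
  have h1 := orderOf_dvd_natCard (⟨t, hmem⟩ : ↥(stabilizer G x ⊓ stabilizer G y))
  rw [Subgroup.orderOf_mk, ht, card_stab_pair hZ hab hxy] at h1
  exact (Nat.not_even_iff_odd.2 hodd) (even_iff_two_dvd.2 h1)

/-- parity of the number of fixed points of an involution, `Finset` form -/
theorem card_fixed_filter_modEq [Fintype Ω] [DecidableEq Ω] (t : G) (ht : orderOf t = 2) :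
    Fintype.card Ω ≡ (Finset.univ.filter (fun x : Ω => t • x = x)).card [MOD 2] := by
  have h1 := card_fixedBy_modEq (Ω := Ω) t ht
  have h2 : Nat.card (fixedBy Ω t) = (Finset.univ.filter (fun x : Ω => t • x = x)).card := by
    rw [← Fintype.card_subtype, Nat.card_eq_fintype_card]
    rfl
  rwa [h2] at h1

theorem orderOf_conj_two {t : G} (ht : orderOf t = 2) (g : G) : orderOf (g * t * g⁻¹) = 2 := by
  obtain ⟨htt, ht1⟩ := (orderOf_two_iff t).mp ht
  rw [orderOf_two_iff]
  constructor
  · have : g * t * g⁻¹ * (g * t * g⁻¹) = g * (t * t) * g⁻¹ := by group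
    rw [this, htt]; group
  · intro h1
    apply ht1
    have : t = g⁻¹ * (g * t * g⁻¹) * g := by group
    rw [this, h1]; group

/-- odd degree: all involutions are conjugate and there are `e * |Ω|` of them -/
theorem invol_of_odd_degree [Finite G] [Fintype Ω] (hZ : Cfsg.IsZassenhausGroup G Ω) {a b : Ω}
    (hab : a ≠ b) (hodd : Odd (Nat.card ↥(stabilizer G a ⊓ stabilizer G b)))
    (hN : Odd (Fintype.card Ω)) :
    (∀ x y : G, orderOf x = 2 → orderOf y = 2 → IsConj x y) ∧
      Nat.card {x : G // orderOf x = 2} =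
        Nat.card ↥(stabilizer G a ⊓ stabilizer G b) * Fintype.card Ω := by
  classical
  have hpre := zpre_of_isZassenhausGroup hZ
  letI := Fintype.ofFinite G
  haveI : Fact (Nat.Prime 2) := ⟨Nat.prime_two⟩
  set E : Subgroup G := stabilizer G a ⊓ stabilizer G b with hE
  set e := Nat.card ↥E with he
  set N := Fintype.card Ω with hNdef
  have hEa : ∀ g ∈ E, g • a = a := fun g hg => mem_stabilizer_iff.mp (Subgroup.mem_inf.mp hg).1
  have hEb : ∀ g ∈ E, g • b = b := fun g hg => mem_stabilizer_iff.mp (Subgroup.mem_inf.mp hg).2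
  obtain ⟨K, hKle, hKn, hreg, hfpf⟩ := hpre.exists_regular_kernel a
  obtain ⟨hKcard, hGcard⟩ := hpre.card_of_regular_kernel hab K hKle hreg
  have hN2 : 2 ≤ N := by
    have : ({a, b} : Finset Ω).card ≤ Fintype.card Ω := Finset.card_le_univ _
    rw [Finset.card_pair hab] at this
    exact this
  have h2G : 2 ∣ Nat.card G := by
    rw [hGcard, hKcard]
    rcases hN with ⟨r, hr⟩
    have : Fintype.card Ω - 1 = 2 * r := by omega
    rw [this]
    exact Dvd.dvd.mul_left (Dvd.dvd.mul_right (dvd_mul_right 2 r) _) _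
  obtain ⟨t₀, ht₀⟩ := exists_prime_orderOf_dvd_card' (G := G) 2 h2G
  -- fixed points of involutions
  have hfix1 : ∀ t : G, orderOf t = 2 →
      (Finset.univ.filter (fun x : Ω => t • x = x)).card = 1 := by
    intro t ht
    have h1 := card_fixed_filter_modEq (Ω := Ω) t ht
    have h2 : (Finset.univ.filter (fun x : Ω => t • x = x)).card ≤ 1 := by
      rw [Finset.card_le_one]
      intro x hx y hy
      exact invol_fixed_unique_of_odd hZ hab hodd ht (Finset.mem_filter.mp hx).2
        (Finset.mem_filter.mp hy).2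
    have h3 : N % 2 = 1 := Nat.odd_iff.mp hN
    have h4 : N % 2 = (Finset.univ.filter (fun x : Ω => t • x = x)).card % 2 := h1
    omega
  have hmoved : ∀ t : G, orderOf t = 2 →
      (Finset.univ.filter (fun c : Ω => ¬ t • c = c)).card = N - 1 := by
    intro t ht
    have := Finset.card_filter_add_card_filter_not (s := (Finset.univ : Finset Ω))
      (fun x : Ω => t • x = x)
    rw [Finset.card_univ, hfix1 t ht] at this
    omega
  -- an involution fixing `a`
  obtain ⟨x₀, hx₀⟩ : ∃ x₀ : Ω, t₀ • x₀ = x₀ := by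
    have h1 := hfix1 t₀ ht₀
    obtain ⟨x₀, hx₀⟩ := Finset.card_eq_one.mp h1
    have : x₀ ∈ Finset.univ.filter (fun x : Ω => t₀ • x = x) := by rw [hx₀]; simp
    exact ⟨x₀, (Finset.mem_filter.mp this).2⟩
  obtain ⟨g₀, hg₀⟩ := hpre.trans1 x₀ a
  set t₁ := g₀ * t₀ * g₀⁻¹ with ht₁def
  have ht₁ : orderOf t₁ = 2 := orderOf_conj_two ht₀ g₀
  have ht₁a : t₁ • a = a := by
    rw [ht₁def, mul_smul, mul_smul, ← hg₀, inv_smul_smul, hx₀]
  have ht₁b : t₁ • b ≠ b := fun hh => hab (invol_fixed_unique_of_odd hZ hab hodd ht₁ ht₁a hh)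
  have ht₁ba : t₁ • b ≠ a := by
    intro hh
    rw [← ht₁a] at hh
    exact hab (MulAction.injective t₁ hh).symm
  -- upper bound
  set Inv : Finset G := Finset.univ.filter (fun t : G => orderOf t = 2) with hInv
  have hInvmem : ∀ t ∈ Inv, orderOf t = 2 := fun t ht => (Finset.mem_filter.mp ht).2
  have hub := sum_moved_le hZ hab Inv hInvmem
  rw [Finset.sum_congr rfl (fun t ht => hmoved t (hInvmem t ht)), Finset.sum_const, smul_eq_mul]
    at hub
  have hub' : Inv.card ≤ e * N := by
    have h1 : N * N - N = N * (N - 1) := by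
      rw [Nat.mul_sub_one]
    rw [h1, ← mul_assoc] at hub
    exact Nat.le_of_mul_le_mul_right hub (by omega)
  have hcardInv : Nat.card {x : G // orderOf x = 2} = Inv.card := by
    rw [Nat.card_eq_fintype_card, Fintype.card_subtype]
  -- lower bound
  choose g hg using (fun x : Ω => hpre.trans1 a x)
  let f : Ω × ↥E → {t : G // orderOf t = 2} := fun p =>
    ⟨g p.1 * ((p.2 : G) * t₁ * (p.2 : G)⁻¹) * (g p.1)⁻¹,
      orderOf_conj_two (orderOf_conj_two ht₁ _) _⟩
  have hf_fix : ∀ p : Ω × ↥E, ((f p : {t : G // orderOf t = 2}) : G) • p.1 = p.1 := by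
    intro p
    show (g p.1 * ((p.2 : G) * t₁ * (p.2 : G)⁻¹) * (g p.1)⁻¹) • p.1 = p.1
    have h1 : (g p.1)⁻¹ • p.1 = a := by rw [inv_smul_eq_iff, hg]
    have h2 : (p.2 : G)⁻¹ • a = a := by rw [inv_smul_eq_iff, hEa _ p.2.2]
    simp only [mul_smul]
    rw [h1, h2, ht₁a, hEa _ p.2.2, hg]
  have hf_inj : Function.Injective f := by
    rintro ⟨x, d⟩ ⟨x', d'⟩ hff
    have hff' : g x * ((d : G) * t₁ * (d : G)⁻¹) * (g x)⁻¹ =
        g x' * ((d' : G) * t₁ * (d' : G)⁻¹) * (g x')⁻¹ := congrArg Subtype.val hff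
    have hxx' : x = x' := by
      have h1 := hf_fix (x, d)
      have h2 := hf_fix (x', d')
      rw [← hff] at h2
      exact invol_fixed_unique_of_odd hZ hab hodd (f (x, d)).2 h1 h2
    subst hxx'
    have h3 : (d : G) * t₁ * (d : G)⁻¹ = (d' : G) * t₁ * (d' : G)⁻¹ := by
      have := congrArg (fun y => (g x)⁻¹ * y * g x) hff'
      simpa [mul_assoc] using this
    have hc : ((d' : G)⁻¹ * d) * t₁ = t₁ * ((d' : G)⁻¹ * d) := by
      calc ((d' : G)⁻¹ * d) * t₁ = (d' : G)⁻¹ * ((d : G) * t₁ * (d : G)⁻¹) * d := by group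
        _ = (d' : G)⁻¹ * ((d' : G) * t₁ * (d' : G)⁻¹) * d := by rw [h3]
        _ = t₁ * ((d' : G)⁻¹ * d) := by group
    have hcE : (d' : G)⁻¹ * d ∈ E := E.mul_mem (E.inv_mem d'.2) d.2
    have hc1 : (d' : G)⁻¹ * d = 1 := by
      apply hpre.three _ a b (t₁ • b) hab (Ne.symm ht₁b) (Ne.symm ht₁ba) (hEa _ hcE) (hEb _ hcE)
      rw [← mul_smul, hc, mul_smul, hEb _ hcE]
    have hdd' : (d : G) = d' := by
      have : (d : G) = d' * ((d' : G)⁻¹ * d) := by group
      rw [this, hc1, mul_one]
    rw [Subtype.ext hdd']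
  have hlb : N * e ≤ Inv.card := by
    have h1 := Nat.card_le_card_of_injective f hf_inj
    rw [Nat.card_prod, hcardInv, Nat.card_eq_fintype_card (α := Ω)] at h1
    exact h1
  have hcardeq : Inv.card = e * N := le_antisymm hub' (by rw [mul_comm]; exact hlb)
  have hf_bij : Function.Bijective f := by
    apply hf_inj.bijective_of_nat_card_le
    rw [Nat.card_prod, hcardInv, Nat.card_eq_fintype_card (α := Ω), hcardeq, mul_comm]
  have hconj : ∀ x : G, orderOf x = 2 → IsConj t₁ x := by
    intro x hx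
    obtain ⟨p, hp⟩ := hf_bij.2 ⟨x, hx⟩
    have hp' : g p.1 * ((p.2 : G) * t₁ * (p.2 : G)⁻¹) * (g p.1)⁻¹ = x := congrArg Subtype.val hp
    rw [isConj_iff]
    refine ⟨g p.1 * (p.2 : G), ?_⟩
    rw [← hp']
    group
  refine ⟨fun x y hx hy => (hconj x hx).symm.trans (hconj y hy), ?_⟩
  rw [hcardInv, hcardeq]

/-- even degree, two-point stabilizer of odd order inverted by the elements swapping the two
points: all involutions are conjugate and there are `e * (|Ω| - 1)` of them -/
theorem invol_of_even_degree [Finite G] [Fintype Ω] (hZ : Cfsg.IsZassenhausGroup G Ω) {a b : Ω}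
    (hab : a ≠ b) (hodd : Odd (Nat.card ↥(stabilizer G a ⊓ stabilizer G b)))
    (hN : Even (Fintype.card Ω))
    (hinv : ∀ s : G, s • a = b → s • b = a → ∀ d ∈ stabilizer G a ⊓ stabilizer G b,
      s * d * s⁻¹ = d⁻¹) :
    (∀ x y : G, orderOf x = 2 → orderOf y = 2 → IsConj x y) ∧
      Nat.card {x : G // orderOf x = 2} =
        Nat.card ↥(stabilizer G a ⊓ stabilizer G b) * (Fintype.card Ω - 1) := by
  classical
  have hpre := zpre_of_isZassenhausGroup hZ
  letI := Fintype.ofFinite G
  set E : Subgroup G := stabilizer G a ⊓ stabilizer G b with hE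
  set e := Nat.card ↥E with he
  set N := Fintype.card Ω with hNdef
  have hEa : ∀ g ∈ E, g • a = a := fun g hg => mem_stabilizer_iff.mp (Subgroup.mem_inf.mp hg).1
  have hEb : ∀ g ∈ E, g • b = b := fun g hg => mem_stabilizer_iff.mp (Subgroup.mem_inf.mp hg).2
  obtain ⟨K, hKle, hKn, hreg, hfpf⟩ := hpre.exists_regular_kernel a
  obtain ⟨hKcard, hGcard⟩ := hpre.card_of_regular_kernel hab K hKle hreg
  have hN2 : 2 ≤ N := by
    have : ({a, b} : Finset Ω).card ≤ Fintype.card Ω := Finset.card_le_univ _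
    rw [Finset.card_pair hab] at this
    exact this
  -- the swapper
  obtain ⟨s, hsa, hsb⟩ := hpre.trans2 a b b a hab hab.symm
  have hssE : s * s ∈ E := by
    rw [hE, Subgroup.mem_inf, mem_stabilizer_iff, mem_stabilizer_iff, mul_smul, mul_smul, hsa, hsb,
      hsa]
    exact ⟨rfl, rfl⟩
  have hss : s * s = 1 := by
    have h1 := hinv s hsa hsb (s * s) hssE
    have h2 : s * (s * s) * s⁻¹ = s * s := by group
    rw [h2] at h1
    apply eq_one_of_eq_inv_of_odd h1
    have h3 := orderOf_dvd_natCard (⟨s * s, hssE⟩ : ↥E)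
    rw [Subgroup.orderOf_mk] at h3
    exact Odd.of_dvd_nat hodd h3
  have hs1 : s ≠ 1 := by
    rintro rfl
    rw [one_smul] at hsa
    exact hab hsa
  have hsord : orderOf s = 2 := (orderOf_two_iff s).mpr ⟨hss, hs1⟩
  have hsi : s⁻¹ = s := inv_eq_of_mul_eq_one_right hss
  -- involutions are fixed-point-free
  have hfix0 : ∀ t : G, orderOf t = 2 →
      (Finset.univ.filter (fun x : Ω => t • x = x)).card = 0 := by
    intro t ht
    have h1 := card_fixed_filter_modEq (Ω := Ω) t ht
    have h2 : (Finset.univ.filter (fun x : Ω => t • x = x)).card ≤ 1 := by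
      rw [Finset.card_le_one]
      intro x hx y hy
      exact invol_fixed_unique_of_odd hZ hab hodd ht (Finset.mem_filter.mp hx).2
        (Finset.mem_filter.mp hy).2
    have h3 : N % 2 = 0 := Nat.even_iff.mp hN
    have h4 : N % 2 = (Finset.univ.filter (fun x : Ω => t • x = x)).card % 2 := h1
    omega
  have hmoved : ∀ t : G, orderOf t = 2 →
      (Finset.univ.filter (fun c : Ω => ¬ t • c = c)).card = N := by
    intro t ht
    have := Finset.card_filter_add_card_filter_not (s := (Finset.univ : Finset Ω))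
      (fun x : Ω => t • x = x)
    rw [Finset.card_univ, hfix0 t ht] at this
    omega
  -- upper bound
  set Inv : Finset G := Finset.univ.filter (fun t : G => orderOf t = 2) with hInv
  have hInvmem : ∀ t ∈ Inv, orderOf t = 2 := fun t ht => (Finset.mem_filter.mp ht).2
  have hub := sum_moved_le hZ hab Inv hInvmem
  rw [Finset.sum_congr rfl (fun t ht => hmoved t (hInvmem t ht)), Finset.sum_const, smul_eq_mul]
    at hub
  have hub' : Inv.card ≤ e * (N - 1) := by
    have h1 : N * N - N = (N - 1) * N := by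
      rw [Nat.sub_one_mul]
    rw [h1, ← mul_assoc] at hub
    exact Nat.le_of_mul_le_mul_right hub (by omega)
  have hcardInv : Nat.card {x : G // orderOf x = 2} = Inv.card := by
    rw [Nat.card_eq_fintype_card, Fintype.card_subtype]
  -- the order of the point stabilizer
  have hGa : Nat.card (stabilizer G a) = (N - 1) * e := by
    have : IsPretransitive G Ω := ⟨fun x y => hpre.trans1 x y⟩
    have h1 := Subgroup.card_mul_index (stabilizer G a)
    rw [index_stabilizer_of_transitive G a, Nat.card_eq_fintype_card (α := Ω), hGcard, hKcard] at h1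
    have h2 : Nat.card (stabilizer G a) * N = ((N - 1) * e) * N := by
      rw [h1]; ring
    exact Nat.eq_of_mul_eq_mul_right (by omega) h2
  -- lower bound
  let f : ↥(stabilizer G a) → {t : G // orderOf t = 2} := fun g =>
    ⟨(g : G) * s * (g : G)⁻¹, orderOf_conj_two hsord _⟩
  have hf_inj : Function.Injective f := by
    intro g g' hff
    have hff' : (g : G) * s * (g : G)⁻¹ = (g' : G) * s * (g' : G)⁻¹ := congrArg Subtype.val hff
    have hga : (g : G) • a = a := mem_stabilizer_iff.mp g.2
    have hg'a : (g' : G) • a = a := mem_stabilizer_iff.mp g'.2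
    have hc : ((g' : G)⁻¹ * g) * s = s * ((g' : G)⁻¹ * g) := by
      calc ((g' : G)⁻¹ * g) * s = (g' : G)⁻¹ * ((g : G) * s * (g : G)⁻¹) * g := by group
        _ = (g' : G)⁻¹ * ((g' : G) * s * (g' : G)⁻¹) * g := by rw [hff']
        _ = s * ((g' : G)⁻¹ * g) := by group
    have hca : ((g' : G)⁻¹ * g) • a = a := by
      rw [mul_smul, hga, inv_smul_eq_iff, hg'a]
    have hcb : ((g' : G)⁻¹ * g) • b = b := by
      rw [← hsa, ← mul_smul, hc, mul_smul, hca]
    have hcE : (g' : G)⁻¹ * g ∈ E :=
      Subgroup.mem_inf.mpr ⟨mem_stabilizer_iff.mpr hca, mem_stabilizer_iff.mpr hcb⟩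
    have h1 := hinv s hsa hsb _ hcE
    have h2 : s * ((g' : G)⁻¹ * g) * s⁻¹ = (g' : G)⁻¹ * g := by
      rw [← hc]; group
    rw [h2] at h1
    have h3 : (g' : G)⁻¹ * g = 1 := by
      apply eq_one_of_eq_inv_of_odd h1
      have h4 := orderOf_dvd_natCard (⟨_, hcE⟩ : ↥E)
      rw [Subgroup.orderOf_mk] at h4
      exact Odd.of_dvd_nat hodd h4
    apply Subtype.ext
    have : (g : G) = g' * ((g' : G)⁻¹ * g) := by group
    rw [this, h3, mul_one]
  have hlb : (N - 1) * e ≤ Inv.card := by
    have h1 := Nat.card_le_card_of_injective f hf_inj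
    rwa [hGa, hcardInv] at h1
  have hcardeq : Inv.card = e * (N - 1) := le_antisymm hub' (by rw [mul_comm]; exact hlb)
  have hf_bij : Function.Bijective f := by
    apply hf_inj.bijective_of_nat_card_le
    rw [hGa, hcardInv, hcardeq, mul_comm]
  have hconj : ∀ x : G, orderOf x = 2 → IsConj s x := by
    intro x hx
    obtain ⟨g, hg⟩ := hf_bij.2 ⟨x, hx⟩
    have hg' : (g : G) * s * (g : G)⁻¹ = x := congrArg Subtype.val hg
    rw [isConj_iff]
    exact ⟨g, hg'⟩
  refine ⟨fun x y hx hy => (hconj x hx).symm.trans (hconj y hy), ?_⟩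
  rw [hcardInv, hcardeq]

end invol

end Cfsg.Agent.Lib.Helper28
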