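import Mathlib
import Cfsg.Prelude.Def_GeometricClasses
import Cfsg.Agent.Lib.Helper61.AschDefs
import Cfsg.Agent.Lib.Helper61.AschBasic
import Cfsg.Agent.Lib.Helper61.AschGlueA
import Cfsg.Agent.Lib.Helper46.AschOBasic
import Cfsg.Agent.Lib.Helper46.AschEDefs
import Cfsg.Agent.Lib.Helper81.AschOR

/-!
# Keystone K-OEven-R (582601, architect helper46): `egeom_of_reducible`, reducible similarity groups of a
quadratic form in any characteristic (adapted from helper81's `ogeom_of_reducible`).
-/

set_option autoImplicit false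

namespace Cfsg.Agent.Lib.Helper28.AschE

open Cfsg Cfsg.Geo Cfsg.Agent.Lib.Helper61.Asch Cfsg.Agent.Lib.Helper46.AschO
  Cfsg.Agent.Lib.Helper46.AschE
open scoped Matrix Kronecker MatrixGroups

variable {F : Type*} [Field F] [Fintype F] {n : ℕ}

local notation "V" => (Fin n → F)
local notation "Mat" => Matrix (Fin n) (Fin n) F

omit [Fintype F] in
theorem Q_add (Q : V → F) (u v : V) : Q (u + v) = Q u + Q v + QuadraticMap.polar Q u v := by
  unfold QuadraticMap.polar
  ring

/-- the singular vectors of a subspace on which the polar form vanishes -/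
def singSub (Q : V → F) (hQ : IsNondegenerateQuadraticForm Q) (R : Submodule F V)
    (hR : ∀ u ∈ R, ∀ v ∈ R, QuadraticMap.polar Q u v = 0) : Submodule F V where
  carrier := {u | u ∈ R ∧ Q u = 0}
  zero_mem' := by
    refine ⟨R.zero_mem, ?_⟩
    have := hQ.smul 0 0
    simpa using this
  add_mem' := by
    rintro a b ⟨ha, ha0⟩ ⟨hb, hb0⟩
    refine ⟨R.add_mem ha hb, ?_⟩
    rw [Q_add Q, ha0, hb0, hR a ha b hb]
    ring
  smul_mem' := by
    rintro c a ⟨ha, ha0⟩
    refine ⟨R.smul_mem c ha, ?_⟩
    rw [hQ.smul, ha0, mul_zero]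

/-- K-OEven-R. -/
theorem egeom_of_reducible (Q : V → F) (hQ : IsNondegenerateQuadraticForm Q)
    (K : Subgroup (GL (Fin n) F)) (hK : K ≤ quadSimilarityGroup Q)
    (hred : ¬ ActsIrreducibly (matrixSet K)) : EGeom Q K := by
  classical
  unfold ActsIrreducibly at hred
  rw [not_forall] at hred
  obtain ⟨W, hW⟩ := hred
  rw [Classical.not_imp, not_or] at hW
  obtain ⟨hWinv, hWbot, hWtop⟩ := hW
  have hPinv := Cfsg.Agent.Lib.Helper81.AschO.perpQ_invariant Q hQ K hK W hWinv
  by_cases hR : W ⊓ perpQ Q hQ W = ⊥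
  · -- `W` is non-degenerate
    refine ⟨subspaceStabilizer W, Or.inr (Or.inl ⟨W, hWbot, hWtop, ?_, rfl⟩),
      le_subspaceStabilizer hWinv⟩
    have key : ∀ w ∈ W, w ≠ 0 → ∃ x ∈ W, QuadraticMap.polar Q x w ≠ 0 := by
      intro w hw hw0
      by_contra hcon
      apply hw0
      have hwp : w ∈ perpQ Q hQ W := by
        rw [mem_perpQ]
        intro x hx
        by_contra hne
        exact hcon ⟨x, hx, hne⟩
      have : w ∈ W ⊓ perpQ Q hQ W := ⟨hw, hwp⟩
      rw [hR] at this
      exact (Submodule.mem_bot F).1 this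
    intro w hw hw0
    obtain ⟨x, hx, hne⟩ := key w hw hw0
    exact ⟨⟨x, hx, hne⟩, ⟨x, hx, by rwa [QuadraticMap.polar_comm]⟩⟩
  · -- the radical `R`
    set R : Submodule F V := W ⊓ perpQ Q hQ W with hRdef
    have hRinv : ∀ s ∈ matrixSet K, R.map (Matrix.toLin' s) ≤ R := by
      intro s hs
      rintro _ ⟨v, hv, rfl⟩
      exact ⟨hWinv s hs ⟨v, hv.1, rfl⟩, hPinv s hs ⟨v, hv.2, rfl⟩⟩
    have hpol : ∀ u ∈ R, ∀ v ∈ R, QuadraticMap.polar Q u v = 0 := by
      intro u hu v hv
      exact (mem_perpQ hQ W v).1 hv.2 u hu.1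
    -- the singular vectors of the radical
    set R₀ : Submodule F V := singSub Q hQ R hpol with hR₀def
    have hR₀inv : ∀ s ∈ matrixSet K, R₀.map (Matrix.toLin' s) ≤ R₀ := by
      rintro _ ⟨g, hg, rfl⟩ _ ⟨v, hv, rfl⟩
      obtain ⟨c, hc⟩ := hK hg
      refine ⟨hRinv _ (mem_matrixSet hg) ⟨v, hv.1, rfl⟩, ?_⟩
      rw [Matrix.toLin'_apply, hc, hv.2, mul_zero]
    by_cases hR₀ : R₀ = ⊥
    · -- characteristic two, the radical is a non-singular point
      have h2 : (2 : F) = 0 := by
        by_contra h2
        apply hR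
        rw [eq_bot_iff]
        intro r hr
        have h0 : QuadraticMap.polar Q r r = 0 := hpol r hr r hr
        have h1 : 2 * Q r = 0 := by rw [two_mul_Q hQ, h0]
        have h3 : Q r = 0 := (mul_eq_zero.1 h1).resolve_left h2
        have : r ∈ R₀ := ⟨hr, h3⟩
        rw [hR₀] at this
        exact this
      obtain ⟨u, huR, hu0⟩ := Submodule.exists_mem_ne_zero_of_ne_bot hR
      have hQu : Q u ≠ 0 := by
        intro h
        apply hu0
        have : u ∈ R₀ := ⟨huR, h⟩
        rw [hR₀] at this
        exact (Submodule.mem_bot F).1 this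
      -- squaring is surjective
      have hsq : Function.Surjective (fun x : F => x ^ 2) := by
        apply Finite.surjective_of_injective
        intro x y hxy
        have h4 : (x - y) ^ 2 = 0 := by
          have : (x - y) ^ 2 = x ^ 2 + y ^ 2 - 2 * (x * y) := by ring
          rw [this, h2, zero_mul, sub_zero]
          have hxy' : x ^ 2 = y ^ 2 := hxy
          rw [hxy']
          have : y ^ 2 + y ^ 2 = 2 * y ^ 2 := by ring
          rw [this, h2, zero_mul]
        have := pow_eq_zero_iff (two_ne_zero) |>.mp h4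
        exact sub_eq_zero.mp this
      have hRspan : R = Submodule.span F {u} := by
        apply le_antisymm
        · intro v hv
          obtain ⟨c, hc⟩ := hsq (Q v / Q u)
          have hc' : c ^ 2 * Q u = Q v := by
            have : c ^ 2 = Q v / Q u := hc
            rw [this, div_mul_cancel₀ _ hQu]
          have hmem : v + c • u ∈ R₀ := by
            refine ⟨R.add_mem hv (R.smul_mem c huR), ?_⟩
            rw [Q_add Q, hQ.smul, hc', hpol v hv _ (R.smul_mem c huR), add_zero]
            have : Q v + Q v = 2 * Q v := by ring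
            rw [this, h2, zero_mul]
          rw [hR₀] at hmem
          have h5 : v + c • u = 0 := (Submodule.mem_bot F).1 hmem
          have h6 : v = (-c) • u := by
            rw [neg_smul]
            exact eq_neg_of_add_eq_zero_left h5
          rw [h6]
          exact Submodule.smul_mem _ _ (Submodule.mem_span_singleton_self u)
        · rw [Submodule.span_le]
          intro x hx
          rw [Set.mem_singleton_iff] at hx
          rw [hx]
          exact huR
      refine ⟨subspaceStabilizer (Submodule.span F {u}),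
        Or.inr (Or.inr (Or.inl ⟨u, h2, hQu, rfl⟩)), ?_⟩
      rw [← hRspan]
      exact le_subspaceStabilizer hRinv
    · -- a totally singular invariant subspace
      refine ⟨subspaceStabilizer R₀, Or.inl ⟨R₀, hR₀, ?_, rfl⟩, le_subspaceStabilizer hR₀inv⟩
      intro r hr
      exact hr.2

end Cfsg.Agent.Lib.Helper28.AschE
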