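import Mathlib
import Cfsg.Agent.Lib.Helper28.ZassTwoPoint
import Cfsg.Agent.Lib.Helper28.ZassPSL
import Cfsg.Agent.Lib.Helper28.ZassInvol

set_option autoImplicit false

/-!
# Sharply 3-transitive groups of even degree: elementary structure

`S3Setup G Ω a b c s`: `G` is 2-transitive with trivial 3-point stabilizers, the stabilizer of
`a, b` is transitive on the remaining points, and `s` swaps `a, b` and fixes `c`.
-/

namespace Cfsg.Agent.Lib.Helper28

open MulAction

structure S3Setup (G Ω : Type*) [Group G] [MulAction G Ω] (a b c : Ω) (s : G) : Prop where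
  pre : ZPre G Ω
  hab : a ≠ b
  hca : c ≠ a
  hcb : c ≠ b
  reg : ∀ x y : Ω, x ≠ a → x ≠ b → y ≠ a → y ≠ b → ∃ g : G, g • a = a ∧ g • b = b ∧ g • x = y
  sa : s • a = b
  sb : s • b = a
  sc : s • c = c

namespace S3Setup

variable {G Ω : Type*} [Group G] [MulAction G Ω] {a b c : Ω} {s : G}

theorem s_sq (h : S3Setup G Ω a b c s) : s * s = 1 := by
  apply h.pre.three (s * s) a b c h.hab (Ne.symm h.hcb) (Ne.symm h.hca)
  · rw [mul_smul, h.sa, h.sb]
  · rw [mul_smul, h.sb, h.sa]
  · rw [mul_smul, h.sc, h.sc]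

theorem s_ne_one (h : S3Setup G Ω a b c s) : s ≠ 1 := by
  intro h1
  have := h.sa
  rw [h1, one_smul] at this
  exact h.hab this

theorem s_inv (h : S3Setup G Ω a b c s) : s⁻¹ = s := inv_eq_of_mul_eq_one_right h.s_sq

/-- uniqueness in sharp 3-transitivity -/
theorem eq_of_three (h : S3Setup G Ω a b c s) {x y : G} {p q r : Ω} (hpq : p ≠ q) (hpr : p ≠ r)
    (hqr : q ≠ r) (h1 : x • p = y • p) (h2 : x • q = y • q) (h3 : x • r = y • r) : x = y := by
  have : y⁻¹ * x = 1 := by
    apply h.pre.three (y⁻¹ * x) p q r hpq hqr hpr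
    · rw [mul_smul, h1, inv_smul_smul]
    · rw [mul_smul, h2, inv_smul_smul]
    · rw [mul_smul, h3, inv_smul_smul]
  calc x = y * (y⁻¹ * x) := by group
    _ = y := by rw [this, mul_one]

/-- an involution with a fixed point has a second one (even degree) -/
theorem exists_second_fixed [Fintype Ω] (hev : Even (Fintype.card Ω)) {t : G} (htt : t * t = 1)
    (ht1 : t ≠ 1) {x : Ω} (hx : t • x = x) : ∃ y : Ω, y ≠ x ∧ t • y = y := by
  classical
  have hord : orderOf t = 2 := (Cfsg.Agent.S0740.orderOf_two_iff t).mpr ⟨htt, ht1⟩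
  have hmod := card_fixed_filter_modEq (Ω := Ω) t hord
  have hxm : x ∈ Finset.univ.filter (fun y : Ω => t • y = y) := by simp [hx]
  have hpos : 0 < (Finset.univ.filter (fun y : Ω => t • y = y)).card := Finset.card_pos.mpr ⟨x, hxm⟩
  have heven : Even (Finset.univ.filter (fun y : Ω => t • y = y)).card := by
    rw [Nat.even_iff] at hev ⊢
    have := hmod
    unfold Nat.ModEq at this
    omega
  have h2 : 1 < (Finset.univ.filter (fun y : Ω => t • y = y)).card := by
    rcases heven with ⟨k, hk⟩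
    omega
  obtain ⟨y, hy, hyx⟩ := Finset.exists_mem_ne h2 x
  exact ⟨y, hyx, (Finset.mem_filter.mp hy).2⟩

/-- the second fixed point of `s` -/
theorem exists_c' [Fintype Ω] (h : S3Setup G Ω a b c s) (hev : Even (Fintype.card Ω)) :
    ∃ c' : Ω, c' ≠ c ∧ c' ≠ a ∧ c' ≠ b ∧ s • c' = c' := by
  obtain ⟨y, hyc, hy⟩ := exists_second_fixed hev h.s_sq h.s_ne_one h.sc
  refine ⟨y, hyc, ?_, ?_, hy⟩
  · rintro rfl
    rw [h.sa] at hy
    exact h.hab hy.symm
  · rintro rfl
    rw [h.sb] at hy
    exact h.hab hy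

/-- the element `z` of the two-point stabilizer commuting with `s` -/
theorem exists_z [Fintype Ω] (h : S3Setup G Ω a b c s) (hev : Even (Fintype.card Ω)) :
    ∃ z : G, z • a = a ∧ z • b = b ∧ z ≠ 1 ∧ z * z = 1 ∧ s * z = z * s ∧
      ∀ x : G, x • a = a → x • b = b → s * x = x * s → x = 1 ∨ x = z := by
  obtain ⟨c', hc'c, hc'a, hc'b, hsc'⟩ := h.exists_c' hev
  obtain ⟨z, hza, hzb, hzc⟩ := h.reg c c' h.hca h.hcb hc'a hc'b
  have hzia : z⁻¹ • a = a := by rw [inv_smul_eq_iff, hza]
  have hzib : z⁻¹ • b = b := by rw [inv_smul_eq_iff, hzb]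
  have hcomm : z * s * z⁻¹ = s := by
    apply h.eq_of_three h.hab (Ne.symm hc'a) (Ne.symm hc'b)
    · rw [mul_smul, mul_smul, hzia, h.sa, hzb]
    · rw [mul_smul, mul_smul, hzib, h.sb, hza]
    · have hzic' : z⁻¹ • c' = c := by rw [inv_smul_eq_iff, hzc]
      rw [mul_smul, mul_smul, hzic', h.sc, hzc, hsc']
  have hsz : s * z = z * s := by
    have : z * s = s * z := by
      calc z * s = (z * s * z⁻¹) * z := by group
        _ = s * z := by rw [hcomm]
    exact this.symm
  have hzc' : z • c' = c := by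
    -- `z • c'` is fixed by `s`
    have hfix : s • (z • c') = z • c' := by
      rw [← mul_smul, hsz, mul_smul, hsc']
    have hne : z • c' ≠ c' := by
      intro hh
      have : z • c = z • c' := by rw [hzc, hh]
      exact hc'c (MulAction.injective z this).symm
    -- fixed points of `s` are `c` and `c'`
    by_contra hcon
    have hne_a : z • c' ≠ a := by
      intro hh
      rw [← hza] at hh
      exact hc'a (MulAction.injective z hh)
    have := h.pre.three s c c' (z • c') (Ne.symm hc'c) (Ne.symm hne) (Ne.symm hcon) h.sc hsc' hfix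
    exact h.s_ne_one this
  have hzz : z * z = 1 := by
    apply h.pre.three (z * z) a b c h.hab (Ne.symm h.hcb) (Ne.symm h.hca)
    · rw [mul_smul, hza, hza]
    · rw [mul_smul, hzb, hzb]
    · rw [mul_smul, hzc, hzc']
  have hz1 : z ≠ 1 := by
    intro h1
    rw [h1, one_smul] at hzc
    exact hc'c hzc.symm
  refine ⟨z, hza, hzb, hz1, hzz, hsz, ?_⟩
  intro x hxa hxb hxs
  -- `x` permutes the fixed points of `s`
  have hfix : s • (x • c) = x • c := by rw [← mul_smul, hxs, mul_smul, h.sc]
  have hxc_a : x • c ≠ a := by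
    intro hh
    rw [← hxa] at hh
    exact h.hca (MulAction.injective x hh)
  by_cases hxc : x • c = c
  · left
    exact h.pre.three x a b c h.hab (Ne.symm h.hcb) (Ne.symm h.hca) hxa hxb hxc
  · right
    have hxc' : x • c = c' := by
      by_contra hcon
      have := h.pre.three s c c' (x • c) (Ne.symm hc'c) (Ne.symm hcon) (Ne.symm hxc) h.sc hsc' hfix
      exact h.s_ne_one this
    apply h.eq_of_three h.hab (Ne.symm h.hca) (Ne.symm h.hcb)
    · rw [hxa, hza]
    · rw [hxb, hzb]
    · rw [hxc', hzc]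

end S3Setup

end Cfsg.Agent.Lib.Helper28
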