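import Mathlib
import Cfsg.Agent.Lib.Helper28.S3GroupA

set_option autoImplicit false

/-!
# Sharply 3-transitive groups of even degree: the Frobenius kernel and the central involution
-/

namespace Cfsg.Agent.Lib.Helper28

open MulAction

/-- `F` is the Frobenius kernel of the stabilizer of `a` -/
structure IsKer (G : Type*) {Ω : Type*} [Group G] [MulAction G Ω] (a : Ω) (F : Subgroup G) :
    Prop where
  le : F ≤ stabilizer G a
  normal : (F.subgroupOf (stabilizer G a)).Normal
  reg : ∀ y z : Ω, y ≠ a → z ≠ a → ∃! u : F, (u : G) • y = z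
  fpf : ∀ k ∈ F, k ≠ 1 → ∀ c : Ω, c ≠ a → k • c ≠ c
  out : ∀ x ∈ stabilizer G a, x ∉ F → ∃ c : Ω, c ≠ a ∧ x • c = c

section ker

variable {G Ω : Type*} [Group G] [MulAction G Ω]

theorem ZPre.exists_isKer [Finite Ω] (h : ZPre G Ω) (a : Ω) : ∃ F : Subgroup G, IsKer G a F := by
  obtain ⟨K, hKle, hKmem, hKtrans, -⟩ := h.exists_kernel a
  have hfpf : ∀ k ∈ K, k ≠ 1 → ∀ c : Ω, c ≠ a → k • c ≠ c := by
    intro k hk hk1
    exact ((hKmem k (hKle hk)).mp hk).resolve_left hk1
  refine ⟨K, hKle, ?_, ?_, hfpf, ?_⟩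
  · constructor
    rintro ⟨k, hka⟩ hk ⟨g, hga⟩
    rw [Subgroup.mem_subgroupOf] at hk ⊢
    show g * k * g⁻¹ ∈ K
    have hga' : g • a = a := hga
    have hgia : g⁻¹ • a = a := by rw [inv_smul_eq_iff, hga']
    have hmem : g * k * g⁻¹ ∈ stabilizer G a :=
      (stabilizer G a).mul_mem ((stabilizer G a).mul_mem hga hka) ((stabilizer G a).inv_mem hga)
    rw [hKmem _ hmem]
    by_cases hk1 : k = 1
    · left; rw [hk1]; group
    · right
      intro c hca hfix
      have hc' : g⁻¹ • c ≠ a := by
        intro h1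
        apply hca
        rw [← hga', ← h1, smul_inv_smul]
      apply hfpf k hk hk1 (g⁻¹ • c) hc'
      have h2 : g⁻¹ • ((g * k * g⁻¹) • c) = g⁻¹ • c := by rw [hfix]
      simpa only [mul_smul, inv_smul_smul] using h2
  · intro y z hy hz
    obtain ⟨k, hk, hkyz⟩ := hKtrans y z hy hz
    refine ⟨⟨k, hk⟩, hkyz, ?_⟩
    rintro ⟨k', hk'⟩ hk'yz
    have hk'yz' : k' • y = z := hk'yz
    apply Subtype.ext
    show k' = k
    by_contra hne
    have hmem : k⁻¹ * k' ∈ K := K.mul_mem (K.inv_mem hk) hk'
    have hne1 : k⁻¹ * k' ≠ 1 := by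
      intro h1
      apply hne
      have : k' = k * (k⁻¹ * k') := by group
      rw [this, h1, mul_one]
    apply hfpf _ hmem hne1 y hy
    rw [mul_smul, hk'yz', ← hkyz, inv_smul_smul]
  · intro x hx hxK
    by_contra hcon
    push Not at hcon
    apply hxK
    rw [hKmem x hx]
    right
    intro c hc hfix
    exact hcon c hc hfix

variable {a : Ω} {F : Subgroup G}

theorem IsKer.smul_a (hF : IsKer G a F) {f : G} (hf : f ∈ F) : f • a = a :=
  mem_stabilizer_iff.mp (hF.le hf)

theorem IsKer.conj_mem (hF : IsKer G a F) {x f : G} (hx : x • a = a) (hf : f ∈ F) :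
    x * f * x⁻¹ ∈ F := by
  have := hF.normal.conj_mem ⟨f, hF.le hf⟩ (Subgroup.mem_subgroupOf.mpr hf) ⟨x, hx⟩
  exact Subgroup.mem_subgroupOf.mp this

theorem IsKer.eq_of_smul_eq (hF : IsKer G a F) {f f' : G} (hf : f ∈ F) (hf' : f' ∈ F) {y : Ω}
    (hy : y ≠ a) (h : f • y = f' • y) : f = f' := by
  have hne : f' • y ≠ a := by
    intro hh
    rw [← hF.smul_a hf'] at hh
    exact hy (MulAction.injective f' hh)
  obtain ⟨w, -, hw⟩ := hF.reg y (f' • y) hy hne
  have h1 := hw ⟨f, hf⟩ h
  have h2 := hw ⟨f', hf'⟩ rfl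
  exact congrArg Subtype.val (h1.trans h2.symm)

theorem IsKer.exists_smul_eq (hF : IsKer G a F) {y z : Ω} (hy : y ≠ a) (hz : z ≠ a) :
    ∃ f ∈ F, f • y = z := by
  obtain ⟨w, hw, -⟩ := hF.reg y z hy hz
  exact ⟨w, w.2, hw⟩

end ker

namespace S3Setup

variable {G Ω : Type*} [Group G] [MulAction G Ω] {a b c : Ω} {s : G} {F : Subgroup G}

/-- an involution of the two-point stabilizer inverts the kernel -/
theorem invol_inverts [Finite G] (h : S3Setup G Ω a b c s) (hF : IsKer G a F) {t : G}
    (hta : t • a = a) (htb : t • b = b) (htt : t * t = 1) (ht1 : t ≠ 1) :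
    ∀ f ∈ F, t * f * t⁻¹ = f⁻¹ := by
  have hti : t⁻¹ = t := inv_eq_of_mul_eq_one_right htt
  let φ : F →* F :=
    { toFun := fun f => ⟨t * f * t⁻¹, hF.conj_mem hta f.2⟩
      map_one' := by apply Subtype.ext; simp
      map_mul' := by
        intro x y
        apply Subtype.ext
        show t * (x * y : G) * t⁻¹ = (t * x * t⁻¹) * (t * y * t⁻¹)
        group }
  have hfpf : MonoidHom.FixedPointFree φ := by
    intro f hf
    have hf' : t * (f : G) * t⁻¹ = f := congrArg Subtype.val hf
    -- `f • b` is fixed by `t`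
    have hfix : t • ((f : G) • b) = (f : G) • b := by
      have : t * (f : G) = (f : G) * t := by
        calc t * (f : G) = (t * f * t⁻¹) * t := by group
          _ = f * t := by rw [hf']
      rw [← mul_smul, this, mul_smul, htb]
    have hfa : (f : G) • a = a := hF.smul_a f.2
    rcases h.pre.fix_ab h.hab ht1 hta htb hfix with h1 | h1
    · exfalso
      rw [← hfa] at h1
      exact h.hab (MulAction.injective (f : G) h1).symm
    · by_contra hne
      have hne' : (f : G) ≠ 1 := fun hh => hne (Subtype.ext hh)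
      exact hF.fpf f f.2 hne' b (Ne.symm h.hab) h1
  have hinv : Function.Involutive φ := by
    intro f
    apply Subtype.ext
    show t * (t * (f : G) * t⁻¹) * t⁻¹ = f
    rw [hti]
    calc t * (t * (f : G) * t) * t = (t * t) * f * (t * t) := by group
      _ = f := by rw [htt, one_mul, mul_one]
  have := hfpf.coe_eq_inv_of_involutive hinv
  intro f hf
  have h1 := congrFun this ⟨f, hf⟩
  exact congrArg Subtype.val h1

/-- the two-point stabilizer has a unique involution -/
theorem invol_unique [Finite G] (h : S3Setup G Ω a b c s) (hF : IsKer G a F) {t t' : G}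
    (hta : t • a = a) (htb : t • b = b) (htt : t * t = 1) (ht1 : t ≠ 1)
    (ht'a : t' • a = a) (ht'b : t' • b = b) (ht't' : t' * t' = 1) (ht'1 : t' ≠ 1) : t = t' := by
  have h1 := h.invol_inverts hF hta htb htt ht1
  have h2 := h.invol_inverts hF ht'a ht'b ht't' ht'1
  have ht'i : t'⁻¹ = t' := inv_eq_of_mul_eq_one_right ht't'
  have hti : t⁻¹ = t := inv_eq_of_mul_eq_one_right htt
  -- `t * t'` centralizes `F`, hence fixes every point
  have hcent : ∀ f ∈ F, (t * t') * f = f * (t * t') := by
    intro f hf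
    have e1 : t' * f * t' = f⁻¹ := by have := h2 f hf; rwa [ht'i] at this
    have e2 : t * f⁻¹ * t = f := by
      have := h1 f⁻¹ (F.inv_mem hf)
      rwa [hti, inv_inv] at this
    calc (t * t') * f = t * (t' * f * t') * t' := by
            rw [show t * (t' * f * t') * t' = t * t' * f * (t' * t') by group, ht't', mul_one]
      _ = t * f⁻¹ * t' := by rw [e1]
      _ = (t * f⁻¹ * t) * (t * t') := by
            rw [show (t * f⁻¹ * t) * (t * t') = t * f⁻¹ * (t * t) * t' by group, htt, mul_one]
      _ = f * (t * t') := by rw [e2]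
  have hone : t * t' = 1 := by
    apply h.pre.faithful
    intro x
    by_cases hxa : x = a
    · rw [hxa, mul_smul, ht'a, hta]
    · obtain ⟨f, hf, hfx⟩ := hF.exists_smul_eq (Ne.symm h.hab) hxa
      rw [← hfx, ← mul_smul, hcent f hf, mul_smul, mul_smul, ht'b, htb]
  calc t = t * (t' * t') := by rw [ht't', mul_one]
    _ = (t * t') * t' := by group
    _ = t' := by rw [hone, one_mul]

/-- the involution is central in the two-point stabilizer -/
theorem invol_central [Finite G] (h : S3Setup G Ω a b c s) (hF : IsKer G a F) {t : G}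
    (hta : t • a = a) (htb : t • b = b) (htt : t * t = 1) (ht1 : t ≠ 1) {x : G}
    (hxa : x • a = a) (hxb : x • b = b) : x * t = t * x := by
  have hxia : x⁻¹ • a = a := by rw [inv_smul_eq_iff, hxa]
  have hxib : x⁻¹ • b = b := by rw [inv_smul_eq_iff, hxb]
  have key : x * t * x⁻¹ = t := by
    apply h.invol_unique hF _ _ _ _ hta htb htt ht1
    · rw [mul_smul, mul_smul, hxia, hta, hxa]
    · rw [mul_smul, mul_smul, hxib, htb, hxb]
    · calc x * t * x⁻¹ * (x * t * x⁻¹) = x * (t * t) * x⁻¹ := by group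
        _ = 1 := by rw [htt]; group
    · intro hh
      apply ht1
      calc t = x⁻¹ * (x * t * x⁻¹) * x := by group
        _ = 1 := by rw [hh]; group
  calc x * t = (x * t * x⁻¹) * x := by group
    _ = t * x := by rw [key]

end S3Setup

end Cfsg.Agent.Lib.Helper28
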