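import Mathlib
import Cfsg.Agent.Lib.Helper28.S3GroupB

set_option autoImplicit false

/-!
# Sharply 3-transitive groups of even degree: orders and the projection onto the two-point
stabilizer
-/

namespace Cfsg.Agent.Lib.Helper28

open MulAction

namespace S3Setup

variable {G Ω : Type*} [Group G] [MulAction G Ω] {a b c : Ω} {s : G} {F : Subgroup G}

theorem mem_H_iff {x : G} : x ∈ stabilizer G a ⊓ stabilizer G b ↔ x • a = a ∧ x • b = b := by
  rw [Subgroup.mem_inf, mem_stabilizer_iff, mem_stabilizer_iff]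

/-- the two-point stabilizer is regular on the remaining points -/
theorem card_H [Fintype Ω] (h : S3Setup G Ω a b c s) :
    Nat.card ↥(stabilizer G a ⊓ stabilizer G b) = Fintype.card Ω - 2 := by
  classical
  have hsub : Fintype.card {y : Ω // y ≠ a ∧ y ≠ b} = Fintype.card Ω - 2 := by
    rw [Fintype.card_subtype]
    have : (Finset.univ.filter fun y : Ω => y ≠ a ∧ y ≠ b) = Finset.univ \ {a, b} := by
      ext y
      simp only [Finset.mem_filter, Finset.mem_univ, true_and, Finset.mem_sdiff, Finset.mem_insert,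
        Finset.mem_singleton, not_or]
    rw [this, Finset.card_sdiff_of_subset (Finset.subset_univ _), Finset.card_pair h.hab,
      Finset.card_univ]
  rw [← hsub, ← Nat.card_eq_fintype_card]
  apply Nat.card_congr
  refine Equiv.ofBijective (fun x => ⟨(x : G) • c, ?_, ?_⟩) ⟨?_, ?_⟩
  · intro hh
    have hxa := (mem_H_iff.mp x.2).1
    exact h.hca (MulAction.injective (x : G) (hh.trans hxa.symm))
  · intro hh
    have hxb := (mem_H_iff.mp x.2).2
    exact h.hcb (MulAction.injective (x : G) (hh.trans hxb.symm))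
  · intro x y hxy
    have hxy' : (x : G) • c = (y : G) • c := congrArg Subtype.val hxy
    apply Subtype.ext
    apply h.eq_of_three h.hab (Ne.symm h.hca) (Ne.symm h.hcb)
    · rw [(mem_H_iff.mp x.2).1, (mem_H_iff.mp y.2).1]
    · rw [(mem_H_iff.mp x.2).2, (mem_H_iff.mp y.2).2]
    · exact hxy'
  · rintro ⟨y, hya, hyb⟩
    obtain ⟨g, hga, hgb, hgc⟩ := h.reg c y h.hca h.hcb hya hyb
    exact ⟨⟨g, mem_H_iff.mpr ⟨hga, hgb⟩⟩, Subtype.ext hgc⟩

theorem card_F [Finite G] [Fintype Ω] (h : S3Setup G Ω a b c s) (hF : IsKer G a F) :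
    Nat.card F = Fintype.card Ω - 1 :=
  (h.pre.card_of_regular_kernel h.hab F hF.le hF.reg).1

theorem card_G [Finite G] [Fintype Ω] (h : S3Setup G Ω a b c s) (hF : IsKer G a F) :
    Nat.card G = Fintype.card Ω * ((Fintype.card Ω - 1) * (Fintype.card Ω - 2)) := by
  have := (h.pre.card_of_regular_kernel h.hab F hF.le hF.reg).2
  rw [h.card_F hF, h.card_H] at this
  exact this

theorem card_B [Finite G] [Fintype Ω] (h : S3Setup G Ω a b c s) (hF : IsKer G a F) :
    Nat.card (stabilizer G a) = (Fintype.card Ω - 1) * (Fintype.card Ω - 2) := by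
  have : IsPretransitive G Ω := ⟨fun x y => h.pre.trans1 x y⟩
  have h1 := Subgroup.card_mul_index (stabilizer G a)
  rw [index_stabilizer_of_transitive G a, Nat.card_eq_fintype_card (α := Ω), h.card_G hF] at h1
  have hpos : 0 < Fintype.card Ω := Fintype.card_pos_iff.mpr ⟨a⟩
  have : Nat.card (stabilizer G a) * Fintype.card Ω =
      ((Fintype.card Ω - 1) * (Fintype.card Ω - 2)) * Fintype.card Ω := by
    rw [h1, mul_comm]
  exact Nat.eq_of_mul_eq_mul_right hpos this

theorem three_le_card [Fintype Ω] (h : S3Setup G Ω a b c s) : 3 ≤ Fintype.card Ω := by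
  classical
  have : ({a, b, c} : Finset Ω).card ≤ Fintype.card Ω := Finset.card_le_univ _
  rwa [Finset.card_insert_of_notMem, Finset.card_pair (Ne.symm h.hcb)] at this
  simp only [Finset.mem_insert, Finset.mem_singleton, not_or]
  exact ⟨h.hab, Ne.symm h.hca⟩

theorem s_mem_N (h : S3Setup G Ω a b c s) : s ∈ setStab2 G a b := Or.inr ⟨h.sa, h.sb⟩

theorem s_notMem_H (h : S3Setup G Ω a b c s) : s ∉ stabilizer G a ⊓ stabilizer G b := by
  intro hh
  have := (mem_H_iff.mp hh).1
  rw [h.sa] at this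
  exact h.hab this.symm

theorem H_le_N : stabilizer G a ⊓ stabilizer G b ≤ setStab2 G a b := twoStab_le_setStab2 a b

/-- elements of `N` outside `H` are of the form `s * h` -/
theorem mem_N_cases (h : S3Setup G Ω a b c s) {x : G} (hx : x ∈ setStab2 G a b) :
    x ∈ stabilizer G a ⊓ stabilizer G b ∨ (s * x ∈ stabilizer G a ⊓ stabilizer G b ∧ x • a = b) := by
  rcases hx with ⟨hxa, hxb⟩ | ⟨hxa, hxb⟩
  · exact Or.inl (mem_H_iff.mpr ⟨hxa, hxb⟩)
  · right
    refine ⟨mem_H_iff.mpr ⟨?_, ?_⟩, hxa⟩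
    · rw [mul_smul, hxa, h.sb]
    · rw [mul_smul, hxb, h.sa]

theorem card_N [Finite G] (h : S3Setup G Ω a b c s) :
    Nat.card (setStab2 G a b) = 2 * Nat.card ↥(stabilizer G a ⊓ stabilizer G b) := by
  classical
  have e : (↥(stabilizer G a ⊓ stabilizer G b) ⊕ ↥(stabilizer G a ⊓ stabilizer G b)) ≃
      ↥(setStab2 G a b) := by
    refine Equiv.ofBijective (fun p => Sum.elim
      (fun x : ↥(stabilizer G a ⊓ stabilizer G b) => (⟨(x : G), H_le_N x.2⟩ : ↥(setStab2 G a b)))
      (fun x : ↥(stabilizer G a ⊓ stabilizer G b) =>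
        (⟨s * (x : G), (setStab2 G a b).mul_mem h.s_mem_N (H_le_N x.2)⟩ : ↥(setStab2 G a b))) p)
      ⟨?_, ?_⟩
    · rintro (x | x) (y | y) hxy
      · have e0 := congrArg (fun w : ↥(setStab2 G a b) => (w : G)) hxy
        simp only [Sum.elim_inl] at e0
        rw [Subtype.ext e0]
      · exfalso
        have e1 := congrArg (fun w : ↥(setStab2 G a b) => (w : G)) hxy
        simp only [Sum.elim_inl, Sum.elim_inr] at e1
        apply h.s_notMem_H
        have : s = (x : G) * (y : G)⁻¹ := by rw [e1]; group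
        rw [this]
        exact (stabilizer G a ⊓ stabilizer G b).mul_mem x.2
          ((stabilizer G a ⊓ stabilizer G b).inv_mem y.2)
      · exfalso
        have e1 := congrArg (fun w : ↥(setStab2 G a b) => (w : G)) hxy
        simp only [Sum.elim_inl, Sum.elim_inr] at e1
        apply h.s_notMem_H
        have : s = (y : G) * (x : G)⁻¹ := by rw [← e1]; group
        rw [this]
        exact (stabilizer G a ⊓ stabilizer G b).mul_mem y.2
          ((stabilizer G a ⊓ stabilizer G b).inv_mem x.2)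
      · have e1 := congrArg (fun w : ↥(setStab2 G a b) => (w : G)) hxy
        simp only [Sum.elim_inr] at e1
        rw [Subtype.ext (mul_left_cancel e1)]
    · rintro ⟨x, hx⟩
      rcases h.mem_N_cases hx with hxH | ⟨hsx, -⟩
      · exact ⟨Sum.inl ⟨x, hxH⟩, rfl⟩
      · refine ⟨Sum.inr ⟨s * x, hsx⟩, ?_⟩
        apply Subtype.ext
        show s * (s * x) = x
        rw [← mul_assoc, h.s_sq, one_mul]
  rw [← Nat.card_congr e, Nat.card_sum, two_mul]

/-- decomposition of the point stabilizer -/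
theorem exists_unique_decomp (h : S3Setup G Ω a b c s) (hF : IsKer G a F) {x : G}
    (hx : x • a = a) :
    ∃! y : ↥(stabilizer G a ⊓ stabilizer G b), x * (y : G)⁻¹ ∈ F := by
  have hxb : x • b ≠ a := by
    intro hh
    rw [← hx] at hh
    exact h.hab (MulAction.injective x hh).symm
  obtain ⟨f, hf, hfb⟩ := hF.exists_smul_eq (Ne.symm h.hab) hxb
  have hfa := hF.smul_a hf
  have hmem : f⁻¹ * x ∈ stabilizer G a ⊓ stabilizer G b := by
    rw [mem_H_iff]
    constructor
    · rw [mul_smul, hx, inv_smul_eq_iff, hfa]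
    · rw [mul_smul, ← hfb, inv_smul_smul]
  refine ⟨⟨f⁻¹ * x, hmem⟩, ?_, ?_⟩
  · show x * (f⁻¹ * x)⁻¹ ∈ F
    have : x * (f⁻¹ * x)⁻¹ = f := by group
    rw [this]; exact hf
  · rintro ⟨y, hy⟩ hyF
    apply Subtype.ext
    show y = f⁻¹ * x
    have hyF' : x * y⁻¹ ∈ F := hyF
    have hyb := (mem_H_iff.mp hy).2
    have : x * y⁻¹ = f := by
      apply hF.eq_of_smul_eq hyF' hf (Ne.symm h.hab)
      rw [mul_smul, inv_smul_eq_iff.mpr hyb.symm, hfb]
    calc y = (x * y⁻¹)⁻¹ * x := by group
      _ = f⁻¹ * x := by rw [this]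

/-- the projection of the point stabilizer onto the two-point stabilizer -/
noncomputable def proj (h : S3Setup G Ω a b c s) (hF : IsKer G a F) :
    ↥(stabilizer G a) →* ↥(stabilizer G a ⊓ stabilizer G b) :=
  MonoidHom.mk' (fun x => (h.exists_unique_decomp hF (mem_stabilizer_iff.mp x.2)).choose) (by
    intro x y
    have hx := (h.exists_unique_decomp hF (mem_stabilizer_iff.mp x.2)).choose_spec.1
    have hy := (h.exists_unique_decomp hF (mem_stabilizer_iff.mp y.2)).choose_spec.1
    have hxy := (h.exists_unique_decomp hF (mem_stabilizer_iff.mp (x * y).2)).choose_spec.2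
    set u := (h.exists_unique_decomp hF (mem_stabilizer_iff.mp x.2)).choose with hu
    set v := (h.exists_unique_decomp hF (mem_stabilizer_iff.mp y.2)).choose with hv
    symm
    apply hxy (u * v)
    show ((x * y : stabilizer G a) : G) * ((u * v : ↥(stabilizer G a ⊓ stabilizer G b)) : G)⁻¹ ∈ F
    rw [Subgroup.coe_mul, Subgroup.coe_mul]
    have hua := (mem_H_iff.mp u.2).1
    have : (x : G) * (y : G) * ((u : G) * (v : G))⁻¹ =
        ((x : G) * (u : G)⁻¹) * ((u : G) * ((y : G) * (v : G)⁻¹) * (u : G)⁻¹) := by group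
    rw [this]
    exact F.mul_mem hx (hF.conj_mem hua hy))

theorem proj_spec (h : S3Setup G Ω a b c s) (hF : IsKer G a F) (x : ↥(stabilizer G a)) :
    (x : G) * ((h.proj hF x : ↥(stabilizer G a ⊓ stabilizer G b)) : G)⁻¹ ∈ F :=
  (h.exists_unique_decomp hF (mem_stabilizer_iff.mp x.2)).choose_spec.1

theorem proj_eq_of_mem (h : S3Setup G Ω a b c s) (hF : IsKer G a F) (x : ↥(stabilizer G a))
    (y : ↥(stabilizer G a ⊓ stabilizer G b)) (hy : (x : G) * (y : G)⁻¹ ∈ F) : h.proj hF x = y :=
  ((h.exists_unique_decomp hF (mem_stabilizer_iff.mp x.2)).choose_spec.2 y hy).symm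

theorem proj_of_mem_H (h : S3Setup G Ω a b c s) (hF : IsKer G a F)
    (y : ↥(stabilizer G a ⊓ stabilizer G b)) :
    h.proj hF ⟨(y : G), (Subgroup.mem_inf.mp y.2).1⟩ = y := by
  apply h.proj_eq_of_mem hF
  show (y : G) * (y : G)⁻¹ ∈ F
  rw [mul_inv_cancel]; exact F.one_mem

theorem proj_of_mem_F (h : S3Setup G Ω a b c s) (hF : IsKer G a F) {f : G} (hf : f ∈ F) :
    h.proj hF ⟨f, hF.le hf⟩ = 1 := by
  apply h.proj_eq_of_mem hF
  show f * ((1 : ↥(stabilizer G a ⊓ stabilizer G b)) : G)⁻¹ ∈ F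
  rw [Subgroup.coe_one, inv_one, mul_one]; exact hf

theorem mem_F_of_proj_eq_one (h : S3Setup G Ω a b c s) (hF : IsKer G a F)
    (x : ↥(stabilizer G a)) (hx : h.proj hF x = 1) : (x : G) ∈ F := by
  have := h.proj_spec hF x
  rwa [hx, Subgroup.coe_one, inv_one, mul_one] at this

end S3Setup

end Cfsg.Agent.Lib.Helper28
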