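import Cfsg.Agent.Lib.Helper43.UFDefs

/-!
# K-UF-SPAN (570005): a singular vector orthogonal to a finite set `S` and pairing to `1` with a
vector outside the span of `S`
-/

set_option autoImplicit false
set_option linter.unusedSimpArgs false
set_option linter.unusedVariables false
set_option linter.unusedSectionVars false

namespace Cfsg.Agent.Lib.Helper28.UF

open Module Matrix Cfsg.Agent.Lib.Helper19 Cfsg.Agent.Lib.Helper43

variable {F : Type*} [Field F] [Fintype F] {ι : Type} [Fintype ι] [DecidableEq ι]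
variable {Q : QuadraticForm F (ι → F)}
variable (hQ : (QuadraticMap.polarBilin Q).Nondegenerate) (hn : 7 ≤ Fintype.card ι)

local notation "ℬ" => QuadraticMap.polarBilin Q

include hQ hn in
theorem exists_singular_orth_finset_one (S : Finset (ι → F)) (h : 2 * S.card + 3 ≤ Fintype.card ι)
    (a : ι → F) (ha : a ∉ Submodule.span F (S : Set (ι → F))) :
    ∃ c : ι → F, Q c = 0 ∧ (∀ y ∈ S, ℬ y c = 0) ∧ ℬ a c = 1 := by
  have h1 : finrank F (Submodule.span F (S : Set (ι → F))) ≤ S.card :=
    finrank_span_finset_le_card S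
  have hfr : finrank F (ι → F) = Fintype.card ι := Module.finrank_fintype_fun_eq_card F
  obtain ⟨s, x, hs1, hx1, hs, hsx⟩ :=
    exists_singular_pair_orth Q hQ (Submodule.span F (S : Set (ι → F))) (by rw [hfr]; omega)
  have hsW : s ∈ orthC Q (Submodule.span F (S : Set (ι → F))) := (mem_orthC Q _ s).2 hs1
  have hxW : x ∈ orthC Q (Submodule.span F (S : Set (ι → F))) := (mem_orthC Q _ x).2 hx1
  have hz : ∃ z ∈ orthC Q (Submodule.span F (S : Set (ι → F))), ℬ a z ≠ 0 := by
    by_contra hcon
    push Not at hcon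
    apply ha
    rw [← orthC_orthC Q hQ (Submodule.span F (S : Set (ι → F))), mem_orthC]
    intro y hy
    rw [polar_symm]
    exact hcon y hy
  obtain ⟨z, hzW, hz⟩ := hz
  obtain ⟨s', hs'W, hs', hφ⟩ :=
    exists_singular_functional_ne Q (orthC Q (Submodule.span F (S : Set (ι → F)))) s x hsW hxW hs hsx
      (ℬ a) z hzW hz
  refine ⟨(ℬ a s')⁻¹ • s', ?_, ?_, ?_⟩
  · rw [Q_smul, hs', mul_zero]
  · intro y hy
    rw [map_smul, (mem_orthC Q _ s').1 hs'W y (Submodule.subset_span hy), smul_zero]
  · rw [map_smul, smul_eq_mul, inv_mul_cancel₀ hφ]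

end Cfsg.Agent.Lib.Helper28.UF
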