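import Mathlib
import Cfsg.Prelude.Def_OddOrderLocal

/-! K-1435 keystone 143523 P14 `isComplIn_of_le` (helper28). -/

set_option autoImplicit false
set_option linter.unusedSectionVars false

namespace Cfsg.Agent.Lib.Helper28.BG1435

open Cfsg Subgroup

variable {G : Type*} [Group G] [Finite G]

theorem isComplIn_of_le {H S E X : Subgroup G} (hE : IsComplIn E S H) (hEX : E ≤ X) (hXH : X ≤ H)
    (hXS : S ⊓ X = ⊥) : IsComplIn X S H := by
  refine ⟨hXH, hE.2.1, ?_, ?_⟩
  · rw [inf_comm]; exact hXS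
  · intro m hm
    obtain ⟨a, ha, b, hb, e⟩ := hE.2.2.2 m hm
    exact ⟨a, hEX ha, b, hb, e⟩

end Cfsg.Agent.Lib.Helper28.BG1435
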