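import Mathlib
import Cfsg.Agent.Lib.Helper11.Syl22Defs

/-!
# K-S4346-B3 (434612): the fixed-point lemma for elements of prime order `r ≥ 5`
-/

set_option autoImplicit false

namespace Cfsg.Agent.Lib.Helper28.Syl22

open Cfsg.Agent.Lib.Helper11.Syl22

theorem gcd_six_eq_one {r : ℕ} (hr : r.Prime) (hr5 : 5 ≤ r) : Nat.gcd r 6 = 1 := by
  have : Nat.Coprime r 6 := by
    rw [hr.coprime_iff_not_dvd]
    intro h
    have h6 := Nat.le_of_dvd (by norm_num) h
    interval_cases r
    · norm_num at h
    · exact absurd hr (by norm_num)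
  exact this

/-- a subgroup of order `3` normalized by an element of prime order `r ≥ 5` is centralized by it -/
theorem le_centralizer_of_mem_normalizer {G : Type*} [Group G] [Finite G] (Q : Subgroup G)
    (hQ : Nat.card Q = 3) (g : G) (r : ℕ) (hr : r.Prime) (hr5 : 5 ≤ r) (hg : orderOf g = r)
    (hgN : g ∈ Subgroup.normalizer (Q : Set G)) : Q ≤ Subgroup.centralizer ({g} : Set G) := by
  classical
  let gN : Subgroup.normalizer (Q : Set G) := ⟨g, hgN⟩
  have h1 : (Q.normalizerMonoidHom gN) ^ r = 1 := by
    rw [← map_pow]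
    have : gN ^ r = 1 := Subtype.ext (by
      show g ^ r = 1
      rw [← hg]; exact pow_orderOf_eq_one g)
    rw [this, map_one]
  have h2 : orderOf (Q.normalizerMonoidHom gN) ∣ r := orderOf_dvd_of_pow_eq_one h1
  have h3 : orderOf (Q.normalizerMonoidHom gN) ∣ 6 := by
    have hinj : Function.Injective (MulAut.toPerm (↥Q)) := by
      intro a b h
      apply MulEquiv.ext
      intro x
      have := congrArg (fun e : Equiv.Perm ↥Q => e x) h
      exact this
    rw [← orderOf_injective (MulAut.toPerm (↥Q)) hinj (Q.normalizerMonoidHom gN)]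
    have h6 : Nat.card (Equiv.Perm ↥Q) = 6 := by
      rw [Nat.card_perm, hQ]; rfl
    rw [← h6]
    exact orderOf_dvd_natCard _
  have h4 : orderOf (Q.normalizerMonoidHom gN) = 1 := by
    have hd : orderOf (Q.normalizerMonoidHom gN) ∣ Nat.gcd r 6 := Nat.dvd_gcd h2 h3
    rw [gcd_six_eq_one hr hr5] at hd
    exact Nat.dvd_one.mp hd
  have h5 : Q.normalizerMonoidHom gN = 1 := orderOf_eq_one_iff.mp h4
  have h6 : gN ∈ Q.normalizerMonoidHom.ker := h5
  rw [Subgroup.normalizerMonoidHom_ker, Subgroup.mem_subgroupOf] at h6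
  intro q hq
  rw [Subgroup.mem_centralizer_singleton_iff]
  exact (Subgroup.mem_centralizer_iff.mp h6 q hq)

theorem fix_lemma {G : Type*} [Group G] (c : Ctx G) : FixLemma G := by
  classical
  have hfin : Finite G := c.fin
  intro g r hr hr5 hg
  have hrF : Fact r.Prime := ⟨hr⟩
  have h3F : Fact (Nat.Prime 3) := ⟨Nat.prime_three⟩
  refine ⟨?_, ?_⟩
  · -- part 1
    have hP : IsPGroup r (Subgroup.zpowers g) :=
      IsPGroup.of_card (n := 1) (by rw [Nat.card_zpowers, hg, pow_one])
    have h1 := hP.card_modEq_card_fixedPoints (Sylow 3 G)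
    have h2 : (MulAction.fixedPoints (Subgroup.zpowers g) (Sylow 3 G)) =
        MulAction.fixedBy (Sylow 3 G) g := by
      ext Q
      simp only [MulAction.mem_fixedPoints, MulAction.mem_fixedBy]
      constructor
      · intro h; exact h ⟨g, Subgroup.mem_zpowers g⟩
      · rintro h ⟨x, j, rfl⟩
        exact MulAction.mem_fixedBy_zpow h j
    rw [h2, c.h22] at h1
    exact h1.symm
  · -- part 2
    by_cases hne : (MulAction.fixedBy (Sylow 3 G) g).Nonempty
    swap
    · left
      rw [Set.not_nonempty_iff_eq_empty] at hne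
      unfold fixN; rw [hne]; simp
    right
    obtain ⟨Q0, hQ0⟩ := hne
    -- `v_3 |G| = 1`
    have hv : (Nat.card G).factorization 3 = 1 := by
      have h1 := Sylow.card_eq_multiplicity Q0
      rw [c.h3 Q0] at h1
      have h2 : 3 ^ 1 = 3 ^ (Nat.card G).factorization 3 := by rw [pow_one]; exact h1
      exact (Nat.pow_right_injective (by norm_num : 2 ≤ 3) h2).symm
    -- fixed Sylows lie in the centralizer
    have hQC : ∀ Q : Sylow 3 G, Q ∈ MulAction.fixedBy (Sylow 3 G) g →
        (Q : Subgroup G) ≤ Subgroup.centralizer ({g} : Set G) := by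
      intro Q hQ
      rw [MulAction.mem_fixedBy, Sylow.smul_eq_iff_mem_normalizer] at hQ
      exact le_centralizer_of_mem_normalizer (Q : Subgroup G) (c.h3 Q) g r hr hr5 hg hQ
    -- `v_3 |C| = 1`
    have hvC : (Nat.card ↥(Subgroup.centralizer ({g} : Set G))).factorization 3 = 1 := by
      have hd1 : Nat.card ↥(Subgroup.centralizer ({g} : Set G)) ∣ Nat.card G :=
        Subgroup.card_subgroup_dvd_card _
      have hd2 : 3 ∣ Nat.card ↥(Subgroup.centralizer ({g} : Set G)) := by
        have := Subgroup.card_dvd_of_le (hQC Q0 hQ0)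
        rwa [c.h3 Q0] at this
      have hle : (Nat.card ↥(Subgroup.centralizer ({g} : Set G))).factorization 3 ≤
          (Nat.card G).factorization 3 :=
        (Nat.factorization_le_iff_dvd Nat.card_pos.ne' Nat.card_pos.ne').mpr hd1 3
      have hpos : 0 < (Nat.card ↥(Subgroup.centralizer ({g} : Set G))).factorization 3 :=
        Nat.Prime.factorization_pos_of_dvd Nat.prime_three Nat.card_pos.ne' hd2
      omega
    -- the bijection
    have hfix : ∀ S : Sylow 3 ↥(Subgroup.centralizer ({g} : Set G)),
        g ∈ Subgroup.normalizer ((((S : Subgroup ↥(Subgroup.centralizer ({g} : Set G))).map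
          (Subgroup.centralizer ({g} : Set G)).subtype : Subgroup G)) : Set G) := by
      intro S
      apply Subgroup.centralizer_le_normalizer
      rw [Subgroup.mem_centralizer_iff]
      rintro _ ⟨x, -, rfl⟩
      have := x.2
      rw [Subgroup.mem_centralizer_singleton_iff] at this
      exact this
    have hcard : ∀ S : Sylow 3 ↥(Subgroup.centralizer ({g} : Set G)),
        Nat.card ↥((S : Subgroup ↥(Subgroup.centralizer ({g} : Set G))).map
          (Subgroup.centralizer ({g} : Set G)).subtype) = 3 ^ (Nat.card G).factorization 3 := by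
      intro S
      rw [Subgroup.card_map_of_injective (Subgroup.subtype_injective _),
        Sylow.card_eq_multiplicity S, hvC, hv]
    let f : Sylow 3 ↥(Subgroup.centralizer ({g} : Set G)) →
        ↥(MulAction.fixedBy (Sylow 3 G) g) := fun S =>
      ⟨Sylow.ofCard _ (hcard S), by
        rw [MulAction.mem_fixedBy, Sylow.smul_eq_iff_mem_normalizer]
        exact hfix S⟩
    have hf_inj : Function.Injective f := by
      intro S S' h
      have h1 : (Sylow.ofCard _ (hcard S) : Subgroup G) = (Sylow.ofCard _ (hcard S') : Subgroup G) :=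
        congrArg (fun x : ↥(MulAction.fixedBy (Sylow 3 G) g) => ((x : Sylow 3 G) : Subgroup G)) h
      rw [Sylow.coe_ofCard, Sylow.coe_ofCard] at h1
      exact Sylow.ext (Subgroup.map_injective (Subgroup.subtype_injective _) h1)
    have hf_surj : Function.Surjective f := by
      rintro ⟨Q, hQ⟩
      have hle := hQC Q hQ
      have hc : Nat.card ↥((Q : Subgroup G).subgroupOf (Subgroup.centralizer ({g} : Set G))) =
          3 ^ (Nat.card ↥(Subgroup.centralizer ({g} : Set G))).factorization 3 := by
        rw [hvC, Nat.card_congr (Subgroup.subgroupOfEquivOfLe hle).toEquiv, c.h3 Q, pow_one]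
      refine ⟨Sylow.ofCard _ hc, ?_⟩
      apply Subtype.ext
      apply Sylow.ext
      show (Sylow.ofCard _ (hcard (Sylow.ofCard _ hc)) : Subgroup G) = (Q : Subgroup G)
      rw [Sylow.coe_ofCard, Sylow.coe_ofCard, Subgroup.map_subgroupOf_eq_of_le hle]
    have heq : fixN g = Nat.card (Sylow 3 ↥(Subgroup.centralizer ({g} : Set G))) :=
      (Nat.card_congr (Equiv.ofBijective f ⟨hf_inj, hf_surj⟩)).symm
    rw [heq]
    refine ⟨?_, ?_⟩
    · have := card_sylow_modEq_one 3 ↥(Subgroup.centralizer ({g} : Set G))
      exact this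
    · obtain ⟨S⟩ : Nonempty (Sylow 3 ↥(Subgroup.centralizer ({g} : Set G))) := inferInstance
      exact (Sylow.card_dvd_index S).trans (Subgroup.index_dvd_card _)

end Cfsg.Agent.Lib.Helper28.Syl22
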