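import Cfsg.Agent.Lib.Helper49.OElDefs

/-!
# K-OEl-N (598811): normalisation of an isometry with scalar `r`-th power, generic in the quadratic form
-/

set_option autoImplicit false
set_option linter.unusedSectionVars false
set_option linter.unusedVariables false

namespace Cfsg.Agent.Lib.Helper28.OEl

open Module Cfsg.Agent.Lib.Helper98.Elus Cfsg.Agent.Lib.Helper98.Sy Cfsg.Agent.Lib.Helper38.OhP
open Cfsg.Agent.Lib.Helper49.OEl

universe u
variable {F : Type u} [Field F] {V : Type u} [AddCommGroup V] [Module F V]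

/-- powers of an isometry are isometries -/
theorem qiso_pow {Q : QuadraticForm F V} {X : V →ₗ[F] V} (h : QIso Q X) (k : ℕ) : QIso Q (X ^ k) := by
  induction k with
  | zero => intro v; simp
  | succ k ih =>
    intro v
    rw [pow_succ, Module.End.mul_apply, ih, h]

theorem exists_normalized_gen {ι : Type} [Fintype ι] [DecidableEq ι] (Q : QuadraticForm F (ι → F))
    (hQ : ∃ v, Q v ≠ 0) (r : ℕ) (hr : Odd r) (x : GL ι F)
    (hx : QIso Q (Matrix.toLin' (x : Matrix ι ι F))) (z : F)
    (hz : ((x ^ r : GL ι F) : Matrix ι ι F) = z • (1 : Matrix ι ι F))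
    (hns : ∀ z : F, (x : Matrix ι ι F) ≠ z • (1 : Matrix ι ι F)) :
    ∃ y : (ι → F) →ₗ[F] (ι → F), QIso Q y ∧ y ^ r = 1 ∧ y ≠ 1 ∧
      ∀ W : Submodule F (ι → F), Inv y W → W.map (Matrix.toLin' (x : Matrix ι ι F)) ≤ W := by
  set X : (ι → F) →ₗ[F] (ι → F) := Matrix.toLin' (x : Matrix ι ι F) with hX
  have hXr : X ^ r = z • 1 := by
    rw [hX, ← Matrix.toLin'_pow, ← Units.val_pow_eq_pow_val, hz, map_smul, Matrix.toLin'_one]
    rfl
  have hzz : z * z = 1 := by
    obtain ⟨v, hv⟩ := hQ
    have h1 := qiso_pow hx r v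
    rw [hXr, LinearMap.smul_apply, Module.End.one_apply, QuadraticMap.map_smul, smul_eq_mul] at h1
    have h2 : (z * z - 1) * Q v = 0 := by linear_combination h1
    rcases mul_eq_zero.mp h2 with h | h
    · linear_combination h
    · exact absurd h hv
  refine ⟨z • X, ?_, ?_, ?_, ?_⟩
  · intro v
    rw [LinearMap.smul_apply, QuadraticMap.map_smul, hzz, one_smul]
    exact hx v
  · rw [smul_pow, hXr, smul_smul, ← pow_succ]
    obtain ⟨k, hk⟩ := hr
    have : r + 1 = 2 * (k + 1) := by omega
    rw [this, pow_mul, pow_two, hzz, one_pow, one_smul]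
  · intro h1
    have h2 : X = z • 1 := by
      have := congrArg (fun t => z • t) h1
      simp only [smul_smul, hzz, one_smul] at this
      exact this
    apply hns z
    apply Matrix.toLin'.injective
    rw [map_smul, Matrix.toLin'_one]
    exact h2
  · intro W hW
    rintro _ ⟨w, hw, rfl⟩
    have h1 : (z • X) w ∈ W := hW w hw
    have h2 : z • ((z • X) w) ∈ W := W.smul_mem z h1
    rw [LinearMap.smul_apply, smul_smul, hzz, one_smul] at h2
    exact h2

end Cfsg.Agent.Lib.Helper28.OEl
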