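import Cfsg.Agent.Lib.Helper28.OhPA2

/-!
# K-OhP-A (597401): types of nondegenerate quadratic spaces multiply over orthogonal sums (any characteristic)
-/

set_option autoImplicit false
set_option linter.unusedSectionVars false
set_option linter.unusedVariables false

namespace Cfsg.Agent.Lib.Helper28.OhP

open Module Cfsg.Agent.Lib.Helper98.Elus Cfsg.Agent.Lib.Helper98.Sy Cfsg.Agent.Lib.Helper38.OhP

universe u
variable {F : Type u} [Field F] {V : Type u} [AddCommGroup V] [Module F V]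

/-- the sign arithmetic -/
theorem sign_mul_of_count (q x y e e1 e2 T A1 A2 B1 B2 : ℤ) (hq : 2 ≤ q) (hx : 1 ≤ x) (hy : 1 ≤ y)
    (hT : T = A1 * A2 + (q - 1) * (B1 * B2))
    (hW1 : q ^ 2 * x ^ 2 = A1 + (q - 1) * B1) (hW2 : q ^ 2 * y ^ 2 = A2 + (q - 1) * B2)
    (hc : T = (q * x * y) * (q * (q * x * y) + e * (q - 1)))
    (hc1 : A1 = x * (q * x + e1 * (q - 1))) (hc2 : A2 = y * (q * y + e2 * (q - 1))) :
    e = e1 * e2 := by
  have hB1 : (q - 1) * B1 = q ^ 2 * x ^ 2 - A1 := by linear_combination -hW1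
  have hB2 : (q - 1) * B2 = q ^ 2 * y ^ 2 - A2 := by linear_combination -hW2
  have hT2 : (q - 1) * T = (q - 1) * (A1 * A2) + (q ^ 2 * x ^ 2 - A1) * (q ^ 2 * y ^ 2 - A2) := by
    rw [hT, ← hB1, ← hB2]; ring
  rw [hc, hc1, hc2] at hT2
  have key : (q - 1) ^ 2 * (q * x * y) * (e - e1 * e2) = 0 := by linear_combination hT2
  have h1 : (q - 1) ^ 2 * (q * x * y) ≠ 0 := by
    have : 0 < (q - 1) ^ 2 * (q * x * y) := by
      have h1 : 0 < q - 1 := by linarith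
      have h2 : 0 < q := by linarith
      have h3 : 0 < x := by linarith
      have h4 : 0 < y := by linarith
      positivity
    exact this.ne'
  rcases mul_eq_zero.mp key with h | h
  · exact absurd h h1
  · linarith

theorem plusQ_sup_iff [Fintype F] [FiniteDimensional F V] (Q : QuadraticForm F V)
    (W1 W2 : Submodule F V) (h1 : NonDeg (pB Q) W1) (h2 : NonDeg (pB Q) W2) (hort : Ort (pB Q) W1 W2)
    (he1 : Even (finrank F W1)) (he2 : Even (finrank F W2)) :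
    PlusQ Q (W1 ⊔ W2) ↔ (PlusQ Q W1 ↔ PlusQ Q W2) := by
  by_cases h20 : (2 : F) = 0
  swap
  · rw [plusQ_iff_plus h20, plusQ_iff_plus h20, plusQ_iff_plus h20]
    exact Cfsg.Agent.Lib.Helper63.Oh.plus_sup_iff h20 (pB Q) (pB_symm Q) W1 W2 h1 h2 hort he1 he2
  have hR := Cfsg.Agent.Lib.Helper98.Os.isRefl_of_symm (pB_symm Q)
  obtain ⟨hnd, hdisj⟩ := Cfsg.Agent.Lib.Helper98.Os.nonDeg_sup hR W1 W2 h1 h2 hort
  obtain ⟨k1, hk1⟩ := he1
  obtain ⟨k2, hk2⟩ := he2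
  rcases Nat.eq_zero_or_pos k1 with rfl | hk1pos
  · have hW : W1 = ⊥ := by
      rw [← Submodule.finrank_eq_zero (R := F)]; omega
    subst hW
    rw [bot_sup_eq]
    exact ⟨fun h => ⟨fun _ => h, fun _ => plusQ_bot Q⟩, fun h => h.mp (plusQ_bot Q)⟩
  rcases Nat.eq_zero_or_pos k2 with rfl | hk2pos
  · have hW : W2 = ⊥ := by
      rw [← Submodule.finrank_eq_zero (R := F)]; omega
    subst hW
    rw [sup_bot_eq]
    exact ⟨fun h => ⟨fun _ => plusQ_bot Q, fun _ => h⟩, fun h => h.mpr (plusQ_bot Q)⟩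
  obtain ⟨m1, rfl⟩ : ∃ m, k1 = m + 1 := ⟨k1 - 1, by omega⟩
  obtain ⟨m2, rfl⟩ : ∃ m, k2 = m + 1 := ⟨k2 - 1, by omega⟩
  have hd : finrank F ↥(W1 ⊔ W2) = 2 * ((m1 + m2 + 1) + 1) := by
    rw [Cfsg.Agent.Lib.Helper98.Os.finrank_sup_of_ort hR W1 W2 h1 h2 hort, hk1, hk2]
    ring
  obtain ⟨e1, he1, hP1, hc1⟩ := count_type Q W1 h1 m1 (by omega)
  obtain ⟨e2, he2, hP2, hc2⟩ := count_type Q W2 h2 m2 (by omega)
  obtain ⟨e, he, hP, hc⟩ := count_type Q (W1 ⊔ W2) hnd (m1 + m2 + 1) hd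
  have hsum := cnt_sup_zero h20 Q W1 W2 hdisj hort
  have hW1 := card_eq_cnt h20 Q W1
  have hW2 := card_eq_cnt h20 Q W2
  rw [Module.natCard_eq_pow_finrank (K := F), Nat.card_eq_fintype_card, hk1] at hW1
  rw [Module.natCard_eq_pow_finrank (K := F), Nat.card_eq_fintype_card, hk2] at hW2
  have hq2 : 2 ≤ Fintype.card F := Fintype.one_lt_card
  have hq1 : 1 ≤ Fintype.card F := by omega
  have hcast : ((Fintype.card F - 1 : ℕ) : ℤ) = (Fintype.card F : ℤ) - 1 := by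
    rw [Nat.cast_sub hq1]; simp
  have hsumZ : (cnt Q (W1 ⊔ W2) 0 : ℤ) = (cnt Q W1 0 : ℤ) * (cnt Q W2 0 : ℤ) +
      ((Fintype.card F : ℤ) - 1) * ((cnt Q W1 1 : ℤ) * (cnt Q W2 1 : ℤ)) := by
    rw [hsum]; push_cast; rw [hcast]
  have hW1Z : (Fintype.card F : ℤ) ^ 2 * ((Fintype.card F : ℤ) ^ m1) ^ 2 =
      (cnt Q W1 0 : ℤ) + ((Fintype.card F : ℤ) - 1) * (cnt Q W1 1 : ℤ) := by
    have : ((Fintype.card F ^ (m1 + 1 + (m1 + 1)) : ℕ) : ℤ) =
        ((cnt Q W1 0 + (Fintype.card F - 1) * cnt Q W1 1 : ℕ) : ℤ) := by rw [hW1]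
    push_cast at this
    rw [hcast] at this
    rw [← this]; ring
  have hW2Z : (Fintype.card F : ℤ) ^ 2 * ((Fintype.card F : ℤ) ^ m2) ^ 2 =
      (cnt Q W2 0 : ℤ) + ((Fintype.card F : ℤ) - 1) * (cnt Q W2 1 : ℤ) := by
    have : ((Fintype.card F ^ (m2 + 1 + (m2 + 1)) : ℕ) : ℤ) =
        ((cnt Q W2 0 + (Fintype.card F - 1) * cnt Q W2 1 : ℕ) : ℤ) := by rw [hW2]
    push_cast at this
    rw [hcast] at this
    rw [← this]; ring
  have hcZ : (cnt Q (W1 ⊔ W2) 0 : ℤ) =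
      ((Fintype.card F : ℤ) * (Fintype.card F : ℤ) ^ m1 * (Fintype.card F : ℤ) ^ m2) *
        ((Fintype.card F : ℤ) *
          ((Fintype.card F : ℤ) * (Fintype.card F : ℤ) ^ m1 * (Fintype.card F : ℤ) ^ m2) +
          e * ((Fintype.card F : ℤ) - 1)) := by
    rw [hc]; ring
  have hqZ : (2 : ℤ) ≤ (Fintype.card F : ℤ) := by exact_mod_cast hq2
  have hx : (1 : ℤ) ≤ (Fintype.card F : ℤ) ^ m1 := one_le_pow₀ (by linarith)
  have hy : (1 : ℤ) ≤ (Fintype.card F : ℤ) ^ m2 := one_le_pow₀ (by linarith)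
  have hee : e = e1 * e2 :=
    sign_mul_of_count (Fintype.card F : ℤ) ((Fintype.card F : ℤ) ^ m1) ((Fintype.card F : ℤ) ^ m2)
      e e1 e2 _ _ _ _ _ hqZ hx hy hsumZ hW1Z hW2Z hcZ hc1 hc2
  rw [← hP, ← hP1, ← hP2, hee]
  rcases he1 with rfl | rfl <;> rcases he2 with rfl | rfl <;> norm_num

end Cfsg.Agent.Lib.Helper28.OhP
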