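import Mathlib

set_option autoImplicit false

/-!
# Definitions for the Zassenhaus near-field rows S0686 / S0687 / S0689 (architect helper28)

* `SL25` : `SL(2,5)` as in the statements.
* `Z690` : the exact statement of S0690 (Zassenhaus: a perfect group of fixed-point-free
  automorphisms is `SL(2,5)`) at an arbitrary universe level, used as a hypothesis until
  `Cfsg.Agent.S0690` is on main.
* `NonAb N` : the subgroup `N` is not abelian (elementwise form).
* `Ab N` : the subgroup `N` is abelian (elementwise form).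
-/

universe u

namespace Cfsg.Agent.Lib.Helper28.ZN

/-- `SL(2,5)`. -/
abbrev SL25 := Matrix.SpecialLinearGroup (Fin 2) (ZMod 5)

/-- the exact statement of S0690 for `K : Type u`. -/
def Z690 : Prop :=
  ∀ (K : Type u) [Group K] [Finite K] (G : Subgroup (MulAut K)),
    (∀ φ ∈ G, φ ≠ 1 → ∀ k : K, φ k = k → k = 1) → commutator G = ⊤ → G ≠ ⊥ →
    Nonempty (G ≃* SL25)

/-- elementwise commutativity of a subgroup. -/
abbrev Ab {G : Type*} [Group G] (N : Subgroup G) : Prop := ∀ a ∈ N, ∀ b ∈ N, a * b = b * a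

/-- a subgroup that is not abelian (elementwise form). -/
abbrev NonAb {G : Type*} [Group G] (N : Subgroup G) : Prop := ∃ x ∈ N, ∃ y ∈ N, x * y ≠ y * x

/-- `N` is minimal among the normal non-abelian subgroups. -/
abbrev MinNonAb {G : Type*} [Group G] (N : Subgroup G) : Prop :=
  ∀ M : Subgroup G, M.Normal → M ≤ N → NonAb M → M = N

/-- `A` is a maximal normal abelian subgroup. -/
abbrev MaxAb {G : Type*} [Group G] (A : Subgroup G) : Prop :=
  ∀ B : Subgroup G, B.Normal → Ab B → A ≤ B → B = A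

/-- at most one involution. -/
abbrev UniqInv (G : Type*) [Group G] : Prop :=
  ∀ u v : G, u * u = 1 → u ≠ 1 → v * v = 1 → v ≠ 1 → u = v

/-- every abelian subgroup is cyclic. -/
abbrev AbCyc (G : Type*) [Group G] : Prop := ∀ M : Subgroup G, Ab M → IsCyclic M

/-- the fixed-point-freeness of a linear group, in the form of `Helper06.NF.fpf_of_reg`. -/
abbrev Fpf {p : ℕ} [Fact p.Prime] {V : Type*} [AddCommGroup V] [Module (ZMod p) V]
    (H : Subgroup (V ≃ₗ[ZMod p] V)) : Prop :=
  ∀ h : H, ∀ v : V, v ≠ 0 → (h : V ≃ₗ[ZMod p] V) v = v → h = 1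

/-- `N` leaves no proper nonzero subspace invariant. -/
abbrev Irr {p : ℕ} [Fact p.Prime] {V : Type*} [AddCommGroup V] [Module (ZMod p) V]
    (H : Subgroup (V ≃ₗ[ZMod p] V)) (N : Subgroup H) : Prop :=
  ∀ W : Submodule (ZMod p) V,
    (∀ n ∈ N, ∀ v ∈ W, ((n : H) : V ≃ₗ[ZMod p] V) v ∈ W) → W = ⊥ ∨ W = ⊤

end Cfsg.Agent.Lib.Helper28.ZN
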