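import Mathlib
import Cfsg.Agent.Lib.Helper15.BG1379Defs
import Cfsg.Agent.Lib.Helper12.CNMaxSub
import Cfsg.Agent.Lib.Helper71.BG11a

set_option autoImplicit false

namespace Cfsg.Agent.Lib.Helper28.BG1379

open Cfsg Subgroup
open scoped Pointwise

variable {G : Type*} [Group G] [Finite G]

/-- LEAF V2 (137902) -/
theorem exists_sigma_pow (hG : IsMinSimpleOddOrder G) {g : G} (hg : g ≠ 1) :
    ∃ (L : Subgroup G) (y x0 : G), IsCoatom L ∧ x0 ∈ sigmaCore L ∧ x0 ≠ 1 ∧
      x0 ∈ zpowers (y * g * y⁻¹) := by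
  classical
  have hn1 : orderOf g ≠ 1 := fun h => hg (orderOf_eq_one_iff.mp h)
  have hnpos : 0 < orderOf g := orderOf_pos g
  set p := (orderOf g).minFac with hp
  have hpp : p.Prime := Nat.minFac_prime hn1
  have hpd : p ∣ orderOf g := Nat.minFac_dvd _
  have : Fact p.Prime := ⟨hpp⟩
  have hpG : p ∣ Nat.card G := hpd.trans (orderOf_dvd_natCard g)
  obtain ⟨P⟩ : Nonempty (Sylow p G) := inferInstance
  have hPtop : (P : Subgroup G) ≠ ⊤ :=
    Cfsg.Agent.Lib.Helper12.CNMaxSub.pGroup_ne_top hG P.isPGroup'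
  have hPbot : (P : Subgroup G) ≠ ⊥ := by
    intro hb
    have h1 : Nat.card (P : Subgroup G) = 1 := by rw [hb]; exact Subgroup.card_bot
    have h2 := P.card_eq_multiplicity
    rw [h1] at h2
    have h3 : (Nat.card G).factorization p = 0 := by
      by_contra hne
      have : 1 < p ^ (Nat.card G).factorization p := Nat.one_lt_pow hne hpp.one_lt
      omega
    have hcard : Nat.card G ≠ 0 := Nat.card_pos.ne'
    have := (hpp.factorization_pos_of_dvd hcard hpG)
    omega
  obtain ⟨L, hL, hNL⟩ :=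
    Cfsg.Agent.Lib.Helper12.CNMaxSub.exists_coatom_normalizer_le hG hPbot hPtop
  have hPL : (P : Subgroup G) ≤ L := le_normalizer.trans hNL
  -- p ∈ σ(L)
  have hpσ : p ∈ sigma L := by
    refine ⟨hpp, ?_, P.subtype hPL, ?_⟩
    · have h1 : Nat.card (P : Subgroup G) ∣ Nat.card L := Subgroup.card_dvd_of_le hPL
      refine dvd_trans ?_ h1
      have h2 := P.card_eq_multiplicity
      rw [h2]
      have hcard : Nat.card G ≠ 0 := Nat.card_pos.ne'
      exact dvd_pow_self p (hpp.factorization_pos_of_dvd hcard hpG).ne'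
    · have : ((P.subtype hPL : Subgroup L).map L.subtype : Subgroup G) = (P : Subgroup G) := by
        rw [Sylow.coe_subtype, Subgroup.map_subgroupOf_eq_of_le hPL]
      rw [this]
      exact hNL
  -- the element of order p
  set x1 := g ^ (orderOf g / p) with hx1
  have hx1o : orderOf x1 = p := orderOf_pow_orderOf_div hnpos.ne' hpd
  have hx1p : IsPGroup p (zpowers x1) := by
    apply IsPGroup.of_card (n := 1)
    rw [Nat.card_zpowers, hx1o, pow_one]
  obtain ⟨Q, hQ⟩ := hx1p.exists_le_sylow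
  obtain ⟨c, hc⟩ := MulAction.exists_smul_eq G P Q
  have hx1Q : x1 ∈ (Q : Subgroup G) := hQ (mem_zpowers x1)
  have hx0P : c⁻¹ * x1 * c ∈ (P : Subgroup G) := by
    rw [← hc, Sylow.coe_subgroup_smul] at hx1Q
    have := Subgroup.mem_pointwise_smul_iff_inv_smul_mem.mp hx1Q
    simpa [MulAut.smul_def, MulAut.conj_apply] using this
  have hx01 : c⁻¹ * x1 * c ≠ 1 := by
    intro h
    have : x1 = 1 := by
      have := congrArg (fun z => c * z * c⁻¹) h
      simpa [mul_assoc] using this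
    rw [this, orderOf_one] at hx1o
    exact hpp.one_lt.ne hx1o
  have hx0o : orderOf (c⁻¹ * x1 * c) = p := by
    have : c⁻¹ * x1 * c = MulAut.conj c⁻¹ x1 := by simp
    rw [this, MulEquiv.orderOf_eq, hx1o]
  refine ⟨L, c⁻¹, c⁻¹ * x1 * c, hL, ?_, hx01, ?_⟩
  · -- x0 ∈ sigmaCore L
    have hS := (Cfsg.Agent.S1350.result hG L hL).1
    have hle := Cfsg.Agent.Lib.Helper71.BG10.le_of_isPiHallOf_normal hS
      (Cfsg.Agent.Lib.Helper71.BG11.le_normalizer_sigmaCore L)
      (Z := zpowers (c⁻¹ * x1 * c)) (by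
        rw [zpowers_le]; exact hPL hx0P)
      (by
        intro q hq hqd
        rw [Nat.card_zpowers, hx0o] at hqd
        have : q = p := (Nat.prime_dvd_prime_iff_eq hq hpp).mp hqd
        rw [this]; exact hpσ)
    exact hle (mem_zpowers _)
  · rw [inv_inv]
    refine ⟨((orderOf g / p : ℕ) : ℤ), ?_⟩
    simp only [zpow_natCast]
    have : c⁻¹ * g * c = c⁻¹ * g * c⁻¹⁻¹ := by rw [inv_inv]
    rw [this, conj_pow, inv_inv]

end Cfsg.Agent.Lib.Helper28.BG1379
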