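import Mathlib
import Cfsg.Agent.Lib.Helper07.PGLCard
import Cfsg.Agent.Lib.Helper07.PermEmbed

set_option autoImplicit false

/-!
# `PGL₂(F) ≃* PSL₂(F)` in characteristic two, and the order of `PGL₂(F)`
-/

namespace Cfsg.Agent.Lib.Helper28

open Matrix Cfsg.Agent.Lib.Helper07

open scoped MatrixGroups

variable {F : Type*} [Field F] [Fintype F]

theorem nonempty_psl_mulEquiv_pgl_of_char_two (hF : ringChar F = 2) :
    Nonempty (Matrix.ProjectiveSpecialLinearGroup (Fin 2) F ≃* PGL(Fin 2, F)) := by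
  refine ⟨MulEquiv.ofBijective Matrix.ProjectiveSpecialLinearGroup.toPGL
    ⟨Matrix.ProjectiveSpecialLinearGroup.toPGL_injective,
      Matrix.ProjectiveSpecialLinearGroup.toPGL_surj_of_roots ?_⟩⟩
  intro r
  obtain ⟨k, hk⟩ := FiniteField.isSquare_of_char_two hF (r : F)
  have hk0 : k ≠ 0 := by
    rintro rfl
    rw [mul_zero] at hk
    exact r.ne_zero hk
  refine ⟨Units.mk0 k hk0, ?_⟩
  apply Units.ext
  rw [Fintype.card_fin, Units.val_pow_eq_pow_val, Units.val_mk0, hk, sq]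

theorem card_pgl_two_mul : (Fintype.card F - 1) * Nat.card (PGL(Fin 2, F)) =
    (Fintype.card F ^ 2 - 1) * (Fintype.card F ^ 2 - Fintype.card F) := by
  rw [card_pgl_eq_card_sl 2, card_sl_two]

theorem card_pgl_two (hq : 2 ≤ Fintype.card F) : Nat.card (PGL(Fin 2, F)) =
    (Fintype.card F + 1) * (Fintype.card F * (Fintype.card F - 1)) := by
  have h := card_pgl_two_mul (F := F)
  obtain ⟨m, hm⟩ : ∃ m, Fintype.card F = m + 2 := ⟨Fintype.card F - 2, by omega⟩
  rw [hm] at h ⊢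
  have h1 : m + 2 - 1 = m + 1 := by omega
  have h2 : (m + 2) ^ 2 - 1 = (m + 1) * (m + 3) := by
    have : (m + 2) ^ 2 = (m + 1) * (m + 3) + 1 := by ring
    omega
  have h3 : (m + 2) ^ 2 - (m + 2) = (m + 2) * (m + 1) := by
    have : (m + 2) ^ 2 = (m + 2) * (m + 1) + (m + 2) := by ring
    omega
  rw [h1, h2, h3] at h
  rw [h1]
  have hpos : 0 < m + 1 := by omega
  apply Nat.eq_of_mul_eq_mul_left hpos
  rw [h]; ring

end Cfsg.Agent.Lib.Helper28
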