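import Mathlib
import Cfsg.Agent.Lib.Helper28.S3GroupC
import Cfsg.Agent.Lib.Helper04.IndFun

set_option autoImplicit false

/-!
# Sharply 3-transitive groups of even degree: the Frobenius partition of the point stabilizer
and values of induced class functions
-/

namespace Cfsg.Agent.Lib.Helper28

open MulAction

namespace S3Setup

variable {G Ω : Type*} [Group G] [MulAction G Ω] {a b c : Ω} {s : G} {F : Subgroup G}

/-- the Frobenius partition of the point stabilizer, as a sum formula -/
theorem sum_B [Fintype G] [DecidableEq G] (h : S3Setup G Ω a b c s) (hF : IsKer G a F)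
    [Fintype ↥(stabilizer G a)] [Fintype ↥F] [Fintype ↥(stabilizer G a ⊓ stabilizer G b)]
    (ψ : G → ℂ) (hψ : ∀ x g : G, x • a = a → ψ (x * g * x⁻¹) = ψ g) :
    ∑ x : ↥(stabilizer G a), ψ x = ∑ f : ↥F, ψ f +
      (Nat.card F : ℂ) *
        ∑ y : ↥(stabilizer G a ⊓ stabilizer G b), (if (y : G) = 1 then 0 else ψ y) := by
  classical
  have e1 : ∑ x : ↥(stabilizer G a), ψ x =
      ∑ g ∈ Finset.univ.filter (fun g : G => g • a = a), ψ g := by
    rw [Finset.sum_subtype (Finset.univ.filter (fun g : G => g • a = a))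
      (p := fun g => g ∈ stabilizer G a)]
    intro x; simp [mem_stabilizer_iff]
  have e2 : ∑ f : ↥F, ψ f = ∑ g ∈ Finset.univ.filter (fun g : G => g ∈ F), ψ g := by
    rw [Finset.sum_subtype (Finset.univ.filter (fun g : G => g ∈ F)) (p := fun g => g ∈ F)]
    intro x; simp
  have e3 : ∑ y : ↥(stabilizer G a ⊓ stabilizer G b), (if (y : G) = 1 then 0 else ψ y) =
      ∑ g ∈ Finset.univ.filter (fun g : G => (g • a = a ∧ g • b = b) ∧ g ≠ 1), ψ g := by
    have hff : Finset.univ.filter (fun g : G => (g • a = a ∧ g • b = b) ∧ g ≠ 1) =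
        (Finset.univ.filter (fun g : G => g • a = a ∧ g • b = b)).filter (fun g => g ≠ 1) :=
      (Finset.filter_filter _ _ _).symm
    rw [hff, Finset.sum_filter]
    rw [Finset.sum_subtype (Finset.univ.filter (fun g : G => g • a = a ∧ g • b = b))
      (p := fun g => g ∈ stabilizer G a ⊓ stabilizer G b) (by intro x; simp)]
    apply Finset.sum_congr rfl
    intro y _
    by_cases hy : (y : G) = 1
    · simp [hy]
    · simp [hy]
  have hcardF : (Finset.univ.filter (fun g : G => g ∈ F)).card = Nat.card F := by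
    rw [Nat.card_eq_fintype_card, Fintype.card_subtype]
  rw [e1, e2, e3]
  -- split the stabilizer
  have hsplit := Finset.sum_filter_add_sum_filter_not (Finset.univ.filter (fun g : G => g • a = a))
    (fun g => g ∈ F) ψ
  have hA : (Finset.univ.filter (fun g : G => g • a = a)).filter (fun g => g ∈ F) =
      Finset.univ.filter (fun g : G => g ∈ F) := by
    ext g
    simp only [Finset.mem_filter, Finset.mem_univ, true_and]
    exact ⟨fun hh => hh.2, fun hh => ⟨hF.smul_a hh, hh⟩⟩
  rw [hA] at hsplit
  rw [← hsplit]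
  congr 1
  -- the bijection
  have hbij : ∑ p ∈ (Finset.univ.filter (fun g : G => g ∈ F)) ×ˢ
      (Finset.univ.filter (fun g : G => (g • a = a ∧ g • b = b) ∧ g ≠ 1)), ψ p.2 =
      ∑ g ∈ (Finset.univ.filter (fun g : G => g • a = a)).filter (fun g => ¬ g ∈ F), ψ g := by
    apply Finset.sum_bij (fun p _ => p.1 * p.2 * p.1⁻¹)
    · rintro ⟨f, y⟩ hp
      simp only [Finset.mem_product, Finset.mem_filter, Finset.mem_univ, true_and] at hp
      obtain ⟨hf, ⟨hya, hyb⟩, hy1⟩ := hp
      have hfa := hF.smul_a hf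
      simp only [Finset.mem_filter, Finset.mem_univ, true_and]
      constructor
      · rw [mul_smul, mul_smul, inv_smul_eq_iff.mpr hfa.symm, hya, hfa]
      · intro hmem
        have hyF : y ∈ F := by
          have : y = f⁻¹ * (f * y * f⁻¹) * f := by group
          rw [this]
          exact F.mul_mem (F.mul_mem (F.inv_mem hf) hmem) hf
        exact hF.fpf y hyF hy1 b (Ne.symm h.hab) hyb
    · rintro ⟨f, y⟩ hp ⟨f', y'⟩ hp' heq
      simp only [Finset.mem_product, Finset.mem_filter, Finset.mem_univ, true_and] at hp hp'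
      obtain ⟨hf, ⟨hya, hyb⟩, hy1⟩ := hp
      obtain ⟨hf', ⟨hy'a, hy'b⟩, hy'1⟩ := hp'
      have heq' : f * y * f⁻¹ = f' * y' * f'⁻¹ := heq
      have hfa := hF.smul_a hf
      have hf'a := hF.smul_a hf'
      set x := f * y * f⁻¹ with hx
      have hx1 : x ≠ 1 := by
        intro hh
        apply hy1
        have : y = f⁻¹ * x * f := by rw [hx]; group
        rw [this, hh]; group
      have hxa : x • a = a := by
        rw [hx, mul_smul, mul_smul, inv_smul_eq_iff.mpr hfa.symm, hya, hfa]
      have hxfb : x • (f • b) = f • b := by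
        rw [hx, mul_smul, mul_smul, inv_smul_smul, hyb]
      have hxf'b : x • (f' • b) = f' • b := by
        rw [heq', mul_smul, mul_smul, inv_smul_smul, hy'b]
      have hfb_ne : f • b ≠ a := by
        intro hh
        exact h.hab (MulAction.injective f (hh.trans hfa.symm)).symm
      have hf'b_ne : f' • b ≠ a := by
        intro hh
        exact h.hab (MulAction.injective f' (hh.trans hf'a.symm)).symm
      have hff' : f = f' := by
        apply hF.eq_of_smul_eq hf hf' (Ne.symm h.hab)
        by_contra hne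
        exact hx1 (h.pre.three x a (f • b) (f' • b) (Ne.symm hfb_ne) hne (Ne.symm hf'b_ne)
          hxa hxfb hxf'b)
      subst hff'
      have : y = y' := by
        have e : f * y * f⁻¹ = f * y' * f⁻¹ := heq'
        have := mul_right_cancel e
        exact mul_left_cancel this
      rw [this]
    · intro x hx
      simp only [Finset.mem_filter, Finset.mem_univ, true_and] at hx
      obtain ⟨hxa, hxF⟩ := hx
      obtain ⟨c₁, hc₁, hxc₁⟩ := hF.out x (mem_stabilizer_iff.mpr hxa) hxF
      obtain ⟨f, hf, hfb⟩ := hF.exists_smul_eq (Ne.symm h.hab) hc₁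
      have hfa := hF.smul_a hf
      refine ⟨(f, f⁻¹ * x * f), ?_, ?_⟩
      · simp only [Finset.mem_product, Finset.mem_filter, Finset.mem_univ, true_and]
        refine ⟨hf, ⟨?_, ?_⟩, ?_⟩
        · rw [mul_smul, mul_smul, hfa, hxa, inv_smul_eq_iff, hfa]
        · rw [mul_smul, mul_smul, hfb, hxc₁, ← hfb, inv_smul_smul]
        · intro hh
          apply hxF
          have : x = f * (f⁻¹ * x * f) * f⁻¹ := by group
          rw [this, hh]
          simp
      · show f * (f⁻¹ * x * f) * f⁻¹ = x
        group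
    · rintro ⟨f, y⟩ hp
      simp only [Finset.mem_product, Finset.mem_filter, Finset.mem_univ, true_and] at hp
      exact (hψ f y (hF.smul_a hp.1)).symm
  rw [← hbij, Finset.sum_product]
  simp only [Finset.sum_const, nsmul_eq_mul, hcardF]

/-- value of an induced class function on a non-identity element of the kernel -/
theorem indFun_apply_F [Fintype G] (h : S3Setup G Ω a b c s) (hF : IsKer G a F)
    (θ : ↥(stabilizer G a) → ℂ) (hθ : Cfsg.IsClassFunction ↥(stabilizer G a) θ)
    {g : G} (hg : g ∈ F) (hg1 : g ≠ 1) :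
    Cfsg.indFun (stabilizer G a) θ g = θ ⟨g, hF.le hg⟩ := by
  classical
  have hga := hF.smul_a hg
  rw [Cfsg.Agent.Lib.Helper04.indFun_apply]
  have hterm : ∀ x : G, Cfsg.extendByZero (stabilizer G a) θ (x⁻¹ * g * x) =
      if x • a = a then θ ⟨g, hF.le hg⟩ else 0 := by
    intro x
    by_cases hx : x • a = a
    · rw [if_pos hx]
      have hxi : x⁻¹ • a = a := by rw [inv_smul_eq_iff, hx]
      have hmem : x⁻¹ * g * x ∈ stabilizer G a := by
        rw [mem_stabilizer_iff, mul_smul, mul_smul, hx, hga, hxi]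
      rw [Cfsg.Agent.Lib.Helper04.extendByZero_apply_of_mem _ _ _ hmem]
      have := hθ ⟨g, hF.le hg⟩ ⟨x⁻¹, mem_stabilizer_iff.mpr hxi⟩
      rw [← this]
      congr 1
      apply Subtype.ext
      simp
    · rw [if_neg hx]
      apply Cfsg.Agent.Lib.Helper04.extendByZero_apply_not_mem
      intro hmem
      rw [mem_stabilizer_iff, mul_smul, mul_smul, inv_smul_eq_iff] at hmem
      exact hF.fpf g hg hg1 (x • a) hx hmem
  simp_rw [hterm]
  rw [Finset.sum_ite, Finset.sum_const, Finset.sum_const_zero, add_zero, nsmul_eq_mul]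
  have hcard : ((Finset.univ.filter (fun x : G => x • a = a)).card : ℂ) =
      (Nat.card (stabilizer G a) : ℂ) := by
    congr 1
    rw [← Fintype.card_subtype, ← Nat.card_eq_fintype_card]
    rfl
  rw [hcard, ← mul_assoc, inv_mul_cancel₀, one_mul]
  exact_mod_cast Nat.card_pos.ne'

/-- value of an induced class function on a non-identity element of the two-point stabilizer -/
theorem indFun_apply_H [Fintype G] (h : S3Setup G Ω a b c s)
    (θ : ↥(stabilizer G a) → ℂ) (hθ : Cfsg.IsClassFunction ↥(stabilizer G a) θ)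
    {g : G} (hga : g • a = a) (hgb : g • b = b) (hg1 : g ≠ 1) :
    Cfsg.indFun (stabilizer G a) θ g = θ ⟨g, mem_stabilizer_iff.mpr hga⟩ +
      θ ⟨s⁻¹ * g * s, by
        rw [mem_stabilizer_iff, mul_smul, mul_smul, h.sa, hgb, inv_smul_eq_iff, h.sa]⟩ := by
  classical
  have hsgs : (s⁻¹ * g * s) • a = a := by
    rw [mul_smul, mul_smul, h.sa, hgb, inv_smul_eq_iff, h.sa]
  rw [Cfsg.Agent.Lib.Helper04.indFun_apply]
  have hterm : ∀ x : G, Cfsg.extendByZero (stabilizer G a) θ (x⁻¹ * g * x) =
      (if x • a = a then θ ⟨g, mem_stabilizer_iff.mpr hga⟩ else 0) +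
      (if x • a = b then θ ⟨s⁻¹ * g * s, mem_stabilizer_iff.mpr hsgs⟩ else 0) := by
    intro x
    by_cases hx : x • a = a
    · have hxb : ¬ x • a = b := by rw [hx]; exact h.hab
      rw [if_pos hx, if_neg hxb, add_zero]
      have hxi : x⁻¹ • a = a := by rw [inv_smul_eq_iff, hx]
      have hmem : x⁻¹ * g * x ∈ stabilizer G a := by
        rw [mem_stabilizer_iff, mul_smul, mul_smul, hx, hga, hxi]
      rw [Cfsg.Agent.Lib.Helper04.extendByZero_apply_of_mem _ _ _ hmem]
      have := hθ ⟨g, mem_stabilizer_iff.mpr hga⟩ ⟨x⁻¹, mem_stabilizer_iff.mpr hxi⟩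
      rw [← this]
      congr 1
      apply Subtype.ext
      simp
    · rw [if_neg hx, zero_add]
      by_cases hxb : x • a = b
      · rw [if_pos hxb]
        have hxib : x⁻¹ • b = a := by rw [inv_smul_eq_iff, hxb]
        have hmem : x⁻¹ * g * x ∈ stabilizer G a := by
          rw [mem_stabilizer_iff, mul_smul, mul_smul, hxb, hgb, hxib]
        rw [Cfsg.Agent.Lib.Helper04.extendByZero_apply_of_mem _ _ _ hmem]
        -- `x = s * y` with `y` in the stabilizer
        have hy : (x⁻¹ * s) • a = a := by rw [mul_smul, h.sa, hxib]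
        have := hθ ⟨s⁻¹ * g * s, mem_stabilizer_iff.mpr hsgs⟩ ⟨x⁻¹ * s, mem_stabilizer_iff.mpr hy⟩
        rw [← this]
        congr 1
        apply Subtype.ext
        show x⁻¹ * g * x = (x⁻¹ * s) * (s⁻¹ * g * s) * (x⁻¹ * s)⁻¹
        group
      · rw [if_neg hxb]
        apply Cfsg.Agent.Lib.Helper04.extendByZero_apply_not_mem
        intro hmem
        rw [mem_stabilizer_iff, mul_smul, mul_smul, inv_smul_eq_iff] at hmem
        rcases h.pre.fix_ab h.hab hg1 hga hgb hmem with h1 | h1
        · exact hx h1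
        · exact hxb h1
  simp_rw [hterm]
  rw [Finset.sum_add_distrib, Finset.sum_ite, Finset.sum_const, Finset.sum_const_zero, add_zero,
    Finset.sum_ite, Finset.sum_const, Finset.sum_const_zero, add_zero, nsmul_eq_mul, nsmul_eq_mul]
  have hcard : ((Finset.univ.filter (fun x : G => x • a = a)).card : ℂ) =
      (Nat.card (stabilizer G a) : ℂ) := by
    congr 1
    rw [← Fintype.card_subtype, ← Nat.card_eq_fintype_card]
    rfl
  have hcard2 : (Finset.univ.filter (fun x : G => x • a = b)).card =
      (Finset.univ.filter (fun x : G => x • a = a)).card := by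
    apply Finset.card_bij (fun x _ => s * x)
    · intro x hx
      simp only [Finset.mem_filter, Finset.mem_univ, true_and] at hx ⊢
      rw [mul_smul, hx, h.sb]
    · intro x _ y _ hxy
      exact mul_left_cancel hxy
    · intro y hy
      simp only [Finset.mem_filter, Finset.mem_univ, true_and] at hy
      refine ⟨s⁻¹ * y, ?_, by group⟩
      simp only [Finset.mem_filter, Finset.mem_univ, true_and]
      rw [mul_smul, hy, inv_smul_eq_iff, h.sb]
  rw [hcard2, hcard]
  have hne : (Nat.card (stabilizer G a) : ℂ) ≠ 0 := by exact_mod_cast Nat.card_pos.ne'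
  field_simp

/-- value of an induced function at the identity -/
theorem indFun_apply_one [Fintype G] (θ : ↥(stabilizer G a) → ℂ) :
    Cfsg.indFun (stabilizer G a) θ 1 = ((stabilizer G a).index : ℂ) * θ 1 := by
  classical
  rw [Cfsg.Agent.Lib.Helper04.indFun_apply]
  have hterm : ∀ x : G, Cfsg.extendByZero (stabilizer G a) θ (x⁻¹ * 1 * x) = θ 1 := by
    intro x
    have : x⁻¹ * 1 * x = ((1 : ↥(stabilizer G a)) : G) := by simp
    rw [this, Cfsg.Agent.Lib.Helper04.extendByZero_apply_mem]
  simp_rw [hterm]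
  rw [Finset.sum_const, nsmul_eq_mul, Finset.card_univ]
  have h1 := Subgroup.card_mul_index (stabilizer G a)
  have hne : (Nat.card (stabilizer G a) : ℂ) ≠ 0 := by exact_mod_cast Nat.card_pos.ne'
  have h2 : (Fintype.card G : ℂ) = (Nat.card (stabilizer G a) : ℂ) * ((stabilizer G a).index : ℂ) := by
    rw [← Nat.card_eq_fintype_card, ← h1]; push_cast; ring
  rw [h2]
  field_simp

end S3Setup

end Cfsg.Agent.Lib.Helper28
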