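import Mathlib
import Cfsg.Agent.Lib.Helper28.S3GroupD

set_option autoImplicit false

/-!
# Sharply 3-transitive groups of even degree: the involutions with fixed points
-/

namespace Cfsg.Agent.Lib.Helper28

open MulAction

open Classical in
/-- the involutions with a fixed point -/
noncomputable def invZ (G Ω : Type*) [Group G] [MulAction G Ω] [Fintype G] : Finset G :=
  Finset.univ.filter (fun x : G => x * x = 1 ∧ x ≠ 1 ∧ ∃ y : Ω, x • y = y)

open Classical in
/-- the involutions with a fixed point mapping `a` to `c₁` -/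
noncomputable def invZc (G : Type*) {Ω : Type*} [Group G] [MulAction G Ω] [Fintype G] (a c₁ : Ω) :
    Finset G :=
  (invZ G Ω).filter (fun x => x • a = c₁)

section basic

variable {G Ω : Type*} [Group G] [MulAction G Ω] [Fintype G]

theorem mem_invZ {x : G} : x ∈ invZ G Ω ↔ x * x = 1 ∧ x ≠ 1 ∧ ∃ y : Ω, x • y = y := by
  classical
  simp [invZ]

theorem mem_invZc {a c₁ : Ω} {x : G} : x ∈ invZc G a c₁ ↔ x ∈ invZ G Ω ∧ x • a = c₁ := by
  classical
  simp [invZc]

theorem conj_mem_invZ {x : G} (hx : x ∈ invZ G Ω) (g : G) : g * x * g⁻¹ ∈ invZ G Ω := by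
  rw [mem_invZ] at hx ⊢
  obtain ⟨hxx, hx1, y, hy⟩ := hx
  refine ⟨?_, ?_, g • y, ?_⟩
  · calc g * x * g⁻¹ * (g * x * g⁻¹) = g * (x * x) * g⁻¹ := by group
      _ = 1 := by rw [hxx]; group
  · intro hh
    apply hx1
    calc x = g⁻¹ * (g * x * g⁻¹) * g := by group
      _ = 1 := by rw [hh]; group
  · rw [mul_smul, mul_smul, inv_smul_smul, hy]

end basic

namespace S3Setup

variable {G Ω : Type*} [Group G] [MulAction G Ω] {a b c : Ω} {s : G} {F : Subgroup G}

/-- every involution with a fixed point is conjugate to `z` -/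
theorem invZ_conj [Fintype G] [Fintype Ω] (h : S3Setup G Ω a b c s) (hF : IsKer G a F)
    (hev : Even (Fintype.card Ω)) {z : G} (hza : z • a = a) (hzb : z • b = b) (hz1 : z ≠ 1)
    (hzz : z * z = 1) {x : G} (hx : x ∈ invZ G Ω) : ∃ g : G, x = g * z * g⁻¹ := by
  rw [mem_invZ] at hx
  obtain ⟨hxx, hx1, y₁, hy₁⟩ := hx
  obtain ⟨y₂, hy₂₁, hy₂⟩ := exists_second_fixed hev hxx hx1 hy₁
  obtain ⟨g, hga, hgb⟩ := h.pre.trans2 a b y₁ y₂ h.hab (Ne.symm hy₂₁)
  refine ⟨g, ?_⟩
  have key : g⁻¹ * x * g = z := by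
    apply h.invol_unique hF _ _ _ _ hza hzb hzz hz1
    · rw [mul_smul, mul_smul, hga, hy₁, ← hga, inv_smul_smul]
    · rw [mul_smul, mul_smul, hgb, hy₂, ← hgb, inv_smul_smul]
    · calc g⁻¹ * x * g * (g⁻¹ * x * g) = g⁻¹ * (x * x) * g := by group
        _ = 1 := by rw [hxx]; group
    · intro hh
      apply hx1
      calc x = g * (g⁻¹ * x * g) * g⁻¹ := by group
        _ = 1 := by rw [hh]; group
  rw [← key]; group

/-- an involution fixing `a` projects onto `z` -/
theorem proj_of_invZ [Fintype G] [Fintype Ω] (h : S3Setup G Ω a b c s) (hF : IsKer G a F)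
    (hev : Even (Fintype.card Ω)) {z : G} (hza : z • a = a) (hzb : z • b = b) (hz1 : z ≠ 1)
    (hzz : z * z = 1) {x : G} (hx : x ∈ invZc G a a) :
    ((h.proj hF ⟨x, mem_stabilizer_iff.mpr (mem_invZc.mp hx).2⟩ :
      ↥(stabilizer G a ⊓ stabilizer G b)) : G) = z := by
  obtain ⟨hxZ, hxa⟩ := mem_invZc.mp hx
  obtain ⟨hxx, hx1, -⟩ := mem_invZ.mp hxZ
  set x' : ↥(stabilizer G a) := ⟨x, mem_stabilizer_iff.mpr hxa⟩ with hx'
  set p := h.proj hF x' with hp
  have hpa := (mem_H_iff.mp p.2).1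
  have hpb := (mem_H_iff.mp p.2).2
  have hpp : (p : G) * (p : G) = 1 := by
    have : p * p = 1 := by
      rw [hp, ← map_mul]
      have : x' * x' = 1 := Subtype.ext hxx
      rw [this, map_one]
    exact congrArg Subtype.val this
  have hp1 : (p : G) ≠ 1 := by
    intro hh
    have hp1' : p = 1 := Subtype.ext hh
    have hxF : x ∈ F := h.mem_F_of_proj_eq_one hF x' hp1'
    obtain ⟨y₂, hy₂, hxy₂⟩ := exists_second_fixed hev hxx hx1 hxa
    exact hF.fpf x hxF hx1 y₂ hy₂ hxy₂
  exact h.invol_unique hF hpa hpb hpp hp1 hza hzb hzz hz1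

/-- the involutions fixing `a` are the conjugates of `z` under the kernel -/
theorem card_invZc_a [Fintype G] [Fintype Ω] (h : S3Setup G Ω a b c s) (hF : IsKer G a F)
    (hev : Even (Fintype.card Ω)) {z : G} (hza : z • a = a) (hzb : z • b = b) (hz1 : z ≠ 1)
    (hzz : z * z = 1) : (invZc G a a).card = Nat.card F := by
  classical
  have hcardF : (Finset.univ.filter (fun g : G => g ∈ F)).card = Nat.card F := by
    rw [Nat.card_eq_fintype_card, Fintype.card_subtype]
  rw [← hcardF]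
  symm
  apply Finset.card_bij (fun f _ => f * z * f⁻¹)
  · intro f hf
    simp only [Finset.mem_filter, Finset.mem_univ, true_and] at hf
    have hfa := hF.smul_a hf
    rw [mem_invZc]
    constructor
    · apply conj_mem_invZ
      rw [mem_invZ]
      exact ⟨hzz, hz1, a, hza⟩
    · rw [mul_smul, mul_smul, inv_smul_eq_iff.mpr hfa.symm, hza, hfa]
  · intro f hf f' hf' heq
    simp only [Finset.mem_filter, Finset.mem_univ, true_and] at hf hf'
    have hfa := hF.smul_a hf
    have hf'a := hF.smul_a hf'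
    set x := f * z * f⁻¹ with hx
    have hx1 : x ≠ 1 := by
      intro hh
      apply hz1
      have : z = f⁻¹ * x * f := by rw [hx]; group
      rw [this, hh]; group
    have hxa : x • a = a := by
      rw [hx, mul_smul, mul_smul, inv_smul_eq_iff.mpr hfa.symm, hza, hfa]
    have hxfb : x • (f • b) = f • b := by
      rw [hx, mul_smul, mul_smul, inv_smul_smul, hzb]
    have hxf'b : x • (f' • b) = f' • b := by
      rw [heq, mul_smul, mul_smul, inv_smul_smul, hzb]
    have hfb_ne : f • b ≠ a := by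
      intro hh
      exact h.hab (MulAction.injective f (hh.trans hfa.symm)).symm
    have hf'b_ne : f' • b ≠ a := by
      intro hh
      exact h.hab (MulAction.injective f' (hh.trans hf'a.symm)).symm
    apply hF.eq_of_smul_eq hf hf' (Ne.symm h.hab)
    by_contra hne
    exact hx1 (h.pre.three x a (f • b) (f' • b) (Ne.symm hfb_ne) hne (Ne.symm hf'b_ne)
      hxa hxfb hxf'b)
  · intro x hx
    obtain ⟨hxZ, hxa⟩ := mem_invZc.mp hx
    obtain ⟨hxx, hx1, -⟩ := mem_invZ.mp hxZ
    obtain ⟨y₂, hy₂, hxy₂⟩ := exists_second_fixed hev hxx hx1 hxa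
    obtain ⟨f, hf, hfb⟩ := hF.exists_smul_eq (Ne.symm h.hab) hy₂
    have hfa := hF.smul_a hf
    refine ⟨f, by simpa using hf, ?_⟩
    have key : f⁻¹ * x * f = z := by
      apply h.invol_unique hF _ _ _ _ hza hzb hzz hz1
      · rw [mul_smul, mul_smul, hfa, hxa, inv_smul_eq_iff, hfa]
      · rw [mul_smul, mul_smul, hfb, hxy₂, ← hfb, inv_smul_smul]
      · calc f⁻¹ * x * f * (f⁻¹ * x * f) = f⁻¹ * (x * x) * f := by group
          _ = 1 := by rw [hxx]; group
      · intro hh
        apply hx1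
        calc x = f * (f⁻¹ * x * f) * f⁻¹ := by group
          _ = 1 := by rw [hh]; group
    rw [← key]; group

/-- the involutions with a fixed point swapping `a` and `b` are the conjugates of `s` -/
theorem invZc_b_conj [Fintype G] (h : S3Setup G Ω a b c s) {x : G} (hx : x ∈ invZc G a b) :
    x • b = a ∧ ∃ y : G, y • a = a ∧ y • b = b ∧ x = y * s * y⁻¹ := by
  obtain ⟨hxZ, hxa⟩ := mem_invZc.mp hx
  obtain ⟨hxx, hx1, y₁, hy₁⟩ := mem_invZ.mp hxZ
  have hxb : x • b = a := by
    rw [← hxa, ← mul_smul, hxx, one_smul]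
  have hy₁a : y₁ ≠ a := by
    rintro rfl
    rw [hxa] at hy₁
    exact h.hab hy₁.symm
  have hy₁b : y₁ ≠ b := by
    rintro rfl
    rw [hxb] at hy₁
    exact h.hab hy₁
  obtain ⟨y, hya, hyb, hyc⟩ := h.reg c y₁ h.hca h.hcb hy₁a hy₁b
  refine ⟨hxb, y, hya, hyb, ?_⟩
  have hyia : y⁻¹ • a = a := by rw [inv_smul_eq_iff, hya]
  have hyib : y⁻¹ • b = b := by rw [inv_smul_eq_iff, hyb]
  have hyic : y⁻¹ • y₁ = c := by rw [inv_smul_eq_iff, hyc]
  apply h.eq_of_three h.hab (Ne.symm hy₁a) (Ne.symm hy₁b)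
  · rw [hxa, mul_smul, mul_smul, hyia, h.sa, hyb]
  · rw [hxb, mul_smul, mul_smul, hyib, h.sb, hya]
  · rw [hy₁, mul_smul, mul_smul, hyic, h.sc, hyc]

theorem conj_s_mem_invZc_b [Fintype G] (h : S3Setup G Ω a b c s) {y : G} (hya : y • a = a)
    (hyb : y • b = b) : y * s * y⁻¹ ∈ invZc G a b := by
  rw [mem_invZc]
  constructor
  · apply conj_mem_invZ
    rw [mem_invZ]
    exact ⟨h.s_sq, h.s_ne_one, c, h.sc⟩
  · rw [mul_smul, mul_smul, inv_smul_eq_iff.mpr hya.symm, h.sa, hyb]

/-- twice the number of conjugates of `s` is the order of the two-point stabilizer -/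
theorem card_invZc_b [Fintype G] (h : S3Setup G Ω a b c s) {z : G}
    (hza : z • a = a) (hzb : z • b = b) (hz1 : z ≠ 1) (hsz : s * z = z * s)
    (hzuniq : ∀ x : G, x • a = a → x • b = b → s * x = x * s → x = 1 ∨ x = z) :
    2 * (invZc G a b).card = Nat.card ↥(stabilizer G a ⊓ stabilizer G b) := by
  classical
  have hcardH : (Finset.univ.filter (fun g : G => g • a = a ∧ g • b = b)).card =
      Nat.card ↥(stabilizer G a ⊓ stabilizer G b) := by
    rw [Nat.card_eq_fintype_card, Fintype.card_subtype]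
    congr 1
    ext x
    simp [mem_H_iff]
  rw [← hcardH]
  have hfw : (Finset.univ.filter (fun g : G => g • a = a ∧ g • b = b)).card =
      ∑ x ∈ invZc G a b, ((Finset.univ.filter (fun g : G => g • a = a ∧ g • b = b)).filter
        (fun y => y * s * y⁻¹ = x)).card := by
    apply Finset.card_eq_sum_card_fiberwise
    intro y hy
    have hy' := (Finset.mem_filter.mp hy).2
    exact h.conj_s_mem_invZc_b hy'.1 hy'.2
  have hfib2 : ∀ x ∈ invZc G a b, ((Finset.univ.filter (fun g : G => g • a = a ∧ g • b = b)).filter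
        (fun y => y * s * y⁻¹ = x)).card = 2 := by
    intro x hx
    obtain ⟨-, y₀, hy₀a, hy₀b, hxy₀⟩ := h.invZc_b_conj hx
    have hfib : (Finset.univ.filter (fun g : G => g • a = a ∧ g • b = b)).filter
        (fun y => y * s * y⁻¹ = x) = {y₀, y₀ * z} := by
      ext y
      simp only [Finset.mem_filter, Finset.mem_univ, true_and, Finset.mem_insert,
        Finset.mem_singleton]
      constructor
      · rintro ⟨⟨hya, hyb⟩, hyx⟩
        have hwa : (y₀⁻¹ * y) • a = a := by rw [mul_smul, hya, inv_smul_eq_iff, hy₀a]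
        have hwb : (y₀⁻¹ * y) • b = b := by rw [mul_smul, hyb, inv_smul_eq_iff, hy₀b]
        have hws : s * (y₀⁻¹ * y) = (y₀⁻¹ * y) * s := by
          have e : y * s * y⁻¹ = y₀ * s * y₀⁻¹ := by rw [hyx, hxy₀]
          calc s * (y₀⁻¹ * y) = y₀⁻¹ * (y₀ * s * y₀⁻¹) * y := by group
            _ = y₀⁻¹ * (y * s * y⁻¹) * y := by rw [e]
            _ = (y₀⁻¹ * y) * s := by group
        rcases hzuniq _ hwa hwb hws with h1 | h1
        · left
          calc y = y₀ * (y₀⁻¹ * y) := by group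
            _ = y₀ := by rw [h1, mul_one]
        · right
          calc y = y₀ * (y₀⁻¹ * y) := by group
            _ = y₀ * z := by rw [h1]
      · rintro (rfl | rfl)
        · exact ⟨⟨hy₀a, hy₀b⟩, hxy₀.symm⟩
        · refine ⟨⟨by rw [mul_smul, hza, hy₀a], by rw [mul_smul, hzb, hy₀b]⟩, ?_⟩
          rw [hxy₀]
          have : z * s * z⁻¹ = s := by
            calc z * s * z⁻¹ = (s * z) * z⁻¹ := by rw [hsz]
              _ = s := by group
          calc y₀ * z * s * (y₀ * z)⁻¹ = y₀ * (z * s * z⁻¹) * y₀⁻¹ := by group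
            _ = y₀ * s * y₀⁻¹ := by rw [this]
    rw [hfib, Finset.card_pair]
    intro hh
    apply hz1
    calc z = y₀⁻¹ * (y₀ * z) := by group
      _ = y₀⁻¹ * y₀ := by rw [← hh]
      _ = 1 := by group
  rw [hfw, Finset.sum_congr rfl hfib2, Finset.sum_const, smul_eq_mul, mul_comm]

/-- transport of the fibre over `b` to the fibre over another point -/
theorem sum_invZc_conj [Fintype G] (h : S3Setup G Ω a b c s) {c₁ : Ω} {g : G} (hga : g • a = a)
    (hgb : g • b = c₁) (φ : G → ℂ) :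
    ∑ x ∈ invZc G a c₁, φ x = ∑ x ∈ invZc G a b, φ (g * x * g⁻¹) := by
  have hgia : g⁻¹ • a = a := by rw [inv_smul_eq_iff, hga]
  symm
  apply Finset.sum_bij (fun x _ => g * x * g⁻¹)
  · intro x hx
    obtain ⟨hxZ, hxa⟩ := mem_invZc.mp hx
    rw [mem_invZc]
    refine ⟨conj_mem_invZ hxZ g, ?_⟩
    rw [mul_smul, mul_smul, hgia, hxa, hgb]
  · intro x _ y _ hxy
    have := mul_right_cancel hxy
    exact mul_left_cancel this
  · intro y hy
    obtain ⟨hyZ, hya⟩ := mem_invZc.mp hy
    refine ⟨g⁻¹ * y * g, ?_, by group⟩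
    rw [mem_invZc]
    constructor
    · have := conj_mem_invZ hyZ g⁻¹
      rwa [inv_inv] at this
    · rw [mul_smul, mul_smul, hga, hya, ← hgb, inv_smul_smul]
  · intro x _
    rfl

/-- a double sum over the involutions of a function supported on the point stabilizer -/
theorem sum_sum_invZ [Fintype G] [Fintype Ω] (h : S3Setup G Ω a b c s) (E : G → ℂ)
    (hE0 : ∀ g : G, g • a ≠ a → E g = 0)
    (hEc : ∀ x g : G, x • a = a → E (x * g * x⁻¹) = E g) :
    ∑ x ∈ invZ G Ω, ∑ y ∈ invZ G Ω, E (x * y) =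
      ∑ x ∈ invZc G a a, ∑ y ∈ invZc G a a, E (x * y) +
        ((Fintype.card Ω : ℂ) - 1) * ∑ x ∈ invZc G a b, ∑ y ∈ invZc G a b, E (x * y) := by
  classical
  -- restrict the inner sum
  have h1 : ∀ x ∈ invZ G Ω, ∑ y ∈ invZ G Ω, E (x * y) = ∑ y ∈ invZc G a (x • a), E (x * y) := by
    intro x hx
    obtain ⟨hxx, -, -⟩ := mem_invZ.mp hx
    have hxi : x⁻¹ = x := inv_eq_of_mul_eq_one_right hxx
    unfold invZc
    rw [Finset.sum_filter]
    apply Finset.sum_congr rfl
    intro y _
    by_cases hy : y • a = x • a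
    · rw [if_pos hy]
    · rw [if_neg hy]
      apply hE0
      intro hh
      apply hy
      rw [mul_smul] at hh
      have : y • a = x⁻¹ • a := by rw [eq_inv_smul_iff]; exact hh
      rw [this, hxi]
  rw [Finset.sum_congr rfl h1]
  -- fibrewise
  have h2 : ∑ x ∈ invZ G Ω, ∑ y ∈ invZc G a (x • a), E (x * y) =
      ∑ c₁ : Ω, ∑ x ∈ invZc G a c₁, ∑ y ∈ invZc G a c₁, E (x * y) := by
    rw [← Finset.sum_fiberwise (s := invZ G Ω) (g := fun x => x • a)
      (f := fun x => ∑ y ∈ invZc G a (x • a), E (x * y))]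
    apply Finset.sum_congr rfl
    intro c₁ _
    unfold invZc
    apply Finset.sum_congr rfl
    intro x hx
    rw [(Finset.mem_filter.mp hx).2]
  rw [h2]
  -- separate the point `a`
  rw [← Finset.add_sum_erase Finset.univ _ (Finset.mem_univ a)]
  congr 1
  have h3 : ∀ c₁ ∈ Finset.univ.erase a, ∑ x ∈ invZc G a c₁, ∑ y ∈ invZc G a c₁, E (x * y) =
      ∑ x ∈ invZc G a b, ∑ y ∈ invZc G a b, E (x * y) := by
    intro c₁ hc₁
    have hc₁a : c₁ ≠ a := Finset.ne_of_mem_erase hc₁
    obtain ⟨g, hga, hgb⟩ := h.pre.trans2 a b a c₁ h.hab (Ne.symm hc₁a)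
    rw [h.sum_invZc_conj hga hgb]
    apply Finset.sum_congr rfl
    intro x _
    rw [h.sum_invZc_conj hga hgb]
    apply Finset.sum_congr rfl
    intro y _
    have : g * x * g⁻¹ * (g * y * g⁻¹) = g * (x * y) * g⁻¹ := by group
    rw [this, hEc g (x * y) hga]
  rw [Finset.sum_congr rfl h3, Finset.sum_const, nsmul_eq_mul, Finset.card_erase_of_mem
    (Finset.mem_univ a), Finset.card_univ]
  congr 1
  have hpos : 1 ≤ Fintype.card Ω := Fintype.card_pos_iff.mpr ⟨a⟩
  push_cast [Nat.cast_sub hpos]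
  ring

/-- the number of involutions with a fixed point -/
theorem card_invZ [Fintype G] [Fintype Ω] (h : S3Setup G Ω a b c s) :
    (invZ G Ω).card = (invZc G a a).card + (Fintype.card Ω - 1) * (invZc G a b).card := by
  classical
  rw [Finset.card_eq_sum_card_fiberwise (f := fun x => x • a) (t := Finset.univ)
    (fun x _ => Finset.mem_coe.mpr (Finset.mem_univ _))]
  rw [← Finset.add_sum_erase Finset.univ _ (Finset.mem_univ a)]
  congr 1
  have h3 : ∀ c₁ ∈ Finset.univ.erase a,
      ((invZ G Ω).filter (fun x => x • a = c₁)).card = (invZc G a b).card := by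
    intro c₁ hc₁
    have hc₁a : c₁ ≠ a := Finset.ne_of_mem_erase hc₁
    obtain ⟨g, hga, hgb⟩ := h.pre.trans2 a b a c₁ h.hab (Ne.symm hc₁a)
    have := h.sum_invZc_conj hga hgb (fun _ => (1 : ℂ))
    simp only [Finset.sum_const, nsmul_eq_mul, mul_one] at this
    have h4 : ((invZc G a c₁).card : ℂ) = ((invZc G a b).card : ℂ) := this
    exact_mod_cast h4
  rw [Finset.sum_congr rfl h3, Finset.sum_const, smul_eq_mul, Finset.card_erase_of_mem
    (Finset.mem_univ a), Finset.card_univ]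

end S3Setup

end Cfsg.Agent.Lib.Helper28
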