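import Mathlib

set_option autoImplicit false
set_option linter.style.haveILetI false

/-!
# A field from a regular action

If a commutative group `D` acts by automorphisms on an abelian group `A`, regularly on the
non-zero elements, then `A` carries a field structure with `d • a = (d • e) * a`.
-/

namespace Cfsg.Agent.Lib.Helper28

section regfield

variable {A D : Type*} [AddCommGroup A] [CommGroup D] [DistribMulAction D A] (e : A)
  (reg : ∀ a : A, a ≠ 0 → ∃! d : D, d • e = a)

open Classical in
/-- the element of `D` carrying `e` to `a` -/
noncomputable def regDelta (a : A) : D := if h : a = 0 then 1 else (reg a h).choose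

include reg in
theorem regDelta_spec {a : A} (h : a ≠ 0) : regDelta e reg a • e = a := by
  unfold regDelta
  rw [dif_neg h]
  exact (reg a h).choose_spec.1

theorem regDelta_unique {a : A} (h : a ≠ 0) {d : D} (hd : d • e = a) : d = regDelta e reg a := by
  obtain ⟨d₀, _, h2⟩ := reg a h
  rw [h2 d hd, h2 _ (regDelta_spec e reg h)]

theorem regDelta_smul (he : e ≠ 0) (d : D) : regDelta e reg (d • e) = d := by
  have hne : d • e ≠ 0 := by
    intro h
    apply he
    have := congrArg (fun x => d⁻¹ • x) h
    simpa using this
  exact (regDelta_unique e reg hne rfl).symm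

open Classical in
/-- the multiplication -/
noncomputable def regMul (a b : A) : A := if a = 0 then 0 else regDelta e reg a • b

theorem regMul_zero_left (b : A) : regMul e reg 0 b = 0 := by
  unfold regMul; rw [if_pos rfl]

theorem regMul_of_ne {a : A} (h : a ≠ 0) (b : A) : regMul e reg a b = regDelta e reg a • b := by
  unfold regMul; rw [if_neg h]

theorem regMul_zero_right (a : A) : regMul e reg a 0 = 0 := by
  by_cases h : a = 0
  · rw [h, regMul_zero_left]
  · rw [regMul_of_ne e reg h, smul_zero]

theorem smul_ne_zero_of_ne {b : A} (d : D) (h : b ≠ 0) : d • b ≠ 0 := by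
  intro h0
  apply h
  have := congrArg (fun x => d⁻¹ • x) h0
  simpa using this

theorem regMul_ne_zero {a b : A} (ha : a ≠ 0) (hb : b ≠ 0) : regMul e reg a b ≠ 0 := by
  rw [regMul_of_ne e reg ha]
  exact smul_ne_zero_of_ne _ hb

theorem regMul_one_right (a : A) : regMul e reg a e = a := by
  by_cases h : a = 0
  · rw [h, regMul_zero_left]
  · rw [regMul_of_ne e reg h, regDelta_spec e reg h]

theorem regMul_one_left (he : e ≠ 0) (b : A) : regMul e reg e b = b := by
  rw [regMul_of_ne e reg he]
  have : regDelta e reg e = 1 := (regDelta_unique e reg he (one_smul D e)).symm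
  rw [this, one_smul]

theorem regMul_add (a b c : A) : regMul e reg a (b + c) = regMul e reg a b + regMul e reg a c := by
  by_cases h : a = 0
  · rw [h, regMul_zero_left, regMul_zero_left, regMul_zero_left, add_zero]
  · rw [regMul_of_ne e reg h, regMul_of_ne e reg h, regMul_of_ne e reg h, smul_add]

theorem regMul_comm (a b : A) : regMul e reg a b = regMul e reg b a := by
  by_cases ha : a = 0
  · rw [ha, regMul_zero_left, regMul_zero_right]
  by_cases hb : b = 0
  · rw [hb, regMul_zero_left, regMul_zero_right]
  rw [regMul_of_ne e reg ha, regMul_of_ne e reg hb]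
  conv_lhs => rw [← regDelta_spec e reg hb]
  conv_rhs => rw [← regDelta_spec e reg ha]
  rw [smul_smul, smul_smul, mul_comm]

theorem regDelta_regMul {a b : A} (ha : a ≠ 0) (hb : b ≠ 0) :
    regDelta e reg (regMul e reg a b) = regDelta e reg a * regDelta e reg b := by
  symm
  apply regDelta_unique e reg (regMul_ne_zero e reg ha hb)
  rw [regMul_of_ne e reg ha, mul_smul, regDelta_spec e reg hb]

theorem regMul_assoc (a b c : A) :
    regMul e reg (regMul e reg a b) c = regMul e reg a (regMul e reg b c) := by
  by_cases ha : a = 0
  · rw [ha, regMul_zero_left, regMul_zero_left, regMul_zero_left]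
  by_cases hb : b = 0
  · rw [hb, regMul_zero_right, regMul_zero_left, regMul_zero_right]
  rw [regMul_of_ne e reg (regMul_ne_zero e reg ha hb), regDelta_regMul e reg ha hb,
    regMul_of_ne e reg ha, regMul_of_ne e reg hb, mul_smul]

/-- the commutative ring structure -/
@[reducible] noncomputable def regCommRing (he : e ≠ 0) : CommRing A :=
  { (inferInstance : AddCommGroup A) with
    mul := regMul e reg
    one := e
    left_distrib := regMul_add e reg
    right_distrib := fun a b c => by
      show regMul e reg (a + b) c = regMul e reg a c + regMul e reg b c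
      rw [regMul_comm e reg (a + b) c, regMul_add, regMul_comm e reg c a, regMul_comm e reg c b]
    zero_mul := regMul_zero_left e reg
    mul_zero := regMul_zero_right e reg
    mul_assoc := regMul_assoc e reg
    one_mul := regMul_one_left e reg he
    mul_one := regMul_one_right e reg
    mul_comm := regMul_comm e reg }

theorem regCommRing_mul (he : e ≠ 0) (a b : A) :
    (letI := regCommRing e reg he; a * b) = regMul e reg a b := rfl

theorem regCommRing_one (he : e ≠ 0) : (letI := regCommRing e reg he; (1 : A)) = e := rfl

end regfield

section regfield2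

variable {A D : Type*} [AddCommGroup A] [CommGroup D] [DistribMulAction D A] (e : A)
  (reg : ∀ a : A, a ≠ 0 → ∃! d : D, d • e = a)

theorem regCommRing_isDomain (he : e ≠ 0) :
    @IsDomain A (regCommRing e reg he).toCommSemiring.toSemiring := by
  letI := regCommRing e reg he
  haveI : Nontrivial A := ⟨⟨e, 0, he⟩⟩
  haveI : NoZeroDivisors A := ⟨by
    intro a b hab
    by_contra hcon
    simp only [not_or] at hcon
    exact regMul_ne_zero e reg hcon.1 hcon.2 hab⟩
  exact NoZeroDivisors.to_isDomain A

/-- the field structure -/
@[reducible] noncomputable def regField [Finite A] (he : e ≠ 0) : Field A :=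
  letI := regCommRing e reg he
  haveI := regCommRing_isDomain e reg he
  letI := Fintype.ofFinite A
  letI := Classical.decEq A
  Fintype.fieldOfDomain A

theorem regField_mul [Finite A] (he : e ≠ 0) (a b : A) :
    (letI := regField e reg he; a * b) = regMul e reg a b := rfl

theorem regField_one [Finite A] (he : e ≠ 0) : (letI := regField e reg he; (1 : A)) = e := rfl

theorem regField_add [Finite A] (he : e ≠ 0) (a b : A) :
    (letI := regField e reg he; a + b) = (a + b : A) := rfl

theorem regField_smul_eq_mul [Finite A] (he : e ≠ 0) (d : D) (a : A) :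
    (letI := regField e reg he; (d • e) * a) = d • a := by
  rw [regField_mul, regMul_of_ne e reg (smul_ne_zero_of_ne d he), regDelta_smul e reg he]

end regfield2

end Cfsg.Agent.Lib.Helper28
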