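import Mathlib
import Cfsg.Agent.Lib.Helper28.RegField

set_option autoImplicit false
set_option linter.style.haveILetI false

/-!
# Field coordinates on a subgroup `T` acted on regularly by a commutative subgroup `D`
-/

namespace Cfsg.Agent.Lib.Helper28

section coord

variable {G : Type*} [Group G]

/-- If `T` is a finite commutative subgroup of order `2 ^ k`, normalized by a commutative subgroup `D`
acting regularly on `T \ {1}`, then `T` can be coordinatized by the field with `2 ^ k` elements so that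
conjugation by `D` becomes multiplication. -/
theorem exists_coord (T D : Subgroup G) [Finite T]
    (hTcomm : ∀ a ∈ T, ∀ b ∈ T, a * b = b * a) (hDcomm : ∀ a ∈ D, ∀ b ∈ D, a * b = b * a)
    (hnorm : ∀ d ∈ D, ∀ t ∈ T, d * t * d⁻¹ ∈ T) (e : G) (heT : e ∈ T) (he1 : e ≠ 1)
    (hreg : ∀ a ∈ T, a ≠ 1 → ∃! d : D, (d : G) * e * (d : G)⁻¹ = a)
    (k : ℕ) (hk : k ≠ 0) (hcard : Nat.card T = 2 ^ k) :
    ∃ φ : T → GaloisField 2 k, Function.Bijective φ ∧ (∀ a b : T, φ (a * b) = φ a + φ b) ∧
      φ ⟨e, heT⟩ = 1 ∧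
      ∀ (d : G) (hd : d ∈ D) (t : T), φ ⟨d * t * d⁻¹, hnorm d hd t t.2⟩ =
        φ ⟨d * e * d⁻¹, hnorm d hd e heT⟩ * φ t := by
  classical
  letI iT : CommGroup ↥T :=
    { (inferInstance : Group ↥T) with
      mul_comm := fun a b => Subtype.ext (hTcomm a a.2 b b.2) }
  letI iD : CommGroup ↥D :=
    { (inferInstance : Group ↥D) with
      mul_comm := fun a b => Subtype.ext (hDcomm a a.2 b b.2) }
  letI act : DistribMulAction ↥D (Additive ↥T) :=
    { smul := fun d a => Additive.ofMul ⟨(d : G) * (Additive.toMul a : T) * (d : G)⁻¹,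
        hnorm d d.2 _ (Additive.toMul a : T).2⟩
      one_smul := fun a => by
        show Additive.ofMul (⟨((1 : D) : G) * (Additive.toMul a : T) * ((1 : D) : G)⁻¹, _⟩ : T) = a
        simp
      mul_smul := fun d d' a => by
        show Additive.ofMul (⟨((d * d' : D) : G) * (Additive.toMul a : T) * ((d * d' : D) : G)⁻¹, _⟩ : T) =
          Additive.ofMul (⟨(d : G) * ((⟨(d' : G) * (Additive.toMul a : T) * (d' : G)⁻¹, _⟩ : T) : G) * (d : G)⁻¹, _⟩ : T)
        congr 1
        apply Subtype.ext
        simp [mul_assoc]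
      smul_zero := fun d => by
        show Additive.ofMul (⟨(d : G) * ((1 : T) : G) * (d : G)⁻¹, _⟩ : T) = 0
        simp
      smul_add := fun d a b => by
        show Additive.ofMul (⟨(d : G) * ((Additive.toMul a * Additive.toMul b : T) : G) * (d : G)⁻¹, _⟩ : T) =
          Additive.ofMul ((⟨(d : G) * (Additive.toMul a : T) * (d : G)⁻¹, _⟩ : T) *
            (⟨(d : G) * (Additive.toMul b : T) * (d : G)⁻¹, _⟩ : T))
        congr 1
        apply Subtype.ext
        simp [mul_assoc] }
  have hsmul : ∀ (d : D) (a : Additive ↥T), d • a =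
      Additive.ofMul (⟨(d : G) * (Additive.toMul a : T) * (d : G)⁻¹,
        hnorm d d.2 _ (Additive.toMul a : T).2⟩ : T) := fun d a => rfl
  set e' : Additive ↥T := Additive.ofMul ⟨e, heT⟩ with he'
  have he'0 : e' ≠ 0 := by
    intro h
    apply he1
    have : (⟨e, heT⟩ : T) = 1 := h
    exact congrArg Subtype.val this
  have reg : ∀ a : Additive ↥T, a ≠ 0 → ∃! d : ↥D, d • e' = a := by
    intro a ha
    have ha1 : ((Additive.toMul a : T) : G) ≠ 1 := by
      intro h
      apply ha
      have : (Additive.toMul a : T) = 1 := Subtype.ext h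
      exact this
    obtain ⟨d, hd, hduniq⟩ := hreg _ (Additive.toMul a : T).2 ha1
    refine ⟨d, ?_, ?_⟩
    · show d • e' = a
      rw [hsmul]
      show Additive.ofMul (⟨(d : G) * e * (d : G)⁻¹, _⟩ : T) = a
      have : (⟨(d : G) * e * (d : G)⁻¹, hnorm d d.2 e heT⟩ : T) = Additive.toMul a := Subtype.ext hd
      rw [this]; rfl
    · intro d' hd'
      apply hduniq
      have h1 : d' • e' = a := hd'
      rw [hsmul] at h1
      have h2 := congrArg (fun x => ((Additive.toMul x : T) : G)) h1
      exact h2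
  haveI : Finite (Additive ↥T) := inferInstanceAs (Finite ↥T)
  letI fld : Field (Additive ↥T) := regField e' reg he'0
  letI : Fintype (Additive ↥T) := Fintype.ofFinite _
  haveI : Fact (Nat.Prime 2) := ⟨Nat.prime_two⟩
  letI : Fintype (GaloisField 2 k) := Fintype.ofFinite _
  have hcardeq : Fintype.card (Additive ↥T) = Fintype.card (GaloisField 2 k) := by
    rw [← Nat.card_eq_fintype_card, ← Nat.card_eq_fintype_card, GaloisField.card 2 k hk]
    exact hcard
  let ι : Additive ↥T ≃+* GaloisField 2 k := FiniteField.ringEquivOfCardEq hcardeq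
  refine ⟨fun t => ι (Additive.ofMul t), ?_, ?_, ?_, ?_⟩
  · exact ι.bijective.comp Additive.ofMul.bijective
  · intro a b
    show ι (Additive.ofMul (a * b)) = ι (Additive.ofMul a) + ι (Additive.ofMul b)
    rw [← map_add]
    rfl
  · show ι e' = 1
    have : e' = (1 : Additive ↥T) := rfl
    rw [this, map_one]
  · intro d hd t
    show ι (Additive.ofMul (⟨d * t * d⁻¹, _⟩ : T)) =
      ι (Additive.ofMul (⟨d * e * d⁻¹, _⟩ : T)) * ι (Additive.ofMul t)
    rw [← map_mul]
    congr 1
    have h1 : (Additive.ofMul (⟨d * t * d⁻¹, hnorm d hd t t.2⟩ : T)) =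
        (⟨d, hd⟩ : D) • (Additive.ofMul t) := rfl
    have h2 : (Additive.ofMul (⟨d * e * d⁻¹, hnorm d hd e heT⟩ : T)) = (⟨d, hd⟩ : D) • e' := rfl
    rw [h1, h2]
    exact (regField_smul_eq_mul e' reg he'0 ⟨d, hd⟩ (Additive.ofMul t)).symm

end coord

end Cfsg.Agent.Lib.Helper28
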