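import Mathlib
import Cfsg.Agent.Lib.Helper28.Coord
import Cfsg.Agent.Lib.Helper28.Moebius

set_option autoImplicit false

/-!
# Sharply 3-transitive groups of odd degree are `PGL₂(2^k)` (Zassenhaus)
-/

namespace Cfsg.Agent.Lib.Helper28

open MulAction

/-- sharp 3-transitivity, in elementary form -/
structure Sharp3 (G X : Type*) [Group G] [MulAction G X] : Prop where
  trans : ∀ a b c a' b' c' : X, a ≠ b → a ≠ c → b ≠ c → a' ≠ b' → a' ≠ c' → b' ≠ c' →
    ∃ g : G, g • a = a' ∧ g • b = b' ∧ g • c = c'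
  sharp : ∀ (g : G) (a b c : X), a ≠ b → a ≠ c → b ≠ c → g • a = a → g • b = b → g • c = c → g = 1

section basics

variable {G X : Type*} [Group G] [MulAction G X]

/-- an involution of a sharply 3-transitive group of odd degree has exactly one fixed point -/
theorem Sharp3.invol_fixed_unique [Finite X] (h : Sharp3 G X) (hodd : Odd (Nat.card X)) {i : G}
    (hi : i * i = 1) (hi1 : i ≠ 1) : ∃! x : X, i • x = x := by
  classical
  have hP : IsPGroup 2 (Subgroup.zpowers i) := by
    rintro ⟨g, hg⟩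
    refine ⟨1, ?_⟩
    obtain ⟨k, rfl⟩ := Subgroup.mem_zpowers_iff.1 hg
    apply Subtype.ext
    show (i ^ k) ^ 2 ^ 1 = 1
    rw [pow_one, ← zpow_natCast, ← zpow_mul, mul_comm, zpow_mul, zpow_natCast, sq, hi, one_zpow]
  have hmod := hP.card_modEq_card_fixedPoints X
  have hfix : ∀ x : X, x ∈ fixedPoints (Subgroup.zpowers i) X ↔ i • x = x := by
    intro x
    rw [mem_fixedPoints]
    constructor
    · intro hx; exact hx ⟨i, Subgroup.mem_zpowers i⟩
    · rintro hx ⟨g, hg⟩
      obtain ⟨k, rfl⟩ := Subgroup.mem_zpowers_iff.1 hg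
      have : i ∈ stabilizer G x := hx
      exact Subgroup.zpow_mem _ this k
  have hoddF : Odd (Set.ncard (fixedPoints (Subgroup.zpowers i) X)) := by
    rw [← Nat.card_coe_set_eq]
    rw [Nat.odd_iff] at hodd ⊢
    rw [← hodd]
    exact hmod.symm
  have hpos : 0 < Set.ncard (fixedPoints (Subgroup.zpowers i) X) := hoddF.pos
  obtain ⟨x, hx⟩ := (Set.ncard_pos (Set.toFinite _)).1 hpos
  refine ⟨x, (hfix x).1 hx, ?_⟩
  intro y hy
  by_contra hne
  have h1 : 1 < Set.ncard (fixedPoints (Subgroup.zpowers i) X) :=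
    (Set.one_lt_ncard_iff (Set.toFinite _)).2 ⟨y, x, (hfix y).2 hy, hx, hne⟩
  have h2 : 2 < Set.ncard (fixedPoints (Subgroup.zpowers i) X) := by
    rcases hoddF with ⟨m, hm⟩
    omega
  obtain ⟨a, b, c, ha, hb, hc, hab, hac, hbc⟩ := (Set.two_lt_ncard_iff (Set.toFinite _)).1 h2
  exact hi1 (h.sharp i a b c hab hac hbc ((hfix a).1 ha) ((hfix b).1 hb) ((hfix c).1 hc))

/-- the involutions fixing `inf`, together with `1` -/
def invSet (G : Type*) {X : Type*} [Group G] [MulAction G X] (inf : X) : Set G :=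
  {g | g • inf = inf ∧ g * g = 1}

theorem Sharp3.invSet_smul_ne [Finite X] (h : Sharp3 G X) (hodd : Odd (Nat.card X)) {inf : X}
    {i : G} (hi : i ∈ invSet G inf) (hi1 : i ≠ 1) {y : X} (hy : y ≠ inf) : i • y ≠ y := by
  intro hfix
  obtain ⟨x, _, hx⟩ := h.invol_fixed_unique hodd hi.2 hi1
  exact hy ((hx y hfix).trans (hx inf hi.1).symm)

/-- uniqueness in Claim A -/
theorem Sharp3.invSet_eq_of_smul_eq [Finite X] (h : Sharp3 G X) (hodd : Odd (Nat.card X)) {inf : X}
    {i j : G} (hi : i ∈ invSet G inf) (hj : j ∈ invSet G inf) {x : X} (hx : x ≠ inf)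
    (hij : i • x = j • x) : i = j := by
  by_cases hi1 : i = 1
  · subst hi1
    by_contra hne
    rw [one_smul] at hij
    exact h.invSet_smul_ne hodd hj (Ne.symm hne) hx hij.symm
  · have hne : i • x ≠ x := h.invSet_smul_ne hodd hi hi1 hx
    have hiinv : i⁻¹ = i := inv_eq_of_mul_eq_one_left hi.2
    have hjinv : j⁻¹ = j := inv_eq_of_mul_eq_one_left hj.2
    have hyinf : i • x ≠ inf := by
      intro hc
      apply hx
      have : x = i⁻¹ • inf := by rw [← hc, inv_smul_smul]
      rw [this, hiinv, hi.1]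
    have key : j⁻¹ * i = 1 := by
      apply h.sharp (j⁻¹ * i) inf x (i • x) (Ne.symm hx) (Ne.symm hyinf) (Ne.symm hne)
      · rw [mul_smul, hi.1, hjinv, hj.1]
      · rw [mul_smul, hij, inv_smul_smul]
      · rw [mul_smul, ← mul_smul i i, hi.2, one_smul, hjinv]
        rw [hij]
    calc i = j * (j⁻¹ * i) := by group
      _ = j := by rw [key, mul_one]

/-- existence in Claim A -/
theorem Sharp3.exists_invSet_smul_eq (h : Sharp3 G X) {inf x y : X} (hx : x ≠ inf) (hy : y ≠ inf) :
    ∃ i ∈ invSet G inf, i • x = y := by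
  by_cases hxy : x = y
  · exact ⟨1, ⟨one_smul _ _, mul_one _⟩, by rw [one_smul, hxy]⟩
  · obtain ⟨g, hg1, hg2, hg3⟩ := h.trans inf x y inf y x (Ne.symm hx) (Ne.symm hy) hxy (Ne.symm hy)
      (Ne.symm hx) (Ne.symm hxy)
    refine ⟨g, ⟨hg1, ?_⟩, hg2⟩
    apply h.sharp (g * g) inf x y (Ne.symm hx) (Ne.symm hy) hxy
    · rw [mul_smul, hg1, hg1]
    · rw [mul_smul, hg2, hg3]
    · rw [mul_smul, hg3, hg2]

/-- Claim B: products of elements of `invSet` are fixed-point-free or trivial -/
theorem Sharp3.invSet_mul_fpf [Finite X] (h : Sharp3 G X) (hodd : Odd (Nat.card X)) {inf : X}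
    {i j : G} (hi : i ∈ invSet G inf) (hj : j ∈ invSet G inf) :
    i * j = 1 ∨ ∀ y, y ≠ inf → (i * j) • y ≠ y := by
  by_cases hij : i * j = 1
  · exact Or.inl hij
  · right
    intro y hy hfix
    apply hij
    have hiinv : i⁻¹ = i := inv_eq_of_mul_eq_one_left hi.2
    have h1 : j • y = i • y := by
      rw [mul_smul] at hfix
      calc j • y = i⁻¹ • (i • (j • y)) := by rw [inv_smul_smul]
        _ = i • y := by rw [hfix, hiinv]
    have := h.invSet_eq_of_smul_eq hodd hi hj hy h1.symm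
    rw [this, hj.2]

end basics


section burnside

variable {G X : Type*} [Group G] [MulAction G X]

/-- Burnside count: at most `|X| - 1` elements of the point stabilizer are trivial or fixed-point-free
off the point. -/
theorem Sharp3.card_fpf_le [Finite G] [Finite X] (h : Sharp3 G X) {inf o : X} (ho : o ≠ inf) :
    Nat.card {g : stabilizer G inf // (g : G) = 1 ∨ ∀ y, y ≠ inf → (g : G) • y ≠ y} ≤
      Nat.card X - 1 := by
  classical
  have : Fintype (stabilizer G inf) := Fintype.ofFinite _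
  have : Fintype (SubMulAction.ofStabilizer G inf) := Fintype.ofFinite _
  have : ∀ g : stabilizer G inf, Fintype (fixedBy (SubMulAction.ofStabilizer G inf) g) :=
    fun g => Fintype.ofFinite _
  have : Fintype (Quotient (orbitRel (stabilizer G inf) (SubMulAction.ofStabilizer G inf))) :=
    Fintype.ofFinite _
  have hB := sum_card_fixedBy_eq_card_orbits_mul_card_group (stabilizer G inf)
    (SubMulAction.ofStabilizer G inf)
  have hΩ : 1 ≤ Fintype.card
      (Quotient (orbitRel (stabilizer G inf) (SubMulAction.ofStabilizer G inf))) :=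
    Fintype.card_pos_iff.2 ⟨Quotient.mk'' ⟨o, ho⟩⟩
  have hq : Fintype.card (SubMulAction.ofStabilizer G inf) = Nat.card X - 1 := by
    rw [← Nat.card_eq_fintype_card]
    exact SubMulAction.nat_card_ofStabilizer_eq G inf
  set P : stabilizer G inf → Prop :=
    fun g => (g : G) = 1 ∨ ∀ y, y ≠ inf → (g : G) • y ≠ y with hPdef
  have hbound : ∀ g : stabilizer G inf,
      Fintype.card (fixedBy (SubMulAction.ofStabilizer G inf) g) ≤
        (if g = 1 then Fintype.card (SubMulAction.ofStabilizer G inf) else 0) +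
          (if ¬ P g then 1 else 0) := by
    intro g
    by_cases hg1 : g = 1
    · rw [if_pos hg1]
      exact le_add_right (Fintype.card_subtype_le _)
    · rw [if_neg hg1, zero_add]
      by_cases hP : P g
      · rw [if_neg (not_not.2 hP)]
        rcases hP with hP | hP
        · exact absurd (Subtype.ext hP) hg1
        · rw [Nat.le_zero, Fintype.card_eq_zero_iff]
          constructor
          rintro ⟨⟨y, hy⟩, hfix⟩
          have : (g : G) • y = y := congrArg Subtype.val hfix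
          exact hP y hy this
      · rw [if_pos hP]
        rw [Fintype.card_le_one_iff_subsingleton]
        constructor
        rintro ⟨⟨y, hy⟩, hfy⟩ ⟨⟨z, hz⟩, hfz⟩
        by_contra hne
        apply hg1
        apply Subtype.ext
        have hyz : y ≠ z := fun hh => hne (by subst hh; rfl)
        exact h.sharp (g : G) inf y z (Ne.symm hy) (Ne.symm hz) hyz g.2
          (congrArg Subtype.val hfy) (congrArg Subtype.val hfz)
  have hsum : ∑ g : stabilizer G inf, Fintype.card (fixedBy (SubMulAction.ofStabilizer G inf) g) ≤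
      Fintype.card (SubMulAction.ofStabilizer G inf) +
        (Finset.univ.filter (fun g : stabilizer G inf => ¬ P g)).card := by
    calc _ ≤ ∑ g : stabilizer G inf,
          ((if g = 1 then Fintype.card (SubMulAction.ofStabilizer G inf) else 0) +
            (if ¬ P g then 1 else 0)) := Finset.sum_le_sum (fun g _ => hbound g)
      _ = _ := by
        rw [Finset.sum_add_distrib, Finset.sum_ite_eq', if_pos (Finset.mem_univ _),
          Finset.sum_boole]
        simp
  have hsplit := Finset.card_filter_add_card_filter_not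
    (s := (Finset.univ : Finset (stabilizer G inf))) P
  rw [Finset.card_univ] at hsplit
  rw [Nat.card_eq_fintype_card, Fintype.card_subtype]
  show (Finset.univ.filter P).card ≤ Nat.card X - 1
  rw [hB, hq] at hsum
  have : Fintype.card (stabilizer G inf) ≤
      Fintype.card (Quotient (orbitRel (stabilizer G inf) (SubMulAction.ofStabilizer G inf))) *
        Fintype.card (stabilizer G inf) := Nat.le_mul_of_pos_left _ hΩ
  omega

end burnside


section closure

variable {G X : Type*} [Group G] [MulAction G X] [Finite G] [Finite X]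

/-- `invSet` is closed under multiplication (this is where finiteness is used) -/
theorem Sharp3.invSet_mul_mem (h : Sharp3 G X) (hodd : Odd (Nat.card X)) {inf o : X} (ho : o ≠ inf)
    {i j : G} (hi : i ∈ invSet G inf) (hj : j ∈ invSet G inf) : i * j ∈ invSet G inf := by
  classical
  have hAB : ∀ a : {g : stabilizer G inf // (g : G) * (g : G) = 1},
      (a.1 : G) = 1 ∨ ∀ y, y ≠ inf → (a.1 : G) • y ≠ y := by
    intro a
    by_cases ha1 : (a.1 : G) = 1
    · exact Or.inl ha1
    · exact Or.inr fun y hy => h.invSet_smul_ne hodd ⟨a.1.2, a.2⟩ ha1 hy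
  obtain ⟨ι, hιdef⟩ : ∃ ι : {g : stabilizer G inf // (g : G) * (g : G) = 1} →
      {g : stabilizer G inf // (g : G) = 1 ∨ ∀ y, y ≠ inf → (g : G) • y ≠ y},
      ∀ a, (ι a).1 = a.1 := ⟨fun a => ⟨a.1, hAB a⟩, fun a => rfl⟩
  have hι : Function.Injective ι := by
    intro a b hab
    apply Subtype.ext
    rw [← hιdef a, ← hιdef b, hab]
  have hcardB : Nat.card {g : stabilizer G inf // (g : G) = 1 ∨ ∀ y, y ≠ inf → (g : G) • y ≠ y} ≤
      Nat.card X - 1 := h.card_fpf_le ho
  have hcardA : Nat.card X - 1 ≤ Nat.card {g : stabilizer G inf // (g : G) * (g : G) = 1} := by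
    rw [← SubMulAction.nat_card_ofStabilizer_eq G inf]
    have hmem : ∀ a : {g : stabilizer G inf // (g : G) * (g : G) = 1},
        (a.1 : G) • o ∈ SubMulAction.ofStabilizer G inf := by
      intro a
      rw [SubMulAction.mem_ofStabilizer_iff]
      intro hc
      apply ho
      have h1 : (a.1 : G)⁻¹ • inf = o := by
        rw [inv_smul_eq_iff, hc]
      rw [← h1]
      exact (stabilizer G inf).inv_mem a.1.2
    apply Nat.card_le_card_of_surjective
      (fun a : {g : stabilizer G inf // (g : G) * (g : G) = 1} =>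
        (⟨(a.1 : G) • o, hmem a⟩ : SubMulAction.ofStabilizer G inf))
    rintro ⟨y, hy⟩
    obtain ⟨g, hg, hgy⟩ := h.exists_invSet_smul_eq ho hy
    exact ⟨⟨⟨g, hg.1⟩, hg.2⟩, Subtype.ext hgy⟩
  have hbij : Function.Bijective ι := hι.bijective_of_nat_card_le (hcardB.trans hcardA)
  have hijH : i * j ∈ stabilizer G inf := (stabilizer G inf).mul_mem hi.1 hj.1
  obtain ⟨a, ha⟩ := hbij.2 ⟨⟨i * j, hijH⟩, h.invSet_mul_fpf hodd hi hj⟩
  have h1 : (a.1 : G) = i * j := by
    have := hιdef a
    rw [ha] at this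
    exact (congrArg Subtype.val this).symm
  refine ⟨hijH, ?_⟩
  rw [← h1]
  exact a.2

end closure


section recog

open Matrix Cfsg.Agent.Lib.Helper07

open scoped LinearAlgebra.Projectivization MatrixGroups

variable {G X F : Type*} [Group G] [MulAction G X] [Field F]

/-- if everything acts projectively, and the action is faithful, we get an embedding into `PGL₂`
compatible with the actions -/
theorem exists_hom_actsAs (β : X → ℙ F (Fin 2 → F)) (hβ : Function.Bijective β)
    (hall : ∀ g : G, ∃ m, ActsAs β g m) (hfaith : ∀ g : G, (∀ x : X, g • x = x) → g = 1) :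
    ∃ f : G →* PGL(Fin 2, F), Function.Injective f ∧ ∀ g, ActsAs β g (f g) := by
  classical
  choose f hf using hall
  have hmul : ∀ g g', f (g * g') = f g * f g' := fun g g' =>
    ActsAs.unique hβ.2 (hf (g * g')) ((hf g).mul (hf g'))
  have hone : f 1 = 1 := ActsAs.unique hβ.2 (hf 1) (actsAs_one β)
  refine ⟨⟨⟨f, hone⟩, hmul⟩, ?_, hf⟩
  rw [injective_iff_map_eq_one]
  intro g hg
  apply hfaith
  intro x
  apply hβ.1
  have h1 := hf g x
  have hg' : f g = 1 := hg
  rw [hg', one_smul] at h1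
  exact h1

/-- Recognition of `PGL₂(F)` from a 3-transitive Moebius-type action. -/
theorem nonempty_mulEquiv_pgl_of_trans (T D : Subgroup G) (u : G) (inf o : X) (e : G)
    (heT : e ∈ T) (he1 : e ≠ 1)
    (φ : T → F) (hφ : Function.Bijective φ) (hadd : ∀ a b : T, φ (a * b) = φ a + φ b)
    (hφe : φ ⟨e, heT⟩ = 1)
    (hnorm : ∀ d ∈ D, ∀ t ∈ T, d * t * d⁻¹ ∈ T)
    (hmul : ∀ (d : G) (hd : d ∈ D) (t : T), φ ⟨d * t * d⁻¹, hnorm d hd t t.2⟩ =
        φ ⟨d * e * d⁻¹, hnorm d hd e heT⟩ * φ t)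
    (hreg : ∀ a ∈ T, a ≠ 1 → ∃ d ∈ D, d * e * d⁻¹ = a)
    (hTinf : ∀ t ∈ T, t • inf = inf) (hDinf : ∀ d ∈ D, d • inf = inf) (hDo : ∀ d ∈ D, d • o = o)
    (huinf : u • inf = o) (huo : u • o = inf)
    (hinv : ∀ d ∈ D, u * d * u⁻¹ = d⁻¹)
    (ho : o ≠ inf)
    (hTreg : ∀ x : X, x ≠ inf → ∃! t : T, (t : G) • o = x)
    (hgen : Subgroup.closure ((T : Set G) ∪ D ∪ {u}) = ⊤)
    (hfaith : ∀ g : G, (∀ x : X, g • x = x) → g = 1)
    (htrans : ∀ a b c a' b' c' : X, a ≠ b → a ≠ c → b ≠ c → a' ≠ b' → a' ≠ c' → b' ≠ c' →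
      ∃ g : G, g • a = a' ∧ g • b = b' ∧ g • c = c') : Nonempty (G ≃* PGL(Fin 2, F)) := by
  obtain ⟨β, hβ, hβinf, hβo⟩ := exists_beta T inf o φ hφ hTinf ho hTreg
  have hcases : ∀ x : X, x = inf ∨ ∃ t : T, x = (t : G) • o := by
    intro x
    by_cases hx : x = inf
    · exact Or.inl hx
    · obtain ⟨t, ht, _⟩ := hTreg x hx
      exact Or.inr ⟨t, ht.symm⟩
  have hall := moebius_all_actsAs T D u inf o e heT he1 φ hφ.1 hadd hφe hnorm hmul hreg hTinf hDinf
    hDo huinf huo hinv β hβinf hβo hcases hgen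
  obtain ⟨f, hf, hact⟩ := exists_hom_actsAs β hβ hall hfaith
  refine ⟨MulEquiv.ofBijective f ⟨hf, ?_⟩⟩
  intro m
  -- three standard points
  have h12 : (p1 : ℙ F (Fin 2 → F)) ≠ p2 := by
    rw [← pInf_eq_p1, ← pAff_zero_eq_p2]
    exact (pAff_ne_pInf 0).symm
  have h13 : (p1 : ℙ F (Fin 2 → F)) ≠ p12 := by
    rw [← pInf_eq_p1, ← pAff_one_eq_p12]
    exact (pAff_ne_pInf 1).symm
  have h23 : (p2 : ℙ F (Fin 2 → F)) ≠ p12 := by
    rw [← pAff_zero_eq_p2, ← pAff_one_eq_p12]
    intro hc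
    exact zero_ne_one (pAff_injective hc)
  obtain ⟨a, ha⟩ := hβ.2 p1
  obtain ⟨b, hb⟩ := hβ.2 p2
  obtain ⟨c, hc⟩ := hβ.2 p12
  obtain ⟨a', ha'⟩ := hβ.2 (m • p1)
  obtain ⟨b', hb'⟩ := hβ.2 (m • p2)
  obtain ⟨c', hc'⟩ := hβ.2 (m • p12)
  have hab : a ≠ b := fun hh => h12 (by rw [← ha, ← hb, hh])
  have hac : a ≠ c := fun hh => h13 (by rw [← ha, ← hc, hh])
  have hbc : b ≠ c := fun hh => h23 (by rw [← hb, ← hc, hh])
  have hab' : a' ≠ b' := fun hh => h12 (MulAction.injective m (show m • p1 = m • p2 by rw [← ha', ← hb', hh]))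
  have hac' : a' ≠ c' := fun hh => h13 (MulAction.injective m (show m • p1 = m • p12 by rw [← ha', ← hc', hh]))
  have hbc' : b' ≠ c' := fun hh => h23 (MulAction.injective m (show m • p2 = m • p12 by rw [← hb', ← hc', hh]))
  obtain ⟨g, hga, hgb, hgc⟩ := htrans a b c a' b' c' hab hac hbc hab' hac' hbc'
  refine ⟨g, ?_⟩
  have key : (f g)⁻¹ * m = 1 := by
    apply pgl_eq_one_of_fix_std
    · rw [mul_smul, ← ha', ← hga, hact g a, ha, inv_smul_smul]
    · rw [mul_smul, ← hb', ← hgb, hact g b, hb, inv_smul_smul]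
    · rw [mul_smul, ← hc', ← hgc, hact g c, hc, inv_smul_smul]
  calc f g = f g * ((f g)⁻¹ * m) := by rw [key, mul_one]
    _ = m := by group

end recog


section main

open Matrix

open scoped MatrixGroups

variable {G X : Type*} [Group G] [MulAction G X] [Finite G] [Finite X]

/-- Zassenhaus: a sharply 3-transitive group of odd degree is `PGL₂(2^k)` in its natural action. -/
theorem Sharp3.main (h : Sharp3 G X) (hodd : Odd (Nat.card X)) (h3 : 3 ≤ Nat.card X) :
    ∃ k : ℕ, k ≠ 0 ∧ Nat.card X = 2 ^ k + 1 ∧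
      Nonempty (G ≃* PGL(Fin 2, GaloisField 2 k)) := by
  classical
  -- three points
  obtain ⟨inf, o, c, hio, hic, hoc⟩ : ∃ a b c : X, a ≠ b ∧ a ≠ c ∧ b ≠ c := by
    have : 2 < Set.ncard (Set.univ : Set X) := by rw [Set.ncard_univ]; omega
    obtain ⟨a, b, c, -, -, -, hab, hac, hbc⟩ := (Set.two_lt_ncard_iff (Set.toFinite _)).1 this
    exact ⟨a, b, c, hab, hac, hbc⟩
  have ho : o ≠ inf := Ne.symm hio
  have hc : c ≠ inf := Ne.symm hic
  -- T
  let T : Subgroup G :=
    { carrier := invSet G inf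
      mul_mem' := fun hi hj => h.invSet_mul_mem hodd ho hi hj
      one_mem' := ⟨one_smul _ _, mul_one 1⟩
      inv_mem' := by
        intro g hg
        have : g⁻¹ = g := inv_eq_of_mul_eq_one_left hg.2
        rw [this]; exact hg }
  have hTmem : ∀ g, g ∈ T ↔ g • inf = inf ∧ g * g = 1 := fun g => Iff.rfl
  have hTinv : ∀ g ∈ T, g ∈ invSet G inf := fun g hg => hg
  -- D
  let D : Subgroup G := stabilizer G inf ⊓ stabilizer G o
  have hDmem : ∀ g, g ∈ D ↔ g • inf = inf ∧ g • o = o := fun g => by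
    show g ∈ stabilizer G inf ⊓ stabilizer G o ↔ _
    rw [Subgroup.mem_inf, mem_stabilizer_iff, mem_stabilizer_iff]
  -- u
  obtain ⟨u, hu1, hu2, hu3⟩ := h.trans inf o c o inf c hio hic hoc ho hoc hic
  have huu : u * u = 1 := by
    apply h.sharp (u * u) inf o c hio hic hoc
    · rw [mul_smul, hu1, hu2]
    · rw [mul_smul, hu2, hu1]
    · rw [mul_smul, hu3, hu3]
  have hu_ne : u ≠ 1 := by
    intro hh; rw [hh, one_smul] at hu1; exact hio hu1
  have huinv : u⁻¹ = u := inv_eq_of_mul_eq_one_left huu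
  have hTcomm : ∀ a ∈ T, ∀ b ∈ T, a * b = b * a := by
    intro a ha b hb
    have hab := (T.mul_mem ha hb).2
    have h1 : (a * b)⁻¹ = a * b := inv_eq_of_mul_eq_one_left hab
    have h2 : a⁻¹ = a := inv_eq_of_mul_eq_one_left ha.2
    have h3 : b⁻¹ = b := inv_eq_of_mul_eq_one_left hb.2
    rw [← h1, _root_.mul_inv_rev, h2, h3]
  have hnorm : ∀ d ∈ D, ∀ t ∈ T, d * t * d⁻¹ ∈ T := by
    intro d hd t ht
    have hd' := (hDmem d).1 hd
    refine ⟨?_, ?_⟩
    · have : d⁻¹ • inf = inf := by rw [inv_smul_eq_iff, hd'.1]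
      rw [mul_smul, mul_smul, this, ht.1, hd'.1]
    · calc d * t * d⁻¹ * (d * t * d⁻¹) = d * (t * t) * d⁻¹ := by group
        _ = 1 := by rw [ht.2]; group
  have hTreg : ∀ x : X, x ≠ inf → ∃! t : T, (t : G) • o = x := by
    intro x hx
    obtain ⟨g, hg, hgx⟩ := h.exists_invSet_smul_eq ho hx
    refine ⟨⟨g, hg⟩, hgx, ?_⟩
    rintro ⟨g', hg'⟩ hg'x
    apply Subtype.ext
    exact h.invSet_eq_of_smul_eq hodd hg' hg ho (hg'x.trans hgx.symm)
  obtain ⟨e, heT, heo⟩ := h.exists_invSet_smul_eq ho hc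
  have he1 : e ≠ 1 := by
    intro hh; rw [hh, one_smul] at heo; exact hoc heo
  have hregE : ∀ a ∈ T, a ≠ 1 → ∃ d ∈ D, d * e * d⁻¹ = a := by
    intro a ha ha1
    have hao : a • o ≠ o := h.invSet_smul_ne hodd ha ha1 ho
    have hainf : a • o ≠ inf := by
      intro hh
      apply ho
      have : a⁻¹ • inf = o := by rw [inv_smul_eq_iff, hh]
      rw [← this, inv_eq_of_mul_eq_one_left ha.2, ha.1]
    obtain ⟨d, hd1, hd2, hd3⟩ := h.trans inf o c inf o (a • o) hio hic hoc hio (Ne.symm hainf)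
      (Ne.symm hao)
    have hdD : d ∈ D := (hDmem d).2 ⟨hd1, hd2⟩
    refine ⟨d, hdD, ?_⟩
    have hmem := hnorm d hdD e heT
    apply h.invSet_eq_of_smul_eq hodd hmem ha ho
    have : d⁻¹ • o = o := by rw [inv_smul_eq_iff, hd2]
    rw [mul_smul, mul_smul, this, heo, hd3]
  have hreg : ∀ a ∈ T, a ≠ 1 → ∃! d : D, (d : G) * e * (d : G)⁻¹ = a := by
    intro a ha ha1
    obtain ⟨d, hd, hda⟩ := hregE a ha ha1
    refine ⟨⟨d, hd⟩, hda, ?_⟩
    rintro ⟨d', hd'⟩ hd'a
    apply Subtype.ext
    show d' = d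
    have hd'a' : d' * e * d'⁻¹ = a := hd'a
    have hdc : ∀ x ∈ D, x * e * x⁻¹ = a → x • c = a • o := by
      intro x hx hxa
      have hx' := (hDmem x).1 hx
      have : x⁻¹ • o = o := by rw [inv_smul_eq_iff, hx'.2]
      rw [← hxa, mul_smul, mul_smul, this, heo]
    have h1 := hdc d hd hda
    have h2 := hdc d' hd' hd'a'
    have key : d⁻¹ * d' = 1 := by
      have hdi := (hDmem d).1 hd
      have hd'i := (hDmem d').1 hd'
      apply h.sharp (d⁻¹ * d') inf o c hio hic hoc
      · rw [mul_smul, hd'i.1, inv_smul_eq_iff, hdi.1]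
      · rw [mul_smul, hd'i.2, inv_smul_eq_iff, hdi.2]
      · rw [mul_smul, h2, ← h1, inv_smul_smul]
    calc d' = d * (d⁻¹ * d') := by group
      _ = d := by rw [key, mul_one]
  -- `u` acts fixed-point-freely on `D`
  have huD : ∀ d ∈ D, u * d * u⁻¹ ∈ D := by
    intro d hd
    have hd' := (hDmem d).1 hd
    rw [hDmem, huinv]
    constructor
    · rw [mul_smul, mul_smul, hu1, hd'.2, hu2]
    · rw [mul_smul, mul_smul, hu2, hd'.1, hu1]
  let ψ : D →* D :=
    { toFun := fun d => ⟨u * d * u⁻¹, huD d d.2⟩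
      map_one' := by apply Subtype.ext; simp
      map_mul' := by intro a b; apply Subtype.ext; simp [mul_assoc] }
  have hψfpf : MonoidHom.FixedPointFree ψ := by
    intro d hd
    have hd0 : u * (d : G) * u⁻¹ = d := congrArg Subtype.val hd
    have hcomm : u * (d : G) = d * u := by
      calc u * (d : G) = u * d * u⁻¹ * u := by group
        _ = d * u := by rw [hd0]
    have hfix : u • ((d : G) • c) = (d : G) • c := by
      rw [← mul_smul, hcomm, mul_smul, hu3]
    obtain ⟨x, _, hx⟩ := h.invol_fixed_unique hodd huu hu_ne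
    have hdc : (d : G) • c = c := (hx _ hfix).trans (hx c hu3).symm
    have hd' := (hDmem d).1 d.2
    apply Subtype.ext
    exact h.sharp d inf o c hio hic hoc hd'.1 hd'.2 hdc
  have hψinv : Function.Involutive ψ := by
    intro d
    apply Subtype.ext
    show u * (u * (d : G) * u⁻¹) * u⁻¹ = d
    rw [huinv]
    calc u * (u * (d : G) * u) * u = (u * u) * d * (u * u) := by group
      _ = d := by rw [huu]; group
  have hinvD : ∀ d ∈ D, u * d * u⁻¹ = d⁻¹ := by
    intro d hd
    have := congrFun (hψfpf.coe_eq_inv_of_involutive hψinv) ⟨d, hd⟩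
    exact congrArg Subtype.val this
  have hDcomm : ∀ a ∈ D, ∀ b ∈ D, a * b = b * a := by
    intro a ha b hb
    have := hψfpf.commute_all_of_involutive hψinv ⟨a, ha⟩ ⟨b, hb⟩
    exact congrArg Subtype.val this.eq
  -- cardinality of `T`
  have hcardT : Nat.card T = Nat.card X - 1 := by
    rw [← SubMulAction.nat_card_ofStabilizer_eq G inf]
    have hmem : ∀ t : T, (t : G) • o ∈ SubMulAction.ofStabilizer G inf := by
      intro t
      rw [SubMulAction.mem_ofStabilizer_iff]
      intro hh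
      apply ho
      have : (t : G)⁻¹ • inf = o := by rw [inv_smul_eq_iff, hh]
      rw [← this, inv_eq_of_mul_eq_one_left t.2.2, t.2.1]
    apply Nat.card_congr (Equiv.ofBijective
      (fun t : T => (⟨(t : G) • o, hmem t⟩ : SubMulAction.ofStabilizer G inf)) ⟨?_, ?_⟩)
    · intro t t' htt'
      have : (t : G) • o = (t' : G) • o := congrArg Subtype.val htt'
      exact Subtype.ext (h.invSet_eq_of_smul_eq hodd t.2 t'.2 ho this)
    · rintro ⟨y, hy⟩
      obtain ⟨t, ht, _⟩ := hTreg y hy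
      exact ⟨t, Subtype.ext ht⟩
  have hP : IsPGroup 2 T := by
    intro t
    refine ⟨1, ?_⟩
    apply Subtype.ext
    show (t : G) ^ 2 ^ 1 = 1
    rw [pow_one, sq]; exact t.2.2
  obtain ⟨k, hk⟩ := IsPGroup.iff_card.1 hP
  have hk0 : k ≠ 0 := by
    rintro rfl
    rw [pow_zero] at hk
    omega
  obtain ⟨φ, hφ, hadd, hφe, hmul⟩ := exists_coord T D hTcomm hDcomm hnorm e heT he1 hreg k hk0 hk
  have hTinf : ∀ t ∈ T, t • inf = inf := fun t ht => ht.1
  have hDinf : ∀ d ∈ D, d • inf = inf := fun d hd => ((hDmem d).1 hd).1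
  have hDo : ∀ d ∈ D, d • o = o := fun d hd => ((hDmem d).1 hd).2
  have hgen : Subgroup.closure ((T : Set G) ∪ D ∪ {u}) = ⊤ := by
    rw [Subgroup.eq_top_iff']
    intro g
    have hTle : ∀ x ∈ T, x ∈ Subgroup.closure ((T : Set G) ∪ D ∪ {u}) :=
      fun x hx => Subgroup.subset_closure (Or.inl (Or.inl hx))
    have hDle : ∀ x ∈ D, x ∈ Subgroup.closure ((T : Set G) ∪ D ∪ {u}) :=
      fun x hx => Subgroup.subset_closure (Or.inl (Or.inr hx))
    have hule : u ∈ Subgroup.closure ((T : Set G) ∪ D ∪ {u}) :=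
      Subgroup.subset_closure (Or.inr rfl)
    have hHle : ∀ x : G, x • inf = inf → x ∈ Subgroup.closure ((T : Set G) ∪ D ∪ {u}) := by
      intro x hx
      have hxo : x • o ≠ inf := by
        intro hh
        apply ho
        exact MulAction.injective x (hh.trans hx.symm)
      obtain ⟨t, ht, _⟩ := hTreg _ hxo
      have hd : (t : G)⁻¹ * x ∈ D := by
        rw [hDmem]
        constructor
        · rw [mul_smul, hx, inv_smul_eq_iff, t.2.1]
        · rw [mul_smul, inv_smul_eq_iff, ht]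
      have : x = (t : G) * ((t : G)⁻¹ * x) := by group
      rw [this]
      exact Subgroup.mul_mem _ (hTle _ t.2) (hDle _ hd)
    by_cases hg : g • inf = inf
    · exact hHle g hg
    · obtain ⟨t, ht, _⟩ := hTreg _ hg
      have hx : (((t : G) * u)⁻¹ * g) • inf = inf := by
        rw [mul_smul, inv_smul_eq_iff, mul_smul, hu1, ht]
      have : g = (t : G) * u * (((t : G) * u)⁻¹ * g) := by group
      rw [this]
      exact Subgroup.mul_mem _ (Subgroup.mul_mem _ (hTle _ t.2) hule) (hHle _ hx)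
  have hfaith : ∀ g : G, (∀ x : X, g • x = x) → g = 1 :=
    fun g hg => h.sharp g inf o c hio hic hoc (hg _) (hg _) (hg _)
  refine ⟨k, hk0, by omega, ?_⟩
  exact nonempty_mulEquiv_pgl_of_trans T D u inf o e heT he1 φ hφ hadd hφe hnorm hmul hregE hTinf
    hDinf hDo hu1 hu2 hinvD ho hTreg hgen hfaith h.trans

end main

end Cfsg.Agent.Lib.Helper28
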