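import Mathlib
import Cfsg.Agent.Lib.Helper28.Sharp3

set_option autoImplicit false

/-!
# Conversion from Mathlib's multiple transitivity to `Sharp3`
-/

namespace Cfsg.Agent.Lib.Helper28

open MulAction

variable {G α : Type*} [Group G] [MulAction G α]

/-- the embedding `Fin 3 ↪ α` given by three distinct points -/
def emb3 (a b c : α) (hab : a ≠ b) (hac : a ≠ c) (hbc : b ≠ c) : Fin 3 ↪ α :=
  ⟨![a, b, c], by
    intro i j hij
    fin_cases i <;> fin_cases j <;> simp_all⟩

@[simp] theorem emb3_zero (a b c : α) (hab : a ≠ b) (hac : a ≠ c) (hbc : b ≠ c) :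
    emb3 a b c hab hac hbc 0 = a := rfl

@[simp] theorem emb3_one (a b c : α) (hab : a ≠ b) (hac : a ≠ c) (hbc : b ≠ c) :
    emb3 a b c hab hac hbc 1 = b := rfl

@[simp] theorem emb3_two (a b c : α) (hab : a ≠ b) (hac : a ≠ c) (hbc : b ≠ c) :
    emb3 a b c hab hac hbc 2 = c := rfl

theorem smul_emb3_eq_iff (g : G) (a b c a' b' c' : α) (hab : a ≠ b) (hac : a ≠ c) (hbc : b ≠ c)
    (hab' : a' ≠ b') (hac' : a' ≠ c') (hbc' : b' ≠ c') :
    g • emb3 a b c hab hac hbc = emb3 a' b' c' hab' hac' hbc' ↔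
      g • a = a' ∧ g • b = b' ∧ g • c = c' := by
  constructor
  · intro h
    have h0 := congrArg (fun x : Fin 3 ↪ α => x 0) h
    have h1 := congrArg (fun x : Fin 3 ↪ α => x 1) h
    have h2 := congrArg (fun x : Fin 3 ↪ α => x 2) h
    simp only [Function.Embedding.smul_apply] at h0 h1 h2
    exact ⟨h0, h1, h2⟩
  · rintro ⟨h0, h1, h2⟩
    ext i
    rw [Function.Embedding.smul_apply]
    fin_cases i
    · exact h0
    · exact h1
    · exact h2

theorem sharp3_of_pretransitive (h3 : IsMultiplyPretransitive G α 3)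
    (hsharp : ∀ (g : G) (a b c : α), a ≠ b → a ≠ c → b ≠ c → g • a = a → g • b = b → g • c = c →
      g = 1) : Sharp3 G α := by
  refine ⟨?_, hsharp⟩
  intro a b c a' b' c' hab hac hbc hab' hac' hbc'
  obtain ⟨g, hg⟩ := (isMultiplyPretransitive_iff.1 h3) (emb3 a b c hab hac hbc)
    (emb3 a' b' c' hab' hac' hbc')
  exact ⟨g, (smul_emb3_eq_iff g a b c a' b' c' hab hac hbc hab' hac' hbc').1 hg⟩

end Cfsg.Agent.Lib.Helper28
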