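import Mathlib
import Cfsg.Agent.Lib.Helper28.PGL2

set_option autoImplicit false

/-!
# `SL₂(F) ≃* PGL₂(F)` in characteristic two
-/

namespace Cfsg.Agent.Lib.Helper28

open Matrix

open scoped MatrixGroups

variable {F : Type*} [Field F] [Fintype F]

theorem nonempty_sl_mulEquiv_pgl_of_char_two (hF : ringChar F = 2) :
    Nonempty (Matrix.SpecialLinearGroup (Fin 2) F ≃* PGL(Fin 2, F)) := by
  have : CharP F 2 := by
    rw [← hF]; exact ringChar.charP F
  refine ⟨MulEquiv.ofBijective (Matrix.SpecialLinearGroup.toPGL (n := Fin 2) (R := F)) ⟨?_, ?_⟩⟩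
  · rw [← MonoidHom.ker_eq_bot_iff, Matrix.SpecialLinearGroup.toPGL_ker, Subgroup.eq_bot_iff_forall]
    intro A hA
    obtain ⟨r, hr, hrA⟩ := Matrix.SpecialLinearGroup.mem_center_iff.1 hA
    rw [Fintype.card_fin] at hr
    have hr1 : r = 1 := by
      have h1 : (r - 1) ^ 2 = 0 := by
        rw [sub_sq, hr, mul_one]
        have h2 : (2 : F) = 0 := CharP.cast_eq_zero F 2
        linear_combination (1 - r) * h2
      have := pow_eq_zero_iff (two_ne_zero) |>.1 h1
      exact sub_eq_zero.1 this
    apply Subtype.ext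
    rw [← hrA, hr1]
    simp
  · intro m
    have hsurj : Function.Surjective
        (Matrix.ProjectiveSpecialLinearGroup.toPGL (n := Fin 2) (R := F)) := by
      apply Matrix.ProjectiveSpecialLinearGroup.toPGL_surj_of_roots
      intro r
      obtain ⟨k, hk⟩ := FiniteField.isSquare_of_char_two hF (r : F)
      have hk0 : k ≠ 0 := by
        rintro rfl
        rw [mul_zero] at hk
        exact r.ne_zero hk
      refine ⟨Units.mk0 k hk0, ?_⟩
      apply Units.ext
      rw [Fintype.card_fin, Units.val_pow_eq_pow_val, Units.val_mk0, hk, sq]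
    obtain ⟨x, hx⟩ := hsurj m
    induction x using QuotientGroup.induction_on with
    | H s => exact ⟨s, hx⟩

end Cfsg.Agent.Lib.Helper28
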