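import Mathlib
import Cfsg.Agent.S1226
import Cfsg.Agent.Lib.Helper28.StronglyEmbedded

set_option autoImplicit false

/-!
# The Brauer–Suzuki–Wall setup

`G` finite, `T` a Sylow 2-subgroup that is neither cyclic nor normal, centralizers of involutions
elementary abelian 2-groups; `H = N_G(T)`.
-/

namespace Cfsg.Agent.Lib.Helper28

open Cfsg Cfsg.Agent.Lib.Helper41

section bsw

variable {G : Type*} [Group G] [Finite G] (T : Sylow 2 G)
  (hnn : ¬ (T : Subgroup G).Normal)
  (hC : ∀ t : G, orderOf t = 2 → IsMulCommutative (Subgroup.centralizer ({t} : Set G)) ∧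
    ∀ c ∈ Subgroup.centralizer ({t} : Set G), c ^ 2 = 1)

omit [Finite G] in
include hC in
theorem bsw_centralizer_isPGroup (t : G) (ht : orderOf t = 2) :
    IsPGroup 2 (Subgroup.centralizer ({t} : Set G)) := by
  intro x
  refine ⟨1, ?_⟩
  apply Subtype.ext
  have := (hC t ht).2 x x.2
  simpa using this

include hnn hC in
/-- there is an involution whose centralizer is `T` -/
theorem bsw_exists_central : ∃ z : G, orderOf z = 2 ∧ z ∈ (T : Subgroup G) ∧
    Subgroup.centralizer ({z} : Set G) = (T : Subgroup G) := by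
  have hTne : (T : Subgroup G) ≠ ⊥ := by
    intro h
    apply hnn
    rw [h]; infer_instance
  have hTnt : Nontrivial (T : Subgroup G) := (Subgroup.nontrivial_iff_ne_bot _).2 hTne
  have hcen : ⊥ < Subgroup.center (T : Subgroup G) := IsPGroup.bot_lt_center T.isPGroup'
  have hcard2 : 2 ∣ Nat.card (Subgroup.center (T : Subgroup G)) := by
    have hpc : IsPGroup 2 (Subgroup.center (T : Subgroup G)) :=
      T.isPGroup'.to_subgroup _
    obtain ⟨n, hn⟩ := IsPGroup.iff_card.1 hpc
    have hn0 : n ≠ 0 := by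
      rintro rfl
      rw [pow_zero, Subgroup.card_eq_one] at hn
      exact hcen.ne' hn
    rw [hn]
    exact dvd_pow_self 2 hn0
  obtain ⟨z, hz⟩ := exists_prime_orderOf_dvd_card' 2 hcard2
  set z' : G := ((z : (T : Subgroup G)) : G) with hz'
  have hz'ord : orderOf z' = 2 := by
    rw [hz', Subgroup.orderOf_coe, Subgroup.orderOf_coe]; exact hz
  have hTz : (T : Subgroup G) ≤ Subgroup.centralizer ({z'} : Set G) := by
    intro x hx
    rw [Subgroup.mem_centralizer_iff]
    intro y hy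
    rw [Set.mem_singleton_iff] at hy
    subst hy
    have := Subgroup.mem_center_iff.1 z.2 ⟨x, hx⟩
    have h2 := congrArg Subtype.val this
    simpa [hz'] using h2.symm
  exact ⟨z', hz'ord, (z : (T : Subgroup G)).2,
    T.is_maximal' (bsw_centralizer_isPGroup hC z' hz'ord) hTz⟩

include hnn hC in
theorem bsw_comm : ∀ x ∈ (T : Subgroup G), ∀ y ∈ (T : Subgroup G), x * y = y * x := by
  obtain ⟨z, hz, _, hTeq⟩ := bsw_exists_central T hnn hC
  intro x hx y hy
  rw [← hTeq] at hx hy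
  have := (hC z hz).1.is_comm.comm ⟨x, hx⟩ ⟨y, hy⟩
  exact congrArg Subtype.val this

include hnn hC in
theorem bsw_sq_eq_one : ∀ x ∈ (T : Subgroup G), x ^ 2 = 1 := by
  obtain ⟨z, hz, _, hTeq⟩ := bsw_exists_central T hnn hC
  intro x hx
  rw [← hTeq] at hx
  exact (hC z hz).2 x hx

include hnn hC in
theorem bsw_orderOf_eq_two {x : G} (hx : x ∈ (T : Subgroup G)) (hx1 : x ≠ 1) : orderOf x = 2 :=
  orderOf_eq_prime (bsw_sq_eq_one T hnn hC x hx) hx1

include hnn hC in
theorem bsw_centralizer_eq {t : G} (htT : t ∈ (T : Subgroup G)) (ht : orderOf t = 2) :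
    Subgroup.centralizer ({t} : Set G) = (T : Subgroup G) := by
  apply T.is_maximal' (bsw_centralizer_isPGroup hC t ht)
  intro x hx
  rw [Subgroup.mem_centralizer_iff]
  intro y hy
  rw [Set.mem_singleton_iff] at hy
  subst hy
  exact bsw_comm T hnn hC y htT x hx

theorem bsw_invol_mem {t : G} (ht : orderOf t = 2)
    (htH : t ∈ Subgroup.normalizer ((T : Subgroup G) : Set G)) : t ∈ (T : Subgroup G) :=
  Cfsg.Agent.S1226.mem_sylow_of_mem_normalizer T t htH
    (Cfsg.Agent.S1226.isPGroup_zpowers_of_orderOf t ht)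

include hnn hC in
/-- the number of involutions of `N_G(T)` is `|T| - 1` -/
theorem bsw_card_invIn :
    Nat.card (InvIn (Subgroup.normalizer ((T : Subgroup G) : Set G))) = Nat.card T - 1 := by
  classical
  have e : InvIn (Subgroup.normalizer ((T : Subgroup G) : Set G)) ≃
      {x : (T : Subgroup G) // ¬ (x = 1)} :=
    ⟨fun t => ⟨⟨t.1, bsw_invol_mem T t.2.1 t.2.2⟩, by
        intro h
        have h' : t.1 = 1 := congrArg Subtype.val h
        exact ne_one_of_orderOf_two t.2.1 h'⟩,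
     fun x => ⟨x.1.1, bsw_orderOf_eq_two T hnn hC x.1.2 (by
        intro h; exact x.2 (Subtype.ext h)), Subgroup.le_normalizer x.1.2⟩,
     fun t => by apply Subtype.ext; rfl,
     fun x => by apply Subtype.ext; apply Subtype.ext; rfl⟩
  rw [Nat.card_congr e]
  have := Fintype.ofFinite (T : Subgroup G)
  rw [Nat.card_eq_fintype_card, Fintype.card_subtype_compl, Fintype.card_subtype_eq,
    Nat.card_eq_fintype_card]

end bsw

section bswD

variable {G : Type*} [Group G] [Finite G] (T : Sylow 2 G)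
  (hnc : ¬ IsCyclic (T : Subgroup G))
  (hnn : ¬ (T : Subgroup G).Normal)
  (hC : ∀ t : G, orderOf t = 2 → IsMulCommutative (Subgroup.centralizer ({t} : Set G)) ∧
    ∀ c ∈ Subgroup.centralizer ({t} : Set G), c ^ 2 = 1)
  (u : G) (hu : orderOf u = 2) (huH : u ∉ Subgroup.normalizer ((T : Subgroup G) : Set G))

/-- `N_G(T)` -/
local notation "HH" => Subgroup.normalizer ((T : Subgroup G) : Set G)

/-- `D = H ∩ uHu⁻¹` -/
local notation "DD" => (Subgroup.normalizer ((T : Subgroup G) : Set G) ⊓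
  lc u (Subgroup.normalizer ((T : Subgroup G) : Set G)) : Subgroup G)

include hnc hnn hC in
theorem bsw_se : IsStronglyEmbedded HH := Cfsg.Agent.S1226.result T hnc hnn hC

include hnc hnn hC huH in
theorem bsw_D_odd : Odd (Nat.card DD) := (bsw_se T hnc hnn hC).2.2 u huH

include hnc hnn hC huH in
theorem bsw_D_inf_T {x : G} (hxD : x ∈ DD) (hxT : x ∈ (T : Subgroup G)) : x = 1 := by
  have hodd : Odd (orderOf x) := by
    have h1 := orderOf_dvd_natCard (⟨x, hxD⟩ : ↥DD)
    rw [Subgroup.orderOf_mk] at h1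
    exact Odd.of_dvd_nat (bsw_D_odd T hnc hnn hC u huH) h1
  have h2 := bsw_sq_eq_one T hnn hC x hxT
  apply eq_one_of_eq_inv_of_odd _ hodd
  rw [eq_inv_iff_mul_eq_one, ← sq, h2]

/-- the map `i ↦ u⁻¹ i` from the involutions of `uH` to `D` -/
def toD (H : Subgroup G) (u : G) (hu : orderOf u = 2) (i : InvCoset H (QuotientGroup.mk u)) :
    ↥(H ⊓ lc u H) :=
  ⟨u⁻¹ * i.1, by
    have hdH : u⁻¹ * i.1 ∈ H := QuotientGroup.eq.1 i.2.2.symm
    have hui := inv_eq_self_of_orderOf_two hu
    have hii := inv_eq_self_of_orderOf_two i.2.1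
    refine Subgroup.mem_inf.2 ⟨hdH, ?_⟩
    rw [mem_lc]
    have : u⁻¹ * (u⁻¹ * i.1) * u = (u⁻¹ * i.1)⁻¹ := by
      rw [mul_inv_rev, inv_inv, hii, hui]
      have huu := mul_self_of_orderOf_two hu
      calc u * (u * i.1) * u = (u * u) * i.1 * u := by simp [mul_assoc]
        _ = i.1 * u := by rw [huu, one_mul]
    rw [this]
    exact H.inv_mem hdH⟩

omit [Finite G] in
theorem toD_injective (H : Subgroup G) (u : G) (hu : orderOf u = 2) :
    Function.Injective (toD H u hu) := by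
  intro i j h
  have h' : u⁻¹ * i.1 = u⁻¹ * j.1 := congrArg Subtype.val h
  apply Subtype.ext
  exact mul_left_cancel h'

omit [Finite G] in
theorem toD_inverted (H : Subgroup G) (u : G) (hu : orderOf u = 2)
    (i : InvCoset H (QuotientGroup.mk u)) :
    u * (toD H u hu i : G) * u⁻¹ = (toD H u hu i : G)⁻¹ := by
  have hui := inv_eq_self_of_orderOf_two hu
  have hii := inv_eq_self_of_orderOf_two i.2.1
  show u * (u⁻¹ * i.1) * u⁻¹ = (u⁻¹ * i.1)⁻¹
  rw [mul_inv_rev, inv_inv, hii]
  simp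
  exact hui

include hnc hnn hC huH in
/-- `|D| ≤ |T| - 1` -/
theorem bsw_card_D_le : Nat.card DD ≤ Nat.card T - 1 := by
  obtain ⟨t, ht, htT, hCt⟩ := bsw_exists_central T hnn hC
  rw [← bsw_card_invIn T hnn hC]
  have htH : t ∈ HH := Subgroup.le_normalizer htT
  apply Nat.card_le_card_of_injective (fun d : ↥DD => (⟨d.1 * t * d.1⁻¹, by
      rw [orderOf_conj_eq, ht], by
      have hd : d.1 ∈ HH := (Subgroup.mem_inf.1 d.2).1
      exact Subgroup.mul_mem _ (Subgroup.mul_mem _ hd htH) (Subgroup.inv_mem _ hd)⟩ : InvIn HH))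
  intro d e h
  have h' : d.1 * t * d.1⁻¹ = e.1 * t * e.1⁻¹ := congrArg Subtype.val h
  have hx : e.1⁻¹ * d.1 ∈ (T : Subgroup G) := by
    have hx' : e.1⁻¹ * d.1 ∈ Subgroup.centralizer ({t} : Set G) := by
      rw [Subgroup.mem_centralizer_iff]
      intro y hy
      rw [Set.mem_singleton_iff] at hy
      subst hy
      have e1 : y * (e.1⁻¹ * d.1) = e.1⁻¹ * (e.1 * y * e.1⁻¹) * d.1 := by group
      have e2 : e.1⁻¹ * d.1 * y = e.1⁻¹ * (d.1 * y * d.1⁻¹) * d.1 := by group
      rw [e1, e2, h']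
    rw [hCt] at hx'
    exact hx'
  have hxD : e.1⁻¹ * d.1 ∈ DD := Subgroup.mul_mem _ (Subgroup.inv_mem _ e.2) d.2
  have := bsw_D_inf_T T hnc hnn hC u huH hxD hx
  apply Subtype.ext
  rw [inv_mul_eq_one] at this
  exact this.symm


include hnc hnn hC hu huH in
theorem bsw_toD_bijective : Function.Bijective (toD HH u hu) := by
  apply (toD_injective HH u hu).bijective_of_nat_card_le
  rw [card_invCoset (bsw_se T hnc hnn hC), bsw_card_invIn T hnn hC]
  exact bsw_card_D_le T hnc hnn hC u huH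

include hnc hnn hC hu huH in
theorem bsw_card_D : Nat.card DD = Nat.card T - 1 := by
  rw [← Nat.card_congr (Equiv.ofBijective _ (bsw_toD_bijective T hnc hnn hC u hu huH)),
    card_invCoset (bsw_se T hnc hnn hC), bsw_card_invIn T hnn hC]

include hnc hnn hC hu huH in
/-- `u` inverts `D` -/
theorem bsw_D_inverted {d : G} (hd : d ∈ DD) : u * d * u⁻¹ = d⁻¹ := by
  obtain ⟨i, hi⟩ := (bsw_toD_bijective T hnc hnn hC u hu huH).2 ⟨d, hd⟩
  have := toD_inverted HH u hu i
  rw [hi] at this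
  exact this

include hnc hnn hC hu huH in
/-- `H = D T` -/
theorem bsw_H_eq_DT {h : G} (hh : h ∈ HH) : ∃ d ∈ DD, ∃ x ∈ (T : Subgroup G), d * x = h := by
  obtain ⟨t, ht, htT, hCt⟩ := bsw_exists_central T hnn hC
  have htH : t ∈ HH := Subgroup.le_normalizer htT
  have hord : orderOf (h * t * h⁻¹) = 2 := by rw [orderOf_conj_eq, ht]
  have hmem : h * t * h⁻¹ ∈ HH := Subgroup.mul_mem _ (Subgroup.mul_mem _ hh htH) (Subgroup.inv_mem _ hh)
  obtain ⟨d, hd, hds, _⟩ := se_exists_conj_in_D (bsw_se T hnc hnn hC) hu huH ht htH hord hmem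
  refine ⟨d, hd, d⁻¹ * h, ?_, by group⟩
  have hx' : d⁻¹ * h ∈ Subgroup.centralizer ({t} : Set G) := by
    rw [Subgroup.mem_centralizer_iff]
    intro y hy
    rw [Set.mem_singleton_iff] at hy
    subst hy
    have e1 : y * (d⁻¹ * h) = d⁻¹ * (d * y * d⁻¹) * h := by group
    have e2 : d⁻¹ * h * y = d⁻¹ * (h * y * h⁻¹) * h := by group
    rw [e1, e2, hds]
  rw [hCt] at hx'
  exact hx'

end bswD

end Cfsg.Agent.Lib.Helper28
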