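import Mathlib
import Cfsg.Agent.Lib.Helper28.BSW

set_option autoImplicit false

/-!
# The Brauer–Suzuki–Wall setup, II: the normalizer of `D` and fixed points
-/

namespace Cfsg.Agent.Lib.Helper28

open Cfsg Cfsg.Agent.Lib.Helper41

section bsw2

variable {G : Type*} [Group G] [Finite G] (T : Sylow 2 G)
  (hnc : ¬ IsCyclic (T : Subgroup G))
  (hnn : ¬ (T : Subgroup G).Normal)
  (hC : ∀ t : G, orderOf t = 2 → IsMulCommutative (Subgroup.centralizer ({t} : Set G)) ∧
    ∀ c ∈ Subgroup.centralizer ({t} : Set G), c ^ 2 = 1)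

/-- `N_G(T)` -/
local notation "HH" => Subgroup.normalizer ((T : Subgroup G) : Set G)

include hnc hnn in
theorem bsw_four_le_card : 4 ≤ Nat.card T := by
  obtain ⟨k, hk⟩ := IsPGroup.iff_card.1 T.isPGroup'
  have hk' : Nat.card T = 2 ^ k := hk
  rcases k with _ | _ | k
  · exfalso
    apply hnn
    have : (T : Subgroup G) = ⊥ := Subgroup.card_eq_one.1 (by simpa using hk)
    rw [this]; infer_instance
  · exfalso
    apply hnc
    have h2 : Nat.card (T : Subgroup G) = 2 := by simpa using hk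
    have : Fact (Nat.Prime 2) := ⟨Nat.prime_two⟩
    exact isCyclic_of_prime_card h2
  · rw [hk']
    have : (2 : ℕ) ^ (k + 1 + 1) = 4 * 2 ^ k := by ring
    rw [this]
    exact Nat.le_mul_of_pos_right 4 (by positivity)

include hnc hnn hC in
/-- every coset outside `H` contains an involution -/
theorem bsw_exists_invol_coset {g : G} (hg : g ∉ HH) :
    ∃ i : G, orderOf i = 2 ∧ i ∉ HH ∧ (QuotientGroup.mk i : G ⧸ HH) = QuotientGroup.mk g ∧
      lc g HH = lc i HH := by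
  have hse := bsw_se T hnc hnn hC
  have h1 := card_invCoset hse (QuotientGroup.mk g)
  obtain ⟨t, ht, htH⟩ := se_exists_involution hse
  have hne : Nonempty (InvIn HH) := ⟨⟨t, ht, htH⟩⟩
  have hpos : 0 < Nat.card (InvCoset HH (QuotientGroup.mk g)) := by
    rw [h1]; exact Nat.card_pos
  obtain ⟨i, hi, hiq⟩ := (Nat.card_pos_iff.1 hpos).1
  have hgi : g⁻¹ * i ∈ HH := QuotientGroup.eq.1 hiq.symm
  have hiH : i ∉ HH := by
    intro hi'
    apply hg
    have := Subgroup.mul_mem _ hi' (Subgroup.inv_mem _ hgi)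
    simpa using this
  refine ⟨i, hi, hiH, hiq, ?_⟩
  have e : i = g * (g⁻¹ * i) := by group
  rw [e, lc_mul]
  congr 1
  exact (mem_normalizer_iff_lc.1 (Subgroup.le_normalizer hgi)).symm

variable (u : G) (hu : orderOf u = 2) (huH : u ∉ Subgroup.normalizer ((T : Subgroup G) : Set G))

/-- `D = H ∩ uHu⁻¹` -/
local notation "DD" => (Subgroup.normalizer ((T : Subgroup G) : Set G) ⊓
  lc u (Subgroup.normalizer ((T : Subgroup G) : Set G)) : Subgroup G)

include hnc hnn hC hu huH in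
theorem bsw_exists_D_ne_one : ∃ d ∈ DD, d ≠ 1 := by
  have h1 := bsw_card_D T hnc hnn hC u hu huH
  have h2 := bsw_four_le_card T hnc hnn
  have h3 : 1 < Nat.card DD := by omega
  have : Nontrivial ↥DD := (Finite.one_lt_card_iff_nontrivial).1 h3
  obtain ⟨d, hd⟩ := exists_ne (1 : ↥DD)
  exact ⟨d.1, d.2, fun h => hd (Subtype.ext h)⟩

include hnc hnn hC huH in
theorem bsw_D_ne_inv {d : G} (hd : d ∈ DD) (hd1 : d ≠ 1) : d ≠ d⁻¹ := by
  intro h
  apply hd1
  have hodd : Odd (orderOf d) := by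
    have h1 := orderOf_dvd_natCard (⟨d, hd⟩ : ↥DD)
    rw [Subgroup.orderOf_mk] at h1
    exact Odd.of_dvd_nat (bsw_D_odd T hnc hnn hC u huH) h1
  exact eq_one_of_eq_inv_of_odd h hodd

include hnc hnn hC hu huH in
/-- `N_H(D) = D` -/
theorem bsw_normalizer_D_inf_H {x : G} (hxN : x ∈ Subgroup.normalizer ((DD : Subgroup G) : Set G))
    (hxH : x ∈ HH) : x ∈ DD := by
  obtain ⟨d, hd, y, hy, hdy⟩ := bsw_H_eq_DT T hnc hnn hC u hu huH hxH
  have hyN : y ∈ Subgroup.normalizer ((DD : Subgroup G) : Set G) := by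
    have : y = d⁻¹ * x := by rw [← hdy]; group
    rw [this]
    exact Subgroup.mul_mem _ (Subgroup.inv_mem _ (Subgroup.le_normalizer hd)) hxN
  -- y centralizes D
  have hcent : ∀ d' ∈ DD, y * d' * y⁻¹ = d' := by
    intro d' hd'
    have h1 : y * d' * y⁻¹ * d'⁻¹ ∈ DD :=
      Subgroup.mul_mem _ ((Subgroup.mem_normalizer_iff.1 hyN d').1 hd') (Subgroup.inv_mem _ hd')
    have h2 : y * d' * y⁻¹ * d'⁻¹ ∈ (T : Subgroup G) := by
      have hd'H : d' ∈ HH := (Subgroup.mem_inf.1 hd').1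
      have h3 : d' * y⁻¹ * d'⁻¹ ∈ (T : Subgroup G) :=
        (Subgroup.mem_normalizer_iff.1 hd'H y⁻¹).1 (Subgroup.inv_mem _ hy)
      have e : y * d' * y⁻¹ * d'⁻¹ = y * (d' * y⁻¹ * d'⁻¹) := by group
      rw [e]
      exact Subgroup.mul_mem _ hy h3
    have h4 := bsw_D_inf_T T hnc hnn hC u huH h1 h2
    have e : y * d' * y⁻¹ = (y * d' * y⁻¹ * d'⁻¹) * d' := by group
    rw [e, h4, one_mul]
  have hy1 : y = 1 := by
    by_contra hy1
    have hyord := bsw_orderOf_eq_two T hnn hC hy hy1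
    have hCy := bsw_centralizer_eq T hnn hC hy hyord
    obtain ⟨d', hd', hd'1⟩ := bsw_exists_D_ne_one T hnc hnn hC u hu huH
    apply hd'1
    apply bsw_D_inf_T T hnc hnn hC u huH hd'
    have : d' ∈ Subgroup.centralizer ({y} : Set G) := by
      rw [Subgroup.mem_centralizer_iff]
      intro z hz
      rw [Set.mem_singleton_iff] at hz
      subst hz
      have := hcent d' hd'
      calc z * d' = (z * d' * z⁻¹) * z := by group
        _ = d' * z := by rw [this]
    rw [hCy] at this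
    exact this
  rw [← hdy, hy1, mul_one]
  exact hd

include hnc hnn hC hu huH in
/-- if `D ≤ gHg⁻¹` with `g ∉ H` then `D = H ∩ gHg⁻¹` and any involution `i ∈ gH` inverts `D` -/
theorem bsw_D_eq_of_le {g : G} (hg : g ∉ HH) (hD : DD ≤ lc g HH) :
    ∃ i : G, orderOf i = 2 ∧ i ∉ HH ∧ (QuotientGroup.mk i : G ⧸ HH) = QuotientGroup.mk g ∧
      DD = HH ⊓ lc i HH := by
  obtain ⟨i, hi, hiH, hiq, hlc⟩ := bsw_exists_invol_coset T hnc hnn hC hg
  refine ⟨i, hi, hiH, hiq, ?_⟩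
  apply Subgroup.eq_of_le_of_card_ge
  · rw [← hlc]
    exact le_inf inf_le_left hD
  · rw [bsw_card_D T hnc hnn hC u hu huH, bsw_card_D T hnc hnn hC i hi hiH]

include hnc hnn hC hu huH in
/-- every element of `N_G(D)` outside `D` is an involution inverting `D` -/
theorem bsw_normalizer_D_sub {g : G} (hgN : g ∈ Subgroup.normalizer ((DD : Subgroup G) : Set G))
    (hgD : g ∉ DD) : orderOf g = 2 ∧ ∀ d ∈ DD, g * d * g⁻¹ = d⁻¹ := by
  have hgH : g ∉ HH := fun h => hgD (bsw_normalizer_D_inf_H T hnc hnn hC u hu huH hgN h)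
  have hD : DD ≤ lc g HH := by
    have h1 : lc g DD = DD := mem_normalizer_iff_lc.1 hgN
    calc DD = lc g DD := h1.symm
      _ ≤ lc g HH := lc_mono inf_le_left
  obtain ⟨i, hi, hiH, hiq, hDi⟩ := bsw_D_eq_of_le T hnc hnn hC u hu huH hgH hD
  -- i normalizes D
  have hiN : i ∈ Subgroup.normalizer ((DD : Subgroup G) : Set G) := by
    apply mem_normalizer_of_lc_le
    intro x hx
    rw [mem_lc] at hx
    have h1 := bsw_D_inverted T hnc hnn hC i hi hiH (hDi ▸ hx)
    have h2 : x = (i⁻¹ * x * i)⁻¹ := by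
      rw [← h1]; group
    rw [h2]
    exact Subgroup.inv_mem _ hx
  have hig : i⁻¹ * g ∈ HH := QuotientGroup.eq.1 hiq
  have higD : i⁻¹ * g ∈ HH ⊓ lc i HH := by
    rw [← hDi]
    exact bsw_normalizer_D_inf_H T hnc hnn hC u hu huH
      (Subgroup.mul_mem _ (Subgroup.inv_mem _ hiN) hgN) hig
  obtain ⟨j, hj⟩ := (bsw_toD_bijective T hnc hnn hC i hi hiH).2 ⟨i⁻¹ * g, higD⟩
  have hj' : i⁻¹ * j.1 = i⁻¹ * g := congrArg Subtype.val hj
  have hjg : j.1 = g := mul_left_cancel hj'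
  have hgord : orderOf g = 2 := by rw [← hjg]; exact j.2.1
  refine ⟨hgord, ?_⟩
  intro d hd
  have hlc : lc g HH = lc i HH := by
    have e : g = i * (i⁻¹ * g) := by group
    rw [e, lc_mul]
    congr 1
    exact mem_normalizer_iff_lc.1 (Subgroup.le_normalizer hig)
  apply bsw_D_inverted T hnc hnn hC g hgord hgH
  rw [hlc, ← hDi]
  exact hd

include hnc hnn hC hu huH in
theorem bsw_u_mem_normalizer_D : u ∈ Subgroup.normalizer ((DD : Subgroup G) : Set G) := by
  apply mem_normalizer_of_lc_le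
  intro x hx
  rw [mem_lc] at hx
  have h1 := bsw_D_inverted T hnc hnn hC u hu huH hx
  have h2 : x = (u⁻¹ * x * u)⁻¹ := by
    rw [← h1]; group
  rw [h2]
  exact Subgroup.inv_mem _ hx

include hnc hnn hC hu huH in
/-- an element of `N_G(D)` outside `D` lies in `uD` -/
theorem bsw_normalizer_D_coset {g : G} (hgN : g ∈ Subgroup.normalizer ((DD : Subgroup G) : Set G))
    (hgD : g ∉ DD) : u⁻¹ * g ∈ DD := by
  by_contra hc
  have huN := bsw_u_mem_normalizer_D T hnc hnn hC u hu huH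
  have hcN : u⁻¹ * g ∈ Subgroup.normalizer ((DD : Subgroup G) : Set G) :=
    Subgroup.mul_mem _ (Subgroup.inv_mem _ huN) hgN
  obtain ⟨_, h1⟩ := bsw_normalizer_D_sub T hnc hnn hC u hu huH hcN hc
  obtain ⟨_, h2⟩ := bsw_normalizer_D_sub T hnc hnn hC u hu huH hgN hgD
  obtain ⟨d, hd, hd1⟩ := bsw_exists_D_ne_one T hnc hnn hC u hu huH
  apply bsw_D_ne_inv T hnc hnn hC u huH hd hd1
  have h3 := h1 d hd
  have h4 := h2 d hd
  have h5 := bsw_D_inverted T hnc hnn hC u hu huH (Subgroup.inv_mem _ hd)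
  rw [inv_inv] at h5
  -- (u⁻¹ g) d (u⁻¹ g)⁻¹ = u⁻¹ (g d g⁻¹) u = u⁻¹ d⁻¹ u = d
  have h6 : u⁻¹ * g * d * (u⁻¹ * g)⁻¹ = u⁻¹ * (g * d * g⁻¹) * u := by group
  rw [h6, h4] at h3
  have hui := inv_eq_self_of_orderOf_two hu
  rw [hui] at h3 h5
  exact h5.symm.trans h3

end bsw2

end Cfsg.Agent.Lib.Helper28
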