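import Mathlib
import Cfsg.Agent.Lib.Helper28.BSW2
import Cfsg.Agent.S1227

set_option autoImplicit false

/-!
# The Brauer–Suzuki–Wall setup, III: sharp triple transitivity on `G / N_G(T)`
-/

namespace Cfsg.Agent.Lib.Helper28

open Cfsg Cfsg.Agent.Lib.Helper41

section bsw3

variable {G : Type*} [Group G] [Finite G] (T : Sylow 2 G)
  (hnc : ¬ IsCyclic (T : Subgroup G))
  (hnn : ¬ (T : Subgroup G).Normal)
  (hC : ∀ t : G, orderOf t = 2 → IsMulCommutative (Subgroup.centralizer ({t} : Set G)) ∧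
    ∀ c ∈ Subgroup.centralizer ({t} : Set G), c ^ 2 = 1)

/-- `N_G(T)` -/
local notation "HH" => Subgroup.normalizer ((T : Subgroup G) : Set G)

omit [Finite G] in
include hnn in
theorem bsw_exists_not_mem : ∃ g : G, g ∉ HH := by
  by_contra h
  simp only [not_exists, not_not] at h
  apply hnn
  rw [← Subgroup.normalizer_eq_top_iff]
  exact (Subgroup.eq_top_iff' _).2 h

include hnc hnn hC in
theorem bsw_card_H : Nat.card HH = Nat.card T * (Nat.card T - 1) := by
  obtain ⟨g, hg⟩ := bsw_exists_not_mem T hnn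
  obtain ⟨i, hi, hiH, _, _⟩ := bsw_exists_invol_coset T hnc hnn hC hg
  exact (Cfsg.Agent.S1227.result T hnc hnn hC i hi hiH).2.1

include hnc hnn hC in
/-- general two-point stabilizers `H ∩ gHg⁻¹`, `g ∉ H` -/
theorem bsw_Dg_facts {g : G} (hg : g ∉ HH) :
    Nat.card ↥(HH ⊓ lc g HH) = Nat.card T - 1 ∧
    (∀ x ∈ HH ⊓ lc g HH, x ∈ (T : Subgroup G) → x = 1) ∧
    (∀ a ∈ HH ⊓ lc g HH, ∀ b ∈ HH ⊓ lc g HH, a * b = b * a) := by
  obtain ⟨i, hi, hiH, _, hlc⟩ := bsw_exists_invol_coset T hnc hnn hC hg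
  rw [hlc]
  refine ⟨bsw_card_D T hnc hnn hC i hi hiH, fun x hx hxT => bsw_D_inf_T T hnc hnn hC i hiH hx hxT, ?_⟩
  intro a ha b hb
  have h1 := bsw_D_inverted T hnc hnn hC i hi hiH ha
  have h2 := bsw_D_inverted T hnc hnn hC i hi hiH hb
  have h3 := bsw_D_inverted T hnc hnn hC i hi hiH (Subgroup.mul_mem _ ha hb)
  have h4 : i * (a * b) * i⁻¹ = (i * a * i⁻¹) * (i * b * i⁻¹) := by group
  rw [h4, h1, h2, mul_inv_rev] at h3
  have h5 := congrArg Inv.inv h3
  simp only [inv_inv, mul_inv_rev] at h5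
  exact h5.symm

include hnc hnn hC in
/-- if `H ∩ gHg⁻¹ ≤ g'Hg'⁻¹` then `gH = g'H` -/
theorem bsw_coset_eq_of_le {g g' : G} (hg : g ∉ HH) (hg' : g' ∉ HH)
    (hle : HH ⊓ lc g HH ≤ lc g' HH) :
    (QuotientGroup.mk g' : G ⧸ HH) = QuotientGroup.mk g := by
  obtain ⟨i, hi, hiH, hiq, hlc⟩ := bsw_exists_invol_coset T hnc hnn hC hg
  rw [hlc] at hle
  obtain ⟨i', hi', hi'H, hi'q, hDi⟩ := bsw_D_eq_of_le T hnc hnn hC i hi hiH hg' hle
  have hi'N : i' ∈ Subgroup.normalizer ((HH ⊓ lc i HH : Subgroup G) : Set G) := by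
    rw [hDi]
    exact bsw_u_mem_normalizer_D T hnc hnn hC i' hi' hi'H
  have hi'D : i' ∉ (HH ⊓ lc i HH : Subgroup G) := fun h => hi'H (Subgroup.mem_inf.1 h).1
  have h1 := bsw_normalizer_D_coset T hnc hnn hC i hi hiH hi'N hi'D
  rw [← hiq, ← hi'q, eq_comm, QuotientGroup.eq]
  exact (Subgroup.mem_inf.1 h1).1

include hnc hnn hC in
/-- two-point stabilizers sharing a nontrivial element coincide -/
theorem bsw_Dg_eq_of_common {g g' d : G} (hg : g ∉ HH) (hg' : g' ∉ HH) (hd1 : d ≠ 1)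
    (hd : d ∈ HH ⊓ lc g HH) (hd' : d ∈ HH ⊓ lc g' HH) : HH ⊓ lc g HH = HH ⊓ lc g' HH := by
  -- both equal `C_H(d)`
  set C : Subgroup G := HH ⊓ Subgroup.centralizer ({d} : Set G) with hCdef
  have hCT : ∀ x ∈ C, x ∈ (T : Subgroup G) → x = 1 := by
    intro x hx hxT
    by_contra hx1
    have hxord := bsw_orderOf_eq_two T hnn hC hxT hx1
    have hCx := bsw_centralizer_eq T hnn hC hxT hxord
    apply hd1
    apply (bsw_Dg_facts T hnc hnn hC hg).2.1 d hd
    rw [← hCx, Subgroup.mem_centralizer_iff]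
    intro z hz
    rw [Set.mem_singleton_iff] at hz
    subst hz
    have := (Subgroup.mem_centralizer_iff.1 (Subgroup.mem_inf.1 hx).2) d (Set.mem_singleton d)
    exact this.symm
  have hcardC : Nat.card C ≤ Nat.card T - 1 := by
    have hinj : Function.Injective (fun p : C × (T : Subgroup G) =>
        (⟨p.1.1 * p.2.1, Subgroup.mul_mem _ (Subgroup.mem_inf.1 p.1.2).1
          (Subgroup.le_normalizer p.2.2)⟩ : HH)) := by
      rintro ⟨⟨c, hc⟩, ⟨t, ht⟩⟩ ⟨⟨c', hc'⟩, ⟨t', ht'⟩⟩ h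
      have h' : c * t = c' * t' := congrArg Subtype.val h
      have h1 : c'⁻¹ * c = t' * t⁻¹ := by
        calc c'⁻¹ * c = c'⁻¹ * (c * t) * t⁻¹ := by group
          _ = c'⁻¹ * (c' * t') * t⁻¹ := by rw [h']
          _ = t' * t⁻¹ := by group
      have h2 : c'⁻¹ * c = 1 := by
        apply hCT _ (Subgroup.mul_mem _ (Subgroup.inv_mem _ hc') hc)
        rw [h1]
        exact Subgroup.mul_mem _ ht' (Subgroup.inv_mem _ ht)
      have h3 : c = c' := by
        rw [inv_mul_eq_one] at h2; exact h2.symm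
      subst h3
      have h4 : t = t' := mul_left_cancel h'
      subst h4
      rfl
    have h1 := Nat.card_le_card_of_injective _ hinj
    rw [Nat.card_prod, bsw_card_H T hnc hnn hC] at h1
    have h2 : 0 < Nat.card T := Nat.card_pos
    rw [mul_comm] at h1
    exact Nat.le_of_mul_le_mul_left h1 h2
  have key : ∀ g₁ : G, g₁ ∉ HH → d ∈ HH ⊓ lc g₁ HH → HH ⊓ lc g₁ HH = C := by
    intro g₁ hg₁ hd₁
    obtain ⟨h1, _, h3⟩ := bsw_Dg_facts T hnc hnn hC hg₁
    apply Subgroup.eq_of_le_of_card_ge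
    · intro x hx
      refine Subgroup.mem_inf.2 ⟨(Subgroup.mem_inf.1 hx).1, ?_⟩
      rw [Subgroup.mem_centralizer_iff]
      intro z hz
      rw [Set.mem_singleton_iff] at hz
      subst hz
      exact h3 z hd₁ x hx
    · rw [h1]; exact hcardC
  rw [key g hg hd, key g' hg' hd']

include hnc hnn hC in
/-- an element of `H` fixing two further distinct cosets is trivial -/
theorem bsw_fix_three_aux {h a b : G} (hh : h ∈ HH) (ha : a ∉ HH) (hb : b ∉ HH)
    (hab : (QuotientGroup.mk a : G ⧸ HH) ≠ QuotientGroup.mk b)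
    (hfa : h • (QuotientGroup.mk a : G ⧸ HH) = QuotientGroup.mk a)
    (hfb : h • (QuotientGroup.mk b : G ⧸ HH) = QuotientGroup.mk b) : h = 1 := by
  by_contra h1
  have hda : h ∈ HH ⊓ lc a HH :=
    Subgroup.mem_inf.2 ⟨hh, mem_lc.2 ((smul_mk_self_iff h a).1 hfa)⟩
  have hdb : h ∈ HH ⊓ lc b HH :=
    Subgroup.mem_inf.2 ⟨hh, mem_lc.2 ((smul_mk_self_iff h b).1 hfb)⟩
  have heq := bsw_Dg_eq_of_common T hnc hnn hC ha hb h1 hda hdb
  apply hab
  apply bsw_coset_eq_of_le T hnc hnn hC hb ha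
  rw [← heq]
  exact inf_le_right

include hnc hnn hC in
/-- **three-point stabilizers are trivial** -/
theorem bsw_fix_three {g : G} {x₁ x₂ x₃ : G ⧸ HH} (h12 : x₁ ≠ x₂) (h13 : x₁ ≠ x₃)
    (h23 : x₂ ≠ x₃) (h1 : g • x₁ = x₁) (h2 : g • x₂ = x₂) (h3 : g • x₃ = x₃) : g = 1 := by
  induction x₁ using QuotientGroup.induction_on with
  | H a =>
  induction x₂ using QuotientGroup.induction_on with
  | H b =>
  induction x₃ using QuotientGroup.induction_on with
  | H c =>
  have hh : a⁻¹ * g * a ∈ HH := (smul_mk_self_iff g a).1 h1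
  have hb : a⁻¹ * b ∉ HH := fun h => h12 (QuotientGroup.eq.2 h)
  have hc : a⁻¹ * c ∉ HH := fun h => h13 (QuotientGroup.eq.2 h)
  have hbc : (QuotientGroup.mk (a⁻¹ * b) : G ⧸ HH) ≠ QuotientGroup.mk (a⁻¹ * c) := by
    intro h
    apply h23
    rw [QuotientGroup.eq] at h ⊢
    have e : (a⁻¹ * b)⁻¹ * (a⁻¹ * c) = b⁻¹ * c := by group
    rwa [e] at h
  have hfb : (a⁻¹ * g * a) • (QuotientGroup.mk (a⁻¹ * b) : G ⧸ HH) = QuotientGroup.mk (a⁻¹ * b) := by
    rw [smul_mk_self_iff]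
    have e : (a⁻¹ * b)⁻¹ * (a⁻¹ * g * a) * (a⁻¹ * b) = b⁻¹ * g * b := by group
    rw [e]
    exact (smul_mk_self_iff g b).1 h2
  have hfc : (a⁻¹ * g * a) • (QuotientGroup.mk (a⁻¹ * c) : G ⧸ HH) = QuotientGroup.mk (a⁻¹ * c) := by
    rw [smul_mk_self_iff]
    have e : (a⁻¹ * c)⁻¹ * (a⁻¹ * g * a) * (a⁻¹ * c) = c⁻¹ * g * c := by group
    rw [e]
    exact (smul_mk_self_iff g c).1 h3
  have := bsw_fix_three_aux T hnc hnn hC hh hb hc hbc hfb hfc
  have e : g = a * (a⁻¹ * g * a) * a⁻¹ := by group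
  rw [e, this]; group

omit [Finite G] in
/-- stabilizer of a coset -/
theorem stabilizer_mk (H : Subgroup G) (g : G) :
    MulAction.stabilizer G (QuotientGroup.mk g : G ⧸ H) = lc g H := by
  ext x
  rw [MulAction.mem_stabilizer_iff, smul_mk_self_iff, mem_lc]

include hnc hnn hC in
/-- `T` acts semiregularly off the base point -/
theorem bsw_T_semiregular {t : G} (ht : t ∈ (T : Subgroup G)) {y : G ⧸ HH}
    (hy : y ≠ QuotientGroup.mk 1) (hty : t • y = y) : t = 1 := by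
  induction y using QuotientGroup.induction_on with
  | H g =>
  have hg : g ∉ HH := by
    intro h
    apply hy
    rw [QuotientGroup.eq]
    simpa using Subgroup.inv_mem _ h
  apply (bsw_Dg_facts T hnc hnn hC hg).2.1 t _ ht
  exact Subgroup.mem_inf.2 ⟨Subgroup.le_normalizer ht, mem_lc.2 ((smul_mk_self_iff t g).1 hty)⟩

omit [Finite G] in
theorem card_subtype_mem_and_ne_one [Finite G] (K : Subgroup G) :
    Nat.card {d : G // d ∈ K ∧ d ≠ 1} = Nat.card K - 1 := by
  classical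
  have e : {d : G // d ∈ K ∧ d ≠ 1} ≃ {x : K // ¬ (x = 1)} :=
    ⟨fun d => ⟨⟨d.1, d.2.1⟩, fun h => d.2.2 (congrArg Subtype.val h)⟩,
     fun x => ⟨x.1.1, x.1.2, fun h => x.2 (Subtype.ext h)⟩,
     fun d => rfl, fun x => rfl⟩
  rw [Nat.card_congr e]
  have := Fintype.ofFinite K
  rw [Nat.card_eq_fintype_card, Fintype.card_subtype_compl, Fintype.card_subtype_eq,
    Nat.card_eq_fintype_card]

omit [Finite G] in
theorem card_subtype_mem_and_not_mem [Finite G] (H K : Subgroup G) (hKH : K ≤ H) :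
    Nat.card {h : G // h ∈ H ∧ h ∉ K} = Nat.card H - Nat.card K := by
  classical
  have e : {h : G // h ∈ H ∧ h ∉ K} ≃ {x : H // ¬ (x.1 ∈ K)} :=
    ⟨fun d => ⟨⟨d.1, d.2.1⟩, d.2.2⟩, fun x => ⟨x.1.1, x.1.2, x.2⟩, fun d => rfl, fun x => rfl⟩
  have e' : {x : H // x.1 ∈ K} ≃ K :=
    ⟨fun x => ⟨x.1.1, x.2⟩, fun k => ⟨⟨k.1, hKH k.2⟩, k.2⟩, fun x => rfl, fun k => rfl⟩
  rw [Nat.card_congr e]
  have := Fintype.ofFinite H
  have := Fintype.ofFinite K
  rw [Nat.card_eq_fintype_card, Fintype.card_subtype_compl, ← Nat.card_eq_fintype_card,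
    ← Nat.card_eq_fintype_card, Nat.card_congr e']

include hnc hnn hC in
/-- the number of cosets other than `H` is at most `|T|` -/
theorem bsw_card_points_le :
    Nat.card {y : G ⧸ HH // y ≠ QuotientGroup.mk 1} ≤ Nat.card T := by
  classical
  have := Fintype.ofFinite {y : G ⧸ HH // y ≠ QuotientGroup.mk 1}
  have hq := bsw_four_le_card T hnc hnn
  -- the injection
  have hnotH : ∀ y : {y : G ⧸ HH // y ≠ QuotientGroup.mk 1}, ∀ g : G,
      (QuotientGroup.mk g : G ⧸ HH) = y.1 → g ∉ HH := by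
    intro y g hgy h
    apply y.2
    rw [← hgy, QuotientGroup.eq]
    simpa using Subgroup.inv_mem _ h
  let Φ : (Σ y : {y : G ⧸ HH // y ≠ QuotientGroup.mk 1},
      {d : G // d ∈ HH ⊓ MulAction.stabilizer G y.1 ∧ d ≠ 1}) →
      {h : G // h ∈ HH ∧ h ∉ (T : Subgroup G)} := fun p =>
    ⟨p.2.1, (Subgroup.mem_inf.1 p.2.2.1).1, by
      intro hT
      apply p.2.2.2
      exact bsw_T_semiregular T hnc hnn hC hT p.1.2
        (MulAction.mem_stabilizer_iff.1 (Subgroup.mem_inf.1 p.2.2.1).2)⟩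
  have hΦ : Function.Injective Φ := by
    rintro ⟨⟨y, hy⟩, d, hd, hd1⟩ ⟨⟨y', hy'⟩, d', hd', hd1'⟩ h
    have hdd : d = d' := congrArg Subtype.val h
    subst hdd
    have hyy : y = y' := by
      by_contra hne
      induction y using QuotientGroup.induction_on with
      | H a =>
      induction y' using QuotientGroup.induction_on with
      | H b =>
      apply hd1
      exact bsw_fix_three_aux T hnc hnn hC (Subgroup.mem_inf.1 hd).1
        (hnotH ⟨_, hy⟩ a rfl) (hnotH ⟨_, hy'⟩ b rfl) hne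
        (MulAction.mem_stabilizer_iff.1 (Subgroup.mem_inf.1 hd).2)
        (MulAction.mem_stabilizer_iff.1 (Subgroup.mem_inf.1 hd').2)
    subst hyy
    rfl
  have h1 := Nat.card_le_card_of_injective Φ hΦ
  rw [Nat.card_sigma, card_subtype_mem_and_not_mem _ _ Subgroup.le_normalizer,
    bsw_card_H T hnc hnn hC] at h1
  have h2 : ∀ y : {y : G ⧸ HH // y ≠ QuotientGroup.mk 1},
      Nat.card {d : G // d ∈ HH ⊓ MulAction.stabilizer G y.1 ∧ d ≠ 1} = Nat.card T - 1 - 1 := by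
    intro y
    rw [card_subtype_mem_and_ne_one]
    obtain ⟨y, hy⟩ := y
    induction y using QuotientGroup.induction_on with
    | H g =>
    rw [stabilizer_mk, (bsw_Dg_facts T hnc hnn hC (hnotH ⟨_, hy⟩ g rfl)).1]
  simp only [h2, Finset.sum_const, Finset.card_univ, smul_eq_mul] at h1
  rw [← Nat.card_eq_fintype_card] at h1
  have h3 : Nat.card T * (Nat.card T - 1) - Nat.card T = Nat.card T * (Nat.card T - 1 - 1) := by
    rw [Nat.mul_sub_one (Nat.card T) (Nat.card T - 1)]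
  rw [h3] at h1
  exact Nat.le_of_mul_le_mul_right h1 (by omega)

/-- the orbit map of `T` at a point other than the base point -/
def orbitMapT (x : G ⧸ HH) (hx : x ≠ QuotientGroup.mk 1) (t : (T : Subgroup G)) :
    {y : G ⧸ HH // y ≠ QuotientGroup.mk 1} :=
  ⟨t.1 • x, by
    intro h
    apply hx
    have h1 : x = t.1⁻¹ • (t.1 • x) := by rw [inv_smul_smul]
    rw [h1, h, MulAction.Quotient.smul_mk, QuotientGroup.eq]
    simpa using Subgroup.le_normalizer t.2⟩

include hnc hnn hC in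
theorem orbitMapT_bijective (x : G ⧸ HH) (hx : x ≠ QuotientGroup.mk 1) :
    Function.Bijective (orbitMapT T x hx) := by
  apply Function.Injective.bijective_of_nat_card_le
  · intro t t' h
    have h' : t.1 • x = t'.1 • x := congrArg Subtype.val h
    have h2 : (t'.1⁻¹ * t.1) • x = x := by
      rw [mul_smul, h', inv_smul_smul]
    have h3 := bsw_T_semiregular T hnc hnn hC
      (Subgroup.mul_mem _ (Subgroup.inv_mem _ t'.2) t.2) hx h2
    apply Subtype.ext
    rw [inv_mul_eq_one] at h3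
    exact h3.symm
  · exact bsw_card_points_le T hnc hnn hC

include hnc hnn hC in
/-- `T` is regular on the cosets other than `H` -/
theorem bsw_T_regular (x y : G ⧸ HH) (hx : x ≠ QuotientGroup.mk 1) (hy : y ≠ QuotientGroup.mk 1) :
    ∃! t : G, t ∈ T ∧ t • x = y := by
  obtain ⟨hinj, hsurj⟩ := orbitMapT_bijective T hnc hnn hC x hx
  obtain ⟨t, ht⟩ := hsurj ⟨y, hy⟩
  refine ⟨t.1, ⟨t.2, congrArg Subtype.val ht⟩, ?_⟩
  rintro t' ⟨ht'T, ht'⟩
  have : orbitMapT T x hx ⟨t', ht'T⟩ = orbitMapT T x hx t := by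
    apply Subtype.ext
    show t' • x = t.1 • x
    have h0 : t.1 • x = y := congrArg Subtype.val ht
    rw [ht', h0]
  exact congrArg Subtype.val (hinj this)

include hnc hnn hC in
theorem bsw_card_quotient : Nat.card (G ⧸ HH) = Nat.card T + 1 := by
  classical
  obtain ⟨g, hg⟩ := bsw_exists_not_mem T hnn
  have hx : (QuotientGroup.mk g : G ⧸ HH) ≠ QuotientGroup.mk 1 := by
    intro h
    apply hg
    rw [QuotientGroup.eq] at h
    have := Subgroup.inv_mem _ h
    simpa using this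
  have h1 := Nat.card_congr (Equiv.ofBijective _ (orbitMapT_bijective T hnc hnn hC _ hx))
  have := Fintype.ofFinite (G ⧸ HH)
  have h2 : Nat.card {y : G ⧸ HH // ¬ (y = QuotientGroup.mk 1)} = Nat.card (G ⧸ HH) - 1 := by
    rw [Nat.card_eq_fintype_card, Fintype.card_subtype_compl, Fintype.card_subtype_eq,
      Nat.card_eq_fintype_card]
  have h3 : 0 < Nat.card (G ⧸ HH) := Nat.card_pos
  have h4 : Nat.card (T : Subgroup G) = Nat.card (G ⧸ HH) - 1 := h1.trans h2
  have h5 : Nat.card T = Nat.card (T : Subgroup G) := rfl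
  omega

end bsw3

end Cfsg.Agent.Lib.Helper28
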