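import Mathlib

/-!
# An automorphism fixing only the base field has order equal to the degree
-/

set_option autoImplicit false

namespace Cfsg.Agent.Lib.Helper28

theorem finrank_eq_orderOf_of_fixed {F E : Type*} [Field F] [Field E] [Algebra F E]
    [FiniteDimensional F E] (σ : E ≃ₐ[F] E)
    (hfix : ∀ x : E, σ x = x → x ∈ (⊥ : IntermediateField F E)) :
    Module.finrank F E = orderOf σ := by
  have h1 := IntermediateField.finrank_fixedField_eq_card (Subgroup.zpowers σ)
  have h2 : IntermediateField.fixedField (Subgroup.zpowers σ) = ⊥ := by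
    rw [eq_bot_iff]
    intro x hx
    apply hfix
    exact hx ⟨σ, Subgroup.mem_zpowers σ⟩
  rw [h2, IntermediateField.finrank_bot', Nat.card_zpowers] at h1
  exact h1

/-- a ring automorphism of `GaloisField p n` whose only fixed points are `0` and `1` has order `n`
(and then `p = 2`, but we do not need that) -/
theorem galoisField_degree_eq_orderOf (p n : ℕ) [Fact p.Prime] (hn : n ≠ 0)
    (σ : GaloisField p n ≃+* GaloisField p n)
    (hfix : ∀ x : GaloisField p n, σ x = x → x = 0 ∨ x = 1) :
    n = orderOf σ := by
  let σ' : GaloisField p n ≃ₐ[ZMod p] GaloisField p n :=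
    AlgEquiv.ofRingEquiv (f := σ) (by
      intro x
      have : (σ : GaloisField p n →+* GaloisField p n).comp (algebraMap (ZMod p) (GaloisField p n)) =
          algebraMap (ZMod p) (GaloisField p n) := Subsingleton.elim _ _
      exact congrArg (fun f : ZMod p →+* GaloisField p n => f x) this)
  have h1 := finrank_eq_orderOf_of_fixed σ' (by
    intro x hx
    have hx' : σ x = x := hx
    rcases hfix x hx' with rfl | rfl
    · exact zero_mem _
    · exact one_mem _)
  rw [GaloisField.finrank p hn] at h1
  refine h1.trans ?_
  -- orders agree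
  have hpow : ∀ k : ℕ, ∀ x, (σ' ^ k) x = (σ ^ k) x := by
    intro k
    induction k with
    | zero => intro x; rfl
    | succ k ih =>
      intro x
      rw [pow_succ, pow_succ]
      show (σ' ^ k) (σ' x) = (σ ^ k) (σ x)
      rw [ih]
      rfl
  apply orderOf_eq_orderOf_iff.mpr
  intro k
  constructor
  · intro h
    ext x
    rw [← hpow, h]
    rfl
  · intro h
    ext x
    rw [hpow, h]
    rfl

end Cfsg.Agent.Lib.Helper28
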