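import Mathlib
import Cfsg.Agent.Lib.Helper50.IsometryDisc

/-! K-S5673-SS (keystone 567311, architect helper46): non-degenerate symmetric bilinear forms of the same
odd dimension over a finite field of odd order are similar. -/

set_option autoImplicit false

namespace Cfsg.Agent.Lib.Helper28.AschO

open Matrix QuadraticMap LinearMap.BilinMap

variable {F : Type*} [Field F]

/-- the quadratic form `v ↦ vᵀ A v`. -/
noncomputable def qf {k : ℕ} (A : Matrix (Fin k) (Fin k) F) : QuadraticForm F (Fin k → F) :=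
  LinearMap.BilinMap.toQuadraticMap (Matrix.toLinearMap₂' F A)

theorem qf_apply {k : ℕ} (A : Matrix (Fin k) (Fin k) F) (v : Fin k → F) :
    qf A v = v ⬝ᵥ A *ᵥ v := by
  unfold qf
  rw [LinearMap.BilinMap.toQuadraticMap_apply, Matrix.toLinearMap₂'_apply']

theorem polar_qf {k : ℕ} (A : Matrix (Fin k) (Fin k) F) (hA : Aᵀ = A) (v w : Fin k → F) :
    polar (qf A) v w = 2 * (v ⬝ᵥ A *ᵥ w) := by
  unfold qf
  rw [LinearMap.BilinMap.polar_toQuadraticMap, Matrix.toLinearMap₂'_apply',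
    Matrix.toLinearMap₂'_apply']
  have : w ⬝ᵥ A *ᵥ v = v ⬝ᵥ A *ᵥ w := by
    rw [Matrix.dotProduct_mulVec, dotProduct_comm, ← Matrix.mulVec_transpose, hA]
  rw [this]
  ring

theorem polar_qf_single {k : ℕ} (A : Matrix (Fin k) (Fin k) F) (hA : Aᵀ = A) (i j : Fin k) :
    polar (qf A) (Pi.single i 1) (Pi.single j 1) = 2 * A i j := by
  rw [polar_qf A hA]
  congr 1
  simp

theorem disc_qf {k : ℕ} (A : Matrix (Fin k) (Fin k) F) (hA : Aᵀ = A) :
    Cfsg.Agent.Lib.Helper50.disc (qf A) = 2 ^ k * A.det := by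
  unfold Cfsg.Agent.Lib.Helper50.disc
  have : (Matrix.of fun i j : Fin k => polar (⇑(qf A)) (Pi.single i 1) (Pi.single j 1)) =
      (2 : F) • A := by
    ext i j
    rw [Matrix.of_apply, polar_qf_single A hA, Matrix.smul_apply, smul_eq_mul]
  rw [this, Matrix.det_smul, Fintype.card_fin]

theorem qnd_qf (h2 : (2 : F) ≠ 0) {k : ℕ} (A : Matrix (Fin k) (Fin k) F) (hA : Aᵀ = A)
    (hu : IsUnit A) : Cfsg.Agent.Lib.Helper50.QND (qf A) := by
  intro v hv
  have h1 : ∀ w, v ⬝ᵥ A *ᵥ w = 0 := by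
    intro w
    have := hv w
    rw [polar_qf A hA] at this
    exact (mul_eq_zero.mp this).resolve_left h2
  have h3 : Matrix.vecMul v A = 0 := by
    funext j
    have := h1 (Pi.single j 1)
    rw [Matrix.dotProduct_mulVec] at this
    simpa using this
  have hdet : IsUnit A.det := (Matrix.isUnit_iff_isUnit_det A).mp hu
  have h4 : Matrix.vecMul (Matrix.vecMul v A) A⁻¹ = v := by
    rw [Matrix.vecMul_vecMul, Matrix.mul_nonsing_inv A hdet, Matrix.vecMul_one]
  rw [← h4, h3, Matrix.zero_vecMul]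

theorem symm_eq_of_qf_eq (h2 : (2 : F) ≠ 0) {k : ℕ} (A B : Matrix (Fin k) (Fin k) F)
    (hA : Aᵀ = A) (hB : Bᵀ = B) (h : ∀ v, qf A v = qf B v) : A = B := by
  ext i j
  have hp : polar (qf A) (Pi.single i 1) (Pi.single j 1) =
      polar (qf B) (Pi.single i 1) (Pi.single j 1) := by
    simp only [polar, h]
  rw [polar_qf_single A hA, polar_qf_single B hB] at hp
  exact mul_left_cancel₀ h2 hp

theorem exists_similar [Fintype F] (h2 : (2 : F) ≠ 0) (k : ℕ) (hk : Odd k)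
    (g g' : Matrix (Fin k) (Fin k) F)
    (hg : gᵀ = g) (hg' : g'ᵀ = g') (hu : IsUnit g) (hu' : IsUnit g') :
    ∃ (h : GL (Fin k) F) (c : F), c ≠ 0 ∧
      (h : Matrix (Fin k) (Fin k) F)ᵀ * g * (h : Matrix (Fin k) (Fin k) F) = c • g' := by
  obtain ⟨m, hm⟩ := hk
  have hd : g.det ≠ 0 := ((Matrix.isUnit_iff_isUnit_det g).mp hu).ne_zero
  have hd' : g'.det ≠ 0 := ((Matrix.isUnit_iff_isUnit_det g').mp hu').ne_zero
  set c : F := g.det * g'.det with hc_def
  have hc : c ≠ 0 := mul_ne_zero hd hd'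
  have hcg' : (c • g')ᵀ = c • g' := by rw [Matrix.transpose_smul, hg']
  have hucg' : IsUnit (c • g') := by
    rw [Matrix.isUnit_iff_isUnit_det, Matrix.det_smul]
    exact (IsUnit.mk0 _ (pow_ne_zero _ hc)).mul ((Matrix.isUnit_iff_isUnit_det g').mp hu')
  have hkc : c ^ k * c = c ^ (m + 1) * c ^ (m + 1) := by
    rw [hm]; ring
  have hsq : IsSquare (Cfsg.Agent.Lib.Helper50.disc (qf (c • g')) *
      Cfsg.Agent.Lib.Helper50.disc (qf g)) := by
    rw [disc_qf _ hcg', disc_qf _ hg, Matrix.det_smul, Fintype.card_fin]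
    refine ⟨2 ^ k * c ^ (m + 1), ?_⟩
    have : g'.det * g.det = c := by rw [hc_def]; ring
    calc 2 ^ k * (c ^ k * g'.det) * (2 ^ k * g.det)
        = 2 ^ k * 2 ^ k * (c ^ k * (g'.det * g.det)) := by ring
      _ = 2 ^ k * 2 ^ k * (c ^ k * c) := by rw [this]
      _ = 2 ^ k * 2 ^ k * (c ^ (m + 1) * c ^ (m + 1)) := by rw [hkc]
      _ = 2 ^ k * c ^ (m + 1) * (2 ^ k * c ^ (m + 1)) := by ring
  obtain ⟨φ, hφ⟩ := Cfsg.Agent.Lib.Helper50.isometric_of_disc h2 (qf (c • g')) (qf g)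
    (qnd_qf h2 _ hcg' hucg') (qnd_qf h2 _ hg hu) hsq
  -- the matrix of `φ`
  let M : Matrix (Fin k) (Fin k) F := LinearMap.toMatrix' (φ : (Fin k → F) →ₗ[F] (Fin k → F))
  let M' : Matrix (Fin k) (Fin k) F :=
    LinearMap.toMatrix' (φ.symm : (Fin k → F) →ₗ[F] (Fin k → F))
  have hMM' : M * M' = 1 := by
    rw [← LinearMap.toMatrix'_comp]
    have : (φ : (Fin k → F) →ₗ[F] (Fin k → F)) ∘ₗ (φ.symm : (Fin k → F) →ₗ[F] (Fin k → F)) =
        LinearMap.id := by
      ext v : 1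
      simp
    rw [this, LinearMap.toMatrix'_id]
  have hM'M : M' * M = 1 := by
    rw [← LinearMap.toMatrix'_comp]
    have : (φ.symm : (Fin k → F) →ₗ[F] (Fin k → F)) ∘ₗ (φ : (Fin k → F) →ₗ[F] (Fin k → F)) =
        LinearMap.id := by
      ext v : 1
      simp
    rw [this, LinearMap.toMatrix'_id]
  have hMv : ∀ v, M *ᵥ v = φ v := fun v => LinearMap.toMatrix'_mulVec _ v
  refine ⟨⟨M, M', hMM', hM'M⟩, c, hc, ?_⟩
  show Mᵀ * g * M = c • g'
  apply symm_eq_of_qf_eq h2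
  · rw [Matrix.transpose_mul, Matrix.transpose_mul, Matrix.transpose_transpose, hg,
      Matrix.mul_assoc]
  · exact hcg'
  · intro v
    rw [← hφ v, qf_apply, qf_apply, ← hMv]
    rw [← Matrix.mulVec_mulVec, ← Matrix.mulVec_mulVec, Matrix.dotProduct_mulVec,
      Matrix.vecMul_transpose]

end Cfsg.Agent.Lib.Helper28.AschO
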