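import Mathlib
import Cfsg.Agent.Lib.Helper28.BG1310Ka
import Cfsg.Agent.Lib.Helper90.BG1310B

/-!
# K-BG1310-K (131011) `NR.le_of_fix` = LEMMA D, (D2)(i)
-/

set_option autoImplicit false

namespace Cfsg.Agent.Lib.Helper28.BG1310

open Cfsg Cfsg.Agent.Lib.Helper55 Cfsg.Agent.Lib.Helper31.BG134 Cfsg.Agent.Lib.Helper71.BG1310

variable {G : Type*} [Group G] [Finite G]

/-- **LEAF K (131011)** -/
theorem NR.le_of_fix {M E E₁ E₃ : Subgroup G} (c : NR M E E₁ E₃) {P : Subgroup G} (hP : P ≤ E₁)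
    (hPc : (Nat.card P).Prime) (hfix : E₃ ⊓ Subgroup.centralizer (P : Set G) ≠ ⊥) :
    CP M E₁ ≤ CP M E₃ :=
  NR.le_of_fix_of c
    (fun {_} hY hY1 => Cfsg.Agent.Lib.Helper90.BG1310.prime_action_tau3 c.hG c.hM c.hE c.hE₃ hY hY1)
    hP hPc hfix

end Cfsg.Agent.Lib.Helper28.BG1310
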