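import Mathlib

/-! K-CD3 (S4460) keystone 446016 K5 `center_trivial_of_min` (helper28), Mathlib only. -/

set_option autoImplicit false

namespace Cfsg.Agent.Lib.Helper28.CD3

universe u

variable {G : Type u} [Group G]

/-- 446016 K5 : if every nontrivial normal subgroup contains `G'` and `G'' ≠ 1`,
the centre is trivial (MATHLIB ONLY). -/
theorem center_trivial_of_min
    (hmin : ∀ L : Subgroup G, L.Normal → L ≠ ⊥ → commutator G ≤ L)
    (h2 : derivedSeries G 2 ≠ ⊥) (z : G) (hz : ∀ g : G, g * z = z * g) : z = 1 := by
  by_contra hz1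
  have hzc : z ∈ Subgroup.center G := Subgroup.mem_center_iff.mpr hz
  have hne : Subgroup.center G ≠ ⊥ := by
    intro hb
    rw [hb, Subgroup.mem_bot] at hzc
    exact hz1 hzc
  have hc : commutator G ≤ Subgroup.center G := hmin _ inferInstance hne
  apply h2
  rw [derivedSeries_succ, derivedSeries_one, Subgroup.commutator_eq_bot_iff_le_centralizer]
  exact hc.trans (Subgroup.center_le_centralizer _)

end Cfsg.Agent.Lib.Helper28.CD3
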