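import Mathlib

set_option autoImplicit false

/-!
# A `p`-group without self-centralizing cyclic subgroups has rank at least two
-/

namespace Cfsg.Agent.Lib.Helper28.Camina

universe u

theorem exists_rank_two_of_no_self_centralizing {Q : Type u} [Group Q] [Finite Q] (p : ℕ)
    [Fact p.Prime] (hQ : IsPGroup p Q) (hnt : Nontrivial Q)
    (h : ∀ c : Q, c ≠ 1 →
      Subgroup.centralizer ((Subgroup.zpowers c : Subgroup Q) : Set Q) ≠ Subgroup.zpowers c) :
    ∃ a b : Q, orderOf a = p ∧ orderOf b = p ∧ a * b = b * a ∧ b ∉ Subgroup.zpowers a := by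
  classical
  have hp : p.Prime := Fact.out
  let _ : Fintype Q := Fintype.ofFinite Q
  -- an element of maximal order
  obtain ⟨c₀, hc₀⟩ := exists_ne (1 : Q)
  have hne : (Finset.univ.filter (fun c : Q => c ≠ 1)).Nonempty :=
    ⟨c₀, Finset.mem_filter.mpr ⟨Finset.mem_univ _, hc₀⟩⟩
  obtain ⟨c, hcmem, hcmax⟩ := Finset.exists_max_image _ (fun c : Q => orderOf c) hne
  have hc1 : c ≠ 1 := (Finset.mem_filter.mp hcmem).2
  have hmax : ∀ x : Q, x ≠ 1 → orderOf x ≤ orderOf c := fun x hx =>
    hcmax x (Finset.mem_filter.mpr ⟨Finset.mem_univ _, hx⟩)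
  -- an element of the centralizer outside `⟨c⟩`
  have hle : Subgroup.zpowers c ≤ Subgroup.centralizer ((Subgroup.zpowers c : Subgroup Q) : Set Q) := by
    intro x hx
    rw [Subgroup.mem_centralizer_iff]
    intro y hy
    obtain ⟨i, rfl⟩ := Subgroup.mem_zpowers_iff.mp hx
    obtain ⟨j, rfl⟩ := Subgroup.mem_zpowers_iff.mp hy
    rw [← zpow_add, ← zpow_add, add_comm]
  obtain ⟨d, hdC, hdc⟩ := SetLike.exists_of_lt (lt_of_le_of_ne hle (h c hc1).symm)
  have hcd : Commute c d := by
    have := Subgroup.mem_centralizer_iff.mp hdC c (Subgroup.mem_zpowers c)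
    exact this
  -- the least `j` with `d ^ p ^ j ∈ ⟨c⟩`
  have hex : ∃ j : ℕ, d ^ p ^ j ∈ Subgroup.zpowers c := by
    obtain ⟨k, hk⟩ := hQ d
    exact ⟨k, by rw [hk]; exact Subgroup.one_mem _⟩
  have hj0 : Nat.find hex ≠ 0 := by
    intro h0
    have := Nat.find_spec hex
    rw [h0, pow_zero, pow_one] at this
    exact hdc this
  obtain ⟨j', hj'⟩ := Nat.exists_eq_succ_of_ne_zero hj0
  have hd'not : d ^ p ^ j' ∉ Subgroup.zpowers c := by
    apply Nat.find_min hex
    rw [hj']
    exact Nat.lt_succ_self j'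
  have hd'p : (d ^ p ^ j') ^ p ∈ Subgroup.zpowers c := by
    have := Nat.find_spec hex
    rw [hj', pow_succ, pow_mul] at this
    exact this
  obtain ⟨d', hd'def⟩ : ∃ d' : Q, d' = d ^ p ^ j' := ⟨_, rfl⟩
  rw [← hd'def] at hd'not hd'p
  have hcd' : Commute c d' := by
    rw [hd'def]
    exact hcd.pow_right _
  have hd'1 : d' ≠ 1 := by
    rintro rfl
    exact hd'not (Subgroup.one_mem _)
  obtain ⟨i, hi⟩ : ∃ i : ℕ, c ^ i = d' ^ p := by
    have : d' ^ p ∈ Submonoid.powers c := mem_powers_iff_mem_zpowers.mpr hd'p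
    exact (Submonoid.mem_powers_iff _ _).mp this
  -- orders
  obtain ⟨m, hm⟩ := (IsPGroup.iff_orderOf.mp hQ) c
  have hm0 : m ≠ 0 := by
    rintro rfl
    rw [pow_zero, orderOf_eq_one_iff] at hm
    exact hc1 hm
  obtain ⟨r, hr⟩ := (IsPGroup.iff_orderOf.mp hQ) d'
  have hr0 : r ≠ 0 := by
    rintro rfl
    rw [pow_zero, orderOf_eq_one_iff] at hr
    exact hd'1 hr
  by_cases hpi : p ∣ i
  · obtain ⟨i', rfl⟩ := hpi
    -- the element `b`
    have hcomm2 : Commute d' (c ^ i')⁻¹ := (hcd'.symm.pow_right i').inv_right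
    have hbp : (d' * (c ^ i')⁻¹) ^ p = 1 := by
      rw [hcomm2.mul_pow, inv_pow, ← pow_mul, mul_comm i' p, ← hi, mul_inv_cancel]
    have hbnot : d' * (c ^ i')⁻¹ ∉ Subgroup.zpowers c := by
      intro hb
      apply hd'not
      have h2 : c ^ i' ∈ Subgroup.zpowers c := Subgroup.pow_mem _ (Subgroup.mem_zpowers c) _
      have := Subgroup.mul_mem _ hb h2
      rwa [inv_mul_cancel_right] at this
    have hb1 : d' * (c ^ i')⁻¹ ≠ 1 := by
      intro hb
      apply hbnot
      rw [hb]
      exact Subgroup.one_mem _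
    have hbord : orderOf (d' * (c ^ i')⁻¹) = p := orderOf_eq_prime hbp hb1
    -- the element `a`
    have hdvd : p ^ (m - 1) ∣ orderOf c := by
      rw [hm]
      exact pow_dvd_pow p (Nat.sub_le m 1)
    have haord : orderOf (c ^ p ^ (m - 1)) = p := by
      rw [orderOf_pow_of_dvd (pow_ne_zero _ hp.ne_zero) hdvd, hm]
      have : m = (m - 1) + 1 := by omega
      conv_lhs => rw [this, pow_succ]
      exact Nat.mul_div_cancel_left p (pow_pos hp.pos _)
    have hamem : c ^ p ^ (m - 1) ∈ Subgroup.zpowers c :=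
      Subgroup.pow_mem _ (Subgroup.mem_zpowers c) _
    refine ⟨c ^ p ^ (m - 1), d' * (c ^ i')⁻¹, haord, hbord, ?_, ?_⟩
    · have hcb : Commute c (d' * (c ^ i')⁻¹) :=
        hcd'.mul_right ((Commute.refl c).pow_right i').inv_right
      exact (hcb.pow_left _).eq
    · intro hb
      apply hbnot
      exact (Subgroup.zpowers_le.mpr hamem) hb
  · exfalso
    -- `d'` has larger order than `c`
    have hcop : Nat.Coprime (orderOf c) i := by
      rw [hm]
      exact Nat.Coprime.pow_left m ((Nat.Prime.coprime_iff_not_dvd hp).mpr hpi)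
    have h1 : orderOf (d' ^ p) = orderOf c := by
      rw [← hi]
      exact hcop.orderOf_pow
    have hpd : p ∣ orderOf d' := by
      rw [hr]
      exact dvd_pow_self p hr0
    have h2 : orderOf (d' ^ p) = orderOf d' / p := orderOf_pow_of_dvd hp.ne_zero hpd
    have h3 := hmax d' hd'1
    obtain ⟨q, hq⟩ := hpd
    rw [hq, Nat.mul_div_cancel_left q hp.pos] at h2
    have hp2 := hp.two_le
    have hqpos : 0 < q := by
      rcases Nat.eq_zero_or_pos q with h0 | h0
      · rw [h0, mul_zero] at hq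
        exact absurd hq (orderOf_pos d').ne'
      · exact h0
    have : orderOf d' = p * orderOf c := by rw [hq, ← h1, h2]
    nlinarith

end Cfsg.Agent.Lib.Helper28.Camina
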