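import Mathlib

set_option autoImplicit false

/-!
# The norm argument: an abelian normal subgroup on which a `Z_p × Z_p` acts with `p`-group
centralizers is a `p`-group
-/

namespace Cfsg.Agent.Lib.Helper28.Camina

universe u

section norm

variable {M Q : Type*} [CommGroup M] [Group Q] (ρ : Q →* MulAut M) (p : ℕ) [Fact p.Prime]

/-- the norm of `y` under the cyclic group generated by `q` -/
noncomputable def cycNorm (q : Q) (y : M) : M := ∏ i : ZMod p, ρ (q ^ i.val) y

omit [Fact p.Prime] in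
theorem pow_mod_of_pow_eq_one {q : Q} (hq : q ^ p = 1) (n : ℕ) : q ^ n = q ^ (n % p) := by
  conv_lhs => rw [← Nat.div_add_mod n p, pow_add, pow_mul, hq, one_pow, one_mul]

theorem pow_val_add_one {q : Q} (hq : q ^ p = 1) (i : ZMod p) : q ^ (i + 1).val = q ^ (i.val + 1) := by
  have hp : p.Prime := Fact.out
  rw [pow_mod_of_pow_eq_one p hq (i.val + 1), ZMod.val_add, ZMod.val_one]

theorem pow_val_mul {q : Q} (hq : q ^ p = 1) (i j : ZMod p) :
    q ^ (i * j).val = q ^ (i.val * j.val) := by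
  rw [pow_mod_of_pow_eq_one p hq (i.val * j.val), ZMod.val_mul]

theorem cycNorm_fixed {q : Q} (hq : q ^ p = 1) (y : M) : ρ q (cycNorm ρ p q y) = cycNorm ρ p q y := by
  unfold cycNorm
  rw [map_prod]
  rw [← Fintype.prod_equiv (Equiv.addRight (1 : ZMod p)) (fun i => ρ q (ρ (q ^ i.val) y))
    (fun i => ρ (q ^ i.val) y)]
  intro i
  show ρ q (ρ (q ^ i.val) y) = ρ (q ^ (i + 1).val) y
  rw [pow_val_add_one p hq, pow_succ', map_mul]
  rfl

end norm

theorem isPGroup_of_rank_two_fpf {A : Type u} [Group A] [Finite A] (M : Subgroup A)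
    [hM : M.Normal] (hab : ∀ x ∈ M, ∀ y ∈ M, x * y = y * x) (p : ℕ) [Fact p.Prime]
    (a b : A ⧸ M) (ha : orderOf a = p) (hb : orderOf b = p) (hcomm : a * b = b * a)
    (hba : b ∉ Subgroup.zpowers a)
    (hfpf : ∀ x : A, x ∉ M → ∀ y ∈ M, x * y = y * x → ∃ j : ℕ, y ^ (p ^ j) = 1) :
    IsPGroup p M := by
  classical
  have hp : p.Prime := Fact.out
  let iM : CommGroup ↥M :=
    { (inferInstance : Group ↥M) with
      mul_comm := fun x y => Subtype.ext (hab x x.2 y y.2) }
  -- the action of the quotient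
  have hker : ∀ x ∈ M, (MulAut.conjNormal x : MulAut ↥M) = 1 := by
    intro x hx
    apply MulEquiv.ext
    intro m
    apply Subtype.ext
    rw [MulAut.conjNormal_apply]
    show x * (m : A) * x⁻¹ = m
    rw [hab x hx m m.2, mul_inv_cancel_right]
  let ρ : A ⧸ M →* MulAut ↥M := QuotientGroup.lift M MulAut.conjNormal hker
  have hρ : ∀ (x : A) (m : ↥M), ((ρ (QuotientGroup.mk x) m : ↥M) : A) = x * m * x⁻¹ := by
    intro x m
    show ((MulAut.conjNormal x m : ↥M) : A) = x * m * x⁻¹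
    rw [MulAut.conjNormal_apply]
  -- the `p`-elements of `M`
  let S : ↥M → Prop := fun m => ∃ k : ℕ, m ^ p ^ k = 1
  have hSone : S 1 := ⟨0, one_pow _⟩
  have hSmul : ∀ m m' : ↥M, S m → S m' → S (m * m') := by
    rintro m m' ⟨k, hk⟩ ⟨k', hk'⟩
    refine ⟨k + k', ?_⟩
    rw [mul_pow, pow_add, pow_mul, hk, one_pow, mul_comm (p ^ k) (p ^ k'), pow_mul, hk', one_pow,
      mul_one]
  have hSinv : ∀ m : ↥M, S m → S m⁻¹ := by
    rintro m ⟨k, hk⟩
    exact ⟨k, by rw [inv_pow, hk, inv_one]⟩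
  have hSprod : ∀ (ι : Type) (s : Finset ι) (f : ι → ↥M), (∀ i ∈ s, S (f i)) → S (∏ i ∈ s, f i) := by
    intro ι s f hf
    exact Finset.prod_induction f S hSmul hSone hf
  -- fixed points of non-identity elements are `p`-elements
  have hfix : ∀ q : A ⧸ M, q ≠ 1 → ∀ m : ↥M, ρ q m = m → S m := by
    intro q hq m hm
    obtain ⟨x, rfl⟩ := QuotientGroup.mk_surjective q
    have hx : x ∉ M := by
      intro hx
      apply hq
      exact (QuotientGroup.eq_one_iff x).mpr hx
    have h1 : x * (m : A) * x⁻¹ = m := by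
      rw [← hρ x m, hm]
    have h2 : x * (m : A) = m * x := by
      calc x * (m : A) = (x * m * x⁻¹) * x := by group
        _ = m * x := by rw [h1]
    obtain ⟨j, hj⟩ := hfpf x hx m m.2 h2
    refine ⟨j, ?_⟩
    apply Subtype.ext
    rw [Subgroup.coe_pow, Subgroup.coe_one]
    exact hj
  have hap : a ^ p = 1 := by rw [← ha]; exact pow_orderOf_eq_one a
  have hbp : b ^ p = 1 := by rw [← hb]; exact pow_orderOf_eq_one b
  have ha1 : a ≠ 1 := by
    intro h
    rw [h, orderOf_one] at ha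
    exact hp.ne_one ha.symm
  have hb1 : b ≠ 1 := by
    intro h
    rw [h, orderOf_one] at hb
    exact hp.ne_one hb.symm
  have hcab : Commute a b := hcomm
  intro y
  -- the rows
  let g : ZMod p → ↥M := fun i => ∏ k : ZMod p, ρ (a ^ k.val * b ^ i.val) y
  have hg0 : g 0 = cycNorm ρ p a y := by
    show ∏ k : ZMod p, ρ (a ^ k.val * b ^ (0 : ZMod p).val) y = ∏ k : ZMod p, ρ (a ^ k.val) y
    rw [ZMod.val_zero, pow_zero]
    simp only [mul_one]
  -- the total product is fixed by `b`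
  have hPfix : ρ b (∏ i : ZMod p, g i) = ∏ i : ZMod p, g i := by
    rw [map_prod]
    rw [← Fintype.prod_equiv (Equiv.addRight (1 : ZMod p)) (fun i => ρ b (g i)) (fun i => g i)]
    intro i
    show ρ b (∏ k : ZMod p, ρ (a ^ k.val * b ^ i.val) y) =
      ∏ k : ZMod p, ρ (a ^ k.val * b ^ (i + 1).val) y
    rw [map_prod]
    apply Finset.prod_congr rfl
    intro k _
    have e1 : a ^ k.val * b ^ (i + 1).val = b * (a ^ k.val * b ^ i.val) := by
      rw [pow_val_add_one p hbp, pow_succ', ← mul_assoc, (hcab.pow_left k.val).eq, mul_assoc]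
    rw [e1, map_mul ρ b (a ^ k.val * b ^ i.val)]
    rfl
  have hP : S (∏ i : ZMod p, g i) := hfix b hb1 _ hPfix
  -- the norms over the cyclic subgroups
  have hTa : S (cycNorm ρ p a y) := hfix a ha1 _ (cycNorm_fixed ρ p hap y)
  have hTj : ∀ j : ZMod p, S (cycNorm ρ p (a ^ j.val * b) y) := by
    intro j
    have hne : a ^ j.val * b ≠ 1 := by
      intro h1
      apply hba
      have : b = (a ^ j.val)⁻¹ := (eq_inv_of_mul_eq_one_right h1)
      rw [this]
      exact Subgroup.inv_mem _ (Subgroup.pow_mem _ (Subgroup.mem_zpowers a) _)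
    have hpow : (a ^ j.val * b) ^ p = 1 := by
      rw [(hcab.pow_left j.val).mul_pow, ← pow_mul, mul_comm j.val p, pow_mul, hap, one_pow, hbp,
        one_mul]
    exact hfix _ hne _ (cycNorm_fixed ρ p hpow y)
  -- the partition identity
  have hkey : (∏ j : ZMod p, cycNorm ρ p (a ^ j.val * b) y) = y ^ p * ∏ i ∈ Finset.univ.erase (0 : ZMod p), g i := by
    unfold cycNorm
    rw [Finset.prod_comm]
    rw [← Finset.mul_prod_erase Finset.univ _ (Finset.mem_univ (0 : ZMod p))]
    congr 1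
    · simp only [ZMod.val_zero, pow_zero, map_one, MulAut.one_apply, Finset.prod_const,
        Finset.card_univ, ZMod.card]
    · apply Finset.prod_congr rfl
      intro i hi
      have hi0 : i ≠ 0 := Finset.ne_of_mem_erase hi
      show ∏ j : ZMod p, ρ ((a ^ j.val * b) ^ i.val) y = ∏ k : ZMod p, ρ (a ^ k.val * b ^ i.val) y
      rw [← Fintype.prod_equiv (Equiv.mulRight₀ i hi0)
        (fun j => ρ ((a ^ j.val * b) ^ i.val) y) (fun k => ρ (a ^ k.val * b ^ i.val) y)]
      intro j
      show ρ ((a ^ j.val * b) ^ i.val) y = ρ (a ^ (j * i).val * b ^ i.val) y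
      rw [(hcab.pow_left j.val).mul_pow, ← pow_mul, pow_val_mul p hap]
  have hall : S (y ^ p * ∏ i : ZMod p, g i) := by
    have h1 : y ^ p * ∏ i : ZMod p, g i =
        (∏ j : ZMod p, cycNorm ρ p (a ^ j.val * b) y) * cycNorm ρ p a y := by
      rw [hkey, ← hg0, ← Finset.mul_prod_erase Finset.univ g (Finset.mem_univ (0 : ZMod p))]
      rw [mul_assoc, mul_comm (g 0)]
    rw [h1]
    exact hSmul _ _ (hSprod _ _ _ (fun j _ => hTj j)) hTa
  have hyp : S (y ^ p) := by
    have := hSmul _ _ hall (hSinv _ hP)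
    rwa [mul_inv_cancel_right] at this
  obtain ⟨k, hk⟩ := hyp
  refine ⟨k + 1, ?_⟩
  rw [pow_succ', pow_mul]
  exact hk

end Cfsg.Agent.Lib.Helper28.Camina
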