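import Mathlib
import Cfsg.Prelude.Def_Transfer
import Cfsg.Agent.Lib.Helper28.StronglyEmbedded

/-!
# Involutions with an elementary abelian centralizer of order four

Let `x` be an involution of a finite group `G` whose centralizer `V` is elementary abelian of
order `4`.  If `V` is not a Sylow `2`-subgroup, the conjugates of the central involution `z` of a
Sylow `2`-subgroup containing `V` commute pairwise, and generate a normal elementary abelian
subgroup of order `2` or `4`.
-/

set_option autoImplicit false
set_option linter.style.haveILetI false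

namespace Cfsg.Agent.Lib.Helper28

namespace CentFour

variable {G : Type*} [Group G]

/-- An involution is its own inverse. -/
theorem inv_eq_self_of_orderOf_two {a : G} (ha : orderOf a = 2) : a⁻¹ = a := by
  have h : a ^ 2 = 1 := by rw [← ha]; exact pow_orderOf_eq_one a
  rw [inv_eq_iff_mul_eq_one, ← sq]; exact h

/-- Two non-conjugate involutions are centralized by an involution which is a power of their
product. -/
theorem exists_central_invol [Finite G] {a u : G} (ha : orderOf a = 2) (hu : orderOf u = 2)
    (hnc : ∀ c : G, c * a * c⁻¹ ≠ u) :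
    ∃ w : G, orderOf w = 2 ∧ w * a = a * w ∧ w * u = u * w := by
  have hai := inv_eq_self_of_orderOf_two ha
  have hui := inv_eq_self_of_orderOf_two hu
  have hpos : 0 < orderOf (a * u) := orderOf_pos _
  have hev : Even (orderOf (a * u)) := by
    rcases Nat.even_or_odd (orderOf (a * u)) with h | h
    · exact h
    · exfalso
      obtain ⟨c, -, hc⟩ := exists_conj_of_odd_orderOf_mul ha hu h
      exact hnc c hc
  obtain ⟨m, hm⟩ := hev
  have hm0 : 0 < m := by omega
  set d := a * u with hd
  have hdm2 : (d ^ m) ^ 2 = 1 := by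
    rw [← pow_mul, show m * 2 = orderOf d by omega]; exact pow_orderOf_eq_one d
  have hdm1 : d ^ m ≠ 1 := by
    intro h
    have := orderOf_dvd_of_pow_eq_one h
    have := Nat.le_of_dvd hm0 this
    omega
  have hinv : (d ^ m)⁻¹ = d ^ m := by
    rw [inv_eq_iff_mul_eq_one, ← sq]; exact hdm2
  have haa : a * a = 1 := by rw [← sq, ← ha]; exact pow_orderOf_eq_one a
  have huu : u * u = 1 := by rw [← sq, ← hu]; exact pow_orderOf_eq_one u
  have had : a * d * a⁻¹ = d⁻¹ := by
    rw [hd, mul_inv_rev, hai, hui, ← mul_assoc, haa, one_mul]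
  have hud : u * d * u⁻¹ = d⁻¹ := by
    rw [hd, mul_inv_rev, hai, hui, mul_assoc, mul_assoc, huu, mul_one]
  have hconj : ∀ b : G, b * d * b⁻¹ = d⁻¹ → d ^ m * b = b * d ^ m := by
    intro b hb
    have h1 : b * d ^ m * b⁻¹ = (d ^ m)⁻¹ := by
      rw [← inv_pow, ← hb, conj_pow]
    rw [hinv] at h1
    calc d ^ m * b = b * d ^ m * b⁻¹ * b := by rw [h1]
      _ = b * d ^ m := by group
  refine ⟨d ^ m, ?_, hconj a had, hconj u hud⟩
  exact orderOf_eq_prime (p := 2) hdm2 hdm1

section caseA

variable [Finite G]

/-- A Sylow `2`-subgroup strictly containing `V = C(x)` has a central involution `z ≠ x`. -/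
theorem exists_central_z {x : G} (hx : orderOf x = 2) (S : Sylow 2 G)
    (hVS : Subgroup.centralizer ({x} : Set G) ≤ (S : Subgroup G))
    (hne : Subgroup.centralizer ({x} : Set G) ≠ (S : Subgroup G)) :
    ∃ z : G, orderOf z = 2 ∧ z ∈ (S : Subgroup G) ∧ z ≠ x ∧
      ∀ s ∈ (S : Subgroup G), s * z = z * s := by
  classical
  haveI : Fact (Nat.Prime 2) := ⟨Nat.prime_two⟩
  have hxV : x ∈ Subgroup.centralizer ({x} : Set G) := by
    rw [Subgroup.mem_centralizer_iff]; intro h hh; rw [Set.mem_singleton_iff.1 hh]
  have hxS : x ∈ (S : Subgroup G) := hVS hxV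
  have hx1 : x ≠ 1 := by
    intro h; rw [h, orderOf_one] at hx; omega
  haveI : Nontrivial (S : Subgroup G) :=
    ⟨⟨⟨x, hxS⟩, 1, fun h => hx1 (congrArg Subtype.val h)⟩⟩
  have hSp : IsPGroup 2 (S : Subgroup G) := S.isPGroup'
  haveI := hSp.center_nontrivial
  have hZp : IsPGroup 2 (Subgroup.center (S : Subgroup G)) := hSp.to_subgroup _
  obtain hc1 | hdvd := hZp.card_eq_or_dvd
  · exfalso
    have := Finite.one_lt_card (α := Subgroup.center (S : Subgroup G))
    omega
  obtain ⟨z0, hz0⟩ := exists_prime_orderOf_dvd_card' 2 hdvd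
  have hcen : ∀ s ∈ (S : Subgroup G), s * (z0 : (S : Subgroup G)).1 = (z0 : (S : Subgroup G)).1 * s := by
    intro s hs
    have := Subgroup.mem_center_iff.1 z0.2 ⟨s, hs⟩
    exact congrArg Subtype.val this
  refine ⟨(z0 : (S : Subgroup G)).1, ?_, (z0 : (S : Subgroup G)).2, ?_, hcen⟩
  · rw [Subgroup.orderOf_coe, Subgroup.orderOf_coe]; exact hz0
  · intro hzx
    apply hne
    apply le_antisymm hVS
    intro s hs
    rw [Subgroup.mem_centralizer_iff]
    intro h hh
    rw [Set.mem_singleton_iff.1 hh, ← hzx]
    exact (hcen s hs).symm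

/-- The four elements of `V = C(x)`. -/
theorem mem_V_cases {x z : G} (hx : orderOf x = 2) (hz : orderOf z = 2) (hzx : z ≠ x)
    (hC4 : Nat.card ↥(Subgroup.centralizer ({x} : Set G)) = 4)
    (hzV : z ∈ Subgroup.centralizer ({x} : Set G)) :
    ∀ v ∈ Subgroup.centralizer ({x} : Set G), v = 1 ∨ v = x ∨ v = z ∨ v = x * z := by
  classical
  have hx1 : x ≠ 1 := by
    intro h; rw [h, orderOf_one] at hx; omega
  have hz1 : z ≠ 1 := by
    intro h; rw [h, orderOf_one] at hz; omega
  have hxi := inv_eq_self_of_orderOf_two hx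
  have hxV : x ∈ Subgroup.centralizer ({x} : Set G) := by
    rw [Subgroup.mem_centralizer_iff]; intro h hh; rw [Set.mem_singleton_iff.1 hh]
  have hxz1 : x * z ≠ 1 := by
    intro h
    have : z = x⁻¹ := by rw [eq_inv_iff_mul_eq_one, ← h]; exact ((Subgroup.mem_centralizer_iff.1 hzV) x rfl).symm
    exact hzx (this.trans hxi)
  have h4 : ({1, x, z, x * z} : Finset G).card = 4 := by
    rw [Finset.card_insert_of_notMem, Finset.card_insert_of_notMem,
      Finset.card_insert_of_notMem, Finset.card_singleton]
    · simp only [Finset.mem_singleton]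
      intro h
      exact hx1 (by simpa using h.symm)
    · simp only [Finset.mem_insert, Finset.mem_singleton, not_or]
      refine ⟨fun h => hzx h.symm, fun h => hz1 (by simpa using h.symm)⟩
    · simp only [Finset.mem_insert, Finset.mem_singleton, not_or]
      exact ⟨fun h => hx1 h.symm, fun h => hz1 h.symm, fun h => hxz1 h.symm⟩
  have hsub : ((({1, x, z, x * z} : Finset G)) : Set G) ⊆
      ((Subgroup.centralizer ({x} : Set G) : Subgroup G) : Set G) := by
    intro v hv
    simp only [Finset.coe_insert, Finset.coe_singleton, Set.mem_insert_iff,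
      Set.mem_singleton_iff] at hv
    rcases hv with rfl | rfl | rfl | rfl
    · exact one_mem _
    · exact hxV
    · exact hzV
    · exact mul_mem hxV hzV
  have hVn : ((Subgroup.centralizer ({x} : Set G) : Subgroup G) : Set G).ncard = 4 := by
    rw [← Nat.card_coe_set_eq]; exact hC4
  have heq := Set.eq_of_subset_of_ncard_le hsub (by rw [hVn, Set.ncard_coe_finset, h4])
    (Set.toFinite _)
  intro v hv
  have : v ∈ ((({1, x, z, x * z} : Finset G)) : Set G) := by rw [heq]; exact hv
  simpa using this

/-- Normalizer growth: some `s ∈ S ∖ V` normalizes `V`. -/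
theorem exists_normalizing {x : G} (S : Sylow 2 G)
    (hVS : Subgroup.centralizer ({x} : Set G) ≤ (S : Subgroup G))
    (hne : Subgroup.centralizer ({x} : Set G) ≠ (S : Subgroup G)) :
    ∃ s ∈ (S : Subgroup G), s ∉ Subgroup.centralizer ({x} : Set G) ∧
      ∀ v, v ∈ Subgroup.centralizer ({x} : Set G) ↔
        s * v * s⁻¹ ∈ Subgroup.centralizer ({x} : Set G) := by
  haveI : Fact (Nat.Prime 2) := ⟨Nat.prime_two⟩
  haveI : Group.IsNilpotent (S : Subgroup G) := S.isPGroup'.isNilpotent
  have hnc : NormalizerCondition (S : Subgroup G) := Group.normalizerCondition_of_isNilpotent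
  set H := (Subgroup.centralizer ({x} : Set G)).subgroupOf (S : Subgroup G) with hH
  have hlt : H < ⊤ := by
    rw [lt_top_iff_ne_top, hH, Ne, Subgroup.subgroupOf_eq_top]
    intro h; exact hne (le_antisymm hVS h)
  obtain ⟨s', hs'N, hs'H⟩ := SetLike.exists_of_lt (hnc H hlt)
  refine ⟨s'.1, s'.2, ?_, ?_⟩
  · intro h; exact hs'H (Subgroup.mem_subgroupOf.2 h)
  · intro v
    rw [Subgroup.mem_normalizer_iff] at hs'N
    constructor
    · intro hv
      have := (hs'N ⟨v, hVS hv⟩).1 (Subgroup.mem_subgroupOf.2 hv)
      exact Subgroup.mem_subgroupOf.1 this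
    · intro hv
      have hvS : v ∈ (S : Subgroup G) := by
        have h1 := hVS hv
        have h2 : v = s'.1⁻¹ * (s'.1 * v * s'.1⁻¹) * s'.1 := by group
        rw [h2]
        exact mul_mem (mul_mem (inv_mem s'.2) h1) s'.2
      have := (hs'N ⟨v, hvS⟩).2 (Subgroup.mem_subgroupOf.2 hv)
      exact Subgroup.mem_subgroupOf.1 this

/-- Key step: every conjugate of the central involution `z` commutes with `z`. -/
theorem conj_z_comm {x z : G} (hx : orderOf x = 2) (hz : orderOf z = 2)
    (hC4 : Nat.card ↥(Subgroup.centralizer ({x} : Set G)) = 4)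
    (S : Sylow 2 G) (hVS : Subgroup.centralizer ({x} : Set G) ≤ (S : Subgroup G))
    (hne : Subgroup.centralizer ({x} : Set G) ≠ (S : Subgroup G))
    (hzx : z ≠ x) (hcen : ∀ s ∈ (S : Subgroup G), s * z = z * s) (g : G) :
    (g * z * g⁻¹) * z = z * (g * z * g⁻¹) := by
  have memV : ∀ v : G, v ∈ Subgroup.centralizer ({x} : Set G) ↔ x * v = v * x := by
    intro v
    rw [Subgroup.mem_centralizer_iff]
    constructor
    · intro h; exact h x rfl
    · intro h y hy; rw [Set.mem_singleton_iff.1 hy]; exact h
  have hxV : x ∈ Subgroup.centralizer ({x} : Set G) := (memV x).2 rfl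
  have hxS : x ∈ (S : Subgroup G) := hVS hxV
  have hzV : z ∈ Subgroup.centralizer ({x} : Set G) := (memV z).2 (hcen x hxS)
  have hx1 : x ≠ 1 := by
    intro h; rw [h, orderOf_one] at hx; omega
  have hz1 : z ≠ 1 := by
    intro h; rw [h, orderOf_one] at hz; omega
  have cases := mem_V_cases hx hz hzx hC4 hzV
  obtain ⟨s, hsS, hsV, hsN⟩ := exists_normalizing S hVS hne
  have hsz : s * z * s⁻¹ = z := by rw [hcen s hsS]; group
  have hsx : s * x * s⁻¹ = x * z := by
    rcases cases _ ((hsN x).1 hxV) with h | h | h | h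
    · exfalso; apply hx1
      have : x = s⁻¹ * (s * x * s⁻¹) * s := by group
      rw [this, h]; group
    · exfalso; apply hsV
      rw [memV]
      calc x * s = (s * x * s⁻¹) * s := by rw [h]
        _ = s * x := by group
    · exfalso; apply hzx
      have h2 : s * z * s⁻¹ = s * x * s⁻¹ := by rw [hsz, h]
      simpa using h2
    · exact h
  have hnc : ∀ c : G, c * x * c⁻¹ ≠ z := by
    intro c hc
    apply hne
    apply Subgroup.eq_of_le_of_card_ge hVS
    have hmem : ∀ t : (S : Subgroup G), c⁻¹ * t.1 * c ∈ Subgroup.centralizer ({x} : Set G) := by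
      intro t
      rw [memV]
      have h1 : t.1 * z = z * t.1 := hcen t.1 t.2
      have hx' : x = c⁻¹ * z * c := by rw [← hc]; group
      rw [hx']
      calc c⁻¹ * z * c * (c⁻¹ * t.1 * c) = c⁻¹ * (z * t.1) * c := by group
        _ = c⁻¹ * (t.1 * z) * c := by rw [h1]
        _ = c⁻¹ * t.1 * c * (c⁻¹ * z * c) := by group
    apply Nat.card_le_card_of_injective
      (fun t : (S : Subgroup G) => (⟨c⁻¹ * t.1 * c, hmem t⟩ : Subgroup.centralizer ({x} : Set G)))
    intro t1 t2 h
    have h2 : c⁻¹ * t1.1 * c = c⁻¹ * t2.1 * c := congrArg Subtype.val h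
    apply Subtype.ext
    simpa using h2
  have hncxz : ∀ c : G, c * (x * z) * c⁻¹ ≠ z := by
    intro c hc
    apply hnc (c * s)
    rw [← hc, ← hsx]; group
  have memV_u : ∀ c : G, c * z * c⁻¹ ∈ Subgroup.centralizer ({x} : Set G) →
      c * z * c⁻¹ = z := by
    intro c hcV
    rcases cases _ hcV with h | h | h | h
    · exfalso; apply hz1
      have : z = c⁻¹ * (c * z * c⁻¹) * c := by group
      rw [this, h]; group
    · exfalso; apply hnc c⁻¹
      rw [← h]; group
    · exact h
    · exfalso; apply hncxz c⁻¹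
      rw [← h]; group
  set u := g * z * g⁻¹ with hu_def
  have hu : orderOf u = 2 := by
    have : u = MulAut.conj g z := by rw [MulAut.conj_apply]
    rw [this, MulEquiv.orderOf_eq]; exact hz
  have hncu : ∀ c : G, c * x * c⁻¹ ≠ u := by
    intro c hc
    apply hnc (g⁻¹ * c)
    have : z = g⁻¹ * u * g := by rw [hu_def]; group
    rw [this, ← hc]; group
  obtain ⟨w, hw2, hwx, hwu⟩ := exists_central_invol hx hu hncu
  have hwV : w ∈ Subgroup.centralizer ({x} : Set G) := (memV w).2 hwx.symm
  rcases cases w hwV with h | h | h | h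
  · exfalso; rw [h, orderOf_one] at hw2; omega
  · rw [h] at hwu
    have huV : u ∈ Subgroup.centralizer ({x} : Set G) := (memV u).2 hwu
    have huz : u = z := memV_u g huV
    rw [huz]
  · rw [h] at hwu; exact hwu.symm
  · rw [h, ← hsx] at hwu
    have h1 : s⁻¹ * u * s ∈ Subgroup.centralizer ({x} : Set G) := by
      rw [memV]
      calc x * (s⁻¹ * u * s) = s⁻¹ * (s * x * s⁻¹ * u) * s := by group
        _ = s⁻¹ * (u * (s * x * s⁻¹)) * s := by rw [hwu]
        _ = s⁻¹ * u * s * x := by group
    have huV : u ∈ Subgroup.centralizer ({x} : Set G) := by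
      have := (hsN _).1 h1
      have h2 : s * (s⁻¹ * u * s) * s⁻¹ = u := by group
      rwa [h2] at this
    have huz : u = z := memV_u g huV
    rw [huz]

/-- Case A: if `V = C(x)` has order four but is not a Sylow `2`-subgroup then `G` has a normal
elementary abelian subgroup of order `2` or `4`. -/
theorem caseA {x : G} (hx : orderOf x = 2)
    (hC4 : Nat.card ↥(Subgroup.centralizer ({x} : Set G)) = 4)
    (S : Sylow 2 G) (hVS : Subgroup.centralizer ({x} : Set G) ≤ (S : Subgroup G))
    (hne : Subgroup.centralizer ({x} : Set G) ≠ (S : Subgroup G)) :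
    ∃ E : Subgroup G, E.Normal ∧ Cfsg.IsElementaryAbelian 2 E ∧
      (Nat.card E = 2 ∨ Nat.card E = 4) := by
  classical
  obtain ⟨z, hz, hzS, hzx, hcen⟩ := exists_central_z hx S hVS hne
  have memV : ∀ v : G, v ∈ Subgroup.centralizer ({x} : Set G) ↔ x * v = v * x := by
    intro v
    rw [Subgroup.mem_centralizer_iff]
    constructor
    · intro h; exact h x rfl
    · intro h y hy; rw [Set.mem_singleton_iff.1 hy]; exact h
  have hxV : x ∈ Subgroup.centralizer ({x} : Set G) := (memV x).2 rfl
  have hxS : x ∈ (S : Subgroup G) := hVS hxV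
  have hzV : z ∈ Subgroup.centralizer ({x} : Set G) := (memV z).2 (hcen x hxS)
  have hxz : x * z = z * x := hcen x hxS
  have hz1 : z ≠ 1 := by
    intro h; rw [h, orderOf_one] at hz; omega
  have hzz : z * z = 1 := by rw [← sq, ← hz]; exact pow_orderOf_eq_one z
  have hxi := inv_eq_self_of_orderOf_two hx
  have cases := mem_V_cases hx hz hzx hC4 hzV
  have key := conj_z_comm hx hz hC4 S hVS hne hzx hcen
  set E := Subgroup.normalClosure ({z} : Set G) with hE
  have hgen : ∀ a ∈ Group.conjugatesOfSet ({z} : Set G), ∃ c : G, a = c * z * c⁻¹ := by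
    intro a ha
    obtain ⟨b, hb, hba⟩ := Group.mem_conjugatesOfSet_iff.1 ha
    rw [Set.mem_singleton_iff.1 hb, isConj_iff] at hba
    obtain ⟨c, hc⟩ := hba
    exact ⟨c, hc.symm⟩
  have hcomm_gen : ∀ a ∈ Group.conjugatesOfSet ({z} : Set G),
      ∀ b ∈ Group.conjugatesOfSet ({z} : Set G), a * b = b * a := by
    intro a ha b hb
    obtain ⟨c, rfl⟩ := hgen a ha
    obtain ⟨d, rfl⟩ := hgen b hb
    have h := key (d⁻¹ * c)
    calc c * z * c⁻¹ * (d * z * d⁻¹)
        = d * ((d⁻¹ * c) * z * (d⁻¹ * c)⁻¹ * z) * d⁻¹ := by group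
      _ = d * (z * ((d⁻¹ * c) * z * (d⁻¹ * c)⁻¹)) * d⁻¹ := by rw [h]
      _ = d * z * d⁻¹ * (c * z * c⁻¹) := by group
  haveI hEc : IsMulCommutative E := Subgroup.isMulCommutative_closure hcomm_gen
  have hEcomm : ∀ a ∈ E, ∀ b ∈ E, a * b = b * a := fun a ha b hb => setLike_mul_comm ha hb
  have hEn : E.Normal := Subgroup.normalClosure_normal
  have hzE : z ∈ E := Subgroup.subset_normalClosure rfl
  have hEexp : ∀ a ∈ E, a ^ 2 = 1 := by
    intro a ha
    have hmem : a ∈ Subgroup.closure (Group.conjugatesOfSet ({z} : Set G)) := ha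
    induction hmem using Subgroup.closure_induction with
    | mem y hy =>
      obtain ⟨c, rfl⟩ := hgen y hy
      rw [conj_pow, sq, hzz]; group
    | one => simp
    | mul y y' hy hy' ihy ihy' =>
      have hc : Commute y y' := hEcomm y hy y' hy'
      rw [hc.mul_pow, ihy hy, ihy' hy', one_mul]
    | inv y hy ihy => rw [inv_pow, ihy hy, inv_one]
  refine ⟨E, hEn, ⟨hEc, hEexp⟩, ?_⟩
  have hdvd : 2 ∣ Nat.card E := by
    rw [← hz]; exact Subgroup.orderOf_dvd_natCard E hzE
  have hpos : 0 < Nat.card E := Nat.card_pos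
  have hle : Nat.card E ≤ 4 := by
    by_cases hxE : x ∈ E
    · have hEV : E ≤ Subgroup.centralizer ({x} : Set G) := by
        intro e he
        rw [memV]; exact hEcomm x hxE e he
      calc Nat.card E ≤ Nat.card (Subgroup.centralizer ({x} : Set G)) :=
            Subgroup.card_le_of_le hEV
        _ = 4 := hC4
    · have hxzE : x * z ∉ E := by
        intro h
        apply hxE
        have : x = x * z * z := by rw [mul_assoc, hzz, mul_one]
        rw [this]; exact mul_mem h hzE
      -- elements of `E ∩ V`
      have hEV : ∀ e ∈ E, e ∈ Subgroup.centralizer ({x} : Set G) → e = 1 ∨ e = z := by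
        intro e he heV
        rcases cases e heV with h | h | h | h
        · exact Or.inl h
        · exact absurd (h ▸ he) hxE
        · exact Or.inr h
        · exact absurd (h ▸ he) hxzE
      have hinvE : ∀ e ∈ E, e⁻¹ = e := by
        intro e he
        rw [inv_eq_iff_mul_eq_one, ← sq]; exact hEexp e he
      have hdich : ∀ e ∈ E, (e = 1 ∨ e = z) ∨ x * e * x⁻¹ = e * z := by
        intro e he
        have hce : x * e * x⁻¹ ∈ E := hEn.conj_mem e he x
        have hprod : e * (x * e * x⁻¹) ∈ E := mul_mem he hce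
        have hprodV : e * (x * e * x⁻¹) ∈ Subgroup.centralizer ({x} : Set G) := by
          rw [memV]
          have h1 : e * (x * e * x⁻¹) = (x * e * x⁻¹) * e := hEcomm e he _ hce
          have hxx : x * x = 1 := by rw [← sq, ← hx]; exact pow_orderOf_eq_one x
          calc x * (e * (x * e * x⁻¹)) = x * e * x⁻¹ * (x * (x * e * x⁻¹) * x⁻¹) * x := by group
            _ = x * e * x⁻¹ * (x * x * e * (x * x)⁻¹) * x := by group
            _ = x * e * x⁻¹ * e * x := by rw [hxx]; group
            _ = e * (x * e * x⁻¹) * x := by rw [← h1]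
        rcases hEV _ hprod hprodV with h | h
        · left
          apply hEV e he
          rw [memV]
          have h2 : x * e * x⁻¹ = e⁻¹ := by rw [eq_inv_iff_mul_eq_one, ← h]; exact (hEcomm e he _ hce).symm
          rw [hinvE e he] at h2
          calc x * e = x * e * x⁻¹ * x := by group
            _ = e * x := by rw [h2]
        · right
          have h2 : x * e * x⁻¹ = e⁻¹ * z := by rw [← h]; group
          rw [h2, hinvE e he]
      by_cases hall : ∀ e ∈ E, e = 1 ∨ e = z
      · have hsub : (E : Set G) ⊆ (({1, z} : Finset G) : Set G) := by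
          intro e he
          rcases hall e he with h | h <;> simp [h]
        calc Nat.card E = (E : Set G).ncard := (Nat.card_coe_set_eq _)
          _ ≤ ((({1, z} : Finset G)) : Set G).ncard := Set.ncard_le_ncard hsub (Set.toFinite _)
          _ = ({1, z} : Finset G).card := Set.ncard_coe_finset _
          _ ≤ 2 := Finset.card_le_two
          _ ≤ 4 := by norm_num
      · push Not at hall
        obtain ⟨e1, he1, he11, he1z⟩ := hall
        have hxe1 : x * e1 * x⁻¹ = e1 * z := by
          rcases hdich e1 he1 with h | h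
          · rcases h with h | h
            · exact absurd h he11
            · exact absurd h he1z
          · exact h
        have hsub : (E : Set G) ⊆ (({1, z, e1, e1 * z} : Finset G) : Set G) := by
          intro e he
          rcases hdich e he with h | h
          · rcases h with h | h <;> simp [h]
          · have hprod : e1 * e ∈ E := mul_mem he1 he
            have hfix : x * (e1 * e) * x⁻¹ = e1 * e := by
              calc x * (e1 * e) * x⁻¹ = (x * e1 * x⁻¹) * (x * e * x⁻¹) := by group
                _ = e1 * z * (e * z) := by rw [hxe1, h]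
                _ = e1 * (z * e) * z := by group
                _ = e1 * (e * z) * z := by rw [hEcomm z hzE e he]
                _ = e1 * e * (z * z) := by group
                _ = e1 * e := by rw [hzz, mul_one]
            rcases hdich _ hprod with h' | h'
            · rcases h' with h' | h'
              · have : e = e1 := by
                  have h3 : e = e1⁻¹ := by rw [eq_inv_iff_mul_eq_one]; rw [← h']; exact hEcomm e he e1 he1
                  rw [h3, hinvE e1 he1]
                simp [this]
              · have : e = e1 * z := by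
                  have h3 : e = e1⁻¹ * z := by rw [← h']; group
                  rw [h3, hinvE e1 he1]
                simp [this]
            · exfalso
              rw [hfix] at h'
              apply hz1
              have : e1 * e * z = e1 * e * 1 := by rw [mul_one]; exact h'.symm
              exact mul_left_cancel this
        calc Nat.card E = (E : Set G).ncard := (Nat.card_coe_set_eq _)
          _ ≤ ((({1, z, e1, e1 * z} : Finset G)) : Set G).ncard :=
              Set.ncard_le_ncard hsub (Set.toFinite _)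
          _ = ({1, z, e1, e1 * z} : Finset G).card := Set.ncard_coe_finset _
          _ ≤ 4 := Finset.card_le_four
  have hcases : Nat.card E = 1 ∨ Nat.card E = 2 ∨ Nat.card E = 3 ∨ Nat.card E = 4 := by omega
  rcases hcases with h | h | h | h
  · omega
  · exact Or.inl h
  · omega
  · exact Or.inr h

end caseA

section caseB

open scoped Pointwise

variable [Finite G]

/-- Every involution is conjugate into a given Sylow `2`-subgroup. -/
theorem exists_conj_mem_sylow_two (S : Sylow 2 G) {t : G} (ht : orderOf t = 2) :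
    ∃ c : G, c * t * c⁻¹ ∈ (S : Subgroup G) := by
  haveI : Fact (Nat.Prime 2) := ⟨Nat.prime_two⟩
  have hzp : IsPGroup 2 (Subgroup.zpowers t) := by
    apply IsPGroup.of_card (n := 1); rw [Nat.card_zpowers, ht, pow_one]
  obtain ⟨Q, hQ⟩ := hzp.exists_le_sylow
  obtain ⟨c, hc⟩ := MulAction.exists_smul_eq G Q S
  refine ⟨c, ?_⟩
  have htQ : t ∈ (Q : Subgroup G) := hQ (Subgroup.mem_zpowers t)
  have h1 : MulAut.conj c • t ∈ MulAut.conj c • (Q : Subgroup G) :=
    Subgroup.smul_mem_pointwise_smul _ _ _ htQ
  rw [← Sylow.coe_subgroup_smul, hc, MulAut.smul_def, MulAut.conj_apply] at h1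
  exact h1

/-- Case B: if `V = C(x)` is a Sylow `2`-subgroup and `G` has no normal `2`-complement, then all
involutions of `G` are conjugate to `x`. -/
theorem caseB_conj {x : G} (hx : orderOf x = 2)
    (hC4 : Nat.card ↥(Subgroup.centralizer ({x} : Set G)) = 4)
    (hCe : ∀ c ∈ Subgroup.centralizer ({x} : Set G), c ^ 2 = 1)
    (S : Sylow 2 G) (hVS : Subgroup.centralizer ({x} : Set G) = (S : Subgroup G))
    (hnc : ¬ Cfsg.HasNormalPComplement 2 G) :
    ∀ t : G, orderOf t = 2 → ∃ c : G, c * x * c⁻¹ = t := by
  haveI : Fact (Nat.Prime 2) := ⟨Nat.prime_two⟩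
  have memV : ∀ v : G, v ∈ Subgroup.centralizer ({x} : Set G) ↔ x * v = v * x := by
    intro v
    rw [Subgroup.mem_centralizer_iff]
    constructor
    · intro h; exact h x rfl
    · intro h y hy; rw [Set.mem_singleton_iff.1 hy]; exact h
  have hxV : x ∈ Subgroup.centralizer ({x} : Set G) := (memV x).2 rfl
  have hx1 : x ≠ 1 := by
    intro h; rw [h, orderOf_one] at hx; omega
  have hinvV : ∀ a ∈ Subgroup.centralizer ({x} : Set G), a⁻¹ = a := by
    intro a ha
    rw [inv_eq_iff_mul_eq_one, ← sq]; exact hCe a ha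
  have hVcomm : ∀ a ∈ Subgroup.centralizer ({x} : Set G),
      ∀ b ∈ Subgroup.centralizer ({x} : Set G), a * b = b * a := by
    intro a ha b hb
    have h1 := hinvV _ (mul_mem ha hb)
    rw [mul_inv_rev, hinvV a ha, hinvV b hb] at h1
    exact h1.symm
  -- an element of the normalizer outside `S`
  have hex : ∃ g ∈ Subgroup.normalizer ((S : Subgroup G) : Set G), g ∉ (S : Subgroup G) := by
    by_contra hcon
    push Not at hcon
    apply hnc
    have hP : Subgroup.normalizer ((S : Subgroup G) : Set G) ≤
        Subgroup.centralizer ((S : Subgroup G) : Set G) := by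
      intro g hg
      have hgS := hcon g hg
      rw [Subgroup.mem_centralizer_iff]
      intro h hh
      have hh' : h ∈ (S : Subgroup G) := hh
      rw [← hVS] at hh' hgS
      exact hVcomm h hh' g hgS
    exact ⟨S, (MonoidHom.transferSylow S hP).ker, MonoidHom.normal_ker _,
      MonoidHom.ker_transferSylow_isComplement' S hP⟩
  obtain ⟨g, hgN, hgS⟩ := hex
  rw [Subgroup.mem_normalizer_iff] at hgN
  have hgV : g ∉ Subgroup.centralizer ({x} : Set G) := by rw [hVS]; exact hgS
  have hconjV : ∀ v ∈ Subgroup.centralizer ({x} : Set G),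
      g * v * g⁻¹ ∈ Subgroup.centralizer ({x} : Set G) := by
    intro v hv
    rw [hVS] at hv ⊢
    exact (hgN v).1 hv
  set x1 := g * x * g⁻¹ with hx1_def
  have hx1V : x1 ∈ Subgroup.centralizer ({x} : Set G) := hconjV x hxV
  have hx1o : orderOf x1 = 2 := by
    have : x1 = MulAut.conj g x := by rw [MulAut.conj_apply]
    rw [this, MulEquiv.orderOf_eq]; exact hx
  have hx1x : x1 ≠ x := by
    intro h
    apply hgV
    rw [memV]
    calc x * g = x1 * g := by rw [h]
      _ = g * x := by rw [hx1_def]; group
  have cases := mem_V_cases hx hx1o hx1x hC4 hx1V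
  set x2 := g * x1 * g⁻¹ with hx2_def
  have hx2V : x2 ∈ Subgroup.centralizer ({x} : Set G) := hconjV x1 hx1V
  have hx2 : x2 = x * x1 := by
    rcases cases x2 hx2V with h | h | h | h
    · exfalso
      apply hx1
      have : x = g⁻¹ * g⁻¹ * x2 * g * g := by rw [hx2_def, hx1_def]; group
      rw [this, h]; group
    · exfalso
      -- `g * g` centralizes `x`, so `g` lies in a `2`-group containing `S`
      have hgg : g * g ∈ Subgroup.centralizer ({x} : Set G) := by
        rw [memV]
        calc x * (g * g) = x2 * (g * g) := by rw [h]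
          _ = g * g * x := by rw [hx2_def, hx1_def]; group
      have hg4 : g ^ 4 = 1 := by
        have := hCe _ hgg
        rw [← this, ← sq, ← pow_mul]
      have hzp : IsPGroup 2 (Subgroup.zpowers g) := by
        intro y
        refine ⟨2, ?_⟩
        obtain ⟨k, hk⟩ := Subgroup.mem_zpowers_iff.1 y.2
        apply Subtype.ext
        rw [Subgroup.coe_pow, ← hk, Subgroup.coe_one]
        have : (g ^ k) ^ 2 ^ 2 = (g ^ 4) ^ k := by
          rw [show (2:ℕ) ^ 2 = 4 by norm_num]; rw [← zpow_natCast, ← zpow_natCast, ← zpow_mul, ← zpow_mul, mul_comm]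
        rw [this, hg4, one_zpow]
      have hle : Subgroup.zpowers g ≤ Subgroup.normalizer ((S : Subgroup G) : Set G) := by
        rw [Subgroup.zpowers_le, Subgroup.mem_normalizer_iff]; exact hgN
      have hsup := IsPGroup.to_sup_of_normal_right' hzp S.isPGroup' hle
      have heq := S.is_maximal' hsup le_sup_right
      apply hgS
      rw [← heq]
      exact (le_sup_left : Subgroup.zpowers g ≤ _) (Subgroup.mem_zpowers g)
    · exfalso
      apply hx1x
      have h2 : g * x1 * g⁻¹ = g * x * g⁻¹ := h
      simpa using h2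
    · exact h
  -- all involutions
  intro t ht
  obtain ⟨c, hc⟩ := exists_conj_mem_sylow_two S ht
  rw [← hVS] at hc
  have hco : orderOf (c * t * c⁻¹) = 2 := by
    have : c * t * c⁻¹ = MulAut.conj c t := by rw [MulAut.conj_apply]
    rw [this, MulEquiv.orderOf_eq]; exact ht
  rcases cases _ hc with h | h | h | h
  · exfalso; rw [h, orderOf_one] at hco; omega
  · refine ⟨c⁻¹, ?_⟩
    rw [← h]; group
  · refine ⟨c⁻¹ * g, ?_⟩
    have : t = c⁻¹ * x1 * c := by rw [← h]; group
    rw [this, hx1_def]; group
  · refine ⟨c⁻¹ * (g * g), ?_⟩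
    have : t = c⁻¹ * x2 * c := by rw [hx2, ← h]; group
    rw [this, hx2_def, hx1_def]; group

end caseB

end CentFour

end Cfsg.Agent.Lib.Helper28
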