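import Cfsg.Agent.Lib.Helper28.FStar

set_option autoImplicit false

namespace Cfsg.Agent.Lib.Helper28

open scoped Pointwise commutatorElement

/-- The "centre" of a subgroup viewed in the ambient group. -/
def zOf {G : Type*} [Group G] (H : Subgroup G) : Subgroup G :=
  H ⊓ Subgroup.centralizer (H : Set G)

theorem zOf_eq_map_center {G : Type*} [Group G] (H : Subgroup G) :
    (Subgroup.center ↥H).map H.subtype = zOf H :=
  Cfsg.Agent.Lib.Helper30.map_center_subtype H

/-- The centre of a central product lies in the product of the centres. -/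
theorem zOf_sup_le {G : Type*} [Group G] (A B : Subgroup G) (h : ⁅A, B⁆ = ⊥) :
    zOf (A ⊔ B) ≤ zOf A ⊔ zOf B := by
  have hAB : A ≤ Subgroup.centralizer (B : Set G) :=
    Subgroup.commutator_eq_bot_iff_le_centralizer.1 h
  have hBA : B ≤ Subgroup.centralizer (A : Set G) := Subgroup.le_centralizer_iff.1 hAB
  intro z hz
  obtain ⟨hz1, hz2⟩ := Subgroup.mem_inf.1 hz
  have hz1' : z ∈ ((A : Subgroup G) : Set G) * (B : Set G) := by
    rw [← Subgroup.coe_mul_of_left_le_normalizer_right A B
      (hAB.trans (Subgroup.centralizer_le_normalizer _))]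
    exact hz1
  obtain ⟨a, ha, b, hb, rfl⟩ := hz1'
  have ha' : a ∈ zOf A := by
    refine Subgroup.mem_inf.2 ⟨ha, ?_⟩
    rw [Subgroup.mem_centralizer_iff]
    intro x hx
    have h1 : x * (a * b) = (a * b) * x :=
      Subgroup.mem_centralizer_iff.1 hz2 x (Subgroup.mem_sup_left hx)
    have h2 : x * b = b * x := Subgroup.mem_centralizer_iff.1 (hBA hb) x hx
    calc x * a = x * (a * b) * b⁻¹ := by group
      _ = a * b * x * b⁻¹ := by rw [h1]
      _ = a * (b * x) * b⁻¹ := by group
      _ = a * (x * b) * b⁻¹ := by rw [h2]
      _ = a * x := by group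
  have hb' : b ∈ zOf B := by
    refine Subgroup.mem_inf.2 ⟨hb, ?_⟩
    rw [Subgroup.mem_centralizer_iff]
    intro y hy
    have h1 : y * (a * b) = (a * b) * y :=
      Subgroup.mem_centralizer_iff.1 hz2 y (Subgroup.mem_sup_right hy)
    have h2 : y * a = a * y := Subgroup.mem_centralizer_iff.1 (hAB ha) y hy
    calc y * b = a⁻¹ * (a * y) * b := by group
      _ = a⁻¹ * (y * a) * b := by rw [h2]
      _ = a⁻¹ * (y * (a * b)) := by group
      _ = a⁻¹ * (a * b * y) := by rw [h1]
      _ = b * y := by group
  exact Subgroup.mul_mem _ (Subgroup.mem_sup_left ha') (Subgroup.mem_sup_right hb')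

/-- The centre of a product of pairwise commuting subgroups. -/
theorem zOf_finset_sup_le {G : Type*} [Group G] (s : Finset (Subgroup G))
    (h : ∀ L ∈ s, ∀ L' ∈ s, L ≠ L' → ⁅L, L'⁆ = ⊥) :
    zOf (s.sup id) ≤ s.sup zOf := by
  classical
  induction s using Finset.induction_on with
  | empty =>
    intro z hz
    have : z ∈ (⊥ : Subgroup G) := by
      have := (Subgroup.mem_inf.1 hz).1
      simpa using this
    rw [Subgroup.mem_bot] at this
    subst this
    exact Subgroup.one_mem _
  | insert L s hL ih =>
    rw [Finset.sup_insert, Finset.sup_insert]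
    have hcomm : ⁅id L, s.sup id⁆ = ⊥ := by
      rw [Subgroup.commutator_comm, Subgroup.commutator_eq_bot_iff_le_centralizer]
      apply Finset.sup_le
      intro L' hL'
      rw [id, ← Subgroup.commutator_eq_bot_iff_le_centralizer]
      apply h L' (Finset.mem_insert_of_mem hL') L (Finset.mem_insert_self L s)
      rintro rfl
      exact hL hL'
    refine (zOf_sup_le _ _ hcomm).trans (sup_le_sup le_rfl (ih ?_))
    intro K hK K' hK' hne
    exact h K (Finset.mem_insert_of_mem hK) K' (Finset.mem_insert_of_mem hK') hne

/-- `Z(E(G))` is generated by the centres of the components. -/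
theorem center_layer_eq_iSup {G : Type*} [Group G] [Finite G] :
    (Subgroup.center ↥(Cfsg.layer G)).map (Cfsg.layer G).subtype =
      ⨆ L : {K : Subgroup G // Cfsg.IsComponent K},
        (Subgroup.center ↥(L : Subgroup G)).map (L : Subgroup G).subtype := by
  classical
  simp only [zOf_eq_map_center]
  apply le_antisymm
  · have hfin : {K : Subgroup G | Cfsg.IsComponent K}.Finite := Set.toFinite _
    have hsup : hfin.toFinset.sup id = Cfsg.layer G := by
      rw [Finset.sup_id_eq_sSup, Set.Finite.coe_toFinset]
      rfl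
    rw [← hsup]
    refine (zOf_finset_sup_le _ ?_).trans ?_
    · intro L hL L' hL' hne
      rw [Set.Finite.mem_toFinset] at hL hL'
      exact Cfsg.Agent.Lib.Helper30.component_commute hL hL' hne
    · apply Finset.sup_le
      intro L hL
      rw [Set.Finite.mem_toFinset] at hL
      exact le_iSup (fun L : {K : Subgroup G // Cfsg.IsComponent K} => zOf (L : Subgroup G)) ⟨L, hL⟩
  · apply iSup_le
    rintro ⟨L, hL⟩
    apply le_inf
    · exact inf_le_left.trans (component_le_layer hL)
    · rw [← Subgroup.commutator_eq_bot_iff_le_centralizer, Subgroup.commutator_comm]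
      apply Cfsg.Agent.Lib.Helper30.layer_commute
      intro K hK
      by_cases hKL : K = L
      · subst hKL
        rw [Subgroup.commutator_comm, Subgroup.commutator_eq_bot_iff_le_centralizer]
        exact inf_le_right
      · rw [eq_bot_iff, ← Cfsg.Agent.Lib.Helper30.component_commute hK hL hKL]
        exact Subgroup.commutator_mono le_rfl inf_le_left

end Cfsg.Agent.Lib.Helper28
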