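import Cfsg.Agent.Lib.Helper28.FStarP

set_option autoImplicit false

namespace Cfsg.Agent.Lib.Helper28

open scoped Pointwise commutatorElement

theorem normalizer_le_normalizer_centralizer {G : Type*} [Group G] (V : Subgroup G) :
    Subgroup.normalizer (V : Set G) ≤
      Subgroup.normalizer ((Subgroup.centralizer (V : Set G) : Subgroup G) : Set G) :=
  (Subgroup.normal_subgroupOf_iff_le_normalizer (Subgroup.centralizer_le_normalizer _)).1
    (Subgroup.normal_subgroupOf_centralizer_normalizer _)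

/-- Normal case: `V ⊴ U` `p`-groups, `F*(C_G(V))` a `p`-group ⟹ `F*(C_G(U))` a `p`-group. -/
theorem fStarP_centralizer_of_normal {G : Type*} [Group G] [Finite G] (p : ℕ) [Fact p.Prime]
    (U V : Subgroup G) (hVU : V ≤ U) (hnorm : U ≤ Subgroup.normalizer (V : Set G))
    (hU : IsPGroup p ↥U) (hV : FStarP p ↥(Subgroup.centralizer (V : Set G))) :
    FStarP p ↥(Subgroup.centralizer (U : Set G)) := by
  set H := Subgroup.centralizer (V : Set G) with hH
  set T := H ⊔ U with hT
  have hHT : H ≤ T := le_sup_left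
  have hUT : U ≤ T := le_sup_right
  have hTN : T ≤ Subgroup.normalizer (H : Set G) :=
    sup_le Subgroup.le_normalizer (hnorm.trans (normalizer_le_normalizer_centralizer V))
  have hHn : (H.subgroupOf T).Normal := (Subgroup.normal_subgroupOf_iff_le_normalizer hHT).2 hTN
  have h1 : FStarP p ↥(H.subgroupOf T) :=
    fStarP_of_mulEquiv p (Subgroup.subgroupOfEquivOfLe hHT).symm hV
  have hU' : IsPGroup p ↥(U.subgroupOf T) :=
    hU.comap_of_injective _ (Subgroup.subtype_injective _)
  have hsup : H.subgroupOf T ⊔ U.subgroupOf T = ⊤ := by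
    rw [← Subgroup.subgroupOf_sup hHT hUT]
    exact Subgroup.subgroupOf_self T
  have h2 : FStarP p ↥T := fStarP_of_normal_sup p (H.subgroupOf T) (U.subgroupOf T) hU' hsup h1
  have h3 := fStarP_normalizer p h2 (U.subgroupOf T) hU'
  set M := Subgroup.normalizer ((U.subgroupOf T : Subgroup ↥T) : Set ↥T) with hM
  set D₀ := Subgroup.centralizer ((U.subgroupOf T : Subgroup ↥T) : Set ↥T) with hD₀
  have hD₀M : D₀ ≤ M := Subgroup.centralizer_le_normalizer _
  have hDn : (D₀.subgroupOf M).Normal := Subgroup.normal_subgroupOf_centralizer_normalizer _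
  have h4 : FStarP p ↥(D₀.subgroupOf M) := fStarP_normal p (D₀.subgroupOf M) h3
  have h5 : FStarP p ↥D₀ := fStarP_of_mulEquiv p (Subgroup.subgroupOfEquivOfLe hD₀M) h4
  have hCT : Subgroup.centralizer (U : Set G) ≤ T :=
    (Subgroup.centralizer_le hVU).trans hHT
  have hD₀eq : D₀ = (Subgroup.centralizer (U : Set G)).subgroupOf T := by
    ext x
    rw [hD₀, Subgroup.mem_subgroupOf, Subgroup.mem_centralizer_iff, Subgroup.mem_centralizer_iff]
    constructor
    · intro hx u hu
      have := hx ⟨u, hUT hu⟩ (by rw [SetLike.mem_coe, Subgroup.mem_subgroupOf]; exact hu)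
      exact congrArg Subtype.val this
    · intro hx u hu
      rw [SetLike.mem_coe, Subgroup.mem_subgroupOf] at hu
      exact Subtype.ext (hx u hu)
  rw [hD₀eq] at h5
  exact fStarP_of_mulEquiv p (Subgroup.subgroupOfEquivOfLe hCT) h5

/-- `V ≤ U` `p`-groups, `F*(C_G(V))` a `p`-group ⟹ `F*(C_G(U))` a `p`-group. -/
theorem fStarP_centralizer_mono {G : Type*} [Group G] [Finite G] (p : ℕ) [Fact p.Prime]
    (U V : Subgroup G) (hVU : V ≤ U) (hU : IsPGroup p ↥U)
    (hV : FStarP p ↥(Subgroup.centralizer (V : Set G))) :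
    FStarP p ↥(Subgroup.centralizer (U : Set G)) := by
  obtain ⟨W, hVW, hWmax⟩ := Finite.exists_le_maximal
    (p := fun W : Subgroup G => V ≤ W ∧ W ≤ U ∧ FStarP p ↥(Subgroup.centralizer (W : Set G)))
    (a := V) ⟨le_rfl, hVU, hV⟩
  obtain ⟨⟨_, hWU, hWF⟩, hmax⟩ := hWmax
  suffices h : W = U by rw [← h]; exact hWF
  by_contra hne
  have hlt : W.subgroupOf U < ⊤ := by
    rw [lt_top_iff_ne_top, Ne, Subgroup.subgroupOf_eq_top]
    intro h; exact hne (le_antisymm hWU h)
  have : Group.IsNilpotent U := hU.isNilpotent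
  have hnc := Group.normalizerCondition_of_isNilpotent (G := U) (W.subgroupOf U) hlt
  obtain ⟨x, hxN, hxW⟩ := SetLike.exists_of_lt hnc
  set W' := U ⊓ Subgroup.normalizer (W : Set G) with hW'
  have hxW' : (x : G) ∈ W' := by
    refine Subgroup.mem_inf.2 ⟨x.2, ?_⟩
    rw [Subgroup.mem_normalizer_iff]
    intro y
    constructor
    · intro hy
      have := (Subgroup.mem_normalizer_iff.1 hxN ⟨y, hWU hy⟩).1
        (by rw [Subgroup.mem_subgroupOf]; exact hy)
      rw [Subgroup.mem_subgroupOf] at this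
      simpa using this
    · intro hy
      have hyU : y ∈ U := by
        have h1 : (x : G) * y * (x : G)⁻¹ ∈ U := hWU hy
        have : y = (x : G)⁻¹ * ((x : G) * y * (x : G)⁻¹) * (x : G) := by group
        rw [this]
        exact U.mul_mem (U.mul_mem (U.inv_mem x.2) h1) x.2
      have := (Subgroup.mem_normalizer_iff.1 hxN ⟨y, hyU⟩).2
        (by rw [Subgroup.mem_subgroupOf]; simpa using hy)
      rw [Subgroup.mem_subgroupOf] at this
      exact this
  have hWW' : W ≤ W' := le_inf hWU Subgroup.le_normalizer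
  have hW'F : FStarP p ↥(Subgroup.centralizer (W' : Set G)) :=
    fStarP_centralizer_of_normal p W' W hWW' inf_le_right (hU.to_le inf_le_left) hWF
  have h8 : W' ≤ W := hmax ⟨hVW.trans hWW', inf_le_left, hW'F⟩ hWW'
  apply hxW
  rw [Subgroup.mem_subgroupOf]
  exact h8 hxW'

end Cfsg.Agent.Lib.Helper28
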