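import Cfsg.Agent.Lib.Helper28.FStarCent

set_option autoImplicit false

namespace Cfsg.Agent.Lib.Helper28

open scoped Pointwise commutatorElement

/-- If `T ⊴ X` is a `p`-group and `F*(C_X(T))` is a `p`-group, then `F*(X)` is a `p`-group. -/
theorem fStarP_of_centralizer_normal {X : Type*} [Group X] [Finite X] (p : ℕ) [Fact p.Prime]
    (T : Subgroup X) [hTn : T.Normal] (hT : IsPGroup p ↥T)
    (h : FStarP p ↥(Subgroup.centralizer (T : Set X))) : FStarP p X := by
  have hCn : (Subgroup.centralizer (T : Set X)).Normal := inferInstance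
  rw [fStarP_iff] at h ⊢
  obtain ⟨h1, h2⟩ := h
  refine ⟨fun K hK => ?_, fun q hq hqp => ?_⟩
  · have hKT : ⁅K, T⁆ = ⊥ :=
      component_commutes_solvable K T hK (isSolvable_of_isPGroup T hT)
        (by rw [Subgroup.normalizer_eq_top]; exact le_top)
    have hKC : K ≤ Subgroup.centralizer (T : Set X) :=
      Subgroup.commutator_eq_bot_iff_le_centralizer.1 hKT
    exact h1 _ (component_subgroupOf _ K hKC hK)
  · have hq' : Fact q.Prime := ⟨hq⟩
    have hRn : (Cfsg.pCore q X).Normal := Cfsg.pCore_normal q X
    have hRq : IsPGroup q (Cfsg.pCore q X) := pCore_isPGroup q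
    have hdisj : Disjoint (Cfsg.pCore q X) T := IsPGroup.disjoint_of_ne q p hqp _ _ hRq hT
    have hRT : ⁅Cfsg.pCore q X, T⁆ = ⊥ := Subgroup.commutator_eq_bot_of_disjoint hdisj
    have hRC : Cfsg.pCore q X ≤ Subgroup.centralizer (T : Set X) :=
      Subgroup.commutator_eq_bot_iff_le_centralizer.1 hRT
    have h3 : (Cfsg.pCore q X).subgroupOf (Subgroup.centralizer (T : Set X)) ≤
        Cfsg.pCore q ↥(Subgroup.centralizer (T : Set X)) := by
      apply le_sSup
      exact ⟨inferInstance, hRq.comap_of_injective _ (Subgroup.subtype_injective _)⟩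
    rw [h2 q hq hqp, le_bot_iff, Subgroup.subgroupOf_eq_bot] at h3
    rw [eq_bot_iff, ← h3.eq_bot]
    exact le_inf le_rfl hRC

/-- If `F*(C_G(t))` is a `p`-group for every element `t` of order `p`, then `F*(N_G(T))` is a
`p`-group for every nontrivial `p`-subgroup `T`. -/
theorem fStarP_normalizer_of_centralizers {G : Type*} [Group G] [Finite G] (p : ℕ)
    [Fact p.Prime]
    (h : ∀ t : G, orderOf t = p → FStarP p ↥(Subgroup.centralizer ({t} : Set G)))
    (T : Subgroup G) (hT : IsPGroup p ↥T) (hT1 : T ≠ ⊥) :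
    FStarP p ↥(Subgroup.normalizer (T : Set G)) := by
  -- an element of order p in T
  have hTnt : Nontrivial ↥T := (Subgroup.nontrivial_iff_ne_bot T).2 hT1
  have hcard : p ∣ Nat.card ↥T := by
    obtain ⟨n, hn⟩ := IsPGroup.iff_card.1 hT
    have hn0 : n ≠ 0 := by
      rintro rfl
      rw [pow_zero, Subgroup.card_eq_one] at hn
      exact hT1 hn
    rw [hn]
    exact dvd_pow_self p hn0
  obtain ⟨t, ht⟩ := exists_prime_orderOf_dvd_card' p hcard
  have htord : orderOf (t : G) = p := by rw [Subgroup.orderOf_coe]; exact ht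
  have h1 : FStarP p ↥(Subgroup.centralizer ((Subgroup.zpowers (t : G) : Subgroup G) : Set G)) := by
    have : Subgroup.centralizer ((Subgroup.zpowers (t : G) : Subgroup G) : Set G) =
        Subgroup.centralizer ({(t : G)} : Set G) := by
      rw [Subgroup.zpowers_eq_closure, Subgroup.centralizer_closure]
    rw [this]
    exact h _ htord
  have h2 : FStarP p ↥(Subgroup.centralizer (T : Set G)) :=
    fStarP_centralizer_mono p T (Subgroup.zpowers (t : G))
      (by rw [Subgroup.zpowers_le]; exact t.2) hT h1
  -- inside N = N_G(T)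
  set N := Subgroup.normalizer (T : Set G) with hN
  have hTN : T ≤ N := Subgroup.le_normalizer
  have hTn : (T.subgroupOf N).Normal := Subgroup.normal_in_normalizer
  have hT' : IsPGroup p ↥(T.subgroupOf N) :=
    hT.comap_of_injective _ (Subgroup.subtype_injective _)
  apply fStarP_of_centralizer_normal p (T.subgroupOf N) hT'
  have hCN : Subgroup.centralizer (T : Set G) ≤ N := Subgroup.centralizer_le_normalizer _
  have heq : Subgroup.centralizer ((T.subgroupOf N : Subgroup ↥N) : Set ↥N) =
      (Subgroup.centralizer (T : Set G)).subgroupOf N := by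
    ext x
    rw [Subgroup.mem_subgroupOf, Subgroup.mem_centralizer_iff, Subgroup.mem_centralizer_iff]
    constructor
    · intro hx u hu
      have := hx ⟨u, hTN hu⟩ (by rw [SetLike.mem_coe, Subgroup.mem_subgroupOf]; exact hu)
      exact congrArg Subtype.val this
    · intro hx u hu
      rw [SetLike.mem_coe, Subgroup.mem_subgroupOf] at hu
      exact Subtype.ext (hx u hu)
  rw [heq]
  exact fStarP_of_mulEquiv p (Subgroup.subgroupOfEquivOfLe hCN).symm h2

end Cfsg.Agent.Lib.Helper28
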