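import Mathlib
import Cfsg.Agent.S0852
import Cfsg.Agent.Lib.Helper83.Quotient
import Cfsg.Agent.Lib.Helper83.LinearCount
import Cfsg.Agent.Lib.Helper83.Abelian
import Cfsg.Agent.Lib.Helper83.Constituent
import Cfsg.Agent.Lib.Helper05.FrobMod
import Cfsg.Agent.Lib.Helper17.PermTau

/-!
# The character-theoretic core of Feit's theorem on Zassenhaus groups (coherent case)

`N` is a subgroup of `G` with a normal subgroup `KN` containing the centralisers (in `N`) of its
non-identity elements; `S` is the set of irreducible characters of `N` not containing `KN` in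
their kernel, and `star` is a linear isometry on `ℤ S` extending induction on the members
vanishing at `1`.
-/

set_option autoImplicit false
set_option linter.style.haveILetI false

namespace Cfsg.Agent.Lib.Helper28.FeitCore

open Cfsg Cfsg.Agent.Lib.Helper34
open scoped ComplexConjugate

section

variable {G : Type*} [Group G] [Fintype G] (N : Subgroup G) [Fintype N] (KN : Subgroup N)
  [hKN : KN.Normal]
  (hC : ∀ k ∈ KN, k ≠ 1 → Subgroup.centralizer ({k} : Set N) ≤ KN)
  (S : Set (N → ℂ)) (hS : S = {χ : N → ℂ | FrobRel KN χ})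
  (star : (N → ℂ) → (G → ℂ)) (hstar : Cfsg.IsLinearIsometryOn (Cfsg.zspan S) star)
  (hext : ∀ α ∈ Cfsg.zspanOn S ({1}ᶜ : Set N), star α = Cfsg.indFun N α)

include hC hS hstar hext in
/-- a non-exceptional irreducible character of `G` whose values on `KN` sum to zero has degree
divisible by `|KN| - 1` -/
theorem good_dvd (htwo : ∃ χ ∈ S, ∃ ξ ∈ S, χ ≠ ξ) (ψ : G → ℂ) (hψ : IsIrrCharacter G ψ)
    (hne : ¬ ∃ χ ∈ S, ψ = star χ ∨ ψ = -star χ)
    [Fintype KN] (hsum : ∑ k : KN, ψ ((k : N) : G) = 0) (h : ℕ) (hh : Nat.card KN = h)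
    (h2 : 2 ≤ h) : (h - 1) ∣ charDegree ψ := by
  classical
  have hconst := (Cfsg.Agent.S0852.aux N KN hC S hS star hstar hext htwo ψ hψ).not.mp hne
  push Not at hconst
  -- a non-identity element
  obtain ⟨k₀, hk₀⟩ : ∃ k₀ : KN, k₀ ≠ 1 := by
    have : 1 < Nat.card KN := by omega
    rw [Nat.card_eq_fintype_card] at this
    exact Fintype.exists_ne_of_one_lt_card this 1
  have hk₀' : (k₀ : N) ≠ 1 := fun hh' => hk₀ (Subtype.ext hh')
  have hval : ∀ k : KN, ψ ((k : N) : G) =
      ψ ((k₀ : N) : G) + if k = 1 then (ψ 1 - ψ ((k₀ : N) : G)) else 0 := by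
    intro k
    by_cases hk : k = 1
    · rw [if_pos hk, hk]; simp
    · rw [if_neg hk, add_zero]
      have hk' : (k : N) ≠ 1 := fun hh' => hk (Subtype.ext hh')
      exact hconst (k : N) k.2 (k₀ : N) k₀.2 hk' hk₀'
  rw [Finset.sum_congr rfl (fun k _ => hval k), Finset.sum_add_distrib, Finset.sum_ite_eq'] at hsum
  simp only [Finset.sum_const, Finset.card_univ, Finset.mem_univ, if_true, nsmul_eq_mul] at hsum
  rw [← Nat.card_eq_fintype_card, hh] at hsum
  have hψc := Helper83.isCharacter_of_irr hψ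
  have hint : IsIntegral ℤ (-(ψ ((k₀ : N) : G))) :=
    (Helper05.isIntegral_of_isCharacter hψc _).neg
  apply Helper17.nat_dvd_of_eq_mul_isIntegral hint
  rw [Helper83.charDegree_cast hψc, Nat.cast_sub (by omega)]
  push_cast
  linear_combination hsum

include hC in
/-- an irreducible-character-like class function of `G` whose values on `KN` do not sum to zero
is non-orthogonal to a function induced from an irreducible character of `N` with `KN` in its
kernel -/
theorem exists_ker_constituent (ψ : G → ℂ) (hψ : IsClassFunction G ψ) [Fintype KN]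
    (hsum : ∑ k : KN, ψ ((k : N) : G) ≠ 0) :
    ∃ ν : N → ℂ, IsIrrCharacter N ν ∧ (∀ k ∈ KN, ν k = ν 1) ∧
      classInner ψ (indFun N ν) ≠ 0 := by
  classical
  haveI : Finite (IrrCharacter N) := Helper05.finite_irrCharacter
  letI : Fintype (IrrCharacter N) := Fintype.ofFinite _
  set Ψ : N → ℂ := fun x : N => ψ x with hΨ
  have hΨcf : IsClassFunction N Ψ := by
    intro g h
    simp only [hΨ]
    have := hψ (g : G) (h : G)
    simpa using this
  set θ : N → ℂ := indFun KN (fun _ : KN => (1 : ℂ)) with hθ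
  have h1 : classInner Ψ θ ≠ 0 := by
    rw [hθ, classInner_indFun_one KN Ψ hΨcf]
    apply mul_ne_zero
    · apply inv_ne_zero
      exact_mod_cast Nat.card_pos.ne'
    · exact hsum
  have hθcf : IsClassFunction N θ := indFun_isClassFunction KN _
  have hdec := Helper83.classFunction_eq_sum_irr hθcf
  rw [hdec, classInner_sum_right] at h1
  obtain ⟨χ, -, hχ⟩ := Finset.exists_ne_zero_of_sum_ne_zero h1
  rw [classInner_smul_right] at hχ
  have hχ1 : classInner θ (χ : N → ℂ) ≠ 0 := by
    intro h0
    apply hχ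
    rw [h0, map_zero, zero_mul]
  have hχ2 : classInner Ψ (χ : N → ℂ) ≠ 0 := by
    intro h0
    apply hχ
    rw [h0, mul_zero]
  refine ⟨χ.1, χ.2, ?_, ?_⟩
  · by_contra hcon
    push Not at hcon
    have hrel : FrobRel KN (χ : N → ℂ) := ⟨χ.2, hcon⟩
    have := hrel.inner_indFun_one KN hC
    apply hχ1
    rw [← classInner_conj_symm, this, map_zero]
  · rw [classInner_indFun_right N _ ψ hψ]
    exact hχ2

omit [Fintype ↥N] hKN in
include hS in
theorem finite_S : Finite ↥S := by
  haveI : Finite (IrrCharacter N) := Helper05.finite_irrCharacter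
  subst hS
  have hirr : ∀ χ : ↥{χ : N → ℂ | FrobRel KN χ}, IsIrrCharacter N (χ : N → ℂ) := fun χ => χ.2.1
  refine Finite.of_injective (fun χ : ↥{χ : N → ℂ | FrobRel KN χ} =>
    (⟨χ.1, hirr χ⟩ : IrrCharacter N)) ?_
  intro a b hab
  have : (a : N → ℂ) = (b : N → ℂ) := by
    have h1 := congrArg (fun x : IrrCharacter N => (x : N → ℂ)) hab
    exact h1
  exact Subtype.ext this

include hC hS hstar hext in
/-- **Core contradiction.** -/
theorem core_false (htwo : ∃ χ ∈ S, ∃ ξ ∈ S, χ ≠ ξ)
    (h e : ℕ) (hcardK : Nat.card KN = h) (hidx : KN.index = e)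
    (hG : Nat.card G = (h + 1) * h * e)
    (hcomm : ∀ x y : N, x * y * x⁻¹ * y⁻¹ ∈ KN)
    (hlin : ∀ ν : N → ℂ, IsIrrCharacter N ν → (∀ k ∈ KN, ν k = ν 1) → ν ≠ (fun _ => 1) →
      IsIrrCharacter G (indFun N ν))
    (hperm : ∃ θ : G → ℂ, IsIrrCharacter G θ ∧
      indFun N (fun _ : N => (1 : ℂ)) = (fun _ => 1) + θ)
    (hk : 1 + Nat.card S + e ≤ Nat.card (ConjClasses G))
    (he2 : 2 ≤ e) (hlt : 2 * e < h - 1) : False := by
  classical
  haveI : Finite (IrrCharacter N) := Helper05.finite_irrCharacter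
  letI : Fintype (IrrCharacter N) := Fintype.ofFinite _
  haveI : Finite (IrrCharacter G) := Helper05.finite_irrCharacter
  letI : Fintype (IrrCharacter G) := Fintype.ofFinite _
  letI : Fintype KN := Fintype.ofFinite _
  haveI : Finite ↥S := finite_S N KN S hS
  have h2 : 2 ≤ h := by omega
  -- step 1: no good character
  have hgood : ∀ ψ : IrrCharacter G,
      (∃ χ ∈ S, (ψ : G → ℂ) = star χ ∨ (ψ : G → ℂ) = -star χ) ∨
        ∑ k : KN, (ψ : G → ℂ) ((k : N) : G) ≠ 0 := by
    intro ψ
    by_contra hcon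
    rw [not_or, not_not] at hcon
    obtain ⟨hne, hsum⟩ := hcon
    have hd := good_dvd N KN hC S hS star hstar hext htwo ψ.1 ψ.2 hne hsum h hcardK h2
    have hd2 := Helper83.irr_charDegree_dvd_card ψ
    have h3 : (h - 1) ∣ (h + 1) * h * e := hG ▸ hd.trans hd2
    obtain ⟨m, rfl⟩ : ∃ m, h = m + 1 := ⟨h - 1, by omega⟩
    have h4 : (m + 1 + 1) * (m + 1) * e = m * ((m + 3) * e) + 2 * e := by ring
    rw [Nat.add_sub_cancel] at h3 hlt
    rw [h4] at h3
    have h5 : m ∣ 2 * e := (Nat.dvd_add_right (Dvd.intro _ rfl)).mp h3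
    have := Nat.le_of_dvd (by omega) h5
    omega
  -- step 2: the characters of N/KN
  have hqcomm : ∀ a b : N ⧸ KN, a * b = b * a := by
    intro a b
    induction a using QuotientGroup.induction_on with
    | H x =>
      induction b using QuotientGroup.induction_on with
      | H y =>
        rw [← QuotientGroup.mk_mul, ← QuotientGroup.mk_mul, QuotientGroup.eq]
        have := hcomm y⁻¹ x⁻¹
        simpa [mul_assoc] using this
  have hLcard : Nat.card {ν : IrrCharacter N // ∀ k ∈ KN, (ν : N → ℂ) k = (ν : N → ℂ) 1} = e := by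
    rw [← Nat.card_congr (Helper83.irrQuotientEquiv KN), Helper83.card_irr_of_comm hqcomm,
      ← hidx, Subgroup.index_eq_card]
  -- index of N
  have hNcard : Nat.card N = h * e := by
    rw [← Subgroup.card_mul_index KN, hcardK, hidx]
  have hNidx : N.index = h + 1 := by
    have h1 := Subgroup.card_mul_index N
    rw [hNcard, hG] at h1
    have hpos : 0 < h * e := by positivity
    have h1' : h * e * N.index = h * e * (h + 1) := by rw [h1]; ring
    exact Nat.eq_of_mul_eq_mul_left hpos h1'
  obtain ⟨θ, hθirr, hθ⟩ := hperm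
  have hθdeg : charDegree θ = h := by
    have h1 := congrFun hθ 1
    rw [Helper83.indFun_one_eq, hNidx, Pi.add_apply,
      ← Helper83.charDegree_cast (Helper83.isCharacter_of_irr hθirr)] at h1
    have h2' : ((h + 1 : ℕ) : ℂ) = ((1 + charDegree θ : ℕ) : ℂ) := by
      push_cast at h1 ⊢
      linear_combination h1
    have h3 : h + 1 = 1 + charDegree θ := by exact_mod_cast h2'
    omega
  -- step 3: the two maps
  have hstar_irr : ∀ χ ∈ S, IsIrrCharacter G (star χ) ∨ IsIrrCharacter G (-star χ) :=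
    fun χ hχ => Cfsg.Agent.S0852.star_irr N KN S hS star hstar hχ
  let E : ↥S → IrrCharacter G := fun χ =>
    if hχ : IsIrrCharacter G (star χ.1) then ⟨star χ.1, hχ⟩
    else ⟨-star χ.1, (hstar_irr χ.1 χ.2).resolve_left hχ⟩
  let F : Option {ν : IrrCharacter N // ∀ k ∈ KN, (ν : N → ℂ) k = (ν : N → ℂ) 1} →
      IrrCharacter G := fun x =>
    match x with
    | none => ⟨θ, hθirr⟩
    | some ν =>
      if hν : (ν.1 : N → ℂ) = (fun _ => 1) then Helper83.trivChar G
      else ⟨indFun N (ν.1 : N → ℂ), hlin ν.1.1 ν.1.2 ν.2 hν⟩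
  have hsurj : Function.Surjective (Sum.elim E F) := by
    intro ψ
    rcases hgood ψ with ⟨χ, hχ, hψχ⟩ | hsum
    · refine ⟨Sum.inl ⟨χ, hχ⟩, ?_⟩
      rw [Sum.elim_inl]
      rcases hψχ with hψχ | hψχ
      · have hirr : IsIrrCharacter G (star χ) := hψχ ▸ ψ.2
        simp only [E, dif_pos hirr]
        exact Subtype.ext hψχ.symm
      · have hirr' : IsIrrCharacter G (-star χ) := hψχ ▸ ψ.2
        have hnirr : ¬ IsIrrCharacter G (star χ) := by
          intro hirr
          obtain ⟨d, hd, hd1, -⟩ := Helper05.exists_degree_dvd hirr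
          obtain ⟨d', hd', hd1', -⟩ := Helper05.exists_degree_dvd hirr'
          rw [Pi.neg_apply, hd1] at hd1'
          have : ((d + d' : ℕ) : ℂ) = 0 := by
            push_cast
            linear_combination -hd1'
          have : d + d' = 0 := by exact_mod_cast this
          omega
        simp only [E, dif_neg hnirr]
        exact Subtype.ext hψχ.symm
    · obtain ⟨ν, hνirr, hνker, hνinner⟩ := exists_ker_constituent N KN hC ψ.1
        (Helper83.char_isClassFunction (Helper83.IrrCharacter_isCharacter ψ)) hsum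
      by_cases hν1 : ν = fun _ => 1
      · rw [hν1, hθ, classInner_add_right] at hνinner
        by_cases hψt : ψ = Helper83.trivChar G
        · refine ⟨Sum.inr (some ⟨Helper83.trivChar N, fun k _ => rfl⟩), ?_⟩
          rw [Sum.elim_inr]
          simp only [F]
          rw [dif_pos (show ((Helper83.trivChar N : IrrCharacter N) : N → ℂ) = fun _ => 1 from rfl)]
          exact hψt.symm
        · refine ⟨Sum.inr none, ?_⟩
          rw [Sum.elim_inr]
          simp only [F]
          by_contra hne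
          apply hνinner
          have e1 := Helper83.irr_inner_ne hψt
          have e2 := Helper83.irr_inner_ne (χ := ψ) (ψ := ⟨θ, hθirr⟩) (fun hh => hne hh.symm)
          rw [show (fun _ : G => (1 : ℂ)) = ((Helper83.trivChar G : IrrCharacter G) : G → ℂ) from rfl,
            e1, zero_add]
          exact e2
      · refine ⟨Sum.inr (some ⟨⟨ν, hνirr⟩, hνker⟩), ?_⟩
        rw [Sum.elim_inr]
        simp only [F]
        rw [dif_neg hν1]
        by_contra hne
        apply hνinner
        exact Helper83.irr_inner_ne (χ := ψ) (ψ := ⟨indFun N ν, hlin ν hνirr hνker hν1⟩)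
          (fun hh => hne hh.symm)
  have hcard_dom : Nat.card (↥S ⊕ Option {ν : IrrCharacter N //
      ∀ k ∈ KN, (ν : N → ℂ) k = (ν : N → ℂ) 1}) = Nat.card S + (e + 1) := by
    rw [Nat.card_sum, Finite.card_option, hLcard]
  have hbij : Function.Bijective (Sum.elim E F) := by
    apply hsurj.bijective_of_nat_card_le
    rw [hcard_dom, Helper83.card_irr_eq_card_conjClasses]
    omega
  have hFinj : Function.Injective F := by
    intro x y hxy
    have := hbij.1 (a₁ := Sum.inr x) (a₂ := Sum.inr y) (by simpa using hxy)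
    exact Sum.inr_injective this
  -- step 4: degrees
  have hsq := Helper83.sum_charDegree_sq (G := G)
  have hle : ∑ x : Option {ν : IrrCharacter N // ∀ k ∈ KN, (ν : N → ℂ) k = (ν : N → ℂ) 1},
      (charDegree ((F x : IrrCharacter G) : G → ℂ)) ^ 2 ≤ Nat.card G := by
    rw [← hsq, ← Finset.sum_image (f := fun ψ : IrrCharacter G => (charDegree (ψ : G → ℂ)) ^ 2)
      (fun x _ y _ hxy => hFinj hxy)]
    exact Finset.sum_le_sum_of_subset (Finset.subset_univ _)
  rw [Fintype.sum_option] at hle
  have hF0 : charDegree ((F none : IrrCharacter G) : G → ℂ) = h := hθdeg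
  set t : {ν : IrrCharacter N // ∀ k ∈ KN, (ν : N → ℂ) k = (ν : N → ℂ) 1} :=
    ⟨Helper83.trivChar N, fun k _ => rfl⟩ with ht
  have hFt : charDegree ((F (some t) : IrrCharacter G) : G → ℂ) = 1 := by
    simp only [F]
    rw [dif_pos (show ((Helper83.trivChar N : IrrCharacter N) : N → ℂ) = fun _ => 1 from rfl)]
    exact Helper83.charDegree_trivChar
  have hFν : ∀ ν : {ν : IrrCharacter N // ∀ k ∈ KN, (ν : N → ℂ) k = (ν : N → ℂ) 1}, ν ≠ t →
      h + 1 ≤ charDegree ((F (some ν) : IrrCharacter G) : G → ℂ) := by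
    intro ν hνt
    have hν1 : (ν.1 : N → ℂ) ≠ fun _ => 1 := by
      intro hh
      apply hνt
      apply Subtype.ext
      apply Subtype.ext
      exact hh
    simp only [F]
    rw [dif_neg hν1]
    have hirr := hlin ν.1.1 ν.1.2 ν.2 hν1
    have h1 : ((charDegree (indFun N (ν.1 : N → ℂ)) : ℕ) : ℂ) =
        (((h + 1) * charDegree (ν.1 : N → ℂ) : ℕ) : ℂ) := by
      rw [Helper83.charDegree_cast (Helper83.isCharacter_of_irr hirr), Helper83.indFun_one_eq,
        hNidx, Nat.cast_mul, Helper83.charDegree_cast (Helper83.IrrCharacter_isCharacter ν.1)]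
    have h2' : charDegree (indFun N (ν.1 : N → ℂ)) = (h + 1) * charDegree (ν.1 : N → ℂ) := by
      exact_mod_cast h1
    show h + 1 ≤ charDegree (indFun N (ν.1 : N → ℂ))
    rw [h2']
    exact Nat.le_mul_of_pos_right _ (Helper83.irr_charDegree_pos ν.1)
  have hsumL : 1 + (e - 1) * (h + 1) ^ 2 ≤
      ∑ ν : {ν : IrrCharacter N // ∀ k ∈ KN, (ν : N → ℂ) k = (ν : N → ℂ) 1},
        (charDegree ((F (some ν) : IrrCharacter G) : G → ℂ)) ^ 2 := by
    rw [← Finset.add_sum_erase Finset.univ _ (Finset.mem_univ t), hFt, one_pow]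
    apply Nat.add_le_add_left
    have hcard : (Finset.univ.erase t).card = e - 1 := by
      rw [Finset.card_erase_of_mem (Finset.mem_univ t), Finset.card_univ,
        ← Nat.card_eq_fintype_card, hLcard]
    have := Finset.card_nsmul_le_sum (Finset.univ.erase t)
      (fun ν => (charDegree ((F (some ν) : IrrCharacter G) : G → ℂ)) ^ 2) ((h + 1) ^ 2)
      (fun ν hν => Nat.pow_le_pow_left (hFν ν (Finset.ne_of_mem_erase hν)) 2)
    rw [hcard, smul_eq_mul] at this
    exact this
  rw [hF0, hG] at hle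
  obtain ⟨k, rfl⟩ : ∃ k, e = k + 2 := ⟨e - 2, by omega⟩
  have hfin : h ^ 2 + (1 + (k + 2 - 1) * (h + 1) ^ 2) ≤ (h + 1) * h * (k + 2) :=
    le_trans (Nat.add_le_add_left hsumL _) hle
  have hid : h ^ 2 + (1 + (k + 2 - 1) * (h + 1) ^ 2) = (h + 1) * h * (k + 2) + (k * h + k + 2) := by
    have : k + 2 - 1 = k + 1 := by omega
    rw [this]
    ring
  omega

end

end Cfsg.Agent.Lib.Helper28.FeitCore
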