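import Mathlib
import Cfsg.Agent.Lib.Helper34.FrobTI
import Cfsg.Agent.Lib.Helper83.Quotient
import Cfsg.Agent.Lib.Helper83.LinearCount
import Cfsg.Agent.Lib.Helper83.SecondOrth

/-!
# Counting conjugacy classes for a T.I. Frobenius kernel
-/

set_option autoImplicit false
set_option linter.style.haveILetI false

namespace Cfsg.Agent.Lib.Helper28.FeitCount

open Cfsg Cfsg.Agent.Lib.Helper34

/-- in a group `N` with a normal subgroup `K` containing the centralisers of its non-identity
elements, two elements outside `K` in the same coset of `K` are conjugate -/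
theorem isConj_of_coset {N : Type*} [Group N] [Finite N] (K : Subgroup N) [hK : K.Normal]
    (hC : ∀ k ∈ K, k ≠ 1 → Subgroup.centralizer ({k} : Set N) ≤ K) {x y : N} (hx : x ∉ K)
    (hxy : x⁻¹ * y ∈ K) : IsConj x y := by
  have hmem : ∀ u : K, x⁻¹ * (u : N)⁻¹ * x * (u : N) ∈ K := by
    intro u
    apply K.mul_mem _ u.2
    have := hK.conj_mem _ (K.inv_mem u.2) x⁻¹
    simpa using this
  let φ : K → K := fun u => ⟨x⁻¹ * (u : N)⁻¹ * x * (u : N), hmem u⟩
  have hinj : Function.Injective φ := by
    intro u v huv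
    have h1 : x⁻¹ * (u : N)⁻¹ * x * (u : N) = x⁻¹ * (v : N)⁻¹ * x * (v : N) :=
      congrArg Subtype.val huv
    have h2 : ((v : N) * (u : N)⁻¹) * x = x * ((v : N) * (u : N)⁻¹) := by
      have h3 : (u : N)⁻¹ * x * (u : N) = (v : N)⁻¹ * x * (v : N) := by
        have := congrArg (fun z => x * z) h1
        simpa [mul_assoc] using this
      calc (v : N) * (u : N)⁻¹ * x = (v : N) * ((u : N)⁻¹ * x * (u : N)) * (u : N)⁻¹ := by group
        _ = (v : N) * ((v : N)⁻¹ * x * (v : N)) * (u : N)⁻¹ := by rw [h3]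
        _ = x * ((v : N) * (u : N)⁻¹) := by group
    by_contra hne
    have hw : (v : N) * (u : N)⁻¹ ∈ K := K.mul_mem v.2 (K.inv_mem u.2)
    have hw1 : (v : N) * (u : N)⁻¹ ≠ 1 := by
      intro hh
      apply hne
      apply Subtype.ext
      exact (mul_inv_eq_one.mp hh).symm
    apply hx
    apply hC _ hw hw1
    rw [Subgroup.mem_centralizer_iff]
    intro z hz
    rw [Set.mem_singleton_iff] at hz
    rw [hz]
    exact h2
  have hsurj : Function.Surjective φ := Finite.injective_iff_surjective.mp hinj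
  obtain ⟨u, hu⟩ := hsurj ⟨x⁻¹ * y, hxy⟩
  have h1 : x⁻¹ * (u : N)⁻¹ * x * (u : N) = x⁻¹ * y := congrArg Subtype.val hu
  rw [isConj_iff]
  refine ⟨(u : N)⁻¹, ?_⟩
  have := congrArg (fun z => x * z) h1
  simpa [mul_assoc] using this

/-- `c.out` represents `c` -/
theorem mk_out {N : Type*} [Group N] (c : ConjClasses N) : ConjClasses.mk (Quotient.out c) = c :=
  Quotient.out_eq c

/-- the number of classes of `N` inside `K`, other than the class of `1`, is at least the number
of irreducible characters of `N` without `K` in their kernel -/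
theorem card_classes_in {N : Type*} [Group N] [Fintype N] (K : Subgroup N) [hK : K.Normal]
    (hC : ∀ k ∈ K, k ≠ 1 → Subgroup.centralizer ({k} : Set N) ≤ K)
    (hcomm : ∀ a b : N ⧸ K, a * b = b * a) :
    Nat.card {χ : N → ℂ | FrobRel K χ} ≤
      Nat.card {c : ConjClasses N // Quotient.out c ∈ K ∧ Quotient.out c ≠ 1} := by
  classical
  haveI : Finite (IrrCharacter N) := Helper05.finite_irrCharacter
  letI : Fintype (IrrCharacter N) := Fintype.ofFinite _
  -- characters
  have h1 : Nat.card (IrrCharacter N) =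
      Nat.card {ν : IrrCharacter N // ∀ k ∈ K, (ν : N → ℂ) k = (ν : N → ℂ) 1} +
      Nat.card {ν : IrrCharacter N // ¬ ∀ k ∈ K, (ν : N → ℂ) k = (ν : N → ℂ) 1} := by
    rw [← Nat.card_sum]
    exact Nat.card_congr (Equiv.sumCompl _).symm
  have h2 : Nat.card {ν : IrrCharacter N // ∀ k ∈ K, (ν : N → ℂ) k = (ν : N → ℂ) 1} = K.index := by
    rw [← Nat.card_congr (Helper83.irrQuotientEquiv K), Helper83.card_irr_of_comm hcomm,
      Subgroup.index_eq_card]
  have h3 : Nat.card {ν : IrrCharacter N // ¬ ∀ k ∈ K, (ν : N → ℂ) k = (ν : N → ℂ) 1} =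
      Nat.card {χ : N → ℂ | FrobRel K χ} := by
    apply Nat.card_congr
    refine (Equiv.subtypeSubtypeEquivSubtypeInter (IsIrrCharacter N)
      (fun χ => ¬ ∀ k ∈ K, χ k = χ 1)).trans (Equiv.subtypeEquivRight ?_)
    intro χ
    constructor
    · rintro ⟨h1, h2⟩
      push Not at h2
      exact ⟨h1, h2⟩
    · intro hh
      refine ⟨hh.1, ?_⟩
      push Not
      exact hh.2
  -- classes
  have h4 : Nat.card (ConjClasses N) =
      Nat.card {c : ConjClasses N // Quotient.out c ∈ K} +
      Nat.card {c : ConjClasses N // ¬ Quotient.out c ∈ K} := by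
    rw [← Nat.card_sum]
    exact Nat.card_congr (Equiv.sumCompl _).symm
  have h5 : Nat.card {c : ConjClasses N // ¬ Quotient.out c ∈ K} + 1 ≤ K.index := by
    have hq : Nat.card {q : N ⧸ K // q ≠ 1} + 1 = K.index := by
      rw [Subgroup.index_eq_card]
      have := Nat.card_congr (Equiv.sumCompl (fun q : N ⧸ K => q = 1)).symm
      rw [Nat.card_sum] at this
      have hu : Nat.card {q : N ⧸ K // q = 1} = 1 := by
        rw [Nat.card_eq_fintype_card]
        exact Fintype.card_subtype_eq 1
      have hne : Nat.card {q : N ⧸ K // ¬ q = 1} = Nat.card {q : N ⧸ K // q ≠ 1} := rfl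
      omega
    rw [← hq]
    apply Nat.add_le_add_right
    apply Nat.card_le_card_of_injective
      (fun c : {c : ConjClasses N // ¬ Quotient.out c ∈ K} =>
        (⟨(Quotient.out c.1 : N), by
          intro hh
          apply c.2
          exact (QuotientGroup.eq_one_iff _).mp hh⟩ : {q : N ⧸ K // q ≠ 1}))
    intro c c' hcc
    have h6 : ((Quotient.out c.1 : N) : N ⧸ K) = ((Quotient.out c'.1 : N) : N ⧸ K) :=
      congrArg Subtype.val hcc
    rw [QuotientGroup.eq] at h6
    have h7 := isConj_of_coset K hC c.2 h6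
    apply Subtype.ext
    rw [← mk_out c.1, ← mk_out c'.1]
    exact ConjClasses.mk_eq_mk_iff_isConj.mpr h7
  have h6 : Nat.card {c : ConjClasses N // Quotient.out c ∈ K} ≤
      Nat.card {c : ConjClasses N // Quotient.out c ∈ K ∧ Quotient.out c ≠ 1} + 1 := by
    rw [← Finite.card_option]
    apply Nat.card_le_card_of_injective
      (fun c : {c : ConjClasses N // Quotient.out c ∈ K} =>
        if hc : Quotient.out c.1 = 1 then
          (none : Option {c : ConjClasses N // Quotient.out c ∈ K ∧ Quotient.out c ≠ 1})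
        else some ⟨c.1, c.2, hc⟩)
    intro c c' hcc
    by_cases hc : Quotient.out c.1 = 1
    · by_cases hc' : Quotient.out c'.1 = 1
      · apply Subtype.ext
        rw [← mk_out c.1, ← mk_out c'.1, hc, hc']
      · simp only [dif_pos hc, dif_neg hc'] at hcc
        exact absurd hcc (by simp)
    · by_cases hc' : Quotient.out c'.1 = 1
      · simp only [dif_neg hc, dif_pos hc'] at hcc
        exact absurd hcc (by simp)
      · simp only [dif_neg hc, dif_neg hc', Option.some.injEq, Subtype.mk.injEq] at hcc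
        exact Subtype.ext hcc
  have h7 := Helper83.card_irr_eq_card_conjClasses (G := N)
  have hpos : 0 < K.index := Nat.pos_of_ne_zero Subgroup.index_ne_zero_of_finite
  omega

/-- **Class counting**: if `H` is a T.I. subgroup of `G` with "normaliser" `N`, Frobenius kernel
of `N`, and `e` classes of `G` avoid `H`, then `G` has at least `1 + |S| + e` classes. -/
theorem class_count {G : Type*} [Group G] [Fintype G] (N H : Subgroup G) [Fintype N]
    [hK : (H.subgroupOf N).Normal]
    (hC : ∀ k ∈ H.subgroupOf N, k ≠ 1 →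
      Subgroup.centralizer ({k} : Set N) ≤ H.subgroupOf N)
    (hTI : ∀ g : G, g ∉ N → ∀ k ∈ H, g * k * g⁻¹ ∈ H → k = 1)
    (hcomm : ∀ a b : N ⧸ H.subgroupOf N, a * b = b * a) (e : ℕ)
    (havoid : e ≤ Nat.card {C : ConjClasses G // ∀ g : G, ConjClasses.mk g = C → g ∉ H}) :
    1 + Nat.card {χ : N → ℂ | FrobRel (H.subgroupOf N) χ} + e ≤ Nat.card (ConjClasses G) := by
  classical
  have h1 := card_classes_in (H.subgroupOf N) hC hcomm
  -- classes of `N` in `H∖1` inject into classes of `G` meeting `H∖1`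
  have h2 : Nat.card {c : ConjClasses N //
        Quotient.out c ∈ H.subgroupOf N ∧ Quotient.out c ≠ 1} ≤
      Nat.card {C : ConjClasses G // ∃ k ∈ H, k ≠ 1 ∧ ConjClasses.mk k = C} := by
    apply Nat.card_le_card_of_injective
      (fun c : {c : ConjClasses N // Quotient.out c ∈ H.subgroupOf N ∧ Quotient.out c ≠ 1} =>
        (⟨ConjClasses.mk ((Quotient.out c.1 : N) : G),
          ⟨((Quotient.out c.1 : N) : G), c.2.1, fun hh => c.2.2 (Subtype.ext hh), rfl⟩⟩ :
          {C : ConjClasses G // ∃ k ∈ H, k ≠ 1 ∧ ConjClasses.mk k = C}))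
    intro c c' hcc
    have h3 : ConjClasses.mk ((Quotient.out c.1 : N) : G) =
        ConjClasses.mk ((Quotient.out c'.1 : N) : G) := congrArg Subtype.val hcc
    rw [ConjClasses.mk_eq_mk_iff_isConj, isConj_iff] at h3
    obtain ⟨g, hg⟩ := h3
    have hgN : g ∈ N := by
      by_contra hgN
      have hmem' : g * ((Quotient.out c.1 : N) : G) * g⁻¹ ∈ H := by
        rw [hg]; exact c'.2.1
      have := hTI g hgN ((Quotient.out c.1 : N) : G) c.2.1 hmem'
      exact c.2.2 (Subtype.ext this)
    apply Subtype.ext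
    rw [← mk_out c.1, ← mk_out c'.1, ConjClasses.mk_eq_mk_iff_isConj, isConj_iff]
    refine ⟨⟨g, hgN⟩, ?_⟩
    apply Subtype.ext
    simpa using hg
  -- three kinds of classes of `G`
  have h3 : Nat.card {C : ConjClasses G // ∃ k ∈ H, k ≠ 1 ∧ ConjClasses.mk k = C} +
      Nat.card {C : ConjClasses G // ∀ g : G, ConjClasses.mk g = C → g ∉ H} + 1 ≤
      Nat.card (ConjClasses G) := by
    rw [← Nat.card_sum, ← Finite.card_option]
    apply Nat.card_le_card_of_injective
      (fun x : Option ({C : ConjClasses G // ∃ k ∈ H, k ≠ 1 ∧ ConjClasses.mk k = C} ⊕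
          {C : ConjClasses G // ∀ g : G, ConjClasses.mk g = C → g ∉ H}) =>
        match x with
        | none => ConjClasses.mk (1 : G)
        | some (Sum.inl C) => C.1
        | some (Sum.inr C) => C.1)
    have hA : ∀ C : {C : ConjClasses G // ∃ k ∈ H, k ≠ 1 ∧ ConjClasses.mk k = C},
        ConjClasses.mk (1 : G) ≠ C.1 := by
      intro C hh
      obtain ⟨k, -, hk1, hkC⟩ := C.2
      rw [← hkC, ConjClasses.mk_eq_mk_iff_isConj] at hh
      exact hk1 (isConj_one_right.mp hh)
    have hB : ∀ C : {C : ConjClasses G // ∀ g : G, ConjClasses.mk g = C → g ∉ H},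
        ConjClasses.mk (1 : G) ≠ C.1 := by
      intro C hh
      exact C.2 1 hh H.one_mem
    have hAB : ∀ (C : {C : ConjClasses G // ∃ k ∈ H, k ≠ 1 ∧ ConjClasses.mk k = C})
        (C' : {C : ConjClasses G // ∀ g : G, ConjClasses.mk g = C → g ∉ H}), C.1 ≠ C'.1 := by
      intro C C' hh
      obtain ⟨k, hkH, -, hkC⟩ := C.2
      exact C'.2 k (hkC.trans hh) hkH
    intro x y hxy
    rcases x with _ | x | x <;> rcases y with _ | y | y
    · rfl
    · exact absurd hxy (hA y)
    · exact absurd hxy (hB y)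
    · exact absurd hxy.symm (hA x)
    · simp only at hxy
      rw [Subtype.ext hxy]
    · exact absurd hxy (hAB x y)
    · exact absurd hxy.symm (hB x)
    · exact absurd hxy.symm (hAB y x)
    · simp only at hxy
      rw [Subtype.ext hxy]
  omega

end Cfsg.Agent.Lib.Helper28.FeitCount
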