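import Mathlib
import Cfsg.Agent.Lib.Helper34.FrobTI

/-!
# Induction from the "normaliser" of a T.I. subgroup is a linear isometry
-/

set_option autoImplicit false
set_option linter.style.haveILetI false

namespace Cfsg.Agent.Lib.Helper28.FeitTI

open Cfsg Cfsg.Agent.Lib.Helper34
open scoped ComplexConjugate

section

variable {G : Type*} [Group G] [Fintype G] (N H : Subgroup G)
  (hTI : ∀ g : G, g ∉ N → ∀ k ∈ H, g * k * g⁻¹ ∈ H → k = 1)

include hTI in
theorem indFun_eq_on_ti (ψ : N → ℂ) (hψ : IsClassFunction N ψ)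
    (hψH : ∀ x : N, (x : G) ∉ H → ψ x = 0) (t : N) (htH : (t : G) ∈ H) (ht1 : t ≠ 1) :
    indFun N ψ t = ψ t := by
  classical
  letI : Fintype N := Fintype.ofFinite _
  rw [indFun_apply]
  have ht1' : (t : G) ≠ 1 := fun h => ht1 (Subtype.ext h)
  have key : ∀ x : G, extendByZero N ψ (x⁻¹ * (t : G) * x) =
      extendByZero N (fun _ => ψ t) x * 1 := by
    intro x
    rw [mul_one]
    by_cases hx : x ∈ N
    · have hx' : x⁻¹ * (t : G) * x ∈ N := N.mul_mem (N.mul_mem (N.inv_mem hx) t.2) hx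
      rw [extendByZero_apply_mem N ψ hx', extendByZero_apply_mem N _ hx]
      have := hψ t ⟨x⁻¹, N.inv_mem hx⟩
      rw [← this]
      congr 1
      apply Subtype.ext
      simp
    · rw [extendByZero_apply_not_mem N _ hx]
      by_cases hmem : x⁻¹ * (t : G) * x ∈ N
      · rw [extendByZero_apply_mem N ψ hmem]
        apply hψH
        intro hT
        have hx' : x⁻¹ ∉ N := fun h => hx (by simpa using N.inv_mem h)
        have := hTI x⁻¹ hx' (t : G) htH (by simpa using hT)
        exact ht1' this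
      · exact extendByZero_apply_not_mem N ψ hmem
  simp only [key]
  rw [sum_extendByZero_mul]
  simp only [mul_one, Finset.sum_const, Finset.card_univ, nsmul_eq_mul]
  have hN : (Nat.card N : ℂ) ≠ 0 := by
    have : Nat.card N ≠ 0 := Nat.card_pos.ne'
    exact_mod_cast this
  rw [← Nat.card_eq_fintype_card]
  field_simp

include hTI in
theorem indFun_isometry_on_ti [Fintype N] (ψ θ : N → ℂ) (hθ : IsClassFunction N θ)
    (hψH : ∀ x : N, (x : G) ∉ H → ψ x = 0) (hθH : ∀ x : N, (x : G) ∉ H → θ x = 0)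
    (hψ1 : ψ 1 = 0) :
    classInner (indFun N ψ) (indFun N θ) = classInner ψ θ := by
  rw [classInner_indFun_left N ψ _ (indFun_isClassFunction N θ), classInner_def, classInner_def]
  congr 1
  apply Finset.sum_congr rfl
  intro n _
  by_cases hn : (n : G) ∈ H ∧ n ≠ 1
  · rw [indFun_eq_on_ti N H hTI θ hθ hθH n hn.1 hn.2]
  · have : ψ n = 0 := by
      by_cases h1 : n = 1
      · rw [h1, hψ1]
      · apply hψH
        intro h
        exact hn ⟨h, h1⟩
    rw [this, zero_mul, zero_mul]

end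

section LIO

variable {G : Type*} [Group G] [Fintype G] (N H : Subgroup G) [Fintype N]
  [hK : (H.subgroupOf N).Normal]
  (hC : ∀ k ∈ H.subgroupOf N, k ≠ 1 →
    Subgroup.centralizer ({k} : Set N) ≤ H.subgroupOf N)
  (hTI : ∀ g : G, g ∉ N → ∀ k ∈ H, g * k * g⁻¹ ∈ H → k = 1)

omit [Fintype G] in
include hC in
/-- members of the integer span of the relevant characters are generalized characters vanishing
off the kernel -/
theorem zspan_props {α : N → ℂ} (hα : α ∈ zspan {χ : N → ℂ | FrobRel (H.subgroupOf N) χ}) :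
    IsGeneralizedCharacter N α ∧ ∀ x : N, (x : G) ∉ H → α x = 0 := by
  refine zspan_induction (p := fun α : N → ℂ =>
    IsGeneralizedCharacter N α ∧ ∀ x : N, (x : G) ∉ H → α x = 0) hα ?_ ?_ ?_ ?_
  · intro χ hχ
    refine ⟨isGeneralizedCharacter_of_irr hχ.1, fun x hx => ?_⟩
    exact FrobRel.vanish (H.subgroupOf N) hC hχ (x := x) hx
  · exact ⟨isGeneralizedCharacter_zero, fun x _ => rfl⟩
  · rintro x y ⟨hx1, hx2⟩ ⟨hy1, hy2⟩
    refine ⟨isGeneralizedCharacter_add hx1 hy1, fun z hz => ?_⟩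
    rw [Pi.add_apply, hx2 z hz, hy2 z hz, add_zero]
  · rintro x ⟨hx1, hx2⟩
    refine ⟨isGeneralizedCharacter_neg hx1, fun z hz => ?_⟩
    rw [Pi.neg_apply, hx2 z hz, neg_zero]

include hC hTI in
/-- **induction is a linear isometry** on the relevant combinations vanishing at `1` -/
theorem ind_isLIO :
    IsLinearIsometryOn (zspanOn {χ : N → ℂ | FrobRel (H.subgroupOf N) χ} ({1}ᶜ : Set N))
      (indFun N) := by
  refine ⟨fun α _ β _ => indFun_add N α β, fun α _ n => indFun_zsmul N n α, ?_, ?_⟩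
  · intro α hα β hβ
    rw [mem_zspanOn_compl_one_iff] at hα hβ
    obtain ⟨hα1, hα2⟩ := zspan_props N H hC hα.1
    obtain ⟨hβ1, hβ2⟩ := zspan_props N H hC hβ.1
    exact indFun_isometry_on_ti N H hTI α β (isGeneralizedCharacter_isClassFunction hβ1)
      hα2 hβ2 hα.2
  · intro α hα
    rw [mem_zspanOn_compl_one_iff] at hα
    exact isGeneralizedCharacter_indFun N (zspan_props N H hC hα.1).1

omit [Fintype ↥N] hK in
theorem ind_apply_one {α : N → ℂ} (hα : α 1 = 0) : indFun N α 1 = 0 := by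
  rw [indFun_apply]
  have : ∀ x : G, extendByZero N α (x⁻¹ * 1 * x) = 0 := by
    intro x
    have h1 : x⁻¹ * 1 * x = ((1 : N) : G) := by simp
    rw [h1, extendByZero_coe, hα]
  rw [Finset.sum_congr rfl (fun x _ => this x)]
  simp

end LIO

end Cfsg.Agent.Lib.Helper28.FeitTI
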