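import Mathlib
import Cfsg.Agent.Lib.Helper28.FeitCore
import Cfsg.Agent.Lib.Helper28.FeitCount
import Cfsg.Agent.Lib.Helper28.FeitTI
import Cfsg.Agent.Lib.Helper28.ZassTwoPointMain
import Cfsg.Agent.Lib.Helper28.ZassPSL
import Cfsg.Agent.Lib.Helper28.ZassConv
import Cfsg.Agent.Lib.Helper17.ZassCount
import Cfsg.Agent.Lib.Helper17.ZassInvol
import Cfsg.Agent.S1535
import Cfsg.Agent.S0881
import Cfsg.Agent.S0884
import Cfsg.Agent.S0190
import Cfsg.Agent.S0157

/-!
# Feit's theorem for simple Zassenhaus groups: the Zassenhaus side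
-/

set_option autoImplicit false
set_option linter.style.haveILetI false

namespace Cfsg.Agent.Lib.Helper28.FeitZass

open Cfsg MulAction Cfsg.Agent.Lib.Helper34

section Kernel

variable {G Ω : Type*} [Group G] [MulAction G Ω] (hpre : ZPre G Ω) (a : Ω) (H : Subgroup G)
  (hHa : H ≤ stabilizer G a)
  (hHmem : ∀ x ∈ stabilizer G a, x ∈ H ↔ x = 1 ∨ ∀ c : Ω, c ≠ a → x • c ≠ c)

include hHa hHmem in
theorem ker_fix {u : G} (hu : u ∈ H) (hu1 : u ≠ 1) {c : Ω} (hc : u • c = c) : c = a := by
  by_contra hca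
  rcases (hHmem u (hHa hu)).mp hu with h | h
  · exact hu1 h
  · exact h c hca hc

include hHa hHmem in
theorem ker_norm {k : G} (hk : k ∈ stabilizer G a) {u : G} (hu : u ∈ H) : k * u * k⁻¹ ∈ H := by
  have hmemK : k * u * k⁻¹ ∈ stabilizer G a :=
    (stabilizer G a).mul_mem ((stabilizer G a).mul_mem hk (hHa hu)) ((stabilizer G a).inv_mem hk)
  apply (hHmem _ hmemK).mpr
  by_cases hu1 : u = 1
  · left; rw [hu1]; group
  · right
    intro c hc hfix
    have h1 : u • (k⁻¹ • c) = k⁻¹ • c := by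
      have := congrArg (fun x => k⁻¹ • x) hfix
      simp only [mul_smul, inv_smul_smul] at this
      exact this
    have h2 := ker_fix a H hHa hHmem hu hu1 h1
    apply hc
    have h3 : c = k • a := by rw [← h2, smul_inv_smul]
    rw [h3]; exact mem_stabilizer_iff.mp hk

include hpre hHa hHmem in
theorem ker_cent {k : G} (hk : k ∈ H) (hk1 : k ≠ 1) {x : G} (hx : x * k = k * x) : x ∈ H := by
  have hka : k • a = a := mem_stabilizer_iff.mp (hHa hk)
  have hxa : x • a = a := by
    apply ker_fix a H hHa hHmem hk hk1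
    rw [← mul_smul, ← hx, mul_smul, hka]
  have hxs : x ∈ stabilizer G a := mem_stabilizer_iff.mpr hxa
  apply (hHmem x hxs).mpr
  by_cases hx1 : x = 1
  · left; exact hx1
  · right
    intro c hc hfix
    apply hx1
    have hkc : k • c ≠ c := fun hh => hc (ker_fix a H hHa hHmem hk hk1 hh)
    have hkca : k • c ≠ a := by
      intro hh
      apply hc
      have : c = k⁻¹ • a := by rw [← hh, inv_smul_smul]
      rw [this]
      have : k⁻¹ • a = a := by
        have := mem_stabilizer_iff.mp ((stabilizer G a).inv_mem (hHa hk))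
        exact this
      exact this
    have hxkc : x • (k • c) = k • c := by
      rw [← mul_smul, hx, mul_smul, hfix]
    exact hpre.three x a c (k • c) (Ne.symm hc) (Ne.symm hkc) (Ne.symm hkca) hxa hfix hxkc

include hHa hHmem in
theorem ker_ti {g : G} (hg : g ∉ stabilizer G a) {k : G} (hk : k ∈ H) (hgk : g * k * g⁻¹ ∈ H) :
    k = 1 := by
  by_contra hk1
  apply hg
  have hne : g * k * g⁻¹ ≠ 1 := by
    intro hh
    apply hk1
    have : k = g⁻¹ * (g * k * g⁻¹) * g := by group
    rw [this, hh]; group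
  have hfix : (g * k * g⁻¹) • (g • a) = g • a := by
    rw [mul_smul, mul_smul, inv_smul_smul, mem_stabilizer_iff.mp (hHa hk)]
  exact mem_stabilizer_iff.mpr (ker_fix a H hHa hHmem hgk hne hfix)

include hHa hHmem in
theorem ker_normal : (H.subgroupOf (stabilizer G a)).Normal := by
  refine ⟨fun n hn g => ?_⟩
  rw [Subgroup.mem_subgroupOf] at hn ⊢
  exact ker_norm a H hHa hHmem g.2 hn

include hpre hHa hHmem in
theorem ker_hC : ∀ k ∈ H.subgroupOf (stabilizer G a), k ≠ 1 →
    Subgroup.centralizer ({k} : Set ↥(stabilizer G a)) ≤ H.subgroupOf (stabilizer G a) := by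
  intro k hk hk1 x hx
  rw [Subgroup.mem_subgroupOf] at hk ⊢
  apply ker_cent hpre a H hHa hHmem hk (fun hh => hk1 (Subtype.ext hh))
  have := (Subgroup.mem_centralizer_iff.mp hx) k (Set.mem_singleton k)
  have h2 := congrArg Subtype.val this
  simp only [Subgroup.coe_mul] at h2
  exact h2.symm

include hHa in
theorem quot_comm (hHtr : ∀ b c : Ω, b ≠ a → c ≠ a → ∃ k ∈ H, k • b = c) {b : Ω} (hab : a ≠ b)
    (hE : ∀ d ∈ stabilizer G a ⊓ stabilizer G b, ∀ d' ∈ stabilizer G a ⊓ stabilizer G b,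
      d * d' = d' * d)
    [hK : (H.subgroupOf (stabilizer G a)).Normal] :
    ∀ x y : ↥(stabilizer G a) ⧸ H.subgroupOf (stabilizer G a), x * y = y * x := by
  have key : ∀ x : ↥(stabilizer G a), ∃ d : ↥(stabilizer G a),
      (d : G) ∈ stabilizer G a ⊓ stabilizer G b ∧
      (QuotientGroup.mk x : ↥(stabilizer G a) ⧸ H.subgroupOf (stabilizer G a)) =
        QuotientGroup.mk d := by
    intro x
    have hxa : (x : G) • a = a := mem_stabilizer_iff.mp x.2
    have hc : (x : G) • b ≠ a := by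
      intro hh
      apply hab
      have h1 : b = (x : G)⁻¹ • a := eq_inv_smul_iff.mpr hh
      have h2 : (x : G)⁻¹ • a = a := inv_smul_eq_iff.mpr hxa.symm
      exact (h1.trans h2).symm
    obtain ⟨k, hk, hkb⟩ := hHtr b ((x : G) • b) hab.symm hc
    refine ⟨(⟨k, hHa hk⟩ : ↥(stabilizer G a))⁻¹ * x, ?_, ?_⟩
    · refine Subgroup.mem_inf.mpr ⟨((⟨k, hHa hk⟩ : ↥(stabilizer G a))⁻¹ * x).2, ?_⟩
      apply mem_stabilizer_iff.mpr
      show (k⁻¹ * (x : G)) • b = b
      rw [mul_smul, ← hkb, inv_smul_smul]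
    · rw [QuotientGroup.mk_mul]
      have : (QuotientGroup.mk ((⟨k, hHa hk⟩ : ↥(stabilizer G a))⁻¹) :
          ↥(stabilizer G a) ⧸ H.subgroupOf (stabilizer G a)) = 1 := by
        rw [QuotientGroup.eq_one_iff]
        apply Subgroup.inv_mem
        rw [Subgroup.mem_subgroupOf]
        exact hk
      rw [this, one_mul]
  intro x y
  induction x using QuotientGroup.induction_on with
  | H x =>
    induction y using QuotientGroup.induction_on with
    | H y =>
      obtain ⟨dx, hdx, hx⟩ := key x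
      obtain ⟨dy, hdy, hy⟩ := key y
      rw [hx, hy, ← QuotientGroup.mk_mul, ← QuotientGroup.mk_mul]
      congr 1
      apply Subtype.ext
      exact hE _ hdx _ hdy

end Kernel

section Main

/-- a nonzero integer combination of `S` vanishing at `1` forces two members -/
theorem two_of_ne_zero {N : Type*} [Group N] [Finite N] {S : Set (N → ℂ)}
    (hirr : ∀ χ ∈ S, IsIrrCharacter N χ) {α : N → ℂ}
    (hα : α ∈ zspanOn S ({1}ᶜ : Set N)) (hα0 : α ≠ 0) : ∃ χ ∈ S, ∃ ξ ∈ S, χ ≠ ξ := by
  by_contra hcon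
  push Not at hcon
  rw [mem_zspanOn_compl_one_iff, mem_zspan_iff] at hα
  obtain ⟨hα1, hα2⟩ := hα
  apply hα0
  rcases S.eq_empty_or_nonempty with hS | ⟨χ₀, hχ₀⟩
  · rw [hS, Submodule.span_empty, Submodule.mem_bot] at hα1
    exact hα1
  · have hS : S = {χ₀} := Set.eq_singleton_iff_unique_mem.mpr ⟨hχ₀, fun ξ hξ => hcon ξ hξ χ₀ hχ₀⟩
    rw [hS, Submodule.mem_span_singleton] at hα1
    obtain ⟨n, rfl⟩ := hα1
    obtain ⟨d, hd, hd1, -⟩ := Helper05.exists_degree_dvd (hirr χ₀ hχ₀)
    rw [Pi.smul_apply, hd1] at hα2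
    have hn : n = 0 := by
      have h1 : ((n * (d : ℤ) : ℤ) : ℂ) = 0 := by
        push_cast
        rw [← hα2]
        simp
      have h2 : n * (d : ℤ) = 0 := by exact_mod_cast h1
      rcases mul_eq_zero.mp h2 with h | h
      · exact h
      · omega
    rw [hn, zero_smul]

variable {G Ω : Type*} [Group G] [Fintype G] [MulAction G Ω] [Fintype Ω]

/-- **The case of odd `e` with `2e < h - 1`**: the degree minus one is a prime power. -/
theorem odd_case (hZ : Cfsg.IsZassenhausGroup G Ω) [IsSimpleGroup G] {a b : Ω} (hab : a ≠ b)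
    (h e : ℕ) (hh : Fintype.card Ω = h + 1)
    (he : Nat.card ↥(stabilizer G a ⊓ stabilizer G b : Subgroup G) = e) (hodd : Odd e)
    (hlt : 2 * e < h - 1) : ∃ p m : ℕ, p.Prime ∧ h = p ^ m := by
  classical
  have hpre := zpre_of_isZassenhausGroup hZ
  obtain ⟨H, hHa, hHmem, hHtr, -⟩ := hpre.exists_kernel a
  have hHreg : ∀ y z : Ω, y ≠ a → z ≠ a → ∃! u : H, (u : G) • y = z := by
    intro y z hy hz
    obtain ⟨k, hk, hkyz⟩ := hHtr y z hy hz
    refine ⟨⟨k, hk⟩, hkyz, ?_⟩
    intro u hu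
    have h1 : ((u : G)⁻¹ * k) ∈ H := H.mul_mem (H.inv_mem u.2) hk
    have h2 : ((u : G)⁻¹ * k) • y = y := by
      have hu' : (u : G) • y = z := hu
      rw [mul_smul, hkyz, ← hu', inv_smul_smul]
    rcases (hHmem _ (hHa h1)).mp h1 with h3 | h3
    · apply Subtype.ext
      exact inv_mul_eq_one.mp h3
    · exact absurd h2 (h3 y hy)
  obtain ⟨hHcard, hGcard⟩ := hpre.card_of_regular_kernel hab H hHa hHreg
  have hHh : Nat.card H = h := by rw [hHcard, hh]; omega
  have hHcard' : Nat.card H + 1 = Fintype.card Ω := by rw [hHh, hh]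
  have hHfix : ∀ u ∈ H, u ≠ 1 → ∀ c : Ω, u • c = c → c = a :=
    fun u hu hu1 c hc => ker_fix a H hHa hHmem hu hu1 hc
  have hG : Nat.card G = (h + 1) * h * e := by
    rw [hGcard, hh, hHh, he, mul_assoc]
  -- e ≥ 3
  have he1 : e ≠ 1 := by
    intro he1
    obtain ⟨x, hx1, hxa, hxb⟩ := hpre.two_stab_ne hab
    rw [he1] at he
    have hsub : Subsingleton ↥(stabilizer G a ⊓ stabilizer G b : Subgroup G) :=
      (Nat.card_eq_one_iff_unique.mp he).1
    have hxm : x ∈ (stabilizer G a ⊓ stabilizer G b : Subgroup G) :=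
      ⟨mem_stabilizer_iff.mpr hxa, mem_stabilizer_iff.mpr hxb⟩
    have := Subsingleton.elim (⟨x, hxm⟩ : ↥(stabilizer G a ⊓ stabilizer G b : Subgroup G)) 1
    exact hx1 (congrArg Subtype.val this)
  have he3 : 3 ≤ e := by
    obtain ⟨k, hk⟩ := hodd
    omega
  have hh2 : 2 ≤ h := by omega
  -- the group-theoretic hypotheses
  letI : Fintype ↥(stabilizer G a) := Fintype.ofFinite _
  haveI hKn : (H.subgroupOf (stabilizer G a)).Normal := ker_normal a H hHa hHmem
  have hC := ker_hC hpre a H hHa hHmem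
  have hTI : ∀ g : G, g ∉ stabilizer G a → ∀ k ∈ H, g * k * g⁻¹ ∈ H → k = 1 :=
    fun g hg k hk hgk => ker_ti a H hHa hHmem hg hk hgk
  have hcardK : Nat.card ↥(H.subgroupOf (stabilizer G a)) = h := by
    rw [Nat.card_congr (Subgroup.subgroupOfEquivOfLe hHa).toEquiv, hHh]
  haveI : IsPretransitive G Ω := Helper17.ZassCount.isPretransitive_of_two hZ.2.1 hab
  have hNidx : (stabilizer G a).index = h + 1 := by
    rw [MulAction.index_stabilizer_of_transitive, Nat.card_eq_fintype_card, hh]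
  have hNcard : Nat.card ↥(stabilizer G a) = h * e := by
    have h1 := Subgroup.card_mul_index (stabilizer G a)
    rw [hNidx, hG] at h1
    have : Nat.card ↥(stabilizer G a) * (h + 1) = (h * e) * (h + 1) := by rw [h1]; ring
    exact Nat.eq_of_mul_eq_mul_right (by omega) this
  have hidx : (H.subgroupOf (stabilizer G a)).index = e := by
    have h1 := Subgroup.card_mul_index (H.subgroupOf (stabilizer G a))
    rw [hcardK, hNcard] at h1
    exact Nat.eq_of_mul_eq_mul_left (by omega) h1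
  -- the two-point stabilizer is commutative
  have hodd' : Odd (Nat.card ↥(stabilizer G a ⊓ stabilizer G b : Subgroup G)) := by
    rw [he]; exact hodd
  have h2G : 2 ∣ Nat.card G := by
    rw [hG]
    exact Dvd.dvd.mul_right (even_iff_two_dvd.mp (Nat.even_mul_succ_self h |> fun hh' => by
      rw [mul_comm]; exact hh')) _
  have hnil : ∀ q : ℕ, q.Prime →
      q ∣ Nat.card ↥(stabilizer G a ⊓ stabilizer G b : Subgroup G) →
      ¬ ∃ M : Subgroup G, M.Normal ∧ M.index = q ^ (Nat.card G).factorization q := by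
    rintro q hq hqe ⟨M, hMn, hMidx⟩
    have hqG : q ∣ Nat.card G := dvd_trans hqe (Subgroup.card_subgroup_dvd_card _)
    rcases hMn.eq_bot_or_eq_top with rfl | rfl
    · rw [Subgroup.index_bot] at hMidx
      rw [hMidx] at h2G
      have h3 : 2 ∣ q := Nat.Prime.dvd_of_dvd_pow Nat.prime_two h2G
      have h4 : q = 2 := ((Nat.prime_dvd_prime_iff_eq Nat.prime_two hq).mp h3).symm
      rw [h4] at hqe
      exact (Nat.not_even_iff_odd.2 hodd') (even_iff_two_dvd.2 hqe)
    · rw [Subgroup.index_top] at hMidx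
      have hk : (Nat.card G).factorization q = 0 := by
        by_contra hk
        have : 1 < q ^ (Nat.card G).factorization q := Nat.one_lt_pow hk hq.one_lt
        omega
      rcases (Nat.factorization_eq_zero_iff _ _).mp hk with h1 | h1 | h1
      · exact h1 hq
      · exact h1 hqG
      · exact (Nat.card_pos (α := G)).ne' h1
  obtain ⟨hcyc, -, -⟩ := hpre.twoStab_main hab hodd' hnil
  have hE : ∀ d ∈ stabilizer G a ⊓ stabilizer G b, ∀ d' ∈ stabilizer G a ⊓ stabilizer G b,
      d * d' = d' * d := by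
    intro d hd d' hd'
    letI := IsCyclic.commGroup (α := ↥(stabilizer G a ⊓ stabilizer G b : Subgroup G))
    have := mul_comm (⟨d, hd⟩ : ↥(stabilizer G a ⊓ stabilizer G b : Subgroup G)) ⟨d', hd'⟩
    exact congrArg Subtype.val this
  have hqcomm := quot_comm a H hHa hHtr hab hE
  have hcomm : ∀ x y : ↥(stabilizer G a),
      x * y * x⁻¹ * y⁻¹ ∈ H.subgroupOf (stabilizer G a) := by
    intro x y
    rw [← QuotientGroup.eq_one_iff]
    simp only [QuotientGroup.mk_mul, QuotientGroup.mk_inv]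
    rw [hqcomm (QuotientGroup.mk x) (QuotientGroup.mk y)]
    group
  -- linear characters
  have hlin : ∀ ν : ↥(stabilizer G a) → ℂ, IsIrrCharacter ↥(stabilizer G a) ν →
      (∀ k ∈ H.subgroupOf (stabilizer G a), ν k = ν 1) → ν ≠ (fun _ => 1) →
      IsIrrCharacter G (indFun (stabilizer G a) ν) := by
    intro ν hν hker hν1
    have hdeg : ν 1 = 1 := by
      set ν' : {χ : IrrCharacter ↥(stabilizer G a) //
          ∀ n ∈ H.subgroupOf (stabilizer G a), (χ : ↥(stabilizer G a) → ℂ) n =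
            (χ : ↥(stabilizer G a) → ℂ) 1} := ⟨⟨ν, hν⟩, hker⟩ with hν'
      have h1 := Helper83.irrQuotientEquiv_symm_apply (H.subgroupOf (stabilizer G a)) ν' 1
      have h2 := Helper83.irr_degree_one_of_comm hqcomm
        ((Helper83.irrQuotientEquiv (H.subgroupOf (stabilizer G a))).symm ν')
      rw [QuotientGroup.mk_one, h2] at h1
      exact h1.symm
    have hlt' : Nat.card ↥(stabilizer G a ⊓ stabilizer G b : Subgroup G) <
        Fintype.card Ω - 2 := by rw [he, hh]; omega
    exact (Cfsg.Agent.S0881.result hZ hab hodd' hlt' H hHa hHcard' hHfix ν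
      ⟨Helper83.isCharacter_of_irr hν, hdeg⟩
      (fun u hu => by rw [hker u (Subgroup.mem_subgroupOf.mpr hu), hdeg]) hν1).1
  -- the permutation character
  have hperm : ∃ θ : G → ℂ, IsIrrCharacter G θ ∧
      indFun (stabilizer G a) (fun _ : ↥(stabilizer G a) => (1 : ℂ)) = (fun _ => 1) + θ := by
    refine ⟨fun g => (Nat.card (fixedBy Ω g) : ℂ) - 1, ?_, ?_⟩
    · apply (Cfsg.Agent.S0157.result Ω ?_).mpr hZ.2.1
      rw [Nat.card_eq_fintype_card, hh]; omega
    · rw [← Cfsg.Agent.S0190.result Ω a]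
      funext g
      simp
  -- class counting
  have havoid := Cfsg.Agent.S0884.result hZ hab h e hh he hodd hlt H hHa hHcard' hHfix
  have hk := FeitCount.class_count (stabilizer G a) H hC hTI hqcomm e havoid
  -- coherence
  have hH1 : H.subgroupOf (stabilizer G a) ≠ ⊥ := by
    intro hh'
    rw [hh', Subgroup.card_bot] at hcardK
    omega
  have hH2 : H.subgroupOf (stabilizer G a) ≠ ⊤ := by
    intro hh'
    rw [hh', Subgroup.index_top] at hidx
    omega
  have hne : Nat.card ↥(H.subgroupOf (stabilizer G a)) ≠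
      (H.subgroupOf (stabilizer G a)).index + 1 := by
    rw [hcardK, hidx]; omega
  have hLIO := FeitTI.ind_isLIO (stabilizer G a) H hC hTI
  have hτ1 : ∀ α ∈ zspanOn {χ : ↥(stabilizer G a) → ℂ | FrobRel (H.subgroupOf (stabilizer G a)) χ}
      ({1}ᶜ : Set ↥(stabilizer G a)), indFun (stabilizer G a) α 1 = 0 :=
    fun α hα => FeitTI.ind_apply_one _ (mem_zspanOn_compl_one_iff.mp hα).2
  rcases Cfsg.Agent.S1535.result (H.subgroupOf (stabilizer G a)) hH1 hH2 hC hne
    (indFun (stabilizer G a)) hLIO hτ1 with hcoh | ⟨p, hp, ⟨m, hm⟩, -, -⟩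
  · exfalso
    obtain ⟨⟨α, hα, hα0⟩, star, hstar, hext⟩ := hcoh
    have htwo := two_of_ne_zero (fun χ hχ => hχ.1) hα hα0
    exact FeitCore.core_false (stabilizer G a) (H.subgroupOf (stabilizer G a)) hC _ rfl star
      hstar hext htwo h e hcardK hidx hG hcomm hlin hperm hk (by omega) hlt
  · exact ⟨p, m, hp, by rw [← hcardK]; exact hm⟩

end Main

section Small

/-- a nilpotent normal subgroup whose order is not a prime power contains non-identity elements
of three different orders -/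
theorem exists_three_orders {N : Type*} [Group N] [Finite N] (K : Subgroup N) [K.Normal]
    (hnil : Group.IsNilpotent K) (hnpp : ¬ ∃ p m : ℕ, p.Prime ∧ Nat.card K = p ^ m) :
    ∃ x : Fin 3 → N, (∀ i, x i ∈ K) ∧ (∀ i, x i ≠ 1) ∧
      Function.Injective (fun i => orderOf (x i)) := by
  classical
  have hK1 : Nat.card K ≠ 1 := fun hh => hnpp ⟨2, 0, Nat.prime_two, by rw [hh, pow_zero]⟩
  set p := (Nat.card K).minFac with hp_def
  have hp : p.Prime := Nat.minFac_prime hK1
  have hpK : p ∣ Nat.card K := Nat.minFac_dvd _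
  obtain ⟨P, Q, hPn, hQn, hPQ, hPQ', hcomm, ⟨k, hPk⟩, hpQ⟩ :=
    Cfsg.Agent.S1535.exists_hall_normal K hnil p hp
  have hPK : P ≤ K := hPQ ▸ le_sup_left
  have hQK : Q ≤ K := hPQ ▸ le_sup_right
  have hQ1 : Q ≠ ⊥ := by
    intro hQ
    rw [hQ, sup_bot_eq] at hPQ
    exact hnpp ⟨p, k, hp, by rw [← hPQ]; exact hPk⟩
  have hP1 : P ≠ ⊥ := by
    intro hP
    rw [hP, bot_sup_eq] at hPQ
    rw [hPQ] at hpQ
    exact hpQ hpK
  have hk0 : k ≠ 0 := by
    intro hk0
    rw [hk0, pow_zero] at hPk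
    exact hP1 (Subgroup.card_eq_one.mp hPk)
  haveI : Fact p.Prime := ⟨hp⟩
  obtain ⟨x, hx⟩ := exists_prime_orderOf_dvd_card' (G := P) p
    (by rw [hPk]; exact dvd_pow_self p hk0)
  have hQc1 : Nat.card Q ≠ 1 := fun hh => hQ1 (Subgroup.card_eq_one.mp hh)
  set q := (Nat.card Q).minFac with hq_def
  have hq : q.Prime := Nat.minFac_prime hQc1
  haveI : Fact q.Prime := ⟨hq⟩
  obtain ⟨y, hy⟩ := exists_prime_orderOf_dvd_card' (G := Q) q (Nat.minFac_dvd _)
  have hpq : p ≠ q := by
    intro hh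
    apply hpQ
    rw [hh]
    exact Nat.minFac_dvd _
  have hx' : orderOf (x : N) = p := by rw [Subgroup.orderOf_coe, hx]
  have hy' : orderOf (y : N) = q := by rw [Subgroup.orderOf_coe, hy]
  have hxy : orderOf ((x : N) * (y : N)) = p * q := by
    rw [Commute.orderOf_mul_eq_mul_orderOf_of_coprime (hcomm x x.2 y y.2), hx', hy']
    rw [hx', hy']
    exact (Nat.coprime_primes hp hq).mpr hpq
  have hne1 : ∀ z : N, 1 < orderOf z → z ≠ 1 := by
    intro z hz hz1
    rw [hz1, orderOf_one] at hz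
    omega
  have hp2 := hp.two_le
  have hq2 := hq.two_le
  have hpq2 : 1 < p * q := by nlinarith
  refine ⟨![(x : N), (y : N), (x : N) * (y : N)], ?_, ?_, ?_⟩
  · intro i
    fin_cases i
    · exact hPK x.2
    · exact hQK y.2
    · exact K.mul_mem (hPK x.2) (hQK y.2)
  · intro i
    fin_cases i
    · show (x : N) ≠ 1
      exact hne1 _ (by rw [hx']; omega)
    · show (y : N) ≠ 1
      exact hne1 _ (by rw [hy']; omega)
    · show (x : N) * (y : N) ≠ 1
      exact hne1 _ (by rw [hxy]; exact hpq2)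
  · intro i j hij
    have hpne : p ≠ p * q := by nlinarith
    have hqne : q ≠ p * q := by nlinarith
    have h0 : orderOf (![(x : N), (y : N), (x : N) * (y : N)] 0) = p := hx'
    have h1 : orderOf (![(x : N), (y : N), (x : N) * (y : N)] 1) = q := hy'
    have h2 : orderOf (![(x : N), (y : N), (x : N) * (y : N)] 2) = p * q := hxy
    fin_cases i <;> fin_cases j
    · rfl
    · exact absurd (h0.symm.trans (hij.trans h1)) hpq
    · exact absurd (h0.symm.trans (hij.trans h2)) hpne
    · exact absurd (h0.symm.trans (hij.symm.trans h1)) hpq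
    · rfl
    · exact absurd (h1.symm.trans (hij.trans h2)) hqne
    · exact absurd (h0.symm.trans (hij.symm.trans h2)) hpne
    · exact absurd (h1.symm.trans (hij.symm.trans h2)) hqne
    · rfl

/-- three non-identity kernel elements of different orders give three disjoint orbits of the
two-point stabilizer -/
theorem three_orders_bound {G Ω : Type*} [Group G] [Finite G] [MulAction G Ω] (hpre : ZPre G Ω)
    {a b : Ω} (hab : a ≠ b) (H : Subgroup G) (hHa : H ≤ stabilizer G a)
    (hHmem : ∀ x ∈ stabilizer G a, x ∈ H ↔ x = 1 ∨ ∀ c : Ω, c ≠ a → x • c ≠ c)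
    (x : Fin 3 → G) (hx : ∀ i, x i ∈ H) (hx1 : ∀ i, x i ≠ 1)
    (hord : Function.Injective (fun i => orderOf (x i))) :
    3 * Nat.card ↥(stabilizer G a ⊓ stabilizer G b : Subgroup G) + 1 ≤ Nat.card H := by
  classical
  have hmem : ∀ (i : Fin 3) (d : ↥(stabilizer G a ⊓ stabilizer G b : Subgroup G)),
      (d : G) * x i * (d : G)⁻¹ ∈ H := fun i d => ker_norm a H hHa hHmem d.2.1 (hx i)
  have hne : ∀ (i : Fin 3) (d : ↥(stabilizer G a ⊓ stabilizer G b : Subgroup G)),
      (⟨(d : G) * x i * (d : G)⁻¹, hmem i d⟩ : H) ≠ 1 := by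
    intro i d hh
    apply hx1 i
    have h1 : (d : G) * x i * (d : G)⁻¹ = 1 := congrArg Subtype.val hh
    have : x i = (d : G)⁻¹ * ((d : G) * x i * (d : G)⁻¹) * (d : G) := by group
    rw [this, h1]; group
  let F : Fin 3 × ↥(stabilizer G a ⊓ stabilizer G b : Subgroup G) → {u : H // u ≠ 1} :=
    fun z => ⟨⟨(z.2 : G) * x z.1 * (z.2 : G)⁻¹, hmem z.1 z.2⟩, hne z.1 z.2⟩
  have hF : Function.Injective F := by
    rintro ⟨i, d⟩ ⟨j, d'⟩ hh
    have h1 : (d : G) * x i * (d : G)⁻¹ = (d' : G) * x j * (d' : G)⁻¹ := by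
      have := congrArg (fun u : {u : H // u ≠ 1} => ((u : H) : G)) hh
      exact this
    have hij : i = j := by
      apply hord
      show orderOf (x i) = orderOf (x j)
      have e1 := orderOf_injective (MulAut.conj (d : G)).toMonoidHom (MulAut.conj (d : G)).injective
        (x i)
      have e2 := orderOf_injective (MulAut.conj (d' : G)).toMonoidHom
        (MulAut.conj (d' : G)).injective (x j)
      simp only [MulEquiv.toMonoidHom_eq_coe, MonoidHom.coe_coe, MulAut.conj_apply] at e1 e2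
      rw [← e1, ← e2, h1]
    subst hij
    have hcomm : ((d' : G)⁻¹ * (d : G)) * x i = x i * ((d' : G)⁻¹ * (d : G)) := by
      calc ((d' : G)⁻¹ * (d : G)) * x i
          = (d' : G)⁻¹ * ((d : G) * x i * (d : G)⁻¹) * (d : G) := by group
        _ = (d' : G)⁻¹ * ((d' : G) * x i * (d' : G)⁻¹) * (d : G) := by rw [h1]
        _ = x i * ((d' : G)⁻¹ * (d : G)) := by group
    have hw : (d' : G)⁻¹ * (d : G) ∈ H := ker_cent hpre a H hHa hHmem (hx i) (hx1 i) hcomm
    have hwb : ((d' : G)⁻¹ * (d : G)) • b = b := by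
      have hd : (d : G) • b = b := mem_stabilizer_iff.mp d.2.2
      have hd' : (d' : G) • b = b := mem_stabilizer_iff.mp d'.2.2
      rw [mul_smul, hd, inv_smul_eq_iff, hd']
    have hw1 : (d' : G)⁻¹ * (d : G) = 1 := by
      by_contra hw1
      exact hab (ker_fix a H hHa hHmem hw hw1 hwb).symm
    have hdd : d = d' := by
      apply Subtype.ext
      have := inv_mul_eq_one.mp hw1
      exact this.symm
    rw [hdd]
  have hcard := Nat.card_le_card_of_injective F hF
  rw [Nat.card_prod, Nat.card_fin] at hcard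
  have hH : Nat.card {u : H // u ≠ 1} + 1 = Nat.card H := by
    have := Nat.card_congr (Equiv.sumCompl (fun u : H => u = 1)).symm
    rw [Nat.card_sum] at this
    have hu : Nat.card {u : H // u = 1} = 1 := by
      rw [Nat.card_eq_fintype_card]
      exact Fintype.card_subtype_eq 1
    have hne' : Nat.card {u : H // ¬ u = 1} = Nat.card {u : H // u ≠ 1} := rfl
    omega
  omega

/-- **The case `h - 1 ≤ 2e`**: the degree minus one is a prime power. -/
theorem small_case {G Ω : Type*} [Group G] [Fintype G] [MulAction G Ω] [Fintype Ω]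
    (hZ : Cfsg.IsZassenhausGroup G Ω) {a b : Ω} (hab : a ≠ b)
    (h e : ℕ) (hh : Fintype.card Ω = h + 1)
    (he : Nat.card ↥(stabilizer G a ⊓ stabilizer G b : Subgroup G) = e)
    (hle : h - 1 ≤ 2 * e) : ∃ p m : ℕ, p.Prime ∧ h = p ^ m := by
  classical
  by_contra hcon
  have hpre := zpre_of_isZassenhausGroup hZ
  obtain ⟨H, hHa, hHmem, hHtr, -⟩ := hpre.exists_kernel a
  have hHreg : ∀ y z : Ω, y ≠ a → z ≠ a → ∃! u : H, (u : G) • y = z := by
    intro y z hy hz
    obtain ⟨k, hk, hkyz⟩ := hHtr y z hy hz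
    refine ⟨⟨k, hk⟩, hkyz, ?_⟩
    intro u hu
    have h1 : ((u : G)⁻¹ * k) ∈ H := H.mul_mem (H.inv_mem u.2) hk
    have h2 : ((u : G)⁻¹ * k) • y = y := by
      have hu' : (u : G) • y = z := hu
      rw [mul_smul, hkyz, ← hu', inv_smul_smul]
    rcases (hHmem _ (hHa h1)).mp h1 with h3 | h3
    · apply Subtype.ext
      exact inv_mul_eq_one.mp h3
    · exact absurd h2 (h3 y hy)
  obtain ⟨hHcard, -⟩ := hpre.card_of_regular_kernel hab H hHa hHreg
  have hHh : Nat.card H = h := by rw [hHcard, hh]; omega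
  letI : Fintype ↥(stabilizer G a) := Fintype.ofFinite _
  haveI hKn : (H.subgroupOf (stabilizer G a)).Normal := ker_normal a H hHa hHmem
  have hC := ker_hC hpre a H hHa hHmem
  have hcardK : Nat.card ↥(H.subgroupOf (stabilizer G a)) = h := by
    rw [Nat.card_congr (Subgroup.subgroupOfEquivOfLe hHa).toEquiv, hHh]
  have hH2 : H.subgroupOf (stabilizer G a) ≠ ⊤ := by
    intro hh'
    obtain ⟨x, hx1, hxa, hxb⟩ := hpre.two_stab_ne hab
    have hxN : x ∈ stabilizer G a := mem_stabilizer_iff.mpr hxa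
    have hxK : (⟨x, hxN⟩ : ↥(stabilizer G a)) ∈ H.subgroupOf (stabilizer G a) := by
      rw [hh']; exact Subgroup.mem_top _
    rw [Subgroup.mem_subgroupOf] at hxK
    exact hab (ker_fix a H hHa hHmem hxK hx1 hxb).symm
  have hnil := Cfsg.Agent.S1535.kernel_nilpotent (H.subgroupOf (stabilizer G a)) hC hH2
  have hnpp : ¬ ∃ p m : ℕ, p.Prime ∧ Nat.card ↥(H.subgroupOf (stabilizer G a)) = p ^ m := by
    rintro ⟨p, m, hp, hm⟩
    exact hcon ⟨p, m, hp, by rw [← hcardK]; exact hm⟩
  obtain ⟨x, hxK, hx1, hxord⟩ := exists_three_orders (H.subgroupOf (stabilizer G a)) hnil hnpp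
  have hbound := three_orders_bound hpre hab H hHa hHmem (fun i => ((x i : ↥(stabilizer G a)) : G))
    (fun i => Subgroup.mem_subgroupOf.mp (hxK i))
    (fun i hh' => hx1 i (Subtype.ext hh'))
    (by
      intro i j hij
      apply hxord
      simp only [Subgroup.orderOf_coe] at hij
      exact hij)
  rw [he, hHh] at hbound
  have hepos : 0 < e := by rw [← he]; exact Nat.card_pos
  omega

end Small

end Cfsg.Agent.Lib.Helper28.FeitZass
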