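import Mathlib
import Cfsg.Prelude.Def_Solvable
import Cfsg.Prelude.Def_Transfer
import Cfsg.Prelude.Def_CaseTheorems
import Cfsg.Agent.S0044
import Cfsg.Agent.Lib.Helper01.Fitting
import Cfsg.Agent.Lib.Helper59.BenderFStar

/-! K-GS (S4840) keystone 484012 AS1 `eq_one_of_centralizes_pCores` (helper28). -/

set_option autoImplicit false
set_option linter.unusedSectionVars false

namespace Cfsg.Agent.Lib.Helper28.GS

universe u

variable {Γ V : Type u} [Group Γ] [Finite Γ] [CommGroup V] [Finite V]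

/-- AS1 (MEDIUM): a `p`-element centralizing every `O_r(Γ)`, `r ≠ p`, is trivial. -/
theorem eq_one_of_centralizes_pCores (hsol : Group.IsSolvable Γ) (p : ℕ) [Fact p.Prime]
    (hB1 : ∀ M : Subgroup Γ, M.Normal → IsPGroup p M → M = ⊥)
    (x : Γ) (hx : ∃ k : ℕ, x ^ (p ^ k) = 1)
    (hc : ∀ r : ℕ, r.Prime → r ≠ p → x ∈ Subgroup.centralizer (Cfsg.pCore r Γ : Set Γ)) : x = 1 := by
  have : Group.IsSolvable Γ := hsol
  -- `O_p(Γ) = 1`
  have hOp : Cfsg.pCore p Γ = ⊥ := by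
    unfold Cfsg.pCore
    rw [eq_bot_iff]
    apply sSup_le
    rintro N ⟨hNn, hNp⟩
    rw [hB1 N hNn hNp]
  -- `F(Γ) ≤ C(x)`
  have hF : Cfsg.fittingSubgroup Γ ≤ Subgroup.centralizer ({x} : Set Γ) := by
    rw [Cfsg.Agent.Lib.Helper01.fitting_eq_iSup_pCore]
    apply iSup_le
    intro r
    by_cases hr : (r : ℕ) = p
    · rw [hr, hOp]; exact bot_le
    · intro y hy
      rw [Subgroup.mem_centralizer_iff]
      intro z hz
      rw [Set.mem_singleton_iff] at hz
      subst hz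
      have h1 := hc r r.2 hr
      rw [Subgroup.mem_centralizer_iff] at h1
      exact (h1 y hy).symm
  -- `x ∈ C(F(Γ)) ≤ F(Γ)`
  have hxC : x ∈ Subgroup.centralizer (Cfsg.fittingSubgroup Γ : Set Γ) := by
    rw [Subgroup.mem_centralizer_iff]
    intro y hy
    have h1 := hF hy
    rw [Subgroup.mem_centralizer_iff] at h1
    exact (h1 x (Set.mem_singleton x)).symm
  have hxF : x ∈ Cfsg.fittingSubgroup Γ := Cfsg.Agent.S0044.result hxC
  obtain ⟨k, hk⟩ := hx
  have hxp : x ∈ Cfsg.pCore p Γ := Cfsg.Agent.Lib.Helper59.Bender.mem_pCore_of_pow p hxF hk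
  rw [hOp, Subgroup.mem_bot] at hxp
  exact hxp

end Cfsg.Agent.Lib.Helper28.GS
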