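import Mathlib

set_option autoImplicit false

namespace Cfsg.Agent.Lib.Helper28.LTO

open Finset

/-- 236301 K-LTO-A (PSL_n, n = k+2). -/
theorem psl_bound (q k : ℕ) (hq : 2 ≤ q) :
    ∏ j ∈ range (k + 1), (q ^ (j + 2) - 1) < q ^ ((∑ i ∈ range (k + 2), i) + k + 1) := by
  induction k with
  | zero =>
    have hpos : 0 < q ^ 2 := by positivity
    simp [Finset.sum_range_succ]
    omega
  | succ k ih =>
    rw [Finset.prod_range_succ, Finset.sum_range_succ (fun i => i) (k + 2)]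
    have hpos : 0 < q ^ (k + 1 + 2) := by positivity
    have e : (∑ i ∈ range (k + 2), i) + (k + 2) + (k + 1) + 1
        = ((∑ i ∈ range (k + 2), i) + k + 1) + (k + 1 + 2) := by ring
    calc (∏ j ∈ range (k + 1), (q ^ (j + 2) - 1)) * (q ^ (k + 1 + 2) - 1)
        ≤ (∏ j ∈ range (k + 1), (q ^ (j + 2) - 1)) * q ^ (k + 1 + 2) :=
          Nat.mul_le_mul_left _ (Nat.sub_le _ _)
      _ < q ^ ((∑ i ∈ range (k + 2), i) + k + 1) * q ^ (k + 1 + 2) :=
          Nat.mul_lt_mul_of_pos_right ih hpos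
      _ = q ^ ((∑ i ∈ range (k + 2), i) + (k + 2) + (k + 1) + 1) := by
          rw [e, ← pow_add]

end Cfsg.Agent.Lib.Helper28.LTO
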