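import Mathlib
import Cfsg.Agent.Lib.Helper74.MinIdxDefs

set_option autoImplicit false

/-!
# S2140: common machinery for the cocycle keystones K13-K16 (for helper74)
-/

namespace Cfsg.Agent.Lib.Helper28.MinIdx

open Matrix Cfsg.Agent.Lib.Helper74.MinIdx

variable {κ : Type*} [Fintype κ] [DecidableEq κ] {F : Type*} [Field F]

lemma det_tvGL (u φ : κ → F) (h : φ ⬝ᵥ u = 0) :
    ((tvGL u φ h : GL κ F) : Matrix κ κ F).det = 1 := by
  rw [coe_tvGL, det_tvM, h, add_zero]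

/-- cocycle value at `1`. -/
lemma coc_one (r : GL κ F → κ → F)
    (hr : ∀ A B : GL κ F, r (A * B) =
      ((A : Matrix κ κ F).det)⁻¹ • r B + r A ᵥ* (B : Matrix κ κ F)) : r 1 = 0 := by
  have h := hr 1 1
  rw [mul_one] at h
  simp only [Units.val_one, det_one, inv_one, one_smul, vecMul_one] at h
  have : r 1 + 0 = r 1 + r 1 := by rw [add_zero]; exact h
  exact (add_left_cancel this).symm

/-- multiplying by a transvection on the right. -/
lemma coc_tv_right (r : GL κ F → κ → F)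
    (hr : ∀ A B : GL κ F, r (A * B) =
      ((A : Matrix κ κ F).det)⁻¹ • r B + r A ᵥ* (B : Matrix κ κ F))
    (A : GL κ F) (u φ : κ → F) (h : φ ⬝ᵥ u = 0) :
    r (A * tvGL u φ h) =
      ((A : Matrix κ κ F).det)⁻¹ • r (tvGL u φ h) + (r A + (r A ⬝ᵥ u) • φ) := by
  rw [hr, coe_tvGL, vecMul_tvM]

/-- multiplying by a transvection on the left. -/
lemma coc_tv_left (r : GL κ F → κ → F)
    (hr : ∀ A B : GL κ F, r (A * B) =
      ((A : Matrix κ κ F).det)⁻¹ • r B + r A ᵥ* (B : Matrix κ κ F))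
    (B : GL κ F) (u φ : κ → F) (h : φ ⬝ᵥ u = 0) :
    r (tvGL u φ h * B) = r B + r (tvGL u φ h) ᵥ* (B : Matrix κ κ F) := by
  rw [hr, det_tvGL, inv_one, one_smul]

/-- product of two transvections. -/
lemma coc_tv_tv (r : GL κ F → κ → F)
    (hr : ∀ A B : GL κ F, r (A * B) =
      ((A : Matrix κ κ F).det)⁻¹ • r B + r A ᵥ* (B : Matrix κ κ F))
    (u φ : κ → F) (h : φ ⬝ᵥ u = 0) (u' φ' : κ → F) (h' : φ' ⬝ᵥ u' = 0) :
    r (tvGL u φ h * tvGL u' φ' h') =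
      r (tvGL u' φ' h') + (r (tvGL u φ h) + (r (tvGL u φ h) ⬝ᵥ u') • φ') := by
  rw [coc_tv_right r hr, det_tvGL, inv_one, one_smul]

lemma tvM_mul_tvM_gen (u φ u' φ' : κ → F) :
    tvM u φ * tvM u' φ' = 1 + vecMulVec u φ + vecMulVec u' φ' + (φ ⬝ᵥ u') • vecMulVec u φ' := by
  simp only [tvM, Matrix.add_mul, Matrix.mul_add, Matrix.one_mul, Matrix.mul_one,
    vecMulVec_mul_vecMulVec]
  have : vecMulVec u ((φ ⬝ᵥ u') • φ') = (φ ⬝ᵥ u') • vecMulVec u φ' := by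
    ext i j; simp [vecMulVec_apply, mul_left_comm]
  rw [this]; abel

/-- two transvections commute when each axis kills the other centre. -/
lemma tvGL_comm (u φ : κ → F) (h : φ ⬝ᵥ u = 0) (u' φ' : κ → F) (h' : φ' ⬝ᵥ u' = 0)
    (h1 : φ ⬝ᵥ u' = 0) (h2 : φ' ⬝ᵥ u = 0) :
    tvGL u φ h * tvGL u' φ' h' = tvGL u' φ' h' * tvGL u φ h := by
  apply Units.ext
  rw [Units.val_mul, Units.val_mul, coe_tvGL, coe_tvGL, tvM_mul_tvM_gen, tvM_mul_tvM_gen, h1, h2,
    zero_smul, zero_smul]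
  abel

/-- the basic relation for two commuting transvections. -/
lemma coc_comm_rel (r : GL κ F → κ → F)
    (hr : ∀ A B : GL κ F, r (A * B) =
      ((A : Matrix κ κ F).det)⁻¹ • r B + r A ᵥ* (B : Matrix κ κ F))
    (u φ : κ → F) (h : φ ⬝ᵥ u = 0) (u' φ' : κ → F) (h' : φ' ⬝ᵥ u' = 0)
    (h1 : φ ⬝ᵥ u' = 0) (h2 : φ' ⬝ᵥ u = 0) :
    (r (tvGL u φ h) ⬝ᵥ u') • φ' = (r (tvGL u' φ' h') ⬝ᵥ u) • φ := by
  have e1 := coc_tv_tv r hr u φ h u' φ' h'
  have e2 := coc_tv_tv r hr u' φ' h' u φ h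
  rw [tvGL_comm u φ h u' φ' h' h1 h2, e2] at e1
  -- r T + (r T' + Y) = r T' + (r T + X)
  have : r (tvGL u φ h) + r (tvGL u' φ' h') + (r (tvGL u' φ' h') ⬝ᵥ u) • φ =
      r (tvGL u φ h) + r (tvGL u' φ' h') + (r (tvGL u φ h) ⬝ᵥ u') • φ' := by
    rw [add_assoc, e1]; abel
  exact (add_left_cancel this).symm

lemma single_dot_single_ne {a b : κ} (hab : a ≠ b) (x y : F) :
    (Pi.single a x : κ → F) ⬝ᵥ Pi.single b y = 0 := by
  rw [single_dotProduct, Pi.single_eq_of_ne hab, mul_zero]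

omit [Fintype κ] in
lemma single_one_ne_zero (a : κ) : (Pi.single a (1 : F) : κ → F) ≠ 0 := by
  intro h
  have := congrFun h a
  simp at this

end Cfsg.Agent.Lib.Helper28.MinIdx
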