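import Mathlib
import Cfsg.Agent.Lib.Helper74.MinIdxDefs
import Cfsg.Agent.Lib.Helper28.MinIdxCoc

set_option autoImplicit false

/-!
# S2140 keystone K13 (A1): cocycle on `GL_m`, `m ≥ 4`
-/

namespace Cfsg.Agent.Lib.Helper28.MinIdx

open Matrix Cfsg.Agent.Lib.Helper74.MinIdx

variable {κ : Type*} [Fintype κ] [DecidableEq κ] {F : Type*} [Field F]

/-- K13 (A1): `m ≥ 4`. -/
theorem K13_A1 (hκ : 4 ≤ Fintype.card κ) (r : GL κ F → κ → F)
    (hr : ∀ A B : GL κ F, r (A * B) =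
      ((A : Matrix κ κ F).det)⁻¹ • r B + r A ᵥ* (B : Matrix κ κ F)) :
    ∃ (u φ : κ → F) (h : φ ⬝ᵥ u = 0) (c : F), u ≠ 0 ∧ φ ≠ 0 ∧ r (tvGL u φ h) = c • φ := by
  obtain ⟨a, b, hab⟩ : ∃ a b : κ, a ≠ b :=
    Fintype.exists_pair_of_one_lt_card (by omega)
  have h0 : (Pi.single b (1 : F) : κ → F) ⬝ᵥ Pi.single a 1 = 0 :=
    single_dot_single_ne (Ne.symm hab) 1 1
  refine ⟨Pi.single a 1, Pi.single b 1, h0, r (tvGL _ _ h0) b, single_one_ne_zero a,
    single_one_ne_zero b, ?_⟩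
  ext k
  by_cases hk : k = b
  · subst hk
    simp
  · -- an index `l` outside `{a, b, k}`
    obtain ⟨l, hla, hlb, hlk⟩ : ∃ l, l ≠ a ∧ l ≠ b ∧ l ≠ k := by
      by_contra hcon
      have hsub : (Finset.univ : Finset κ) ⊆ {a, b, k} := by
        intro l _
        by_contra hl
        simp only [Finset.mem_insert, Finset.mem_singleton, not_or] at hl
        exact hcon ⟨l, hl.1, hl.2.1, hl.2.2⟩
      have h1 := Finset.card_le_card hsub
      have h2 : ({a, b, k} : Finset κ).card ≤ 3 := Finset.card_le_three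
      rw [Finset.card_univ] at h1
      omega
    have hT' : (Pi.single l (1 : F) : κ → F) ⬝ᵥ Pi.single k 1 = 0 :=
      single_dot_single_ne hlk 1 1
    have h1 : (Pi.single b (1 : F) : κ → F) ⬝ᵥ Pi.single k 1 = 0 :=
      single_dot_single_ne (Ne.symm hk) 1 1
    have h2 : (Pi.single l (1 : F) : κ → F) ⬝ᵥ Pi.single a 1 = 0 :=
      single_dot_single_ne hla 1 1
    have hrel := coc_comm_rel r hr (Pi.single a 1) (Pi.single b 1) h0
      (Pi.single k 1) (Pi.single l 1) hT' h1 h2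
    have hl := congrFun hrel l
    simp only [Pi.smul_apply, Pi.single_eq_same, smul_eq_mul, mul_one, dotProduct_single,
      Pi.single_eq_of_ne hlb, mul_zero] at hl
    rw [Pi.smul_apply, Pi.single_eq_of_ne hk, smul_zero]
    exact hl

end Cfsg.Agent.Lib.Helper28.MinIdx
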