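import Mathlib
import Cfsg.Agent.Lib.Helper74.MinIdxDefs
import Cfsg.Agent.Lib.Helper28.MinIdxCoc

set_option autoImplicit false

/-!
# S2140 keystone K16 (A4): cocycle on `GL_2(F)`, any field
-/

namespace Cfsg.Agent.Lib.Helper28.MinIdx

open Matrix Cfsg.Agent.Lib.Helper74.MinIdx

variable {κ : Type*} [Fintype κ] [DecidableEq κ] {F : Type*} [Field F]

/-- a diagonal matrix with nonzero entries, as an element of `GL`. -/
noncomputable def diagGL (d : κ → F) (hd : ∀ x, d x ≠ 0) : GL κ F :=
  Matrix.GeneralLinearGroup.mkOfDetNeZero (Matrix.diagonal d)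
    (by rw [Matrix.det_diagonal]; exact Finset.prod_ne_zero_iff.mpr (fun x _ => hd x))

@[simp] lemma coe_diagGL (d : κ → F) (hd : ∀ x, d x ≠ 0) :
    ((diagGL d hd : GL κ F) : Matrix κ κ F) = Matrix.diagonal d := rfl

/-- K16 (A4): `m = 2`. -/
theorem K16_A4 (hκ : Fintype.card κ = 2) (r : GL κ F → κ → F)
    (hr : ∀ A B : GL κ F, r (A * B) =
      ((A : Matrix κ κ F).det)⁻¹ • r B + r A ᵥ* (B : Matrix κ κ F)) :
    ∃ (u φ : κ → F) (h : φ ⬝ᵥ u = 0) (c : F), u ≠ 0 ∧ φ ≠ 0 ∧ r (tvGL u φ h) = c • φ := by
  obtain ⟨i, j, hij, huniv⟩ := Finset.card_eq_two.mp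
    (by rw [Finset.card_univ]; exact hκ : (Finset.univ : Finset κ).card = 2)
  have hk : ∀ k : κ, k = i ∨ k = j := fun k => by
    have := Finset.mem_univ k
    rw [huniv] at this
    simpa using this
  have h0 : ∀ c : F, (Pi.single j c : κ → F) ⬝ᵥ Pi.single i 1 = 0 :=
    fun c => single_dot_single_ne (Ne.symm hij) c 1
  obtain ⟨T, hT⟩ : ∃ T : F → GL κ F, ∀ c, T c = tvGL (Pi.single i 1) (Pi.single j c) (h0 c) :=
    ⟨_, fun _ => rfl⟩
  have hTmul : ∀ c c', T c * T c' = T (c + c') := by
    intro c c'
    apply Units.ext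
    rw [Units.val_mul, hT, hT, hT, coe_tvGL, coe_tvGL, coe_tvGL, tvM_mul_tvM _ _ _ (h0 c),
      ← Pi.single_add]
  have hadd : ∀ c c', r (T (c + c')) =
      r (T c') + (r (T c) + (r (T c) i) • Pi.single j c') := by
    intro c c'
    rw [← hTmul, hT c, hT c', coc_tv_tv r hr, dotProduct_single, mul_one]
  have hsym : ∀ c c', r (T c) i * c' = r (T c') i * c := by
    intro c c'
    have e1 := hadd c c'
    have e2 := hadd c' c
    rw [add_comm c' c, e1] at e2
    have := congrFun e2 j
    simp only [Pi.add_apply, Pi.smul_apply, Pi.single_eq_same, smul_eq_mul] at this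
    linear_combination this
  have hκ0 : r (T 1) i = 0 := by
    by_cases h2 : (2 : F) = 0
    · have e := hadd 1 1
      have h11 : (1 : F) + 1 = 0 := by rw [one_add_one_eq_two]; exact h2
      rw [h11] at e
      have hT0 : T 0 = 1 := by
        apply Units.ext
        rw [hT, coe_tvGL, Pi.single_zero, tvM_zero_right]
        rfl
      rw [hT0, coc_one r hr] at e
      have := congrFun e j
      simp only [Pi.zero_apply, Pi.add_apply, Pi.smul_apply, Pi.single_eq_same, smul_eq_mul,
        mul_one] at this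
      have h3 : r (T 1) j + r (T 1) j = 0 := by rw [← two_mul, h2, zero_mul]
      linear_combination (-1 : F) * this - h3
    · -- the diagonal element `diag(-1, 1)`
      have hd : ∀ x : κ, (if x = i then (-1 : F) else 1) ≠ 0 := by
        intro x; split_ifs <;> simp
      obtain ⟨D, hD⟩ : ∃ D : GL κ F, D = diagGL (fun x => if x = i then (-1 : F) else 1) hd :=
        ⟨_, rfl⟩
      have hDdet : ((D : GL κ F) : Matrix κ κ F).det = -1 := by
        rw [hD, coe_diagGL, Matrix.det_diagonal, Finset.prod_ite_eq']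
        simp
      have hDT : D * T 1 = T (-1) * D := by
        apply Units.ext
        rw [Units.val_mul, Units.val_mul, hT, hT, coe_tvGL, coe_tvGL, hD, coe_diagGL]
        ext a b
        rw [Matrix.diagonal_mul, Matrix.mul_diagonal]
        simp only [tvM, Matrix.add_apply, Matrix.one_apply, vecMulVec_apply, Pi.single_apply]
        rcases hk a with rfl | rfl <;> rcases hk b with rfl | rfl <;> simp [hij, Ne.symm hij]
      have e1 : r (D * T 1) = (-1 : F) • r (T 1) + (r D + (r D i) • Pi.single j 1) := by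
        rw [hT 1, coc_tv_right r hr, hDdet, dotProduct_single, mul_one]
        norm_num
      have e2 : r (T (-1) * D) = r D + r (T (-1)) ᵥ* Matrix.diagonal
          (fun x => if x = i then (-1 : F) else 1) := by
        rw [hT (-1), coc_tv_left r hr, hD, coe_diagGL]
      rw [hDT, e2] at e1
      have := congrFun e1 i
      simp only [Pi.add_apply, Pi.smul_apply, smul_eq_mul, vecMul_diagonal, if_true,
        Pi.single_eq_of_ne hij, mul_zero, add_zero] at this
      -- r D i + r (T (-1)) i * (-1) = -1 * r (T 1) i + r D i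
      have h3 := hsym (-1) 1
      -- r (T (-1)) i * 1 = r (T 1) i * (-1)
      have h4 : (2 : F) * r (T 1) i = 0 := by linear_combination this + h3
      rcases mul_eq_zero.mp h4 with h5 | h5
      · exact absurd h5 h2
      · exact h5
  refine ⟨Pi.single i 1, Pi.single j 1, h0 1, r (T 1) j, single_one_ne_zero i,
    single_one_ne_zero j, ?_⟩
  rw [← hT 1]
  ext k
  rcases hk k with rfl | rfl
  · rw [hκ0, Pi.smul_apply, Pi.single_eq_of_ne hij, smul_zero]
  · rw [Pi.smul_apply, Pi.single_eq_same, smul_eq_mul, mul_one]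

end Cfsg.Agent.Lib.Helper28.MinIdx
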