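import Mathlib
import Cfsg.Agent.Lib.Helper74.MinIdxDefs
import Cfsg.Agent.Lib.Helper28.MinIdxCoc
import Cfsg.Agent.Lib.Helper28.MinIdxK16

set_option autoImplicit false

/-!
# S2140 keystone K14 (A2): cocycle on `GL_3(q)`, `q ≥ 4`
-/

namespace Cfsg.Agent.Lib.Helper28.MinIdx

open Matrix Cfsg.Agent.Lib.Helper74.MinIdx

variable {κ : Type*} [Fintype κ] [DecidableEq κ] {F : Type*} [Field F]

/-- K14 (A2): `m = 3`, `q ≥ 4`. -/
theorem K14_A2 [Fintype F] (hκ : Fintype.card κ = 3) (hq : 4 ≤ Fintype.card F)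
    (r : GL κ F → κ → F)
    (hr : ∀ A B : GL κ F, r (A * B) =
      ((A : Matrix κ κ F).det)⁻¹ • r B + r A ᵥ* (B : Matrix κ κ F)) :
    ∃ (u φ : κ → F) (h : φ ⬝ᵥ u = 0) (c : F), u ≠ 0 ∧ φ ≠ 0 ∧ r (tvGL u φ h) = c • φ := by
  classical
  obtain ⟨i, j, k, hij, hik, hjk, huniv⟩ := Finset.card_eq_three.mp
    (by rw [Finset.card_univ]; exact hκ : (Finset.univ : Finset κ).card = 3)
  have hx : ∀ x : κ, x = i ∨ x = j ∨ x = k := fun x => by
    have := Finset.mem_univ x
    rw [huniv] at this
    simpa using this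
  have h0 : (Pi.single k (1 : F) : κ → F) ⬝ᵥ Pi.single i 1 = 0 :=
    single_dot_single_ne (Ne.symm hik) 1 1
  have h0' : (Pi.single j (1 : F) : κ → F) ⬝ᵥ Pi.single i 1 = 0 :=
    single_dot_single_ne (Ne.symm hij) 1 1
  obtain ⟨T, hT⟩ : ∃ T : GL κ F, T = tvGL (Pi.single i 1) (Pi.single k 1) h0 := ⟨_, rfl⟩
  have hrel := coc_comm_rel r hr (Pi.single i 1) (Pi.single k 1) h0
    (Pi.single i 1) (Pi.single j 1) h0' h0 h0'
  rw [← hT] at hrel
  have hi : r T i = 0 := by
    have := congrFun hrel j
    simpa only [Pi.smul_apply, dotProduct_single, mul_one, Pi.single_eq_same, smul_eq_mul,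
      Pi.single_eq_of_ne hjk, mul_zero] using this
  by_cases hμ : r T j = 0
  · refine ⟨Pi.single i 1, Pi.single k 1, h0, r T k, single_one_ne_zero i,
      single_one_ne_zero k, ?_⟩
    rw [← hT]
    ext x
    rcases hx x with rfl | rfl | rfl
    · rw [hi, Pi.smul_apply, Pi.single_eq_of_ne hik, smul_zero]
    · rw [hμ, Pi.smul_apply, Pi.single_eq_of_ne hjk, smul_zero]
    · rw [Pi.smul_apply, Pi.single_eq_same, smul_eq_mul, mul_one]
  · exfalso
    obtain ⟨t, ht0, ht1⟩ : ∃ t : F, t ≠ 0 ∧ t * t ≠ 1 := by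
      by_contra hcon
      have hsub : (Finset.univ : Finset F) ⊆ {0, 1, -1} := by
        intro t _
        by_cases ht : t = 0
        · simp [ht]
        · have htt : t * t = 1 := by
            by_contra h
            exact hcon ⟨t, ht, h⟩
          have : (t - 1) * (t + 1) = 0 := by linear_combination htt
          rcases mul_eq_zero.mp this with h | h
          · simp [sub_eq_zero.mp h]
          · simp [eq_neg_of_add_eq_zero_left h]
      have h1 := Finset.card_le_card hsub
      have h2 : ({0, 1, -1} : Finset F).card ≤ 3 := Finset.card_le_three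
      rw [Finset.card_univ] at h1
      omega
    have hd : ∀ x : κ, (if x = j then t else 1) ≠ 0 := by
      intro x; split_ifs
      · exact ht0
      · exact one_ne_zero
    obtain ⟨D, hD⟩ : ∃ D : GL κ F, D = diagGL (fun x => if x = j then t else 1) hd :=
      ⟨_, rfl⟩
    have hDdet : ((D : GL κ F) : Matrix κ κ F).det = t := by
      rw [hD, coe_diagGL, Matrix.det_diagonal, Finset.prod_ite_eq']
      simp
    have hDT : D * T = T * D := by
      apply Units.ext
      rw [Units.val_mul, Units.val_mul, hT, coe_tvGL, hD, coe_diagGL]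
      ext a b
      rw [Matrix.diagonal_mul, Matrix.mul_diagonal]
      simp only [tvM, Matrix.add_apply, Matrix.one_apply, vecMulVec_apply, Pi.single_apply]
      rcases hx a with rfl | rfl | rfl <;> rcases hx b with rfl | rfl | rfl <;>
        simp [hij, hik, hjk, Ne.symm hij, Ne.symm hik, Ne.symm hjk]
    have e1 : r (D * T) = t⁻¹ • r T + (r D + (r D i) • Pi.single k 1) := by
      rw [hT, coc_tv_right r hr, hDdet, dotProduct_single, mul_one]
    have e2 : r (T * D) = r D + r T ᵥ* Matrix.diagonal (fun x => if x = j then t else 1) := by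
      rw [hT, coc_tv_left r hr, hD, coe_diagGL]
    rw [hDT, e2] at e1
    have hjj := congrFun e1 j
    simp only [Pi.add_apply, Pi.smul_apply, smul_eq_mul, vecMul_diagonal, if_true,
      Pi.single_eq_of_ne hjk, mul_zero, add_zero] at hjj
    -- hjj : r D j + r T j * t = t⁻¹ * r T j + r D j
    have h3 : r T j * (t * t - 1) = 0 := by
      have h4 : t * (r T j * t) = t * (t⁻¹ * r T j) := by
        congr 1
        linear_combination hjj
      rw [← mul_assoc t t⁻¹, mul_inv_cancel₀ ht0, one_mul] at h4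
      linear_combination h4
    rcases mul_eq_zero.mp h3 with h5 | h5
    · exact hμ h5
    · exact ht1 (sub_eq_zero.mp h5)

end Cfsg.Agent.Lib.Helper28.MinIdx
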