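import Mathlib
import Cfsg.Agent.Lib.Helper74.MinIdxDefs
import Cfsg.Agent.Lib.Helper28.MinIdxCoc

set_option autoImplicit false

/-!
# S2140 keystone K15 (A3): cocycle on `GL_3(F)`, characteristic `≠ 2` (in particular `q = 3`)
-/

namespace Cfsg.Agent.Lib.Helper28.MinIdx

open Matrix Cfsg.Agent.Lib.Helper74.MinIdx

variable {κ : Type*} [Fintype κ] [DecidableEq κ] {F : Type*} [Field F]

/-- the Heisenberg argument: works whenever `2 ≠ 0`. -/
theorem K15_of_two_ne_zero (hκ : Fintype.card κ = 3) (h2 : (2 : F) ≠ 0)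
    (r : GL κ F → κ → F)
    (hr : ∀ A B : GL κ F, r (A * B) =
      ((A : Matrix κ κ F).det)⁻¹ • r B + r A ᵥ* (B : Matrix κ κ F)) :
    ∃ (u φ : κ → F) (h : φ ⬝ᵥ u = 0) (c : F), u ≠ 0 ∧ φ ≠ 0 ∧ r (tvGL u φ h) = c • φ := by
  obtain ⟨i, j, k, hij, hik, hjk, huniv⟩ := Finset.card_eq_three.mp
    (by rw [Finset.card_univ]; exact hκ : (Finset.univ : Finset κ).card = 3)
  have hx : ∀ x : κ, x = i ∨ x = j ∨ x = k := fun x => by
    have := Finset.mem_univ x
    rw [huniv] at this
    simpa using this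
  -- the three transvections
  have ha : (Pi.single j (1 : F) : κ → F) ⬝ᵥ Pi.single i 1 = 0 :=
    single_dot_single_ne (Ne.symm hij) 1 1
  have hb : (Pi.single k (1 : F) : κ → F) ⬝ᵥ Pi.single j 1 = 0 :=
    single_dot_single_ne (Ne.symm hjk) 1 1
  have hc : (Pi.single k (1 : F) : κ → F) ⬝ᵥ Pi.single i 1 = 0 :=
    single_dot_single_ne (Ne.symm hik) 1 1
  have ha' : (Pi.single j (1 : F) + Pi.single k (1 : F) : κ → F) ⬝ᵥ Pi.single i 1 = 0 := by
    rw [add_dotProduct, ha, hc, add_zero]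
  obtain ⟨a, hadef⟩ : ∃ a : GL κ F, a = tvGL (Pi.single i 1) (Pi.single j 1) ha := ⟨_, rfl⟩
  obtain ⟨b, hbdef⟩ : ∃ b : GL κ F, b = tvGL (Pi.single j 1) (Pi.single k 1) hb := ⟨_, rfl⟩
  obtain ⟨c, hcdef⟩ : ∃ c : GL κ F, c = tvGL (Pi.single i 1) (Pi.single k 1) hc := ⟨_, rfl⟩
  obtain ⟨a', ha'def⟩ : ∃ a' : GL κ F,
    a' = tvGL (Pi.single i 1) (Pi.single j 1 + Pi.single k 1) ha' := ⟨_, rfl⟩
  -- a and c commute
  have hrel_ac := coc_comm_rel r hr (Pi.single i 1) (Pi.single j 1) ha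
    (Pi.single i 1) (Pi.single k 1) hc ha hc
  rw [← hadef, ← hcdef] at hrel_ac
  have hci : r c i = 0 := by
    have := congrFun hrel_ac j
    simp only [Pi.smul_apply, dotProduct_single, mul_one, Pi.single_eq_same, smul_eq_mul,
      Pi.single_eq_of_ne hjk, mul_zero] at this
    exact this.symm
  -- b and c commute
  have hrel_bc := coc_comm_rel r hr (Pi.single j 1) (Pi.single k 1) hb
    (Pi.single i 1) (Pi.single k 1) hc hc hb
  rw [← hbdef, ← hcdef] at hrel_bc
  have hbi : r b i = r c j := by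
    have := congrFun hrel_bc k
    simpa only [Pi.smul_apply, dotProduct_single, mul_one, Pi.single_eq_same, smul_eq_mul]
      using this
  -- a * c = a'
  have hac : a * c = a' := by
    apply Units.ext
    rw [Units.val_mul, hadef, hcdef, ha'def, coe_tvGL, coe_tvGL, coe_tvGL,
      tvM_mul_tvM _ _ _ ha]
  -- a * b = b * a'
  have hab : a * b = b * a' := by
    apply Units.ext
    rw [Units.val_mul, Units.val_mul, hadef, hbdef, ha'def, coe_tvGL, coe_tvGL, coe_tvGL,
      tvM_mul_tvM_gen, tvM_mul_tvM_gen, hc, zero_smul, add_zero,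
      single_dotProduct, Pi.single_eq_same, mul_one, one_smul]
    have : vecMulVec (Pi.single i (1 : F) : κ → F) (Pi.single j 1 + Pi.single k 1) =
        vecMulVec (Pi.single i (1 : F) : κ → F) (Pi.single j 1) +
        vecMulVec (Pi.single i (1 : F) : κ → F) (Pi.single k 1) := by
      ext x y; simp [vecMulVec_apply, mul_add]
    rw [this]; abel
  have e1 : r (a * b) = r b + (r a + (r a j) • Pi.single k 1) := by
    rw [hadef, hbdef, coc_tv_tv r hr, dotProduct_single, mul_one]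
  have e2 : r (b * a') = r a' + (r b + (r b i) • (Pi.single j 1 + Pi.single k 1)) := by
    rw [hbdef, ha'def, coc_tv_tv r hr, dotProduct_single, mul_one]
  have e3 : r a' = r c + (r a + (r a i) • Pi.single k 1) := by
    rw [← hac, hadef, hcdef, coc_tv_tv r hr, dotProduct_single, mul_one]
  rw [hab, e2, e3] at e1
  have hj := congrFun e1 j
  simp only [Pi.add_apply, Pi.smul_apply, smul_eq_mul, Pi.single_eq_same,
    Pi.single_eq_of_ne hjk, mul_zero, add_zero, mul_one] at hj
  -- hj : r c j + r a j + (r b j + r b i) = r b j + r a j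
  have hcj : r c j = 0 := by
    have h4 : (2 : F) * r c j = 0 := by rw [hbi] at hj; linear_combination hj
    rcases mul_eq_zero.mp h4 with h5 | h5
    · exact absurd h5 h2
    · exact h5
  refine ⟨Pi.single i 1, Pi.single k 1, hc, r c k, single_one_ne_zero i,
    single_one_ne_zero k, ?_⟩
  rw [← hcdef]
  ext x
  rcases hx x with rfl | rfl | rfl
  · rw [hci, Pi.smul_apply, Pi.single_eq_of_ne hik, smul_zero]
  · rw [hcj, Pi.smul_apply, Pi.single_eq_of_ne hjk, smul_zero]
  · rw [Pi.smul_apply, Pi.single_eq_same, smul_eq_mul, mul_one]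

/-- K15 (A3): `m = 3`, `q = 3`. -/
theorem K15_A3 [Fintype F] (hκ : Fintype.card κ = 3) (hq : Fintype.card F = 3)
    (r : GL κ F → κ → F)
    (hr : ∀ A B : GL κ F, r (A * B) =
      ((A : Matrix κ κ F).det)⁻¹ • r B + r A ᵥ* (B : Matrix κ κ F)) :
    ∃ (u φ : κ → F) (h : φ ⬝ᵥ u = 0) (c : F), u ≠ 0 ∧ φ ≠ 0 ∧ r (tvGL u φ h) = c • φ := by
  have h3 : (3 : F) = 0 := by
    have := FiniteField.cast_card_eq_zero F
    rw [hq] at this
    exact_mod_cast this
  have h2 : (2 : F) ≠ 0 := by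
    intro h2
    have : (1 : F) = 0 := by linear_combination h3 - h2
    exact one_ne_zero this
  exact K15_of_two_ne_zero hκ h2 r hr

end Cfsg.Agent.Lib.Helper28.MinIdx
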