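import Mathlib
import Cfsg.Agent.Lib.Helper22.NseDefs

/-! K-NSE (S3431) keystone 343106 C4 `arith_A4` (helper28): pure arithmetic. -/

set_option autoImplicit false

namespace Cfsg.Agent.Lib.Helper28.Nse

open Cfsg.Agent.Lib.Helper22.Nse

theorem arith_A4 {N : ℕ} {S : ℕ → ℕ} (H : NseHyp N S {1, 3, 8}) : N = 12 ∧ S 3 = 8 := by
  -- values
  have hmem : ∀ m, S m = 0 ∨ S m = 1 ∨ S m = 3 ∨ S m = 8 := by
    intro m
    by_cases h : S m = 0
    · exact Or.inl h
    · have := H.mem m h
      simp only [Finset.mem_insert, Finset.mem_singleton] at this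
      exact Or.inr this
  have hval : ∀ m, 3 ≤ m → S m = 0 ∨ S m = 8 := by
    intro m hm
    have he : Even (Nat.totient m) := Nat.totient_even (by omega)
    have hd := H.phi m
    have h2 : 2 ∣ S m := (even_iff_two_dvd.mp he).trans hd
    rcases hmem m with h | h | h | h
    · exact Or.inl h
    · omega
    · omega
    · exact Or.inr h
  have hS0 : S 0 = 0 := by
    have := H.phi 0
    rwa [Nat.totient_zero, zero_dvd_iff] at this
  have hS1 : S 1 = 1 := H.one
  have hS2 : S 2 = 3 := by
    obtain ⟨m, hm⟩ := H.attained 3 (by simp)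
    rcases Nat.lt_or_ge m 3 with h | h
    · interval_cases m
      · omega
      · omega
      · exact hm
    · rcases hval m h with h' | h' <;> omega
  have h2N : 2 ∣ N := H.dvd 2 (by omega)
  have hS9 : S 9 = 0 := by
    rcases hval 9 (by norm_num) with h | h
    · exact h
    · have := H.phi 9
      rw [h, show Nat.totient 9 = 6 by decide] at this
      omega
  -- primes
  have hprimes : ∀ p, p.Prime → p ∣ N → p = 2 ∨ p = 3 := by
    intro p hp hpN
    by_cases hp2 : p = 2
    · exact Or.inl hp2
    · right
      have hp3 : 3 ≤ p := by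
        have := hp.two_le
        omega
      have hSp : S p = 8 := by
        rcases hval p hp3 with h | h
        · exact absurd h (H.cauchy p hp hpN)
        · exact h
      have hf := H.frob p hpN
      rw [hp.sum_divisors, hSp, hS1] at hf
      have h9 : p ∣ 3 ^ 2 := by norm_num; exact hf
      exact (Nat.prime_dvd_prime_iff_eq hp Nat.prime_three).mp (hp.dvd_of_dvd_pow h9)
  -- 8 ∤ N
  have h8 : ¬ 8 ∣ N := by
    intro h
    have hf := H.frob 8 h
    rw [show Nat.divisors 8 = {1, 2, 4, 8} by decide] at hf
    rw [Finset.sum_insert (by decide), Finset.sum_insert (by decide),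
      Finset.sum_insert (by decide), Finset.sum_singleton] at hf
    rw [hS1, hS2] at hf
    rcases hval 4 (by norm_num) with h4 | h4 <;> rcases hval 8 (by norm_num) with h8' | h8' <;>
      rw [h4, h8'] at hf <;> omega
  -- support
  have hsupp : ∀ x, S x ≠ 0 → x ∣ 12 := by
    intro x hx
    have hx0 : x ≠ 0 := by
      rintro rfl
      exact hx hS0
    have hxN : x ∣ N := H.dvd x hx
    obtain ⟨i, y, hy, rfl⟩ := Nat.exists_eq_two_pow_mul_odd hx0
    have hi : i ≤ 2 := by
      by_contra hcon
      apply h8
      refine dvd_trans ?_ hxN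
      exact Dvd.dvd.mul_right (pow_dvd_pow 2 (by omega : 3 ≤ i)) y
    have hy0 : y ≠ 0 := by
      rintro rfl
      exact hx0 (by simp)
    have hy3 := Nat.eq_prime_pow_of_unique_prime_dvd (p := 3) hy0 (by
      intro d hd hdy
      have hdN : d ∣ N := (hdy.trans (Dvd.intro_left _ rfl)).trans hxN
      rcases hprimes d hd hdN with h | h
      · exfalso
        rw [h] at hdy
        rcases hy with ⟨k, rfl⟩
        omega
      · exact h)
    set j := y.primeFactorsList.length with hj
    have hj1 : j ≤ 1 := by
      by_contra hcon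
      have h9 : 9 ∣ 2 ^ i * y := by
        rw [hy3]
        exact Dvd.dvd.mul_left (by
          have : (9 : ℕ) = 3 ^ 2 := by norm_num
          rw [this]
          exact pow_dvd_pow 3 (by omega)) _
      exact H.closed _ 9 hx h9 hS9
    rw [hy3]
    have : (12 : ℕ) = 2 ^ 2 * 3 ^ 1 := by norm_num
    rw [this]
    exact Nat.mul_dvd_mul (pow_dvd_pow 2 hi) (pow_dvd_pow 3 hj1)
  -- total ≤ 36
  have htot := H.total
  have hle : N ≤ 36 := by
    have h1 : ∑ d ∈ N.divisors, S d ≤ ∑ d ∈ Nat.divisors 12, S d := by
      apply Finset.sum_le_sum_of_ne_zero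
      intro x _ hx
      exact Nat.mem_divisors.mpr ⟨hsupp x hx, by norm_num⟩
    rw [show Nat.divisors 12 = {1, 2, 3, 4, 6, 12} by decide] at h1
    rw [Finset.sum_insert (by decide), Finset.sum_insert (by decide),
      Finset.sum_insert (by decide), Finset.sum_insert (by decide),
      Finset.sum_insert (by decide), Finset.sum_singleton] at h1
    rw [hS1, hS2] at h1
    have a3 := hval 3 (by norm_num)
    have a4 := hval 4 (by norm_num)
    have a6 := hval 6 (by norm_num)
    have a12 := hval 12 (by norm_num)
    omega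
  -- N ≡ 4 mod 8 and N ≥ 12
  have hN0 : N ≠ 0 := H.pos.ne'
  have h1mem : 1 ∈ N.divisors := Nat.mem_divisors.mpr ⟨one_dvd _, hN0⟩
  have h2mem : 2 ∈ N.divisors.erase 1 :=
    Finset.mem_erase.mpr ⟨by norm_num, Nat.mem_divisors.mpr ⟨h2N, hN0⟩⟩
  have hsplit : N = 1 + (3 + ∑ x ∈ (N.divisors.erase 1).erase 2, S x) := by
    conv_lhs => rw [htot]
    rw [← Finset.add_sum_erase _ _ h1mem, ← Finset.add_sum_erase _ _ h2mem, hS1, hS2]
  have hrest : 8 ∣ ∑ x ∈ (N.divisors.erase 1).erase 2, S x := by
    apply Finset.dvd_sum
    intro x hx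
    rw [Finset.mem_erase, Finset.mem_erase, Nat.mem_divisors] at hx
    obtain ⟨hx2, hx1, hxN, _⟩ := hx
    have hx0 : x ≠ 0 := by
      rintro rfl
      exact hN0 (zero_dvd_iff.mp hxN)
    rcases hval x (by omega) with h | h
    · rw [h]; exact dvd_zero 8
    · rw [h]
  -- an element with S m = 8
  obtain ⟨m, hm⟩ := H.attained 8 (by simp)
  have hm3 : 3 ≤ m := by
    by_contra hcon
    have : m < 3 := by omega
    interval_cases m <;> omega
  have hmN : m ∣ N := H.dvd m (by omega)
  have hmmem : m ∈ (N.divisors.erase 1).erase 2 := by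
    rw [Finset.mem_erase, Finset.mem_erase, Nat.mem_divisors]
    exact ⟨by omega, by omega, hmN, hN0⟩
  have hge : 8 ≤ ∑ x ∈ (N.divisors.erase 1).erase 2, S x := by
    rw [← hm]
    exact Finset.single_le_sum (f := S) (fun _ _ => Nat.zero_le _) hmmem
  obtain ⟨k, hk⟩ := hrest
  have hN12 : N = 12 := by
    have hk1 : 1 ≤ k := by omega
    have hk4 : k ≤ 4 := by omega
    interval_cases k
    · omega
    · -- N = 20
      exfalso
      have hN : N = 20 := by omega
      have := hprimes 5 (by norm_num) (by rw [hN]; norm_num)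
      omega
    · exfalso
      have hN : N = 28 := by omega
      have := hprimes 7 (by norm_num) (by rw [hN]; norm_num)
      omega
    · -- N = 36
      exfalso
      have hN : N = 36 := by omega
      have hS18 : S 18 = 0 := by
        by_contra h
        exact H.closed 18 9 h (by norm_num) hS9
      have hS36 : S 36 = 0 := by
        by_contra h
        exact H.closed 36 9 h (by norm_num) hS9
      have ht := htot
      rw [hN, show Nat.divisors 36 = {1, 2, 3, 4, 6, 9, 12, 18, 36} by decide] at ht
      rw [Finset.sum_insert (by decide), Finset.sum_insert (by decide),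
        Finset.sum_insert (by decide), Finset.sum_insert (by decide),
        Finset.sum_insert (by decide), Finset.sum_insert (by decide),
        Finset.sum_insert (by decide), Finset.sum_insert (by decide), Finset.sum_singleton] at ht
      rw [hS1, hS2, hS9, hS18, hS36] at ht
      have hf := H.frob 18 (by rw [hN]; norm_num)
      rw [show Nat.divisors 18 = {1, 2, 3, 6, 9, 18} by decide] at hf
      rw [Finset.sum_insert (by decide), Finset.sum_insert (by decide),
        Finset.sum_insert (by decide), Finset.sum_insert (by decide),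
        Finset.sum_insert (by decide), Finset.sum_singleton] at hf
      rw [hS1, hS2, hS9, hS18] at hf
      have a3 := hval 3 (by norm_num)
      have a4 := hval 4 (by norm_num)
      have a6 := hval 6 (by norm_num)
      have a12 := hval 12 (by norm_num)
      have h36 : S 3 = 8 ∧ S 6 = 8 := by omega
      rw [h36.1, h36.2] at hf
      omega
  refine ⟨hN12, ?_⟩
  rcases hval 3 (by norm_num) with h | h
  · exact absurd h (H.cauchy 3 Nat.prime_three (by rw [hN12]; norm_num))
  · exact h

end Cfsg.Agent.Lib.Helper28.Nse
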