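import Cfsg.Agent.Lib.Helper38.OhP.Defs
import Cfsg.Agent.Lib.Helper63.OhA

/-!
# K-OhP-A, part 1: counting the values of a quadratic form on an orthogonal sum, characteristic two
-/

set_option autoImplicit false
set_option linter.unusedSectionVars false
set_option linter.unusedVariables false

namespace Cfsg.Agent.Lib.Helper28.OhP

open Module Cfsg.Agent.Lib.Helper98.Elus Cfsg.Agent.Lib.Helper98.Sy Cfsg.Agent.Lib.Helper38.OhP

universe u
variable {F : Type u} [Field F] {V : Type u} [AddCommGroup V] [Module F V]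

/-- number of vectors of `W` where `Q` takes the value `a` -/
noncomputable def cnt (Q : QuadraticForm F V) (W : Submodule F V) (a : F) : ℕ :=
  Nat.card {w : W // Q (w : V) = a}

/-- a sum of a function constant off zero -/
theorem sum_const_off_zero [Fintype F] [DecidableEq F] (f : F → ℕ) (c : ℕ)
    (h : ∀ a : F, a ≠ 0 → f a = c) :
    ∑ a : F, f a = f 0 + (Fintype.card F - 1) * c := by
  rw [← Finset.add_sum_erase Finset.univ f (Finset.mem_univ (0 : F))]
  congr 1
  rw [Finset.sum_congr rfl (fun a ha => h a (Finset.ne_of_mem_erase ha)), Finset.sum_const,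
    Finset.card_erase_of_mem (Finset.mem_univ _), Finset.card_univ, smul_eq_mul]

/-- in characteristic two, all nonzero values are taken equally often -/
theorem cnt_eq_cnt_one [Fintype F] (h2 : (2 : F) = 0) (Q : QuadraticForm F V) (W : Submodule F V)
    (a : F) (ha : a ≠ 0) : cnt Q W a = cnt Q W 1 := by
  have hc : CharP F 2 := CharTwo.of_one_ne_zero_of_two_eq_zero one_ne_zero h2
  obtain ⟨s, hs⟩ := FiniteField.isSquare_of_char_two (ringChar.eq F 2) a
  have hs0 : s ≠ 0 := by
    rintro rfl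
    rw [mul_zero] at hs
    exact ha hs
  unfold cnt
  refine Nat.card_congr
    { toFun := fun w => ⟨s⁻¹ • w.1, ?_⟩
      invFun := fun w => ⟨s • w.1, ?_⟩
      left_inv := ?_
      right_inv := ?_ }
  · show Q ((s⁻¹ • w.1 : W) : V) = 1
    rw [Submodule.coe_smul, QuadraticMap.map_smul, w.2, hs, smul_eq_mul]
    field_simp
  · show Q ((s • w.1 : W) : V) = a
    rw [Submodule.coe_smul, QuadraticMap.map_smul, w.2, hs, smul_eq_mul, mul_one]
  · intro w
    apply Subtype.ext
    show s • s⁻¹ • w.1 = w.1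
    rw [smul_smul, mul_inv_cancel₀ hs0, one_smul]
  · intro w
    apply Subtype.ext
    show s⁻¹ • s • w.1 = w.1
    rw [smul_smul, inv_mul_cancel₀ hs0, one_smul]

/-- the fibres of `Q` partition `W` -/
theorem sum_cnt [Fintype F] [FiniteDimensional F V] (Q : QuadraticForm F V) (W : Submodule F V) :
    ∑ a : F, cnt Q W a = Nat.card W := by
  have : Finite V := Module.finite_of_finite F
  unfold cnt
  rw [← Nat.card_sigma]
  exact Nat.card_congr (Equiv.sigmaFiberEquiv (fun w : W => Q (w : V)))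

theorem card_eq_cnt [Fintype F] [FiniteDimensional F V] (h2 : (2 : F) = 0)
    (Q : QuadraticForm F V) (W : Submodule F V) :
    Nat.card W = cnt Q W 0 + (Fintype.card F - 1) * cnt Q W 1 := by
  classical
  rw [← sum_cnt Q W]
  exact sum_const_off_zero _ _ (fun a ha => cnt_eq_cnt_one h2 Q W a ha)

/-- `Q` is additive on orthogonal vectors -/
theorem Q_add_of_ort (Q : QuadraticForm F V) {a b : V} (h : pB Q a b = 0) :
    Q (a + b) = Q a + Q b := by
  rw [pB_apply] at h
  linear_combination h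

/-- the zeros of `Q` on an orthogonal sum, characteristic two -/
theorem cnt_sup_zero [Fintype F] [FiniteDimensional F V] (h2 : (2 : F) = 0)
    (Q : QuadraticForm F V) (W1 W2 : Submodule F V) (hdisj : W1 ⊓ W2 = ⊥)
    (hort : Ort (pB Q) W1 W2) :
    cnt Q (W1 ⊔ W2) 0 = cnt Q W1 0 * cnt Q W2 0 +
      (Fintype.card F - 1) * (cnt Q W1 1 * cnt Q W2 1) := by
  classical
  have : Finite V := Module.finite_of_finite F
  have hneg : ∀ x y : F, x + y = 0 ↔ x = y := by
    intro x y
    have hyy : y + y = 0 := by rw [← two_mul, h2, zero_mul]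
    constructor
    · intro h
      have : x = x + (y + y) := by rw [hyy, add_zero]
      rw [this, ← add_assoc, h, zero_add]
    · rintro rfl; exact hyy
  have e1 : cnt Q (W1 ⊔ W2) 0 = Nat.card {p : W1 × W2 // Q (p.1 : V) = Q (p.2 : V)} := by
    unfold cnt
    refine (Nat.card_congr ?_).symm
    refine (Cfsg.Agent.Lib.Helper63.Oh.supEquiv W1 W2 hdisj).toEquiv.subtypeEquiv ?_
    intro p
    show Q (p.1 : V) = Q (p.2 : V) ↔
      Q ((Cfsg.Agent.Lib.Helper63.Oh.supEquiv W1 W2 hdisj p : ↥(W1 ⊔ W2)) : V) = 0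
    rw [Cfsg.Agent.Lib.Helper63.Oh.supEquiv_coe, Q_add_of_ort Q (hort _ p.1.2 _ p.2.2), hneg]
  have e2 : Nat.card {p : W1 × W2 // Q (p.1 : V) = Q (p.2 : V)} =
      ∑ a : F, cnt Q W1 a * cnt Q W2 a := by
    unfold cnt
    simp_rw [← Nat.card_prod]
    rw [← Nat.card_sigma]
    refine Nat.card_congr
      { toFun := fun p => ⟨Q (p.1.1 : V), ⟨p.1.1, rfl⟩, ⟨p.1.2, p.2.symm⟩⟩
        invFun := fun x => ⟨(x.2.1.1, x.2.2.1), x.2.1.2.trans x.2.2.2.symm⟩
        left_inv := fun p => rfl
        right_inv := ?_ }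
    rintro ⟨a, ⟨w1, h1⟩, ⟨w2, h2'⟩⟩
    subst h1
    rfl
  rw [e1, e2]
  refine sum_const_off_zero _ _ (fun a ha => ?_)
  rw [cnt_eq_cnt_one h2 Q W1 a ha, cnt_eq_cnt_one h2 Q W2 a ha]

end Cfsg.Agent.Lib.Helper28.OhP
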