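import Cfsg.Agent.Lib.Helper28.OhPA1
import Cfsg.Agent.Lib.Helper50.MinusParam
import Cfsg.Agent.Lib.Helper50.WittMain

/-!
# K-OhP-A, part 2: the number of singular vectors of a nondegenerate subspace decides its type
-/

set_option autoImplicit false
set_option linter.unusedSectionVars false
set_option linter.unusedVariables false

namespace Cfsg.Agent.Lib.Helper28.OhP

open Module Cfsg.Agent.Lib.Helper98.Elus Cfsg.Agent.Lib.Helper98.Sy Cfsg.Agent.Lib.Helper38.OhP
open Cfsg.Agent.Lib.Helper50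

universe u
variable {F : Type u} [Field F] {V : Type u} [AddCommGroup V] [Module F V]

/-- the restriction of `Q` to `W` -/
noncomputable abbrev resQ (Q : QuadraticForm F V) (W : Submodule F V) : QuadraticForm F W :=
  Q.comp W.subtype

theorem resQ_apply (Q : QuadraticForm F V) (W : Submodule F V) (w : W) :
    resQ Q W w = Q (w : V) := rfl

theorem qnd_resQ (Q : QuadraticForm F V) (W : Submodule F V) (h : NonDeg (pB Q) W) :
    QND (resQ Q W) := by
  intro v hv
  have := h (v : V) v.2 (fun w hw => by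
    have := hv ⟨w, hw⟩
    rw [pB_apply]
    exact this)
  exact Subtype.ext this

/-- `PlusQ` in terms of the restricted form -/
theorem plusQ_iff_isPlusType [Finite F] [FiniteDimensional F V] (Q : QuadraticForm F V)
    (W : Submodule F V) (h : NonDeg (pB Q) W) (k : ℕ) (hk : finrank F W = 2 * k) :
    PlusQ Q W ↔ IsPlusType (resQ Q W) k := by
  constructor
  · rintro ⟨U, hUW, hU, hUd⟩
    refine plusType_of_totally_singular k (resQ Q W) (qnd_resQ Q W h) hk
      (U.comap W.subtype) ?_ ?_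
    · rw [LinearEquiv.finrank_eq (Submodule.comapSubtypeEquivOfLe hUW)]
      omega
    · intro x hx
      exact hU (x : V) hx
  · intro hp
    obtain ⟨X, hXd, hX⟩ := exists_totally_singular_of_plusType (resQ Q W) k hp
    refine ⟨X.map W.subtype, ?_, ?_, ?_⟩
    · rintro _ ⟨x, -, rfl⟩
      exact x.2
    · rintro _ ⟨x, hx, rfl⟩
      exact hX x hx
    · rw [Submodule.finrank_map_subtype_eq, hXd, hk]

/-- the count of singular vectors: `q^m (q q^m + e (q - 1))`, `e = 1` for plus type, `e = -1` otherwise -/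
theorem count_type [Fintype F] [FiniteDimensional F V] (Q : QuadraticForm F V)
    (W : Submodule F V) (h : NonDeg (pB Q) W) (m : ℕ) (hm : finrank F W = 2 * (m + 1)) :
    ∃ e : ℤ, (e = 1 ∨ e = -1) ∧ (e = 1 ↔ PlusQ Q W) ∧
      (cnt Q W 0 : ℤ) = (Fintype.card F : ℤ) ^ m *
        ((Fintype.card F : ℤ) * (Fintype.card F : ℤ) ^ m + e * ((Fintype.card F : ℤ) - 1)) := by
  classical
  have hq1 : 1 ≤ Fintype.card F := Fintype.card_pos
  rcases witt_type (2 * (m + 1)) (resQ Q W) hm (qnd_resQ Q W h) with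
    ⟨m', hm', hp⟩ | ⟨m', ζ, hm', hζ, hmin⟩ | ⟨m', c, hm', -, -⟩
  · -- plus type
    have hmm : m' = m + 1 := by omega
    subst hmm
    refine ⟨1, Or.inl rfl, ⟨fun _ => (plusQ_iff_isPlusType Q W h (m + 1) hm).mpr hp, fun _ => rfl⟩, ?_⟩
    obtain ⟨φ, hφ⟩ := hp
    have hc : cnt Q W 0 =
        Nat.card {v : Fin (m + 1) ⊕ Fin (m + 1) → F // Cfsg.quadFormPlus (m + 1) F v = 0} := by
      unfold cnt
      refine Nat.card_congr (φ.toEquiv.subtypeEquiv ?_)
      intro w
      show Q (w : V) = 0 ↔ Cfsg.quadFormPlus (m + 1) F (φ w) = 0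
      rw [hφ w, resQ_apply]
    rw [hc, card_zeros_plus]
    have h1 : 1 ≤ Fintype.card F ^ (m + 1) := Nat.one_le_pow _ _ hq1
    push_cast [Nat.cast_sub h1]
    ring
  · -- minus type
    have hmm : m' = m := by omega
    subst hmm
    have hnot : ¬ PlusQ Q W := by
      intro hP
      have hp := (plusQ_iff_isPlusType Q W h (m' + 1) hm).mp hP
      exact not_plus_and_minus (resQ Q W) m' ζ hζ hp hmin
    refine ⟨-1, Or.inr rfl, ⟨fun hcon => absurd hcon (by norm_num), fun hP => absurd hP hnot⟩, ?_⟩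
    obtain ⟨φ, hφ⟩ := hmin
    have hc : cnt Q W 0 =
        Nat.card {v : (Fin m' ⊕ Fin m') ⊕ Fin 2 → F // Cfsg.quadFormMinus m' F 1 ζ v = 0} := by
      unfold cnt
      refine Nat.card_congr (φ.toEquiv.subtypeEquiv ?_)
      intro w
      show Q (w : V) = 0 ↔ Cfsg.quadFormMinus m' F 1 ζ (φ w) = 0
      rw [hφ w, resQ_apply]
    have hcz := card_zeros_minus (F := F) m' 1 ζ (anis_of_irred ζ hζ)
    rw [← hc] at hcz
    have hcz' : ((cnt Q W 0 : ℕ) : ℤ) + (Fintype.card F : ℤ) ^ (m' + 1) =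
        (Fintype.card F : ℤ) ^ (2 * m' + 1) + (Fintype.card F : ℤ) ^ m' := by
      exact_mod_cast hcz
    linear_combination hcz'
  · omega

end Cfsg.Agent.Lib.Helper28.OhP
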