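import Cfsg.Agent.Lib.Helper28.LocalFStar
import Cfsg.Agent.Lib.Helper42.PPrimeCore

set_option autoImplicit false

namespace Cfsg.Agent.Lib.Helper28

open scoped Pointwise commutatorElement

/-- If the image of `Y` under `f` is perfect, then `Y ≤ [Y,Y] ker f`. -/
theorem le_commutator_sup_ker {A B : Type*} [Group A] [Group B] (f : A →* B) (Y : Subgroup A)
    (h : ⁅Y.map f, Y.map f⁆ = Y.map f) : Y ≤ ⁅Y, Y⁆ ⊔ f.ker := by
  intro y hy
  have h1 : f y ∈ Y.map f := ⟨y, hy, rfl⟩
  rw [← h, ← Subgroup.map_commutator] at h1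
  obtain ⟨c, hc, hcy⟩ := h1
  have h2 : c⁻¹ * y ∈ f.ker := by
    rw [MonoidHom.mem_ker, map_mul, map_inv, hcy, inv_mul_cancel]
  have : y = c * (c⁻¹ * y) := by group
  rw [this]
  exact Subgroup.mul_mem _ (Subgroup.mem_sup_left hc) (Subgroup.mem_sup_right h2)

theorem orderOf_coprime_of_card_coprime {A : Type*} [Group A] {p : ℕ} (X : Subgroup A)
    (hX : (Nat.card X).Coprime p) (x : A) (hx : x ∈ X) : (orderOf x).Coprime p := by
  have h1 : orderOf (⟨x, hx⟩ : X) ∣ Nat.card X := orderOf_dvd_natCard _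
  rw [Subgroup.orderOf_mk] at h1
  exact Nat.Coprime.coprime_dvd_left h1 hX

/-- A subgroup of order prime to `p` meets a `p`-subgroup trivially. -/
theorem inf_eq_bot_of_coprime_pgroup {A : Type*} [Group A] {p : ℕ} [Fact p.Prime]
    (X M : Subgroup A) (hX : (Nat.card X).Coprime p) (hM : IsPGroup p M) : X ⊓ M = ⊥ := by
  rw [eq_bot_iff]
  intro x hx
  obtain ⟨hx1, hx2⟩ := Subgroup.mem_inf.1 hx
  have h1 := orderOf_coprime_of_card_coprime X hX x hx1
  obtain ⟨k, hk⟩ := hM ⟨x, hx2⟩
  have hk' : x ^ p ^ k = 1 := by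
    have := congrArg Subtype.val hk
    simpa using this
  have h2 : orderOf x ∣ p ^ k := orderOf_dvd_of_pow_eq_one hk'
  have h3 : orderOf x = 1 :=
    Nat.eq_one_of_dvd_coprimes (Nat.Coprime.pow_right k h1) (dvd_refl _) h2
  rw [Subgroup.mem_bot]
  exact orderOf_eq_one_iff.1 h3

/-- The preimage `Y` in `N` of `E(N / O_{p'}(N))` commutes with every normal `p`-subgroup of
`N`. -/
theorem pLayerPreimage_commutes_pgroup {N : Type*} [Group N] [Finite N] (p : ℕ) [Fact p.Prime]
    (M : Subgroup N) [hMn : M.Normal] (hM : IsPGroup p M) :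
    ⁅(Cfsg.layer (N ⧸ Cfsg.pPrimeCore p N)).comap (QuotientGroup.mk' (Cfsg.pPrimeCore p N)),
      M⁆ = ⊥ := by
  set π := QuotientGroup.mk' (Cfsg.pPrimeCore p N) with hπ
  have hsurj : Function.Surjective π := QuotientGroup.mk'_surjective _
  set Y := (Cfsg.layer (N ⧸ Cfsg.pPrimeCore p N)).comap π with hY
  have hYmap : Y.map π = Cfsg.layer (N ⧸ Cfsg.pPrimeCore p N) :=
    Subgroup.map_comap_eq_self_of_surjective hsurj _
  have hMn' : (M.map π).Normal := hMn.map π hsurj
  have hMp : IsPGroup p (M.map π) := hM.map π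
  have h1 : ⁅Cfsg.layer (N ⧸ Cfsg.pPrimeCore p N), M.map π⁆ = ⊥ :=
    Cfsg.Agent.Lib.Helper30.layer_commute_solvable hMn'.isSubnormal
      (isSolvable_of_isPGroup _ hMp)
  have h2 : ⁅Y, M⁆ ≤ Cfsg.pPrimeCore p N := by
    have : (⁅Y, M⁆).map π = ⊥ := by rw [Subgroup.map_commutator, hYmap, h1]
    rw [Subgroup.map_eq_bot_iff, QuotientGroup.ker_mk'] at this
    exact this
  have h3 : ⁅Y, M⁆ ≤ M := Subgroup.commutator_le_right Y M
  have h4 := inf_eq_bot_of_coprime_pgroup (Cfsg.pPrimeCore p N) M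
    (Cfsg.Agent.Lib.Helper42.pPrimeCore_card_coprime p N) hM
  rw [eq_bot_iff, ← h4]
  exact le_inf h2 h3

/-- The preimage in `N_G(P)` of `E(N_G(P)/O_{p'}(N_G(P)))` centralizes `O_p(G)`. -/
theorem pLayerPreimage_centralizes_pCore {G : Type*} [Group G] [Finite G] (p : ℕ) [Fact p.Prime]
    (P : Subgroup G) (hP : IsPGroup p ↥P) :
    (((Cfsg.layer (↥(Subgroup.normalizer (P : Set G)) ⧸
        Cfsg.pPrimeCore p ↥(Subgroup.normalizer (P : Set G)))).comap
      (QuotientGroup.mk' (Cfsg.pPrimeCore p ↥(Subgroup.normalizer (P : Set G))))).map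
        (Subgroup.normalizer (P : Set G)).subtype) ≤
      Subgroup.centralizer (Cfsg.pCore p G : Set G) := by
  have hQn : (Cfsg.pCore p G).Normal := Cfsg.pCore_normal p G
  have hQ : IsPGroup p (Cfsg.pCore p G) := pCore_isPGroup p
  set π := QuotientGroup.mk' (Cfsg.pPrimeCore p ↥(Subgroup.normalizer (P : Set G))) with hπ
  have hsurj : Function.Surjective π := QuotientGroup.mk'_surjective _
  set Y := (Cfsg.layer (↥(Subgroup.normalizer (P : Set G)) ⧸
        Cfsg.pPrimeCore p ↥(Subgroup.normalizer (P : Set G)))).comap π with hY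
  rw [← Subgroup.commutator_eq_bot_iff_le_centralizer]
  -- commuting with normal p-subgroups of N, transported to G
  have hcomm : ∀ M : Subgroup G, M ≤ Subgroup.normalizer (P : Set G) →
      Subgroup.normalizer (P : Set G) ≤ Subgroup.normalizer (M : Set G) → IsPGroup p M →
      ⁅Y.map (Subgroup.normalizer (P : Set G)).subtype, M⁆ = ⊥ := by
    intro M hMN hnorm hM
    have hn : (M.subgroupOf (Subgroup.normalizer (P : Set G))).Normal :=
      (Subgroup.normal_subgroupOf_iff_le_normalizer hMN).2 hnorm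
    have hM' : IsPGroup p (M.subgroupOf (Subgroup.normalizer (P : Set G))) :=
      hM.comap_of_injective _ (Subgroup.subtype_injective _)
    have h1 := pLayerPreimage_commutes_pgroup p
      (M.subgroupOf (Subgroup.normalizer (P : Set G))) hM'
    have h2 := congrArg (Subgroup.map (Subgroup.normalizer (P : Set G)).subtype) h1
    rw [Subgroup.map_commutator, Subgroup.map_bot, Subgroup.map_subgroupOf_eq_of_le hMN] at h2
    exact h2
  apply pClosing_centralizes_pCore (p := p) P hP
  · -- PClosing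
    refine ⟨(Cfsg.pPrimeCore p ↥(Subgroup.normalizer (P : Set G))).map
      (Subgroup.normalizer (P : Set G)).subtype, ?_, ?_, ?_⟩
    · apply Subgroup.map_mono
      intro x hx
      rw [hY, Subgroup.mem_comap]
      have : π x = 1 := (QuotientGroup.eq_one_iff x).2 hx
      rw [this]; exact Subgroup.one_mem _
    · rintro _ ⟨x, hx, rfl⟩
      have h1 := orderOf_coprime_of_card_coprime _
        (Cfsg.Agent.Lib.Helper42.pPrimeCore_card_coprime p ↥(Subgroup.normalizer (P : Set G))) x hx
      rwa [Subgroup.coe_subtype, Subgroup.orderOf_coe]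
    · have hperf : ⁅Y.map π, Y.map π⁆ = Y.map π := by
        rw [hY, Subgroup.map_comap_eq_self_of_surjective hsurj]
        exact Cfsg.Agent.Lib.Helper30.layer_perfect
      have h1 := le_commutator_sup_ker π Y hperf
      rw [QuotientGroup.ker_mk'] at h1
      have h2 := Subgroup.map_mono (f := (Subgroup.normalizer (P : Set G)).subtype) h1
      rwa [Subgroup.map_sup, Subgroup.map_commutator] at h2
  · exact hcomm P Subgroup.le_normalizer le_rfl hP
  · exact hcomm _ inf_le_right (inf_normalizer_normal_aux _ _) (hQ.to_le inf_le_left)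

end Cfsg.Agent.Lib.Helper28
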