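import Cfsg.Agent.Lib.Helper44.PrnADefs
import Cfsg.Prelude.Def_HallClasses

/-!
# K-PrnA-KER (222207): permutations centralizing every swap of a near-perfect matching
-/

set_option autoImplicit false
set_option linter.unusedVariables false
set_option linter.unusedSectionVars false

namespace Cfsg.Agent.Lib.Helper28.PrnA

open Equiv Equiv.Perm Cfsg.Agent.Lib.Helper44.PrnA

universe u

/-- a permutation commuting with `swap a b` fixes or swaps `a`, `b` -/
theorem swap_cases {α : Type u} [DecidableEq α] (h : Perm α) {a b : α} (hab : a ≠ b)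
    (hh : h * swap a b * h⁻¹ = swap a b) : (h a = a ∧ h b = b) ∨ (h a = b ∧ h b = a) := by
  rw [← Equiv.swap_apply_apply] at hh
  have h1 : swap a b (h a) = h b := by rw [← hh, swap_apply_left]
  by_cases ha : h a = a
  · left
    refine ⟨ha, ?_⟩
    rw [ha, swap_apply_left] at h1
    exact h1.symm
  · by_cases hb : h a = b
    · right
      refine ⟨hb, ?_⟩
      rw [hb, swap_apply_right] at h1
      exact h1.symm
    · exfalso
      rw [swap_apply_of_ne_of_ne ha hb] at h1
      exact hab (h.injective h1)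

/-- a point fixed by all swaps of `M` is fixed by every permutation centralizing `M` -/
theorem fix_of_fix {α : Type u} [DecidableEq α] (M : Finset (Perm α))
    (hcov : ∀ x y : α, (∀ τ ∈ M, τ x = x) → (∀ τ ∈ M, τ y = y) → x = y)
    (h : Perm α) (hh : ∀ τ ∈ M, h * τ * h⁻¹ = τ) (x : α) (hx : ∀ τ ∈ M, τ x = x) : h x = x := by
  apply hcov (h x) x ?_ hx
  intro τ hτ
  have h2 : h * τ = τ * h := mul_inv_eq_iff_eq_mul.mp (hh τ hτ)
  calc τ (h x) = (τ * h) x := rfl
    _ = (h * τ) x := by rw [h2]
    _ = h (τ x) := rfl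
    _ = h x := by rw [hx τ hτ]

theorem mem_pair_of_swap_ne {α : Type u} [DecidableEq α] {a b x : α} (h : swap a b x ≠ x) :
    x = a ∨ x = b := by
  by_contra hcon
  push Not at hcon
  exact h (swap_apply_of_ne_of_ne hcon.1 hcon.2)

theorem sq_eq_one_of_fix_swaps {α : Type u} [Fintype α] [DecidableEq α] (M : Finset (Perm α))
    (hswap : ∀ τ ∈ M, τ.IsSwap)
    (hcov : ∀ x y : α, (∀ τ ∈ M, τ x = x) → (∀ τ ∈ M, τ y = y) → x = y)
    (h : Perm α) (hh : ∀ τ ∈ M, h * τ * h⁻¹ = τ) : h * h = 1 := by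
  ext x
  show h (h x) = x
  by_cases hx : ∀ τ ∈ M, τ x = x
  · rw [fix_of_fix M hcov h hh x hx, fix_of_fix M hcov h hh x hx]
  · push Not at hx
    obtain ⟨τ, hτ, hτx⟩ := hx
    obtain ⟨a, b, hab, rfl⟩ := hswap τ hτ
    have hxab := mem_pair_of_swap_ne hτx
    rcases swap_cases h hab (hh _ hτ) with ⟨ha, hb⟩ | ⟨ha, hb⟩ <;> rcases hxab with hxa | hxb
    · rw [hxa, ha, ha]
    · rw [hxb, hb, hb]
    · rw [hxa, ha, hb]
    · rw [hxb, hb, ha]

theorem card_fix_swaps_le {α : Type u} [Fintype α] [DecidableEq α] (M : Finset (Perm α))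
    (hswap : ∀ τ ∈ M, τ.IsSwap)
    (hcov : ∀ x y : α, (∀ τ ∈ M, τ x = x) → (∀ τ ∈ M, τ y = y) → x = y)
    (K : Subgroup (Perm α)) (hK : ∀ h ∈ K, ∀ τ ∈ M, h * τ * h⁻¹ = τ) :
    Nat.card K ≤ 2 ^ M.card := by
  classical
  let S : K → Finset (Perm α) := fun h =>
    M.filter (fun τ => ∃ x, τ x ≠ x ∧ (h : Perm α) x ≠ x)
  have hS : ∀ h, S h ∈ M.powerset := fun h => Finset.mem_powerset.mpr (Finset.filter_subset _ _)
  have hinj : Function.Injective (fun h : K => (⟨S h, hS h⟩ : {T // T ∈ M.powerset})) := by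
    intro h h' e
    have e' : S h = S h' := congrArg Subtype.val e
    apply Subtype.ext
    ext x
    by_cases hx : ∀ τ ∈ M, τ x = x
    · rw [fix_of_fix M hcov h (hK h h.2) x hx, fix_of_fix M hcov h' (hK h' h'.2) x hx]
    · push Not at hx
      obtain ⟨τ, hτ, hτx⟩ := hx
      obtain ⟨a, b, hab, rfl⟩ := hswap τ hτ
      have hxab := mem_pair_of_swap_ne hτx
      have key : ∀ g : K, (swap a b ∈ S g ↔ (g : Perm α) a = b) := by
        intro g
        rcases swap_cases (g : Perm α) hab (hK g g.2 _ hτ) with ⟨ga, gb⟩ | ⟨ga, gb⟩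
        · constructor
          · intro hm
            obtain ⟨-, y, hy, hgy⟩ := Finset.mem_filter.mp hm
            rcases mem_pair_of_swap_ne hy with rfl | rfl
            · exact absurd ga hgy
            · exact absurd gb hgy
          · intro hgb
            exact absurd (ga.symm.trans hgb) hab
        · constructor
          · intro _; exact ga
          · intro _
            refine Finset.mem_filter.mpr ⟨hτ, a, ?_, ?_⟩
            · rw [swap_apply_left]; exact hab.symm
            · rw [ga]; exact hab.symm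
      have hiff : (h : Perm α) a = b ↔ (h' : Perm α) a = b := by rw [← key h, ← key h', e']
      rcases swap_cases (h : Perm α) hab (hK h h.2 _ hτ) with ⟨ha, hb⟩ | ⟨ha, hb⟩ <;>
        rcases swap_cases (h' : Perm α) hab (hK h' h'.2 _ hτ) with ⟨ha', hb'⟩ | ⟨ha', hb'⟩
      · rcases hxab with hxa | hxb
        · rw [hxa, ha, ha']
        · rw [hxb, hb, hb']
      · exact absurd (ha.symm.trans (hiff.mpr ha')) hab
      · exact absurd (ha'.symm.trans (hiff.mp ha)) hab
      · rcases hxab with hxa | hxb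
        · rw [hxa, ha, ha']
        · rw [hxb, hb, hb']
  calc Nat.card K ≤ Nat.card {T // T ∈ M.powerset} := Nat.card_le_card_of_injective _ hinj
    _ = 2 ^ M.card := by
      rw [Nat.card_eq_fintype_card, Fintype.card_coe, Finset.card_powerset]

end Cfsg.Agent.Lib.Helper28.PrnA
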