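import Mathlib
import Cfsg.Agent.Lib.Helper48.RSpDefs2

/-!
# K-RSp pack (S2281), leaf X3 (keystone 228109, helper28): `n = 2`, the quadratic Levi step.
-/

set_option autoImplicit false
set_option linter.unusedVariables false
set_option linter.unusedSimpArgs false

namespace Cfsg.Agent.Lib.Helper28.RSp

open Matrix Cfsg.Agent.Lib.Helper48.RSp Cfsg.Agent.Lib.Helper18

variable {F : Type*} [Field F]

theorem x3_Uup : Uup 0 F = !![1, 1; 0, 1] := by
  ext i j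
  fin_cases i <;> fin_cases j <;> simp [Uup, Nup, Matrix.add_apply, Matrix.one_apply]

theorem x3_Aalt : Aalt 0 F = !![1, -1; 0, 1] := by
  ext i j
  fin_cases i <;> fin_cases j <;> simp [Aalt]

theorem x3_dvec (t : F) : Matrix.diagonal (dvec 0 t) = !![1, 0; 0, t] := by
  ext i j
  fin_cases i <;> fin_cases j <;> simp [dvec, Matrix.diagonal_apply]

theorem x3_dvec_inv (t : F) : Matrix.diagonal (fun j => (dvec 0 t j)⁻¹) = !![1, 0; 0, t⁻¹] := by
  ext i j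
  fin_cases i <;> fin_cases j <;> simp [dvec, Matrix.diagonal_apply]

theorem x3_UupT : (Uup 0 F)ᵀ = !![1, 0; 1, 1] := by
  ext i j
  fin_cases i <;> fin_cases j <;> simp [Uup, Nup, Matrix.add_apply, Matrix.transpose_apply]

theorem x3_Llow (t : F) (ht : t ≠ 0) : Llow 0 t = !![1, 0; t, 1] := by
  unfold Llow
  rw [x3_UupT, x3_dvec, x3_dvec_inv, Matrix.mul_fin_two, Matrix.mul_fin_two]
  ext i j
  fin_cases i <;> fin_cases j <;> simp [ht]

theorem x3_Dlow (t : F) (ht : t ≠ 0) : Dlow 0 t = !![1, -t; 0, 1] := by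
  unfold Dlow
  rw [x3_Aalt, x3_dvec, x3_dvec_inv, Matrix.mul_fin_two, Matrix.mul_fin_two]
  ext i j
  fin_cases i <;> fin_cases j <;> simp [ht]

theorem x3_Elast : Elast 0 F = !![0, 0; 0, 1] := by
  unfold Elast
  ext i j
  fin_cases i <;> fin_cases j <;> simp [Fin.last]

/-- the inverse transpose of `tauMat` -/
def x3_tau' (t σ β : F) : Matrix (Fin 2) (Fin 2) F :=
  !![1 - σ * β * t, -(σ * β * t ^ 2); σ * β, 1 + σ * β * t]

theorem x3_tauT_mul (t σ β : F) : (tauMat t σ β)ᵀ * x3_tau' t σ β = 1 := by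
  have e : (tauMat t σ β)ᵀ = !![1 + σ * β * t, σ * β * t ^ 2; -(σ * β), 1 - σ * β * t] := by
    unfold tauMat
    ext i j
    fin_cases i <;> fin_cases j <;> simp [Matrix.transpose_apply]
  rw [e]
  unfold x3_tau'
  simp only [Matrix.mul_fin_two]
  ext i j
  fin_cases i <;> fin_cases j <;> (try simp) <;> (try ring)

/-- the upper right block of `c x(S) c⁻¹` -/
def x3_B (t α β : F) : Matrix (Fin 2) (Fin 2) F :=
  !![α, α * t + β; α * t + β, α * t ^ 2 + 2 * β * t]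

theorem x3_DY (t σ : F) (ht : t ≠ 0) :
    Dlow 0 t * (σ • Elast 0 F) = !![0, -(t * σ); 0, σ] := by
  rw [x3_Dlow t ht, x3_Elast]
  have e : σ • (!![0, 0; 0, 1] : Matrix (Fin 2) (Fin 2) F) = !![0, 0; 0, σ] := by
    ext i j
    fin_cases i <;> fin_cases j <;> simp
  rw [e, Matrix.mul_fin_two]
  ext i j
  fin_cases i <;> fin_cases j <;> simp

theorem x3_key1 (t σ α β : F) :
    Matrix.fromBlocks !![1, 0; t, 1] 0 !![0, -(t * σ); 0, σ] !![1, -t; 0, 1] *
        Matrix.fromBlocks 1 !![α, β; β, 0] 0 1 =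
      Matrix.fromBlocks (tauMat t σ β) (x3_B t α β) 0 (x3_tau' t σ β) *
        Matrix.fromBlocks !![1, 0; t, 1] 0 !![0, -(t * σ); 0, σ] !![1, -t; 0, 1] := by
  rw [Matrix.fromBlocks_multiply, Matrix.fromBlocks_multiply]
  unfold tauMat x3_tau' x3_B
  simp only [Matrix.mul_fin_two, Matrix.mul_zero, Matrix.zero_mul, Matrix.mul_one, add_zero,
    zero_add]
  congr 1 <;>
  · ext i j
    fin_cases i <;> fin_cases j <;> (try simp) <;> (try ring)

theorem x3_key2 (τ τ' B S₂ : Matrix (Fin 2) (Fin 2) F) (h : τᵀ * τ' = 1) :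
    Matrix.fromBlocks τ B 0 τ' * Matrix.fromBlocks 1 S₂ 0 1 =
      Matrix.fromBlocks 1 (τ * S₂ * τᵀ) 0 1 * Matrix.fromBlocks τ B 0 τ' := by
  rw [Matrix.fromBlocks_multiply, Matrix.fromBlocks_multiply]
  have e : τ * S₂ * τᵀ * τ' = τ * S₂ := by rw [Matrix.mul_assoc, h, Matrix.mul_one]
  simp [e, add_comm]

theorem XG_conj_tau {G : Subgroup (SpG 0 F)} (t σ : F) (ht : t ≠ 0)
    (hc : InG G (cMat 0 t σ)) :
    ∀ S ∈ XG G, S 1 1 = 0 → ∀ S₂ ∈ XG G,
      tauMat t σ (S 0 1) * S₂ * (tauMat t σ (S 0 1))ᵀ ∈ XG G := by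
  intro S hS h11 S₂ hS₂
  obtain ⟨hSs, hSG⟩ := hS
  obtain ⟨hS2s, hS2G⟩ := hS₂
  have h10 : S 1 0 = S 0 1 := by
    have := congrFun (congrFun hSs 0) 1
    rwa [Matrix.transpose_apply] at this
  have hSe : S = !![S 0 0, S 0 1; S 0 1, 0] := by
    conv_lhs => rw [Matrix.eta_fin_two S, h10, h11]
  have hce : cMat 0 t σ =
      Matrix.fromBlocks !![1, 0; t, 1] 0 !![0, -(t * σ); 0, σ] !![1, -t; 0, 1] := by
    unfold cMat
    rw [x3_Llow t ht, x3_DY t σ ht, x3_Dlow t ht]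
  have key := x3_key1 t σ (S 0 0) (S 0 1)
  rw [← hSe, ← hce] at key
  have hg : InG G (Matrix.fromBlocks (tauMat t σ (S 0 1)) (x3_B t (S 0 0) (S 0 1)) 0
      (x3_tau' t σ (S 0 1))) := inG_of_conj hc hSG key
  have key2 := x3_key2 (tauMat t σ (S 0 1)) (x3_tau' t σ (S 0 1)) (x3_B t (S 0 0) (S 0 1)) S₂
    (x3_tauT_mul t σ (S 0 1))
  have hT : InG G (xMat 0 (tauMat t σ (S 0 1) * S₂ * (tauMat t σ (S 0 1))ᵀ)) :=
    inG_of_conj hg hS2G key2
  refine ⟨?_, hT⟩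
  rw [Matrix.transpose_mul, Matrix.transpose_mul, Matrix.transpose_transpose, hS2s,
    Matrix.mul_assoc]

end Cfsg.Agent.Lib.Helper28.RSp
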