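import Mathlib

set_option autoImplicit false

/-!
# The arithmetic at the end of the sharply 3-transitive argument
-/

namespace Cfsg.Agent.Lib.Helper28

set_option maxHeartbeats 1600000 in
theorem s3_arith {m d x y p k : ℕ} (hp : p.Prime) (hq : 2 * m + 1 = p ^ k) (hd : 1 ≤ d)
    (hdq : d ^ 2 < 2 * m + 1) (hsum : x + y = 2 * (m + 1) * d)
    (hprod : (2 * m + 1) * (m + 1) ^ 2 * d ^ 4 = ((2 * m + 1) * d ^ 2 + m ^ 2) * x * y) :
    d = 1 ∧ (x = 1 ∨ y = 1) := by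
  have hm : 1 ≤ m := by
    by_contra hcon
    have hm0 : m = 0 := by omega
    rw [hm0] at hdq
    have : 1 ≤ d ^ 2 := Nat.one_le_pow _ _ hd
    omega
  have h1 : (x : ℤ) + y = 2 * (m + 1) * d := by exact_mod_cast hsum
  have h2 : ((2 * m + 1) * (m + 1) ^ 2 * d ^ 4 : ℤ) = ((2 * m + 1) * d ^ 2 + m ^ 2) * x * y := by
    exact_mod_cast hprod
  have hkey : (((2 * m + 1) * d ^ 2 + m ^ 2 : ℕ) : ℤ) * ((x : ℤ) - y) ^ 2 =
      ((2 * (m + 1) * d * m : ℕ) : ℤ) ^ 2 := by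
    push_cast
    linear_combination (((2 * m + 1) * d ^ 2 + m ^ 2 : ℤ) * ((x : ℤ) + y + 2 * (m + 1) * d)) * h1 +
      4 * h2
  have hvpos : 0 < 2 * (m + 1) * d * m := by positivity
  have hv0 : ((2 * (m + 1) * d * m : ℕ) : ℤ) ≠ 0 := by
    have := hvpos.ne'
    exact_mod_cast this
  have hw0 : (x : ℤ) - y ≠ 0 := by
    intro hw
    rw [hw] at hkey
    apply hv0
    have : ((2 * (m + 1) * d * m : ℕ) : ℤ) ^ 2 = 0 := by rw [← hkey]; ring
    exact pow_eq_zero_iff (two_ne_zero) |>.mp this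
  have hdvd : ((x : ℤ) - y) ∣ ((2 * (m + 1) * d * m : ℕ) : ℤ) := by
    rw [← Int.pow_dvd_pow_iff two_ne_zero]
    exact Dvd.intro_left _ hkey
  obtain ⟨M, hM⟩ := hdvd
  have hDM : (((2 * m + 1) * d ^ 2 + m ^ 2 : ℕ) : ℤ) = M ^ 2 := by
    have hw2 : ((x : ℤ) - y) ^ 2 ≠ 0 := pow_ne_zero 2 hw0
    have : (((2 * m + 1) * d ^ 2 + m ^ 2 : ℕ) : ℤ) * ((x : ℤ) - y) ^ 2 =
        M ^ 2 * ((x : ℤ) - y) ^ 2 := by
      rw [hkey, hM]; ring
    exact mul_right_cancel₀ hw2 this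
  have hDM' : (2 * m + 1) * d ^ 2 + m ^ 2 = M.natAbs ^ 2 := by
    have : ((M.natAbs : ℕ) : ℤ) ^ 2 = M ^ 2 := Int.natAbs_sq M
    have h3 : (((2 * m + 1) * d ^ 2 + m ^ 2 : ℕ) : ℤ) = ((M.natAbs ^ 2 : ℕ) : ℤ) := by
      rw [hDM, Nat.cast_pow, this]
    exact_mod_cast h3
  set Mn := M.natAbs with hMn
  have hd2pos : 0 < d ^ 2 := by positivity
  have hMgt : m < Mn := by
    by_contra hcon
    push Not at hcon
    have : Mn ^ 2 ≤ m ^ 2 := Nat.pow_le_pow_left hcon 2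
    have : 0 < (2 * m + 1) * d ^ 2 := by positivity
    omega
  obtain ⟨j, hj⟩ : ∃ j, Mn = m + j := ⟨Mn - m, by omega⟩
  have hj1 : 1 ≤ j := by omega
  have hjeq : 2 * m * j + j * j = (2 * m + 1) * d ^ 2 := by
    rw [hj] at hDM'
    have h9 : (m + j) ^ 2 = m ^ 2 + (2 * m * j + j * j) := by ring
    omega
  have hcase : j = 1 ∧ d = 1 := by
    by_cases hjd : d ^ 2 ≤ j
    · -- then `j = 1 = d`
      have h30 : 2 * m * d ^ 2 ≤ 2 * m * j := Nat.mul_le_mul_left (2 * m) hjd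
      have h31 : (2 * m + 1) * d ^ 2 = 2 * m * d ^ 2 + d ^ 2 := by ring
      have h3 : j * j ≤ d ^ 2 := by omega
      have h4 : j * j ≤ j * 1 := by rw [mul_one]; exact le_trans h3 hjd
      have hj1'' : j ≤ 1 := Nat.le_of_mul_le_mul_left h4 (by omega)
      have hj1' : j = 1 := by omega
      have hd1 : d ^ 2 ≤ 1 := by rw [hj1'] at hjd; exact hjd
      have : d ≤ 1 := by
        by_contra hcon
        push Not at hcon
        have : 2 ^ 2 ≤ d ^ 2 := Nat.pow_le_pow_left hcon 2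
        omega
      exact ⟨hj1', by omega⟩
    · exfalso
      push Not at hjd
      obtain ⟨e, he⟩ : ∃ e, d ^ 2 = j + e := ⟨d ^ 2 - j, by omega⟩
      have he1 : 1 ≤ e := by omega
      obtain ⟨j', hj'⟩ : ∃ j', j = j' + 1 := ⟨j - 1, by omega⟩
      have heq : (2 * m + 1) * e = (j' + 1) * j' := by
        rw [he, hj'] at hjeq
        have h7 : ((2 * m * (j' + 1) + (j' + 1) * (j' + 1) : ℕ) : ℤ) =
            (((2 * m + 1) * (j' + 1 + e) : ℕ) : ℤ) := by exact_mod_cast hjeq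
        have h8 : (((2 * m + 1) * e : ℕ) : ℤ) = (((j' + 1) * j' : ℕ) : ℤ) := by
          push_cast at h7 ⊢
          linear_combination (-1 : ℤ) * h7
        exact_mod_cast h8
      have hj'0 : j' ≠ 0 := by
        rintro rfl
        have : 0 < (2 * m + 1) * e := by positivity
        omega
      have hdvd : p ^ k ∣ (j' + 1) * j' := by
        rw [← hq]
        exact Dvd.intro _ heq
      have hcop : Nat.Coprime (j' + 1) j' := by simp
      have hk0 : k ≠ 0 := by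
        rintro rfl
        rw [pow_zero] at hq
        omega
      have hpp : IsPrimePow (p ^ k) := hp.isPrimePow.pow hk0
      rcases (hcop.isPrimePow_dvd_mul hpp).mp hdvd with h5 | h5
      · have := Nat.le_of_dvd (by omega) h5
        omega
      · have := Nat.le_of_dvd (by omega) h5
        omega
  obtain ⟨hj1', hd1⟩ := hcase
  refine ⟨hd1, ?_⟩
  rw [hd1] at hprod hsum
  have hxy : x * y = 2 * m + 1 := by
    have hmpos : 0 < (m + 1) ^ 2 := by positivity
    have h6 : (m + 1) ^ 2 * (x * y) = (m + 1) ^ 2 * (2 * m + 1) := by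
      have : (2 * m + 1) * 1 ^ 2 + m ^ 2 = (m + 1) ^ 2 := by ring
      rw [this] at hprod
      nlinarith [hprod]
    exact Nat.eq_of_mul_eq_mul_left hmpos h6
  by_contra hcon
  push Not at hcon
  obtain ⟨hx1, hy1⟩ := hcon
  have hx0 : x ≠ 0 := by
    rintro rfl
    omega
  have hy0 : y ≠ 0 := by
    rintro rfl
    omega
  have hx2 : 2 ≤ x := by omega
  have hy2 : 2 ≤ y := by omega
  nlinarith
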