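import Mathlib
import Cfsg.Prelude.Def_Characters
import Cfsg.Agent.Lib.Helper82.CharSchur
import Cfsg.Agent.Lib.Helper04.Basis
import Cfsg.Agent.Lib.Helper05.CharBasic
import Cfsg.Agent.Lib.Helper05.CharDecomp
import Cfsg.Agent.Lib.Helper05.CharOrtho
import Cfsg.Agent.Lib.Helper21.LinearChar
import Cfsg.Agent.Lib.Helper22.KleinFourBlock
import Cfsg.Agent.Lib.Helper83.Decompose

set_option autoImplicit false

/-!
# Two abstract character lemmas

* `sum_sum_conjInvariant`: for an irreducible character `χ` constant on a conjugation invariant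
  finite set `T`, `∑_{x, y ∈ T} χ (x y) = |T|² c² / χ 1`.
* `exists_irr_index_two`: a group with a subgroup of index two and an involution outside it whose
  centralizer has order four has an irreducible character with value `±1` at the involution and
  irreducible non-principal restriction to the subgroup.
-/

namespace Cfsg.Agent.Lib.Helper28

open scoped ComplexConjugate

theorem sum_sum_conjInvariant {G : Type*} [Group G] [Fintype G] {χ : G → ℂ}
    (hχ : Cfsg.IsIrrCharacter G χ) (T : Finset G) (hT : ∀ g : G, ∀ x ∈ T, g * x * g⁻¹ ∈ T)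
    (c : ℂ) (hc : ∀ x ∈ T, χ x = c) :
    ∑ x ∈ T, ∑ y ∈ T, χ (x * y) = (T.card : ℂ) ^ 2 * c ^ 2 / χ 1 := by
  classical
  have hbij : ∀ g x : G, ∑ y ∈ T, χ (x * (g * y * g⁻¹)) = ∑ y ∈ T, χ (x * y) := by
    intro g x
    apply Finset.sum_bij (fun y _ => g * y * g⁻¹)
    · intro y hy
      exact hT g y hy
    · intro y _ y' _ h
      exact mul_left_cancel (mul_right_cancel h)
    · intro y hy
      refine ⟨g⁻¹ * y * g, ?_, by group⟩
      have := hT g⁻¹ y hy
      rwa [inv_inv] at this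
    · intro y _
      rfl
  have hcard : (Fintype.card G : ℂ) ≠ 0 := by exact_mod_cast Fintype.card_ne_zero
  have h1 : (Fintype.card G : ℂ) * ∑ x ∈ T, ∑ y ∈ T, χ (x * y) =
      ∑ g : G, ∑ x ∈ T, ∑ y ∈ T, χ (x * (g * y * g⁻¹)) := by
    rw [← nsmul_eq_mul, ← Finset.card_univ, ← Finset.sum_const]
    apply Finset.sum_congr rfl
    intro g _
    apply Finset.sum_congr rfl
    intro x _
    exact (hbij g x).symm
  have h2 : ∑ g : G, ∑ x ∈ T, ∑ y ∈ T, χ (x * (g * y * g⁻¹)) =
      ∑ x ∈ T, ∑ y ∈ T, (Fintype.card G : ℂ) * c * c / χ 1 := by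
    rw [Finset.sum_comm]
    apply Finset.sum_congr rfl
    intro x hx
    rw [Finset.sum_comm]
    apply Finset.sum_congr rfl
    intro y hy
    rw [Cfsg.Agent.Lib.Helper82.IsIrrCharacter.sum_mul_conj hχ x y, hc x hx, hc y hy]
  have h3 : ∑ x ∈ T, ∑ y ∈ T, (Fintype.card G : ℂ) * c * c / χ 1 =
      (Fintype.card G : ℂ) * ((T.card : ℂ) ^ 2 * c ^ 2 / χ 1) := by
    simp only [Finset.sum_const, nsmul_eq_mul]
    ring
  have h4 := h1.trans (h2.trans h3)
  exact mul_left_cancel₀ hcard h4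

section indexTwo

variable {N : Type*} [Group N] [Fintype N]

/-- the sign character of a subgroup of index two -/
noncomputable def signHom (K : Subgroup N) (hK : K.index = 2) : N →* ℂˣ := by
  classical
  exact
    { toFun := fun x => if x ∈ K then 1 else -1
      map_one' := by simp [K.one_mem]
      map_mul' := by
        intro x y
        have := Subgroup.mul_mem_iff_of_index_two hK (a := x) (b := y)
        by_cases hx : x ∈ K <;> by_cases hy : y ∈ K <;> simp [hx, hy, this] }

theorem signHom_apply_mem (K : Subgroup N) (hK : K.index = 2) {x : N} (hx : x ∈ K) :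
    signHom K hK x = 1 := by
  classical
  simp [signHom, hx]

theorem signHom_apply_notMem (K : Subgroup N) (hK : K.index = 2) {x : N} (hx : x ∉ K) :
    signHom K hK x = -1 := by
  classical
  simp [signHom, hx]

theorem exists_irr_index_two (K : Subgroup N) (hK : K.index = 2)
    {s : N} (hsK : s ∉ K) (hss : s * s = 1)
    (hC : Nat.card (Subgroup.centralizer ({s} : Set N)) = 4) :
    ∃ μ : N → ℂ, Cfsg.IsIrrCharacter N μ ∧ Cfsg.IsIrrCharacter ↥K (fun k : ↥K => μ k) ∧
      (fun k : ↥K => μ k) ≠ (fun _ => 1) ∧ μ s ^ 2 = 1 := by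
  classical
  have : Finite (Cfsg.IrrCharacter N) := Cfsg.Agent.Lib.Helper05.finite_irrCharacter
  let _ : Fintype (Cfsg.IrrCharacter N) := Fintype.ofFinite _
  have hs1 : s ≠ 1 := by
    rintro rfl
    exact hsK K.one_mem
  have hord : orderOf s = 2 := by
    apply orderOf_eq_prime
    · rw [pow_two]; exact hss
    · exact hs1
  -- column orthogonality
  have hcol : ∑ χ : Cfsg.IrrCharacter N, (Complex.normSq ((χ : N → ℂ) s) : ℝ) = 4 := by
    have h := (Cfsg.Agent.Lib.Helper04.column_orthogonality s s).1 (IsConj.refl s)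
    rw [finsum_eq_sum_of_fintype, hC] at h
    have h' : ((∑ χ : Cfsg.IrrCharacter N, (Complex.normSq ((χ : N → ℂ) s) : ℝ) : ℝ) : ℂ) =
        ((4 : ℝ) : ℂ) := by
      rw [Complex.ofReal_sum]
      have h4 : ((4 : ℝ) : ℂ) = ((4 : ℕ) : ℂ) := by norm_num
      rw [h4, ← h]
      apply Finset.sum_congr rfl
      intro χ _
      rw [Complex.mul_conj]
    exact_mod_cast h'
  -- the two characters with kernel containing `K`
  have hone : Cfsg.IsIrrCharacter N (fun _ => (1 : ℂ)) := by
    simpa using Cfsg.Agent.Lib.Helper05.isIrrCharacter_of_hom (1 : N →* ℂˣ)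
  have hsgn : Cfsg.IsIrrCharacter N (fun x => ((signHom K hK x : ℂˣ) : ℂ)) :=
    Cfsg.Agent.Lib.Helper05.isIrrCharacter_of_hom (signHom K hK)
  set χ₁ : Cfsg.IrrCharacter N := ⟨_, hone⟩ with hχ₁
  set χ₂ : Cfsg.IrrCharacter N := ⟨_, hsgn⟩ with hχ₂
  have h12 : χ₁ ≠ χ₂ := by
    intro h
    have := congrArg (fun χ : Cfsg.IrrCharacter N => (χ : N → ℂ) s) h
    simp only [hχ₁, hχ₂, signHom_apply_notMem K hK hsK] at this
    norm_num at this
  have hf1 : Complex.normSq ((χ₁ : N → ℂ) s) = 1 := by simp [hχ₁]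
  have hf2 : Complex.normSq ((χ₂ : N → ℂ) s) = 1 := by
    simp [hχ₂, signHom_apply_notMem K hK hsK]
  -- the remaining characters
  have hrest : ∑ χ ∈ (Finset.univ.erase χ₁).erase χ₂, (Complex.normSq ((χ : N → ℂ) s) : ℝ) = 2 := by
    have e1 := Finset.add_sum_erase Finset.univ (fun χ : Cfsg.IrrCharacter N =>
      (Complex.normSq ((χ : N → ℂ) s) : ℝ)) (Finset.mem_univ χ₁)
    have hmem : χ₂ ∈ Finset.univ.erase χ₁ := Finset.mem_erase.mpr ⟨Ne.symm h12, Finset.mem_univ _⟩
    have e2 := Finset.add_sum_erase (Finset.univ.erase χ₁) (fun χ : Cfsg.IrrCharacter N =>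
      (Complex.normSq ((χ : N → ℂ) s) : ℝ)) hmem
    rw [hcol, ← e2, hf1, hf2] at e1
    linarith
  obtain ⟨μ, hμmem, hμne⟩ : ∃ μ ∈ (Finset.univ.erase χ₁).erase χ₂,
      (Complex.normSq ((μ : N → ℂ) s) : ℝ) ≠ 0 := by
    apply Finset.exists_ne_zero_of_sum_ne_zero
    rw [hrest]
    norm_num
  have hμ2 : μ ≠ χ₂ := (Finset.mem_erase.mp hμmem).1
  have hμ1 : μ ≠ χ₁ := (Finset.mem_erase.mp (Finset.mem_erase.mp hμmem).2).1
  have hμle : (Complex.normSq ((μ : N → ℂ) s) : ℝ) ≤ 2 := by
    rw [← hrest]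
    exact Finset.single_le_sum (f := fun χ : Cfsg.IrrCharacter N =>
      (Complex.normSq ((χ : N → ℂ) s) : ℝ)) (fun χ _ => Complex.normSq_nonneg _) hμmem
  have hμchar : Cfsg.IsCharacter N (μ : N → ℂ) :=
    Cfsg.Agent.Lib.Helper05.IsIrrCharacter.isCharacter μ.2
  obtain ⟨m, hm⟩ := Cfsg.Agent.Lib.Helper22.exists_int_char_of_orderOf_two hμchar s hord
  have hm2 : m ^ 2 = 1 := by
    have h0 : Complex.normSq ((μ : N → ℂ) s) = ((m ^ 2 : ℤ) : ℝ) := by
      rw [hm]
      have : ((m : ℤ) : ℂ) = ((m : ℝ) : ℂ) := by push_cast; rfl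
      rw [this, Complex.normSq_ofReal]
      push_cast
      ring
    rw [h0] at hμle hμne
    have hne : m ^ 2 ≠ 0 := by
      intro h
      apply hμne
      rw [h]
      simp
    have hle : m ^ 2 ≤ 2 := by exact_mod_cast hμle
    have hm0 : m ≠ 0 := by
      intro h
      apply hne
      rw [h]
      norm_num
    have hpos : 0 < m ^ 2 := by positivity
    have hlt : m ^ 2 < 4 := by omega
    have habs : |m| < 2 := by
      have : m ^ 2 < 2 ^ 2 := by norm_num; exact hlt
      exact abs_lt_of_sq_lt_sq this (by norm_num)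
    have h1 : -2 < m ∧ m < 2 := abs_lt.mp habs
    have : m = 1 ∨ m = -1 := by omega
    rcases this with h | h <;> rw [h] <;> norm_num
  have hμs2 : (μ : N → ℂ) s ^ 2 = 1 := by
    rw [hm]
    exact_mod_cast hm2
  -- the restriction
  have hres : Cfsg.IsCharacter ↥K (fun k : ↥K => (μ : N → ℂ) k) :=
    Cfsg.Agent.Lib.Helper05.isCharacter_restrict K hμchar
  obtain ⟨n, hn⟩ := Cfsg.Agent.Lib.Helper83.classInner_char_nat hres hres
  obtain ⟨d, hdpos, hd⟩ := Cfsg.Agent.Lib.Helper05.exists_pos_degree μ.2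
  have hnormN : ∑ x : N, (Complex.normSq ((μ : N → ℂ) x) : ℝ) = (Nat.card N : ℝ) := by
    have h := Cfsg.Agent.Lib.Helper04.classInner_irr _ _ μ.2 μ.2
    rw [if_pos rfl, Cfsg.Agent.Lib.Helper04.classInner_def] at h
    have hN0 : (Nat.card N : ℂ) ≠ 0 := by
      have : Nat.card N ≠ 0 := Nat.card_pos.ne'
      exact_mod_cast this
    have h' : ∑ g : N, (μ : N → ℂ) g * conj ((μ : N → ℂ) g) = (Nat.card N : ℂ) := by
      field_simp at h
      exact h
    have h'' : ((∑ x : N, (Complex.normSq ((μ : N → ℂ) x) : ℝ) : ℝ) : ℂ) =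
        ((Nat.card N : ℝ) : ℂ) := by
      rw [Complex.ofReal_sum]
      push_cast
      rw [← h']
      apply Finset.sum_congr rfl
      intro x _
      rw [Complex.mul_conj]
    exact_mod_cast h''
  have hnormK : ∑ k : ↥K, (Complex.normSq ((μ : N → ℂ) k) : ℝ) = (n : ℝ) * (Nat.card K : ℝ) := by
    rw [Cfsg.Agent.Lib.Helper04.classInner_def] at hn
    have hK0 : (Nat.card K : ℂ) ≠ 0 := by
      have : Nat.card K ≠ 0 := Nat.card_pos.ne'
      exact_mod_cast this
    have h' : ∑ k : ↥K, (μ : N → ℂ) k * conj ((μ : N → ℂ) k) = (n : ℂ) * (Nat.card K : ℂ) := by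
      field_simp at hn
      rw [mul_comm]
      exact hn
    have h'' : ((∑ k : ↥K, (Complex.normSq ((μ : N → ℂ) k) : ℝ) : ℝ) : ℂ) =
        (((n : ℝ) * (Nat.card K : ℝ) : ℝ) : ℂ) := by
      rw [Complex.ofReal_sum]
      push_cast
      rw [← h']
      apply Finset.sum_congr rfl
      intro x _
      rw [Complex.mul_conj]
    exact_mod_cast h''
  have hsplit : ∑ x : N, (Complex.normSq ((μ : N → ℂ) x) : ℝ) =
      ∑ k : ↥K, (Complex.normSq ((μ : N → ℂ) k) : ℝ) +
        ∑ x ∈ Finset.univ.filter (fun x : N => x ∉ K), (Complex.normSq ((μ : N → ℂ) x) : ℝ) := by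
    rw [← Finset.sum_filter_add_sum_filter_not Finset.univ (fun x : N => x ∈ K)]
    congr 1
    rw [Finset.sum_subtype (Finset.univ.filter (fun x : N => x ∈ K)) (p := fun x => x ∈ K)]
    intro x
    simp
  have hout : (1 : ℝ) ≤
      ∑ x ∈ Finset.univ.filter (fun x : N => x ∉ K), (Complex.normSq ((μ : N → ℂ) x) : ℝ) := by
    have hsmem : s ∈ Finset.univ.filter (fun x : N => x ∉ K) := by simp [hsK]
    have h1 : Complex.normSq ((μ : N → ℂ) s) = 1 := by
      have : Complex.normSq ((μ : N → ℂ) s) ^ 2 = 1 := by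
        rw [← map_pow, hμs2]
        simp
      have hnn := Complex.normSq_nonneg ((μ : N → ℂ) s)
      nlinarith
    rw [← h1]
    exact Finset.single_le_sum (f := fun x : N => (Complex.normSq ((μ : N → ℂ) x) : ℝ))
      (fun x _ => Complex.normSq_nonneg _) hsmem
  have hin : (0 : ℝ) < ∑ k : ↥K, (Complex.normSq ((μ : N → ℂ) k) : ℝ) := by
    have h1 : (0 : ℝ) < Complex.normSq ((μ : N → ℂ) ((1 : ↥K) : N)) := by
      rw [Subgroup.coe_one, hd, Complex.normSq_natCast]
      have : (0 : ℝ) < d := by exact_mod_cast hdpos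
      positivity
    refine lt_of_lt_of_le h1 ?_
    exact Finset.single_le_sum (f := fun k : ↥K => (Complex.normSq ((μ : N → ℂ) k) : ℝ))
      (fun x _ => Complex.normSq_nonneg _) (Finset.mem_univ (1 : ↥K))
  have hNK : (Nat.card N : ℝ) = 2 * (Nat.card K : ℝ) := by
    have := K.index_mul_card
    rw [hK] at this
    exact_mod_cast this.symm
  have hKpos : (0 : ℝ) < (Nat.card K : ℝ) := by
    have : 0 < Nat.card K := Nat.card_pos
    exact_mod_cast this
  have hn1 : n = 1 := by
    rw [hnormN, hnormK, hNK] at hsplit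
    rw [hnormK] at hin
    have h1 : (n : ℝ) * (Nat.card K : ℝ) < 2 * (Nat.card K : ℝ) := by linarith
    have h2 : (n : ℝ) < 2 := lt_of_mul_lt_mul_right h1 hKpos.le
    have h3 : (0 : ℝ) < n := by
      by_contra hcon
      push Not at hcon
      have : (n : ℝ) * (Nat.card K : ℝ) ≤ 0 := mul_nonpos_of_nonpos_of_nonneg hcon hKpos.le
      linarith
    have h2' : n < 2 := by exact_mod_cast h2
    have h3' : 0 < n := by exact_mod_cast h3
    omega
  have hirrK : Cfsg.IsIrrCharacter ↥K (fun k : ↥K => (μ : N → ℂ) k) := by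
    apply Cfsg.Agent.Lib.Helper05.isIrrCharacter_of_classInner_self_eq_one hres
    rw [hn, hn1]
    simp
  refine ⟨μ, μ.2, hirrK, ?_, hμs2⟩
  -- non-principal
  intro hprin
  have hμK : ∀ x ∈ K, (μ : N → ℂ) x = 1 := by
    intro x hx
    exact congrFun hprin ⟨x, hx⟩
  have hμone : (μ : N → ℂ) 1 = 1 := hμK 1 K.one_mem
  have hmul := Cfsg.Agent.Lib.Helper21.linear_char_mul hμchar hμone
  have hsx : ∀ x : N, x ∉ K → s * x ∈ K := by
    intro x hx
    rw [Subgroup.mul_mem_iff_of_index_two hK]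
    exact ⟨fun h => absurd h hsK, fun h => absurd h hx⟩
  have hout' : ∀ x : N, x ∉ K → (μ : N → ℂ) s * (μ : N → ℂ) x = 1 := by
    intro x hx
    rw [← hmul, hμK _ (hsx x hx)]
  have hcases : (μ : N → ℂ) s = 1 ∨ (μ : N → ℂ) s = -1 := by
    have : ((μ : N → ℂ) s - 1) * ((μ : N → ℂ) s + 1) = 0 := by
      have := hμs2
      ring_nf
      ring_nf at this
      rw [this]
      ring
    rcases mul_eq_zero.mp this with h | h
    · left
      exact sub_eq_zero.mp h
    · right
      exact eq_neg_of_add_eq_zero_left h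
  rcases hcases with h | h
  · apply hμ1
    apply Subtype.ext
    funext x
    by_cases hx : x ∈ K
    · rw [hμK x hx]
    · have := hout' x hx
      rw [h, one_mul] at this
      rw [this]
  · apply hμ2
    apply Subtype.ext
    funext x
    by_cases hx : x ∈ K
    · rw [hμK x hx]
      simp only [hχ₂]
      rw [signHom_apply_mem K hK hx]
      simp
    · have := hout' x hx
      rw [h] at this
      simp only [hχ₂]
      rw [signHom_apply_notMem K hK hx]
      have h2 : (μ : N → ℂ) x = -1 := by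
        have : -(μ : N → ℂ) x = 1 := by rw [← this]; ring
        rw [← this]
        ring
      rw [h2]
      simp

end indexTwo

section degree

variable {G : Type*} [Group G] [Fintype G]

theorem sum_normSq_irr {χ : G → ℂ} (hχ : Cfsg.IsIrrCharacter G χ) :
    ∑ x : G, (Complex.normSq (χ x) : ℝ) = (Nat.card G : ℝ) := by
  have h := Cfsg.Agent.Lib.Helper04.classInner_irr _ _ hχ hχ
  rw [if_pos rfl, Cfsg.Agent.Lib.Helper04.classInner_def] at h
  have hN0 : (Nat.card G : ℂ) ≠ 0 := by
    have : Nat.card G ≠ 0 := Nat.card_pos.ne'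
    exact_mod_cast this
  have h' : ∑ g : G, χ g * conj (χ g) = (Nat.card G : ℂ) := by
    field_simp at h
    exact h
  have h'' : ((∑ x : G, (Complex.normSq (χ x) : ℝ) : ℝ) : ℂ) = ((Nat.card G : ℝ) : ℂ) := by
    rw [Complex.ofReal_sum]
    push_cast
    rw [← h']
    apply Finset.sum_congr rfl
    intro x _
    rw [Complex.mul_conj]
  exact_mod_cast h''

theorem irr_degree_sq_le {χ : G → ℂ} (hχ : Cfsg.IsIrrCharacter G χ) {d : ℕ} (hd : χ 1 = d) :
    d ^ 2 ≤ Nat.card G := by
  have h1 := sum_normSq_irr hχ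
  have h2 : (Complex.normSq (χ 1) : ℝ) ≤ ∑ x : G, (Complex.normSq (χ x) : ℝ) :=
    Finset.single_le_sum (f := fun x : G => (Complex.normSq (χ x) : ℝ))
      (fun x _ => Complex.normSq_nonneg _) (Finset.mem_univ (1 : G))
  rw [h1, hd, Complex.normSq_natCast] at h2
  have h3 : ((d ^ 2 : ℕ) : ℝ) ≤ (Nat.card G : ℝ) := by
    push_cast
    nlinarith
  exact_mod_cast h3

end degree

end Cfsg.Agent.Lib.Helper28
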