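import Mathlib
import Cfsg.Agent.Lib.Helper28.S3GroupE
import Cfsg.Agent.Lib.Helper28.S3CharA
import Cfsg.Agent.Lib.Helper34.GenChar
import Cfsg.Agent.Lib.Helper45.SL2Quad
import Cfsg.Agent.Lib.Helper33.IrrComp

set_option autoImplicit false

/-!
# Sharply 3-transitive groups of even degree: the principal series character
-/

namespace Cfsg.Agent.Lib.Helper28

open MulAction
open scoped ComplexConjugate

namespace S3Setup

variable {G Ω : Type*} [Group G] [MulAction G Ω] {a b c : Ω} {s : G} {F : Subgroup G}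

/-- inflation from the two-point stabilizer to the point stabilizer -/
noncomputable def infl (h : S3Setup G Ω a b c s) (hF : IsKer G a F)
    (ν : ↥(stabilizer G a ⊓ stabilizer G b) → ℂ) : ↥(stabilizer G a) → ℂ :=
  fun x => ν (h.proj hF x)

theorem infl_isClassFunction (h : S3Setup G Ω a b c s) (hF : IsKer G a F)
    {ν : ↥(stabilizer G a ⊓ stabilizer G b) → ℂ}
    (hν : Cfsg.IsClassFunction ↥(stabilizer G a ⊓ stabilizer G b) ν) :
    Cfsg.IsClassFunction ↥(stabilizer G a) (h.infl hF ν) := by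
  intro g x
  unfold infl
  rw [map_mul, map_mul, map_inv]
  exact hν _ _

theorem infl_apply_H (h : S3Setup G Ω a b c s) (hF : IsKer G a F)
    (ν : ↥(stabilizer G a ⊓ stabilizer G b) → ℂ) {g : G} (hga : g • a = a) (hgb : g • b = b) :
    h.infl hF ν ⟨g, mem_stabilizer_iff.mpr hga⟩ = ν ⟨g, mem_H_iff.mpr ⟨hga, hgb⟩⟩ := by
  unfold infl
  congr 1
  exact h.proj_of_mem_H hF ⟨g, mem_H_iff.mpr ⟨hga, hgb⟩⟩

theorem infl_apply_F (h : S3Setup G Ω a b c s) (hF : IsKer G a F)
    (ν : ↥(stabilizer G a ⊓ stabilizer G b) → ℂ) {f : G} (hf : f ∈ F) :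
    h.infl hF ν ⟨f, hF.le hf⟩ = ν 1 := by
  unfold infl
  rw [h.proj_of_mem_F hF hf]

open Classical in
/-- the adjoint of inflation followed by induction -/
noncomputable def phiStar (a b : Ω) (F : Subgroup G) [Fintype ↥F] (χ : G → ℂ) :
    ↥(stabilizer G a ⊓ stabilizer G b) → ℂ :=
  fun y => if (y : G) = 1 then (Nat.card F : ℂ)⁻¹ * ∑ f : ↥F, χ f else χ y

theorem phiStar_apply_of_ne [Fintype ↥F] (χ : G → ℂ) (y : ↥(stabilizer G a ⊓ stabilizer G b))
    (hy : (y : G) ≠ 1) : phiStar a b F χ y = χ y := by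
  unfold phiStar
  rw [if_neg hy]

theorem phiStar_apply_one [Fintype ↥F] (χ : G → ℂ) :
    phiStar a b F χ 1 = (Nat.card F : ℂ)⁻¹ * ∑ f : ↥F, χ f := by
  unfold phiStar
  rw [if_pos (Subgroup.coe_one _)]

theorem phiStar_isClassFunction [Fintype ↥F] {χ : G → ℂ} (hχ : Cfsg.IsClassFunction G χ) :
    Cfsg.IsClassFunction ↥(stabilizer G a ⊓ stabilizer G b) (phiStar a b F χ) := by
  intro y g
  unfold phiStar
  have hiff : ((g * y * g⁻¹ : ↥(stabilizer G a ⊓ stabilizer G b)) : G) = 1 ↔ (y : G) = 1 := by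
    rw [Subgroup.coe_mul, Subgroup.coe_mul, Subgroup.coe_inv]
    constructor
    · intro hh
      calc (y : G) = (g : G)⁻¹ * ((g : G) * (y : G) * (g : G)⁻¹) * (g : G) := by group
        _ = 1 := by rw [hh]; group
    · intro hh
      rw [hh]; group
  by_cases hy : (y : G) = 1
  · rw [if_pos hy, if_pos (hiff.mpr hy)]
  · rw [if_neg hy, if_neg (fun hh => hy (hiff.mp hh))]
    rw [Subgroup.coe_mul, Subgroup.coe_mul, Subgroup.coe_inv]
    exact hχ _ _

/-- the adjunction between inflation and `phiStar` -/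
theorem classInner_infl [Fintype G] [Fintype Ω] [Fintype ↥(stabilizer G a)] [Fintype ↥F]
    [Fintype ↥(stabilizer G a ⊓ stabilizer G b)]
    (h : S3Setup G Ω a b c s) (hF : IsKer G a F)
    (ν : ↥(stabilizer G a ⊓ stabilizer G b) → ℂ)
    (hν : Cfsg.IsClassFunction ↥(stabilizer G a ⊓ stabilizer G b) ν)
    (χ : G → ℂ) (hχ : Cfsg.IsClassFunction G χ) :
    Cfsg.classInner (h.infl hF ν) (fun x : ↥(stabilizer G a) => χ x) =
      Cfsg.classInner ν (phiStar a b F χ) := by
  classical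
  rw [Cfsg.Agent.Lib.Helper04.classInner_def, Cfsg.Agent.Lib.Helper04.classInner_def]
  set ψ : G → ℂ := fun g => Cfsg.extendByZero (stabilizer G a) (h.infl hF ν) g * conj (χ g)
    with hψdef
  have hψ : ∀ x g : G, x • a = a → ψ (x * g * x⁻¹) = ψ g := by
    intro x g hx
    have hx' : x ∈ stabilizer G a := mem_stabilizer_iff.mpr hx
    simp only [hψdef]
    rw [hχ g x]
    congr 1
    by_cases hg : g ∈ stabilizer G a
    · have hmem : x * g * x⁻¹ ∈ stabilizer G a :=
        (stabilizer G a).mul_mem ((stabilizer G a).mul_mem hx' hg) ((stabilizer G a).inv_mem hx')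
      rw [Cfsg.Agent.Lib.Helper04.extendByZero_apply_of_mem _ _ _ hmem,
        Cfsg.Agent.Lib.Helper04.extendByZero_apply_of_mem _ _ _ hg]
      exact h.infl_isClassFunction hF hν ⟨g, hg⟩ ⟨x, hx'⟩
    · have hmem : x * g * x⁻¹ ∉ stabilizer G a := by
        intro hmem
        apply hg
        have : g = x⁻¹ * (x * g * x⁻¹) * x := by group
        rw [this]
        exact (stabilizer G a).mul_mem ((stabilizer G a).mul_mem ((stabilizer G a).inv_mem hx') hmem)
          hx'
      rw [Cfsg.Agent.Lib.Helper04.extendByZero_apply_not_mem _ _ _ hmem,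
        Cfsg.Agent.Lib.Helper04.extendByZero_apply_not_mem _ _ _ hg]
  have hsum := h.sum_B hF ψ hψ
  have e1 : ∑ g : ↥(stabilizer G a), h.infl hF ν g * conj (χ g) =
      ∑ x : ↥(stabilizer G a), ψ x := by
    apply Finset.sum_congr rfl
    intro x _
    simp only [hψdef]
    rw [Cfsg.Agent.Lib.Helper04.extendByZero_apply_mem]
  have e2 : ∑ f : ↥F, ψ f = ν 1 * conj (∑ f : ↥F, χ f) := by
    rw [map_sum, Finset.mul_sum]
    apply Finset.sum_congr rfl
    intro f _
    simp only [hψdef]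
    rw [Cfsg.Agent.Lib.Helper04.extendByZero_apply_of_mem _ _ _ (hF.le f.2), h.infl_apply_F hF ν f.2]
  have e3 : ∑ y : ↥(stabilizer G a ⊓ stabilizer G b), (if (y : G) = 1 then 0 else ψ y) =
      ∑ y : ↥(stabilizer G a ⊓ stabilizer G b), (if (y : G) = 1 then 0 else ν y * conj (χ y)) := by
    apply Finset.sum_congr rfl
    intro y _
    by_cases hy : (y : G) = 1
    · rw [if_pos hy, if_pos hy]
    · rw [if_neg hy, if_neg hy]
      simp only [hψdef]
      have hy2 := mem_H_iff.mp y.2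
      rw [Cfsg.Agent.Lib.Helper04.extendByZero_apply_of_mem _ _ _ (mem_stabilizer_iff.mpr hy2.1),
        h.infl_apply_H hF ν hy2.1 hy2.2]
  have e4 : ∑ y : ↥(stabilizer G a ⊓ stabilizer G b), ν y * conj (phiStar a b F χ y) =
      ν 1 * conj ((Nat.card F : ℂ)⁻¹ * ∑ f : ↥F, χ f) +
      ∑ y : ↥(stabilizer G a ⊓ stabilizer G b), (if (y : G) = 1 then 0 else ν y * conj (χ y)) := by
    have hterm : ∀ y : ↥(stabilizer G a ⊓ stabilizer G b), ν y * conj (phiStar a b F χ y) =
        (if y = 1 then ν 1 * conj ((Nat.card F : ℂ)⁻¹ * ∑ f : ↥F, χ f) else 0) +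
        (if (y : G) = 1 then 0 else ν y * conj (χ y)) := by
      intro y
      by_cases hy : (y : G) = 1
      · have hy' : y = 1 := Subtype.ext hy
        rw [if_pos hy', if_pos hy, add_zero, hy', phiStar_apply_one]
      · have hy' : y ≠ 1 := fun hh => hy (by rw [hh]; rfl)
        rw [if_neg hy', if_neg hy, zero_add, phiStar_apply_of_ne χ y hy]
    rw [Finset.sum_congr rfl (fun y _ => hterm y), Finset.sum_add_distrib]
    congr 1
    rw [Finset.sum_ite_eq' Finset.univ (1 : ↥(stabilizer G a ⊓ stabilizer G b))]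
    simp
  rw [e1, hsum, e2, e3, e4]
  have hcB : (Nat.card ↥(stabilizer G a) : ℂ) =
      (Nat.card F : ℂ) * (Nat.card ↥(stabilizer G a ⊓ stabilizer G b) : ℂ) := by
    have : Nat.card ↥(stabilizer G a) =
        Nat.card F * Nat.card ↥(stabilizer G a ⊓ stabilizer G b) := by
      rw [h.card_B hF, h.card_F hF, h.card_H]
    exact_mod_cast this
  have hF0 : (Nat.card F : ℂ) ≠ 0 := by
    have : Nat.card F ≠ 0 := Nat.card_pos.ne'
    exact_mod_cast this
  have hH0 : (Nat.card ↥(stabilizer G a ⊓ stabilizer G b) : ℂ) ≠ 0 := by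
    have : Nat.card ↥(stabilizer G a ⊓ stabilizer G b) ≠ 0 := Nat.card_pos.ne'
    exact_mod_cast this
  rw [hcB, map_mul, map_inv₀, Complex.conj_natCast]
  field_simp

/-- Frobenius reciprocity combined with the adjunction -/
theorem classInner_ind_infl [Fintype G] [Fintype Ω] [Fintype ↥(stabilizer G a)] [Fintype ↥F]
    [Fintype ↥(stabilizer G a ⊓ stabilizer G b)]
    (h : S3Setup G Ω a b c s) (hF : IsKer G a F)
    (ν : ↥(stabilizer G a ⊓ stabilizer G b) → ℂ)
    (hν : Cfsg.IsClassFunction ↥(stabilizer G a ⊓ stabilizer G b) ν)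
    (χ : G → ℂ) (hχ : Cfsg.IsClassFunction G χ) :
    Cfsg.classInner (Cfsg.indFun (stabilizer G a) (h.infl hF ν)) χ =
      Cfsg.classInner ν (phiStar a b F χ) := by
  rw [Cfsg.Agent.Lib.Helper04.frobenius_reciprocity _ _ _ hχ]
  exact h.classInner_infl hF ν hν χ hχ

/-- values of the induced character -/
theorem phiStar_ind [Fintype G] [Fintype Ω] [Fintype ↥F]
    (h : S3Setup G Ω a b c s) (hF : IsKer G a F)
    (lam : ↥(stabilizer G a ⊓ stabilizer G b) → ℂ)
    (hlam : Cfsg.IsClassFunction ↥(stabilizer G a ⊓ stabilizer G b) lam)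
    (hs : ∀ (g : G) (hga : g • a = a) (hgb : g • b = b) (hsa : (s⁻¹ * g * s) • a = a)
      (hsb : (s⁻¹ * g * s) • b = b),
      lam ⟨s⁻¹ * g * s, mem_H_iff.mpr ⟨hsa, hsb⟩⟩ = lam ⟨g, mem_H_iff.mpr ⟨hga, hgb⟩⟩) :
    phiStar a b F (Cfsg.indFun (stabilizer G a) (h.infl hF lam)) = (2 : ℂ) • lam := by
  classical
  have hcl := h.infl_isClassFunction hF hlam
  have hR1 : Cfsg.indFun (stabilizer G a) (h.infl hF lam) 1 = (Fintype.card Ω : ℂ) * lam 1 := by
    rw [indFun_apply_one]
    have : IsPretransitive G Ω := ⟨fun x y => h.pre.trans1 x y⟩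
    rw [index_stabilizer_of_transitive G a, Nat.card_eq_fintype_card]
    congr 1
    unfold infl
    rw [map_one]
  have hRF : ∀ f : ↥F, (f : G) ≠ 1 →
      Cfsg.indFun (stabilizer G a) (h.infl hF lam) f = lam 1 := by
    intro f hf
    rw [h.indFun_apply_F hF _ hcl f.2 hf, h.infl_apply_F hF lam f.2]
  funext y
  by_cases hy : (y : G) = 1
  · have hy' : y = 1 := Subtype.ext hy
    rw [hy', phiStar_apply_one]
    rw [← Finset.add_sum_erase Finset.univ _ (Finset.mem_univ (1 : ↥F))]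
    have hrest : ∑ f ∈ Finset.univ.erase (1 : ↥F),
        Cfsg.indFun (stabilizer G a) (h.infl hF lam) f =
        ((Nat.card F : ℂ) - 1) * lam 1 := by
      rw [Finset.sum_congr rfl (fun f hf => hRF f (fun hh => (Finset.ne_of_mem_erase hf)
        (Subtype.ext hh)))]
      rw [Finset.sum_const, Finset.card_erase_of_mem (Finset.mem_univ _), Finset.card_univ,
        nsmul_eq_mul, Nat.card_eq_fintype_card]
      have : 1 ≤ Fintype.card ↥F := Fintype.card_pos
      push_cast [Nat.cast_sub this]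
      ring
    rw [hrest, Subgroup.coe_one, hR1]
    have hcF : (Fintype.card Ω : ℂ) = (Nat.card F : ℂ) + 1 := by
      have h1 := h.card_F hF
      have h2 := h.three_le_card
      have : Fintype.card Ω = Nat.card F + 1 := by omega
      exact_mod_cast this
    have hF0 : (Nat.card F : ℂ) ≠ 0 := by
      have : Nat.card F ≠ 0 := Nat.card_pos.ne'
      exact_mod_cast this
    rw [hcF]
    simp only [Pi.smul_apply, smul_eq_mul]
    field_simp
    ring
  · rw [phiStar_apply_of_ne _ y hy]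
    have hy2 := mem_H_iff.mp y.2
    rw [h.indFun_apply_H _ hcl hy2.1 hy2.2 hy]
    have hsa : (s⁻¹ * (y : G) * s) • a = a := by
      rw [mul_smul, mul_smul, h.sa, hy2.2, inv_smul_eq_iff, h.sa]
    have hsb : (s⁻¹ * (y : G) * s) • b = b := by
      rw [mul_smul, mul_smul, h.sb, hy2.1, inv_smul_eq_iff, h.sb]
    rw [h.infl_apply_H hF lam hy2.1 hy2.2, h.infl_apply_H hF lam hsa hsb, hs _ hy2.1 hy2.2 hsa hsb]
    simp only [Pi.smul_apply, smul_eq_mul]
    ring

/-- the induced character is the sum of two irreducible characters agreeing with `lam` on the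
non-identity elements of the two-point stabilizer -/
theorem exists_two_constituents [Fintype G] [Fintype Ω]
    (h : S3Setup G Ω a b c s) (hF : IsKer G a F)
    (lam : ↥(stabilizer G a ⊓ stabilizer G b) → ℂ)
    (hlam : Cfsg.IsIrrCharacter ↥(stabilizer G a ⊓ stabilizer G b) lam)
    (hs : ∀ (g : G) (hga : g • a = a) (hgb : g • b = b) (hsa : (s⁻¹ * g * s) • a = a)
      (hsb : (s⁻¹ * g * s) • b = b),
      lam ⟨s⁻¹ * g * s, mem_H_iff.mpr ⟨hsa, hsb⟩⟩ = lam ⟨g, mem_H_iff.mpr ⟨hga, hgb⟩⟩) :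
    ∃ ψ₁ ψ₂ : G → ℂ, Cfsg.IsIrrCharacter G ψ₁ ∧ Cfsg.IsIrrCharacter G ψ₂ ∧
      Cfsg.indFun (stabilizer G a) (h.infl hF lam) = ψ₁ + ψ₂ ∧
      (∀ y : ↥(stabilizer G a ⊓ stabilizer G b), (y : G) ≠ 1 → ψ₁ y = lam y) ∧
      (∀ y : ↥(stabilizer G a ⊓ stabilizer G b), (y : G) ≠ 1 → ψ₂ y = lam y) := by
  classical
  let _ : Fintype ↥(stabilizer G a) := Fintype.ofFinite _
  let _ : Fintype ↥F := Fintype.ofFinite _
  let _ : Fintype ↥(stabilizer G a ⊓ stabilizer G b) := Fintype.ofFinite _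
  have hlamcl := Cfsg.Agent.Lib.Helper04.isClassFunction_of_isIrrCharacter hlam
  set R := Cfsg.indFun (stabilizer G a) (h.infl hF lam) with hRdef
  have hsurj : Function.Surjective (h.proj hF) := by
    intro y
    exact ⟨⟨(y : G), (Subgroup.mem_inf.mp y.2).1⟩, h.proj_of_mem_H hF y⟩
  have hθirr : Cfsg.IsIrrCharacter ↥(stabilizer G a) (h.infl hF lam) :=
    Cfsg.Agent.Lib.Helper33.isIrrCharacter_comp_of_surjective (h.proj hF) hsurj hlam
  have hRchar : Cfsg.IsCharacter G R :=
    Cfsg.Agent.Lib.Helper34.isCharacter_indFun _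
      (Cfsg.Agent.Lib.Helper05.IsIrrCharacter.isCharacter hθirr)
  have hRcl : Cfsg.IsClassFunction G R :=
    Cfsg.Agent.Lib.Helper04.isClassFunction_of_isCharacter hRchar
  have hphiR : phiStar a b F R = (2 : ℂ) • lam := h.phiStar_ind hF lam hlamcl hs
  -- inner products with the characters induced from irreducible characters
  have hRν : ∀ ν : ↥(stabilizer G a ⊓ stabilizer G b) → ℂ,
      Cfsg.IsIrrCharacter ↥(stabilizer G a ⊓ stabilizer G b) ν →
      Cfsg.classInner (Cfsg.indFun (stabilizer G a) (h.infl hF ν)) R =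
        2 * (if ν = lam then 1 else 0) := by
    intro ν hν
    rw [h.classInner_ind_infl hF ν (Cfsg.Agent.Lib.Helper04.isClassFunction_of_isIrrCharacter hν)
      R hRcl, hphiR, Cfsg.Agent.Lib.Helper05.classInner_smul_right,
      Cfsg.Agent.Lib.Helper04.classInner_irr _ _ hν hlam]
    have h2c : (starRingEnd ℂ) (2 : ℂ) = 2 := map_ofNat (starRingEnd ℂ) 2
    rw [h2c]
  have hnorm : Cfsg.classInner R R = 2 := by
    have := hRν lam hlam
    rw [if_pos rfl, mul_one] at this
    exact this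
  obtain ⟨ψ₁, ψ₂, h1, h2, h12, hsum⟩ := Cfsg.Agent.Lib.Helper45.char_norm_two hRchar hnorm
  have key : ∀ ψ : G → ℂ, Cfsg.IsIrrCharacter G ψ → ∀ ψ' : G → ℂ, Cfsg.IsIrrCharacter G ψ' →
      ψ ≠ ψ' → R = ψ + ψ' →
      ∀ y : ↥(stabilizer G a ⊓ stabilizer G b), (y : G) ≠ 1 → ψ y = lam y := by
    intro ψ hψ ψ' hψ' hne hR
    have hψcl := Cfsg.Agent.Lib.Helper04.isClassFunction_of_isIrrCharacter hψ
    have hRψ : Cfsg.classInner R ψ = 1 := by
      rw [hR, Cfsg.Agent.Lib.Helper04.classInner_add_left,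
        Cfsg.Agent.Lib.Helper04.classInner_irr _ _ hψ hψ,
        Cfsg.Agent.Lib.Helper04.classInner_irr _ _ hψ' hψ, if_pos rfl, if_neg (Ne.symm hne),
        add_zero]
    have hall : ∀ ν : Cfsg.IrrCharacter ↥(stabilizer G a ⊓ stabilizer G b),
        Cfsg.classInner (phiStar a b F ψ - lam) (ν : _ → ℂ) = 0 := by
      intro ν
      have hνcl := Cfsg.Agent.Lib.Helper04.isClassFunction_of_isIrrCharacter ν.2
      have hνchar : Cfsg.IsCharacter G (Cfsg.indFun (stabilizer G a) (h.infl hF ν.1)) := by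
        apply Cfsg.Agent.Lib.Helper34.isCharacter_indFun
        apply Cfsg.Agent.Lib.Helper05.IsIrrCharacter.isCharacter
        exact Cfsg.Agent.Lib.Helper33.isIrrCharacter_comp_of_surjective (h.proj hF) hsurj ν.2
      have hval : Cfsg.classInner (Cfsg.indFun (stabilizer G a) (h.infl hF ν.1)) ψ =
          if ν.1 = lam then 1 else 0 := by
        by_cases hνl : ν.1 = lam
        · rw [if_pos hνl, hνl]
          exact hRψ
        · rw [if_neg hνl]
          obtain ⟨n₁, hn₁⟩ := Cfsg.Agent.Lib.Helper05.exists_nat_classInner hνchar hψ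
          obtain ⟨n₂, hn₂⟩ := Cfsg.Agent.Lib.Helper05.exists_nat_classInner hνchar hψ'
          have htot := hRν ν.1 ν.2
          rw [if_neg hνl, mul_zero, hR, Cfsg.Agent.Lib.Helper05.classInner_add_right, hn₁, hn₂]
            at htot
          have : n₁ + n₂ = 0 := by exact_mod_cast htot
          have hn0 : n₁ = 0 := by omega
          rw [hn₁, hn0]
          simp
      have hadj := h.classInner_ind_infl hF ν.1 hνcl ψ hψcl
      rw [hval] at hadj
      have h3 : Cfsg.classInner (ν : _ → ℂ) (phiStar a b F ψ - lam) = 0 := by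
        rw [Cfsg.Agent.Lib.Helper05.classInner_sub_right, ← hadj,
          Cfsg.Agent.Lib.Helper04.classInner_irr _ _ ν.2 hlam, sub_self]
      rw [← Cfsg.Agent.Lib.Helper05.classInner_conj_symm, h3, map_zero]
    have hzero := Cfsg.Agent.Lib.Helper04.classFunction_eq_zero (phiStar a b F ψ - lam)
      (Cfsg.Agent.Lib.Helper04.IsClassFunction.sub (phiStar_isClassFunction hψcl) hlamcl) hall
    intro y hy
    have := congrFun hzero y
    simp only [Pi.sub_apply, Pi.zero_apply] at this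
    rw [phiStar_apply_of_ne ψ y hy] at this
    exact sub_eq_zero.mp this
  refine ⟨ψ₁, ψ₂, h1, h2, hsum, key ψ₁ h1 ψ₂ h2 h12 hsum, key ψ₂ h2 ψ₁ h1 (Ne.symm h12) ?_⟩
  rw [hsum, add_comm]

end S3Setup

end Cfsg.Agent.Lib.Helper28
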