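import Mathlib
import Cfsg.Agent.Lib.Helper28.S3CharB

set_option autoImplicit false

/-!
# Sharply 3-transitive groups of even degree: the character of the normalizer of the
two-point stabilizer
-/

namespace Cfsg.Agent.Lib.Helper28

open MulAction
open scoped ComplexConjugate

namespace S3Setup

variable {G Ω : Type*} [Group G] [MulAction G Ω] {a b c : Ω} {s : G} {F : Subgroup G}

/-- the two-point stabilizer has index two in the setwise stabilizer -/
theorem index_H_in_N [Finite G] (h : S3Setup G Ω a b c s) :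
    ((stabilizer G a ⊓ stabilizer G b).subgroupOf (setStab2 G a b)).index = 2 := by
  have h1 := Subgroup.relIndex_mul_relIndex (⊥ : Subgroup G) (stabilizer G a ⊓ stabilizer G b)
    (setStab2 G a b) bot_le H_le_N
  rw [Subgroup.relIndex_bot_left, Subgroup.relIndex_bot_left, h.card_N] at h1
  have hpos : 0 < Nat.card ↥(stabilizer G a ⊓ stabilizer G b) := Nat.card_pos
  have : (stabilizer G a ⊓ stabilizer G b).relIndex (setStab2 G a b) = 2 := by
    have h2 : Nat.card ↥(stabilizer G a ⊓ stabilizer G b) *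
        (stabilizer G a ⊓ stabilizer G b).relIndex (setStab2 G a b) =
        Nat.card ↥(stabilizer G a ⊓ stabilizer G b) * 2 := by rw [h1, mul_comm]
    exact Nat.eq_of_mul_eq_mul_left hpos h2
  exact this

/-- the centralizer of `s` in the setwise stabilizer has order four -/
theorem card_centralizer_s [Finite G] (h : S3Setup G Ω a b c s) {z : G}
    (hza : z • a = a) (hzb : z • b = b) (hz1 : z ≠ 1) (hsz : s * z = z * s)
    (hzuniq : ∀ x : G, x • a = a → x • b = b → s * x = x * s → x = 1 ∨ x = z) :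
    Nat.card ↥(Subgroup.centralizer
      ({(⟨s, h.s_mem_N⟩ : ↥(setStab2 G a b))} : Set ↥(setStab2 G a b))) = 4 := by
  classical
  set sN : ↥(setStab2 G a b) := ⟨s, h.s_mem_N⟩ with hsN
  have hzH : z ∈ stabilizer G a ⊓ stabilizer G b := mem_H_iff.mpr ⟨hza, hzb⟩
  set zN : ↥(setStab2 G a b) := ⟨z, H_le_N hzH⟩ with hzN
  have hset : ((Subgroup.centralizer ({sN} : Set ↥(setStab2 G a b)) :
      Subgroup ↥(setStab2 G a b)) : Set ↥(setStab2 G a b)) = {1, zN, sN, sN * zN} := by
    ext x
    simp only [SetLike.mem_coe, Subgroup.mem_centralizer_singleton_iff, Set.mem_insert_iff,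
      Set.mem_singleton_iff]
    constructor
    · intro hx
      have hx' : s * (x : G) = (x : G) * s := (congrArg Subtype.val hx).symm
      rcases h.mem_N_cases x.2 with hxH | ⟨hsxH, -⟩
      · rcases hzuniq x (mem_H_iff.mp hxH).1 (mem_H_iff.mp hxH).2 hx' with h1 | h1
        · left; exact Subtype.ext h1
        · right; left; exact Subtype.ext h1
      · have hcomm : s * (s * (x : G)) = (s * (x : G)) * s := by
          rw [mul_assoc s (x : G) s, ← hx']
        rcases hzuniq _ (mem_H_iff.mp hsxH).1 (mem_H_iff.mp hsxH).2 hcomm with h1 | h1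
        · right; right; left
          apply Subtype.ext
          show (x : G) = s
          calc (x : G) = s * s * (x : G) := by rw [h.s_sq, one_mul]
            _ = s * (s * (x : G)) := by group
            _ = s := by rw [h1, mul_one]
        · right; right; right
          apply Subtype.ext
          show (x : G) = s * z
          calc (x : G) = s * s * (x : G) := by rw [h.s_sq, one_mul]
            _ = s * (s * (x : G)) := by group
            _ = s * z := by rw [h1]
    · rintro (rfl | rfl | rfl | rfl)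
      · simp
      · apply Subtype.ext
        show z * s = s * z
        exact hsz.symm
      · rfl
      · apply Subtype.ext
        show s * z * s = s * (s * z)
        rw [mul_assoc, ← hsz]
  rw [← SetLike.coe_sort_coe, Nat.card_coe_set_eq, hset]
  have hsH := h.s_notMem_H
  have h1z : (1 : ↥(setStab2 G a b)) ≠ zN := by
    intro hh
    exact hz1 (congrArg Subtype.val hh).symm
  have h1s : (1 : ↥(setStab2 G a b)) ≠ sN := by
    intro hh
    exact h.s_ne_one (congrArg Subtype.val hh).symm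
  have hzs : zN ≠ sN := by
    intro hh
    have : z = s := congrArg Subtype.val hh
    exact hsH (this ▸ hzH)
  have h1sz : (1 : ↥(setStab2 G a b)) ≠ sN * zN := by
    intro hh
    have h2 : (1 : G) = s * z := congrArg Subtype.val hh
    apply hsH
    have : s = z⁻¹ := eq_inv_of_mul_eq_one_left h2.symm
    rw [this]
    exact (stabilizer G a ⊓ stabilizer G b).inv_mem hzH
  have hzsz : zN ≠ sN * zN := by
    intro hh
    have h2 : z = s * z := congrArg Subtype.val hh
    apply h.s_ne_one
    calc s = (s * z) * z⁻¹ := by group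
      _ = 1 := by rw [← h2]; group
  have hssz : sN ≠ sN * zN := by
    intro hh
    have h2 : s = s * z := congrArg Subtype.val hh
    apply hz1
    calc z = s⁻¹ * (s * z) := by group
      _ = 1 := by rw [← h2]; group
  rw [Set.ncard_insert_of_notMem, Set.ncard_insert_of_notMem, Set.ncard_pair hssz]
  · simp only [Set.mem_insert_iff, Set.mem_singleton_iff, not_or]
    exact ⟨hzs, hzsz⟩
  · simp only [Set.mem_insert_iff, Set.mem_singleton_iff, not_or]
    exact ⟨h1z, h1s, h1sz⟩

/-- the character of the setwise stabilizer -/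
theorem exists_mu [Fintype G] [Fintype Ω] (h : S3Setup G Ω a b c s)
    (hev : Even (Fintype.card Ω)) :
    ∃ μ : ↥(setStab2 G a b) → ℂ, Cfsg.IsIrrCharacter ↥(setStab2 G a b) μ ∧
      μ ⟨s, h.s_mem_N⟩ ^ 2 = 1 ∧
      Cfsg.IsIrrCharacter ↥(stabilizer G a ⊓ stabilizer G b)
        (fun y : ↥(stabilizer G a ⊓ stabilizer G b) => μ ⟨y, H_le_N y.2⟩) ∧
      (fun y : ↥(stabilizer G a ⊓ stabilizer G b) => μ ⟨y, H_le_N y.2⟩) ≠ (fun _ => 1) := by
  classical
  obtain ⟨z, hza, hzb, hz1, hzz, hsz, hzuniq⟩ := h.exists_z hev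
  let _ : Fintype ↥(setStab2 G a b) := Fintype.ofFinite _
  set K := (stabilizer G a ⊓ stabilizer G b).subgroupOf (setStab2 G a b) with hK
  have hsK : (⟨s, h.s_mem_N⟩ : ↥(setStab2 G a b)) ∉ K := by
    rw [hK, Subgroup.mem_subgroupOf]
    exact h.s_notMem_H
  have hss : (⟨s, h.s_mem_N⟩ : ↥(setStab2 G a b)) * ⟨s, h.s_mem_N⟩ = 1 := Subtype.ext h.s_sq
  obtain ⟨μ, hμ, hμK, hμne, hμs⟩ := exists_irr_index_two K h.index_H_in_N hsK hss
    (h.card_centralizer_s hza hzb hz1 hsz hzuniq)
  refine ⟨μ, hμ, hμs, ?_, ?_⟩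
  · let e : ↥(stabilizer G a ⊓ stabilizer G b) ≃* ↥K :=
      (Subgroup.subgroupOfEquivOfLe H_le_N).symm
    have h1 := Cfsg.Agent.Lib.Helper33.isIrrCharacter_comp_of_surjective e.toMonoidHom
      e.surjective hμK
    have h2 : (fun y : ↥(stabilizer G a ⊓ stabilizer G b) => μ ⟨y, H_le_N y.2⟩) =
        (fun y => (fun k : ↥K => μ k) (e.toMonoidHom y)) := by
      funext y
      show μ ⟨y, H_le_N y.2⟩ = μ ((e y : ↥K) : ↥(setStab2 G a b))
      congr 1
    rw [h2]
    exact h1
  · intro hcon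
    apply hμne
    funext k
    have h1 := congrFun hcon ⟨((k : ↥(setStab2 G a b)) : G), Subgroup.mem_subgroupOf.mp k.2⟩
    exact h1

theorem invZc_b_mem_N [Fintype G] (h : S3Setup G Ω a b c s) {x : G} (hx : x ∈ invZc G a b) :
    x ∈ setStab2 G a b :=
  Or.inr ⟨(mem_invZc.mp hx).2, (h.invZc_b_conj hx).1⟩

/-- the class-sum identity in the setwise stabilizer -/
theorem sum_sum_invZc_b [Fintype G] (h : S3Setup G Ω a b c s)
    {μ : ↥(setStab2 G a b) → ℂ} (hμ : Cfsg.IsIrrCharacter ↥(setStab2 G a b) μ)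
    (hμs : μ ⟨s, h.s_mem_N⟩ ^ 2 = 1) :
    ∑ x ∈ invZc G a b, ∑ y ∈ invZc G a b, Cfsg.extendByZero (setStab2 G a b) μ (x * y) =
      ((invZc G a b).card : ℂ) ^ 2 / μ 1 := by
  classical
  let _ : Fintype ↥(setStab2 G a b) := Fintype.ofFinite _
  set T : Finset ↥(setStab2 G a b) :=
    Finset.univ.filter (fun x : ↥(setStab2 G a b) => (x : G) ∈ invZc G a b) with hTdef
  have htrans : ∀ f : G → ℂ, ∑ x ∈ invZc G a b, f x = ∑ x' ∈ T, f x' := by
    intro f
    symm
    apply Finset.sum_bij (fun (x' : ↥(setStab2 G a b)) _ => (x' : G))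
    · intro x' hx'
      exact (Finset.mem_filter.mp hx').2
    · intro x' _ y' _ hxy
      exact Subtype.ext hxy
    · intro x hx
      exact ⟨⟨x, h.invZc_b_mem_N hx⟩, Finset.mem_filter.mpr ⟨Finset.mem_univ _, hx⟩, rfl⟩
    · intro x' _
      rfl
  have hcard : ((invZc G a b).card : ℂ) = (T.card : ℂ) := by
    have := htrans (fun _ => (1 : ℂ))
    simpa using this
  have hμcl := Cfsg.Agent.Lib.Helper04.isClassFunction_of_isIrrCharacter hμ
  have hT : ∀ g : ↥(setStab2 G a b), ∀ x ∈ T, g * x * g⁻¹ ∈ T := by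
    intro g x hx
    have hx' := (Finset.mem_filter.mp hx).2
    obtain ⟨hxZ, hxa⟩ := mem_invZc.mp hx'
    have hxb := (h.invZc_b_conj hx').1
    refine Finset.mem_filter.mpr ⟨Finset.mem_univ _, ?_⟩
    rw [Subgroup.coe_mul, Subgroup.coe_mul, Subgroup.coe_inv, mem_invZc]
    refine ⟨conj_mem_invZ hxZ _, ?_⟩
    rcases g.2 with ⟨hga, hgb⟩ | ⟨hga, hgb⟩
    · rw [mul_smul, mul_smul, inv_smul_eq_iff.mpr hga.symm, hxa, hgb]
    · rw [mul_smul, mul_smul, inv_smul_eq_iff.mpr hgb.symm, hxb, hga]
  have hc : ∀ x ∈ T, μ x = μ ⟨s, h.s_mem_N⟩ := by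
    intro x hx
    have hx' := (Finset.mem_filter.mp hx).2
    obtain ⟨-, y, hya, hyb, hxy⟩ := h.invZc_b_conj hx'
    have hyN : y ∈ setStab2 G a b := Or.inl ⟨hya, hyb⟩
    have : x = (⟨y, hyN⟩ : ↥(setStab2 G a b)) * ⟨s, h.s_mem_N⟩ * (⟨y, hyN⟩)⁻¹ := by
      apply Subtype.ext
      rw [Subgroup.coe_mul, Subgroup.coe_mul, Subgroup.coe_inv]
      exact hxy
    rw [this]
    exact hμcl _ _
  have hmain := sum_sum_conjInvariant hμ T hT (μ ⟨s, h.s_mem_N⟩) hc
  rw [hμs, mul_one] at hmain
  rw [hcard, ← hmain, htrans]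
  apply Finset.sum_congr rfl
  intro x' _
  rw [htrans]
  apply Finset.sum_congr rfl
  intro y' _
  rw [← Subgroup.coe_mul, Cfsg.Agent.Lib.Helper04.extendByZero_apply_mem]

end S3Setup

end Cfsg.Agent.Lib.Helper28
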