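import Mathlib
import Cfsg.Agent.Lib.Helper28.S3CharC
import Cfsg.Agent.Lib.Helper28.S3Arith
import Cfsg.Agent.Lib.Helper04.GlaubInt

set_option autoImplicit false

/-!
# Sharply 3-transitive groups of even degree: counting with the involutions
-/

namespace Cfsg.Agent.Lib.Helper28

open MulAction
open scoped ComplexConjugate

namespace S3Setup

variable {G Ω : Type*} [Group G] [MulAction G Ω] {a b c : Ω} {s : G} {F : Subgroup G}

theorem sum_invZ_conj [Fintype G] (t : G) (g : G → ℂ) :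
    ∑ x ∈ invZ G Ω, g (t⁻¹ * x * t) = ∑ x ∈ invZ G Ω, g x := by
  apply Finset.sum_bij (fun x _ => t⁻¹ * x * t)
  · intro x hx
    have := conj_mem_invZ hx t⁻¹
    rwa [inv_inv] at this
  · intro x _ y _ hxy
    exact mul_left_cancel (mul_right_cancel hxy)
  · intro y hy
    exact ⟨t * y * t⁻¹, conj_mem_invZ hy t, by group⟩
  · intro x _
    rfl

/-- the double sum of an induced class function over the involutions -/
theorem sum_sum_invZ_ind [Fintype G] [Fintype Ω] (h : S3Setup G Ω a b c s)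
    (θ : ↥(stabilizer G a) → ℂ) :
    ∑ x ∈ invZ G Ω, ∑ y ∈ invZ G Ω, Cfsg.indFun (stabilizer G a) θ (x * y) =
      (Fintype.card Ω : ℂ) *
        ∑ x ∈ invZ G Ω, ∑ y ∈ invZ G Ω, Cfsg.extendByZero (stabilizer G a) θ (x * y) := by
  classical
  set E := Cfsg.extendByZero (stabilizer G a) θ with hE
  set cB : ℂ := (Nat.card ↥(stabilizer G a) : ℂ)⁻¹ with hcB
  have h1 : ∀ t : G, ∑ x ∈ invZ G Ω, ∑ y ∈ invZ G Ω, E (t⁻¹ * (x * y) * t) =
      ∑ x ∈ invZ G Ω, ∑ y ∈ invZ G Ω, E (x * y) := by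
    intro t
    have e : ∀ x y : G, t⁻¹ * (x * y) * t = (t⁻¹ * x * t) * (t⁻¹ * y * t) := by
      intro x y; group
    simp_rw [e]
    rw [sum_invZ_conj t (fun x' => ∑ y ∈ invZ G Ω, E (x' * (t⁻¹ * y * t)))]
    apply Finset.sum_congr rfl
    intro x _
    exact sum_invZ_conj t (fun y' => E (x * y'))
  have h2 : ∑ x ∈ invZ G Ω, ∑ y ∈ invZ G Ω, Cfsg.indFun (stabilizer G a) θ (x * y) =
      cB * ∑ x ∈ invZ G Ω, ∑ y ∈ invZ G Ω, ∑ t : G, E (t⁻¹ * (x * y) * t) := by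
    rw [Finset.mul_sum]
    apply Finset.sum_congr rfl
    intro x _
    rw [Finset.mul_sum]
    apply Finset.sum_congr rfl
    intro y _
    rfl
  have h3 : ∑ x ∈ invZ G Ω, ∑ y ∈ invZ G Ω, ∑ t : G, E (t⁻¹ * (x * y) * t) =
      ∑ t : G, ∑ x ∈ invZ G Ω, ∑ y ∈ invZ G Ω, E (t⁻¹ * (x * y) * t) := by
    calc ∑ x ∈ invZ G Ω, ∑ y ∈ invZ G Ω, ∑ t : G, E (t⁻¹ * (x * y) * t)
        = ∑ x ∈ invZ G Ω, ∑ t : G, ∑ y ∈ invZ G Ω, E (t⁻¹ * (x * y) * t) := by
          apply Finset.sum_congr rfl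
          intro x _
          exact Finset.sum_comm
      _ = ∑ t : G, ∑ x ∈ invZ G Ω, ∑ y ∈ invZ G Ω, E (t⁻¹ * (x * y) * t) := Finset.sum_comm
  rw [h2, h3, Finset.sum_congr rfl (fun t _ => h1 t), Finset.sum_const, Finset.card_univ,
    nsmul_eq_mul, ← mul_assoc]
  congr 1
  have : IsPretransitive G Ω := ⟨fun x y => h.pre.trans1 x y⟩
  have hidx := Subgroup.card_mul_index (stabilizer G a)
  rw [index_stabilizer_of_transitive G a, Nat.card_eq_fintype_card (α := Ω),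
    Nat.card_eq_fintype_card (α := G)] at hidx
  have hB0 : (Nat.card ↥(stabilizer G a) : ℂ) ≠ 0 := by
    have : Nat.card ↥(stabilizer G a) ≠ 0 := Nat.card_pos.ne'
    exact_mod_cast this
  have hidx' : (Nat.card ↥(stabilizer G a) : ℂ) * (Fintype.card Ω : ℂ) = (Fintype.card G : ℂ) := by
    exact_mod_cast hidx
  rw [hcB, ← hidx']
  field_simp

/-- the contribution of the involutions fixing `a` -/
theorem sum_sum_invZc_a [Fintype G] [Fintype Ω] (h : S3Setup G Ω a b c s) (hF : IsKer G a F)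
    (hev : Even (Fintype.card Ω)) {z : G} (hza : z • a = a) (hzb : z • b = b) (hz1 : z ≠ 1)
    (hzz : z * z = 1) (lam : ↥(stabilizer G a ⊓ stabilizer G b) → ℂ) :
    ∑ x ∈ invZc G a a, ∑ y ∈ invZc G a a,
      Cfsg.extendByZero (stabilizer G a) (h.infl hF lam) (x * y) =
      (Nat.card F : ℂ) ^ 2 * lam 1 := by
  have hterm : ∀ x ∈ invZc G a a, ∀ y ∈ invZc G a a,
      Cfsg.extendByZero (stabilizer G a) (h.infl hF lam) (x * y) = lam 1 := by
    intro x hx y hy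
    have hxa := (mem_invZc.mp hx).2
    have hya := (mem_invZc.mp hy).2
    have hxB : x ∈ stabilizer G a := mem_stabilizer_iff.mpr hxa
    have hyB : y ∈ stabilizer G a := mem_stabilizer_iff.mpr hya
    have hxy : x * y = (((⟨x, hxB⟩ : ↥(stabilizer G a)) * ⟨y, hyB⟩ : ↥(stabilizer G a)) : G) := rfl
    rw [hxy, Cfsg.Agent.Lib.Helper04.extendByZero_apply_mem]
    unfold infl
    rw [map_mul]
    have px : h.proj hF ⟨x, hxB⟩ = ⟨z, mem_H_iff.mpr ⟨hza, hzb⟩⟩ :=
      Subtype.ext (h.proj_of_invZ hF hev hza hzb hz1 hzz hx)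
    have py : h.proj hF ⟨y, hyB⟩ = ⟨z, mem_H_iff.mpr ⟨hza, hzb⟩⟩ :=
      Subtype.ext (h.proj_of_invZ hF hev hza hzb hz1 hzz hy)
    rw [px, py]
    congr 1
    exact Subtype.ext hzz
  rw [Finset.sum_congr rfl (fun x hx => Finset.sum_congr rfl (fun y hy => hterm x hx y hy))]
  simp only [Finset.sum_const, nsmul_eq_mul]
  rw [h.card_invZc_a hF hev hza hzb hz1 hzz]
  ring

/-- the contribution of the involutions swapping `a` and `b` -/
theorem sum_sum_invZc_b' [Fintype G] (h : S3Setup G Ω a b c s) (hF : IsKer G a F)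
    {μ : ↥(setStab2 G a b) → ℂ} (hμ : Cfsg.IsIrrCharacter ↥(setStab2 G a b) μ)
    (hμs : μ ⟨s, h.s_mem_N⟩ ^ 2 = 1) :
    ∑ x ∈ invZc G a b, ∑ y ∈ invZc G a b,
      Cfsg.extendByZero (stabilizer G a)
        (h.infl hF (fun y : ↥(stabilizer G a ⊓ stabilizer G b) => μ ⟨y, H_le_N y.2⟩)) (x * y) =
      ((invZc G a b).card : ℂ) ^ 2 / μ 1 := by
  rw [← h.sum_sum_invZc_b hμ hμs]
  apply Finset.sum_congr rfl
  intro x hx
  apply Finset.sum_congr rfl
  intro y hy
  have hxa := (mem_invZc.mp hx).2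
  have hxb := (h.invZc_b_conj hx).1
  have hya := (mem_invZc.mp hy).2
  have hyb := (h.invZc_b_conj hy).1
  have hxya : (x * y) • a = a := by rw [mul_smul, hya, hxb]
  have hxyb : (x * y) • b = b := by rw [mul_smul, hyb, hxa]
  rw [Cfsg.Agent.Lib.Helper04.extendByZero_apply_of_mem _ _ _ (mem_stabilizer_iff.mpr hxya),
    h.infl_apply_H hF _ hxya hxyb,
    Cfsg.Agent.Lib.Helper04.extendByZero_apply_of_mem _ _ _
      (H_le_N (mem_H_iff.mpr ⟨hxya, hxyb⟩))]

/-- the class-sum identity for the involutions with a fixed point -/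
theorem sum_sum_invZ_irr [Fintype G] [Fintype Ω] (h : S3Setup G Ω a b c s) (hF : IsKer G a F)
    (hev : Even (Fintype.card Ω)) {z : G} (hza : z • a = a) (hzb : z • b = b) (hz1 : z ≠ 1)
    (hzz : z * z = 1) {ψ : G → ℂ} (hψ : Cfsg.IsIrrCharacter G ψ) :
    ∑ x ∈ invZ G Ω, ∑ y ∈ invZ G Ω, ψ (x * y) =
      ((invZ G Ω).card : ℂ) ^ 2 * ψ z ^ 2 / ψ 1 := by
  apply sum_sum_conjInvariant hψ (invZ G Ω) (fun g x hx => conj_mem_invZ hx g) (ψ z)
  intro x hx
  obtain ⟨g, hg⟩ := h.invZ_conj hF hev hza hzb hz1 hzz hx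
  rw [hg]
  exact Cfsg.Agent.Lib.Helper04.isClassFunction_of_isIrrCharacter hψ z g

/-- the order of the kernel is a prime power -/
theorem card_F_prime_pow [Finite G] [Fintype Ω] (h : S3Setup G Ω a b c s) (hF : IsKer G a F)
    (h4 : 4 ≤ Fintype.card Ω) : ∃ p k : ℕ, p.Prime ∧ Nat.card F = p ^ k := by
  have hcF := h.card_F hF
  have hF1 : Nat.card F ≠ 1 := by omega
  obtain ⟨p, hp, hpd⟩ := Nat.exists_prime_and_dvd hF1
  have : Fact p.Prime := ⟨hp⟩
  obtain ⟨f₀, hf₀⟩ := exists_prime_orderOf_dvd_card' p hpd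
  refine ⟨p, ?_⟩
  have hpg : IsPGroup p F := by
    intro f
    by_cases hf1 : f = 1
    · exact ⟨0, by rw [hf1]; simp⟩
    · refine ⟨1, ?_⟩
      have hf₀1 : f₀ ≠ 1 := by
        intro hh
        rw [hh, orderOf_one] at hf₀
        exact hp.one_lt.ne hf₀
      -- `f` is conjugate to `f₀`
      have hf1' : (f : G) ≠ 1 := fun hh => hf1 (Subtype.ext hh)
      have hf₀1' : (f₀ : G) ≠ 1 := fun hh => hf₀1 (Subtype.ext hh)
      have hfa := hF.smul_a f.2
      have hf₀a := hF.smul_a f₀.2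
      have hfb : (f : G) • b ≠ b := hF.fpf (f : G) f.2 hf1' b (Ne.symm h.hab)
      have hf₀b : (f₀ : G) • b ≠ b := hF.fpf (f₀ : G) f₀.2 hf₀1' b (Ne.symm h.hab)
      have hfba : (f : G) • b ≠ a := by
        intro hh
        rw [← hfa] at hh
        exact h.hab (MulAction.injective (f : G) hh).symm
      have hf₀ba : (f₀ : G) • b ≠ a := by
        intro hh
        rw [← hf₀a] at hh
        exact h.hab (MulAction.injective (f₀ : G) hh).symm
      obtain ⟨g, hga, hgb, hgf⟩ := h.reg _ _ hf₀ba hf₀b hfba hfb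
      have hconj : g * (f₀ : G) * g⁻¹ = (f : G) := by
        apply hF.eq_of_smul_eq (hF.conj_mem hga f₀.2) f.2 (Ne.symm h.hab)
        rw [mul_smul, mul_smul, inv_smul_eq_iff.mpr hgb.symm, hgf]
      have hord : orderOf (f : G) = p := by
        rw [← hconj, ← MulAut.conj_apply, MulEquiv.orderOf_eq, Subgroup.orderOf_coe, hf₀]
      apply Subtype.ext
      rw [pow_one, Subgroup.coe_pow, Subgroup.coe_one, ← hord]
      exact pow_orderOf_eq_one _
  obtain ⟨k, hk⟩ := IsPGroup.iff_card.mp hpg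
  exact ⟨k, hp, hk⟩

end S3Setup

end Cfsg.Agent.Lib.Helper28
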