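import Mathlib
import Cfsg.Agent.Lib.Helper28.SigmaInv

set_option autoImplicit false

/-!
# Finite field lemmas for the sharply 3-transitive groups of even degree
-/

namespace Cfsg.Agent.Lib.Helper28

section leaves

variable {K : Type*} [Field K] [Fintype K]

/-- in a finite field of odd characteristic with at least five elements there is a non-zero square
`x` such that `1 - x` is not a square -/
theorem exists_isSquare_one_sub_not_isSquare (hK : ringChar K ≠ 2) (h5 : 5 ≤ Fintype.card K) :
    ∃ x : K, IsSquare x ∧ x ≠ 0 ∧ ¬ IsSquare (1 - x) := by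
  classical
  by_contra hcon
  push Not at hcon
  -- closure under `b - a`
  have hsub : ∀ a b : K, IsSquare a → IsSquare b → b ≠ 0 → IsSquare (b - a) := by
    intro a b ha hb hb0
    have hab : IsSquare (a / b) := ha.div hb
    have h1 : IsSquare (1 - a / b) := by
      by_cases h0 : a / b = 0
      · rw [h0, sub_zero]
        exact IsSquare.one
      · exact hcon _ hab h0
    have : b - a = b * (1 - a / b) := by field_simp
    rw [this]
    exact hb.mul h1
  -- an element outside `{0, 1, -1}`
  obtain ⟨u, hu0, hu1, hum1⟩ : ∃ u : K, u ≠ 0 ∧ u ≠ 1 ∧ u ≠ -1 := by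
    have hlt : ({0, 1, -1} : Finset K).card < (Finset.univ : Finset K).card := by
      have h3 : ({0, 1, -1} : Finset K).card ≤ 3 := Finset.card_le_three
      rw [Finset.card_univ]
      omega
    obtain ⟨d, -, hd⟩ := Finset.exists_mem_notMem_of_card_lt_card hlt
    simp only [Finset.mem_insert, Finset.mem_singleton, not_or] at hd
    exact ⟨d, hd.1, hd.2.1, hd.2.2⟩
  set cc := u ^ 2 with hcc
  have hccsq : IsSquare cc := ⟨u, by rw [hcc, sq]⟩
  have hcc0 : cc ≠ 0 := pow_ne_zero 2 hu0
  have hcc1 : cc ≠ 1 := by
    intro h1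
    have : (u - 1) * (u + 1) = 0 := by
      have : u ^ 2 = 1 := h1
      ring_nf
      rw [this]
      ring
    rcases mul_eq_zero.mp this with h | h
    · exact hu1 (sub_eq_zero.mp h)
    · exact hum1 (eq_neg_of_add_eq_zero_left h)
  have h1c : IsSquare (1 - cc) := hcon cc hccsq hcc0
  have h1c0 : 1 - cc ≠ 0 := fun hh => hcc1 (sub_eq_zero.mp hh).symm
  have hnegc : IsSquare (-cc) := by
    have := hsub 1 (1 - cc) IsSquare.one h1c h1c0
    have e : 1 - cc - 1 = -cc := by ring
    rwa [e] at this
  have hneg1 : IsSquare (-1 : K) := by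
    have := hnegc.div hccsq
    have e : -cc / cc = -1 := by field_simp
    rwa [e] at this
  have hadd : ∀ a b : K, IsSquare a → IsSquare b → IsSquare (a + b) := by
    intro a b ha hb
    by_cases hb0 : b = 0
    · rw [hb0, add_zero]
      exact ha
    · have hna : IsSquare (-a) := by
        have := hneg1.mul ha
        rwa [neg_one_mul] at this
      have := hsub (-a) b hna hb hb0
      have e : b - -a = a + b := by ring
      rwa [e] at this
  obtain ⟨n₀, hn₀⟩ := FiniteField.exists_nonsquare hK
  obtain ⟨v, w, hvw⟩ := exists_sq_add_sq_eq hK n₀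
  apply hn₀
  rw [← hvw]
  exact hadd _ _ ⟨v, by rw [sq]⟩ ⟨w, by rw [sq]⟩

/-- an involutive ring endomorphism of a field with `p ^ f` elements, `p` and `f` odd, is the
identity -/
theorem ringHom_eq_id_of_involutive {p f : ℕ} (hp : p.Prime) (hp2 : p ≠ 2) (hf : Odd f)
    (hK : Fintype.card K = p ^ f) (α : K →+* K) (h2 : ∀ x, α (α x) = x) : ∀ x, α x = x := by
  classical
  by_contra hcon
  push Not at hcon
  obtain ⟨u₀, hu₀⟩ := hcon
  have h2ne : (2 : K) ≠ 0 := by
    intro h20
    have hord : addOrderOf (1 : K) = 2 := by
      apply addOrderOf_eq_prime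
      · rw [two_nsmul]
        have : (1 : K) + 1 = 2 := by norm_num
        rw [this, h20]
      · exact one_ne_zero
    have hdvd : 2 ∣ Fintype.card K := by
      rw [← hord]
      exact addOrderOf_dvd_card
    rw [hK] at hdvd
    have := (Nat.Prime.dvd_of_dvd_pow Nat.prime_two hdvd)
    exact hp2 ((Nat.prime_dvd_prime_iff_eq Nat.prime_two hp).mp this).symm
  set u := u₀ - α u₀ with hu
  have hu0 : u ≠ 0 := fun hh => hu₀ (sub_eq_zero.mp hh).symm
  have hαu : α u = -u := by
    rw [hu, map_sub, h2]
    ring
  set Kp := Finset.univ.filter (fun x : K => α x = x) with hKp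
  set Km := Finset.univ.filter (fun x : K => α x = -x) with hKm
  have hpm : Kp.card = Km.card := by
    apply Finset.card_bij (fun x _ => u * x)
    · intro x hx
      have hx' := (Finset.mem_filter.mp hx).2
      refine Finset.mem_filter.mpr ⟨Finset.mem_univ _, ?_⟩
      rw [map_mul, hαu, hx']
      ring
    · intro x _ y _ hxy
      exact mul_left_cancel₀ hu0 hxy
    · intro y hy
      have hy' := (Finset.mem_filter.mp hy).2
      refine ⟨y / u, Finset.mem_filter.mpr ⟨Finset.mem_univ _, ?_⟩, ?_⟩
      · rw [map_div₀, hαu, hy']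
        field_simp
      · field_simp
  have hprod : (Finset.univ : Finset K).card = (Kp ×ˢ Km).card := by
    apply Finset.card_bij (fun x _ => ((x + α x) / 2, (x - α x) / 2))
    · intro x _
      rw [Finset.mem_product]
      constructor
      · refine Finset.mem_filter.mpr ⟨Finset.mem_univ _, ?_⟩
        rw [map_div₀, map_add, h2, map_ofNat]
        ring
      · refine Finset.mem_filter.mpr ⟨Finset.mem_univ _, ?_⟩
        rw [map_div₀, map_sub, h2, map_ofNat]
        ring
    · intro x _ y _ hxy
      have h1 := congrArg Prod.fst hxy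
      have h3 := congrArg Prod.snd hxy
      simp only at h1 h3
      have e1 : x = (x + α x) / 2 + (x - α x) / 2 := by field_simp; ring
      have e2 : y = (y + α y) / 2 + (y - α y) / 2 := by field_simp; ring
      rw [e1, e2, h1, h3]
    · rintro ⟨y, w⟩ hyw
      rw [Finset.mem_product] at hyw
      have hy := (Finset.mem_filter.mp hyw.1).2
      have hw := (Finset.mem_filter.mp hyw.2).2
      refine ⟨y + w, Finset.mem_univ _, ?_⟩
      simp only at hy hw
      rw [map_add, hy, hw]
      apply Prod.ext
      · show (y + w + (y + -w)) / 2 = y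
        field_simp
        ring
      · show (y + w - (y + -w)) / 2 = w
        field_simp
        ring
  rw [Finset.card_univ, Finset.card_product, ← hpm, hK] at hprod
  -- `p ^ f` is a square, so `f` is even
  have hdvd : Kp.card ∣ p ^ f := Dvd.intro _ hprod.symm
  obtain ⟨j, -, hj⟩ := (Nat.dvd_prime_pow hp).mp hdvd
  rw [hj, ← pow_add] at hprod
  have := Nat.pow_right_injective hp.two_le hprod
  rcases hf with ⟨r, hr⟩
  omega

end leaves

end Cfsg.Agent.Lib.Helper28
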