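import Mathlib
import Cfsg.Agent.Lib.Helper28.S3Field

set_option autoImplicit false

/-!
# Semilinear maps of a finite field of odd degree over its odd prime field are linear
-/

namespace Cfsg.Agent.Lib.Helper28

section semi

variable {K : Type*} [Field K] [Fintype K]

theorem ringChar_ne_two_of_card {p f : ℕ} (hp : p.Prime) (hp2 : p ≠ 2)
    (hK : Fintype.card K = p ^ f) : ringChar K ≠ 2 := by
  intro h2
  have h0 := FiniteField.even_card_iff_char_two.mp h2
  rw [hK] at h0
  have hdvd : 2 ∣ p ^ f := Nat.dvd_of_mod_eq_zero h0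
  have := Nat.Prime.dvd_of_dvd_pow Nat.prime_two hdvd
  exact hp2 ((Nat.prime_dvd_prime_iff_eq Nat.prime_two hp).mp this).symm

/-- an additive map `A` with `A ∘ A` a non-zero scalar, which is semilinear with respect to
multiplication by the non-zero squares, is linear when the field has `p ^ f` elements with `p`, `f`
odd -/
theorem eq_mul_of_semilinear {p f : ℕ} (hp : p.Prime) (hp2 : p ≠ 2) (hf : Odd f)
    (hK : Fintype.card K = p ^ f) (A : K → K) (hadd : ∀ x y, A (x + y) = A x + A y)
    (m : K) (hm : m ≠ 0) (hAA : ∀ x, A (A x) = m * x)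
    (hsemi : ∀ u : K, IsSquare u → u ≠ 0 → ∃ k : K, ∀ x, A (u * x) = k * A x) :
    ∀ x, A x = A 1 * x := by
  have hchar := ringChar_ne_two_of_card hp hp2 hK
  have hA0 : A 0 = 0 := by
    have := hadd 0 0
    rw [add_zero] at this
    exact left_eq_add.mp this
  have hk0 : A 1 ≠ 0 := by
    intro h0
    have := hAA 1
    rw [h0, hA0, mul_one] at this
    exact hm this.symm
  set k := A 1 with hk
  -- the normalized map
  have hα_add : ∀ x y, A (x + y) / k = A x / k + A y / k := by
    intro x y
    rw [hadd, add_div]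
  have hα_sq : ∀ u : K, IsSquare u → ∀ x, A (u * x) / k = (A u / k) * (A x / k) := by
    intro u hu x
    by_cases hu0 : u = 0
    · rw [hu0, zero_mul, hA0, zero_div, zero_mul]
    · obtain ⟨k', hk'⟩ := hsemi u hu hu0
      have h1 := hk' 1
      rw [mul_one, ← hk] at h1
      rw [hk' x, h1]
      field_simp
  have hα_mul : ∀ y x, A (y * x) / k = (A y / k) * (A x / k) := by
    intro y x
    obtain ⟨v, w, hvw⟩ := exists_sq_add_sq_eq hchar y
    have hv : IsSquare (v ^ 2) := ⟨v, sq v⟩
    have hw : IsSquare (w ^ 2) := ⟨w, sq w⟩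
    rw [← hvw, add_mul, hadd, add_div, hα_sq _ hv, hα_sq _ hw, hadd, add_div, add_mul]
  let α : K →+* K :=
    { toFun := fun x => A x / k
      map_one' := div_self hk0
      map_mul' := hα_mul
      map_zero' := by rw [hA0, zero_div]
      map_add' := hα_add }
  have hα : ∀ x, α x = A x / k := fun x => rfl
  have hAα : ∀ x, A x = k * α x := by
    intro x
    rw [hα]
    field_simp
  have hinv : ∀ x, α (α x) = x := by
    intro x
    have h1 := hAA x
    rw [hAα x, hAα (k * α x), map_mul] at h1
    have h2 := hAA 1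
    rw [← hk, hAα k, mul_one] at h2
    rw [← h2] at h1
    have hne : k * α k ≠ 0 := by rw [h2]; exact hm
    have : k * α k * α (α x) = k * α k * x := by
      rw [← h1]; ring
    exact mul_left_cancel₀ hne this
  have hid := ringHom_eq_id_of_involutive hp hp2 hf hK α hinv
  intro x
  rw [hAα x, hid x]

end semi

end Cfsg.Agent.Lib.Helper28
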