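import Mathlib
import Cfsg.Agent.Lib.Helper28.MoebiusOdd
import Cfsg.Agent.Lib.Helper28.S3Field
import Cfsg.Agent.Lib.Helper28.S3Semi

set_option autoImplicit false

/-!
# The multiplier character of a Moebius datum, and the braid relation argument
-/

namespace Cfsg.Agent.Lib.Helper28

open Cfsg.Agent.Lib.Helper07

namespace MData

variable {G X F : Type*} [Group G] [MulAction G X] [Field F] (M : MData G X F)

lemma χ_congr {d d' : G} (hd : d ∈ M.D) (hd' : d' ∈ M.D) (h : d = d') :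
    M.χ d hd = M.χ d' hd' := by
  subst h
  rfl

lemma χ_one : M.χ 1 M.D.one_mem = 1 := by
  rw [χ, ← M.hφe]
  congr 1
  apply Subtype.ext
  show 1 * M.e * 1⁻¹ = M.e
  group

lemma χ_mul (d d' : G) (hd : d ∈ M.D) (hd' : d' ∈ M.D) :
    M.χ (d * d') (M.D.mul_mem hd hd') = M.χ d hd * M.χ d' hd' := by
  rw [χ, χ, χ, ← M.hmul d hd ⟨d' * M.e * d'⁻¹, M.hnorm d' hd' M.e M.heT⟩]
  congr 1
  apply Subtype.ext
  show d * d' * M.e * (d * d')⁻¹ = d * (d' * M.e * d'⁻¹) * d⁻¹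
  group

lemma χ_inv (d : G) (hd : d ∈ M.D) : M.χ d⁻¹ (M.D.inv_mem hd) = (M.χ d hd)⁻¹ :=
  eq_inv_of_mul_eq_one_left (M.χ_inv_mul d hd)

/-- the multiplier as a homomorphism -/
noncomputable def chiHom : M.D →* Fˣ where
  toFun d := Units.mk0 (M.χ d d.2) (M.χ_ne_zero d d.2)
  map_one' := Units.ext M.χ_one
  map_mul' a b := Units.ext (M.χ_mul a b a.2 b.2)

lemma chiHom_apply (d : M.D) : ((M.chiHom d : Fˣ) : F) = M.χ d d.2 := rfl

lemma χ_pow_card (N : Subgroup G) [Finite N] (hN : N ≤ M.D) (d : G) (hd : d ∈ N) :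
    M.χ d (hN hd) ^ Nat.card N = 1 := by
  have h1 : (⟨d, hd⟩ : N) ^ Nat.card N = 1 := pow_card_eq_one'
  have h2 : d ^ Nat.card N = 1 := by
    have := congrArg Subtype.val h1
    rwa [Subgroup.coe_pow, Subgroup.coe_one] at this
  have h3 : (⟨d, hN hd⟩ : M.D) ^ Nat.card N = 1 := by
    apply Subtype.ext
    rw [Subgroup.coe_pow, Subgroup.coe_one]
    exact h2
  have h4 : M.chiHom ⟨d, hN hd⟩ ^ Nat.card N = 1 := by
    rw [← map_pow, h3, map_one]
  have h5 := congrArg Units.val h4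
  rw [Units.val_pow_eq_pow_val, chiHom_apply, Units.val_one] at h5
  exact h5

/-- if `D` acts freely and has half the order of the multiplicative group, every non-zero square is
a multiplier -/
theorem exists_χ_eq_of_isSquare [Fintype F] [Finite M.D]
    (hfree : ∀ d ∈ M.D, d * M.e = M.e * d → d = 1)
    (hcard : 2 * Nat.card M.D = Fintype.card F - 1) :
    ∀ u : F, IsSquare u → u ≠ 0 → ∃ d, ∃ hd : d ∈ M.D, M.χ d hd = u := by
  have hinj : Function.Injective M.chiHom := by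
    rw [injective_iff_map_eq_one]
    intro d hd
    have h1 : M.χ d d.2 = 1 := by
      have := congrArg Units.val hd
      rwa [chiHom_apply, Units.val_one] at this
    rw [χ, ← M.hφe] at h1
    have h2 : (d : G) * M.e * (d : G)⁻¹ = M.e := congrArg Subtype.val (M.hφ.1 h1)
    apply Subtype.ext
    apply hfree d d.2
    calc (d : G) * M.e = ((d : G) * M.e * (d : G)⁻¹) * d := by group
      _ = M.e * d := by rw [h2]
  have hidx : M.chiHom.range.index = 2 := by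
    have h1 := Subgroup.card_mul_index M.chiHom.range
    have h2 : Nat.card M.chiHom.range = Nat.card M.D :=
      Nat.card_congr (MonoidHom.ofInjective hinj).symm.toEquiv
    have h3 : Nat.card Fˣ = Fintype.card F - 1 := by
      rw [Nat.card_units, Nat.card_eq_fintype_card]
    rw [h2, h3, ← hcard] at h1
    have hpos : 0 < Nat.card M.D := Nat.card_pos
    have : Nat.card M.D * M.chiHom.range.index = Nat.card M.D * 2 := by rw [h1, mul_comm]
    exact Nat.eq_of_mul_eq_mul_left hpos this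
  intro u hu hu0
  obtain ⟨v, rfl⟩ := hu
  have hv0 : v ≠ 0 := by
    rintro rfl
    exact hu0 (mul_zero 0)
  obtain ⟨d, hd⟩ := Subgroup.mul_self_mem_of_index_two hidx (Units.mk0 v hv0)
  refine ⟨d, d.2, ?_⟩
  have := congrArg Units.val hd
  rw [chiHom_apply] at this
  rw [this]
  rfl

/-- an element normalizing `T` and `D`, with square in `D`, acts linearly in the coordinates when
the field has `p ^ f` elements with `p` and `f` odd -/
theorem conj_linear [Fintype F] {p f : ℕ} (hp : p.Prime) (hp2 : p ≠ 2) (hf : Odd f)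
    (hK : Fintype.card F = p ^ f)
    (hsurj : ∀ u : F, IsSquare u → u ≠ 0 → ∃ d, ∃ hd : d ∈ M.D, M.χ d hd = u)
    (x : G) (hxT : ∀ t ∈ M.T, x * t * x⁻¹ ∈ M.T) (hxD : ∀ d ∈ M.D, x * d * x⁻¹ ∈ M.D)
    (hxx : x * x ∈ M.D) (t : M.T) :
    M.φ ⟨x * t * x⁻¹, hxT t t.2⟩ = M.φ ⟨x * M.e * x⁻¹, hxT M.e M.heT⟩ * M.φ t := by
  let A : F → F := fun y => M.φ ⟨x * (M.τ y : G) * x⁻¹, hxT _ (M.τ y).2⟩
  have hA : ∀ y, A y = M.φ ⟨x * (M.τ y : G) * x⁻¹, hxT _ (M.τ y).2⟩ := fun y => rfl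
  have hτadd : ∀ y y', M.τ (y + y') = M.τ y * M.τ y' := by
    intro y y'
    apply M.hφ.1
    rw [M.φ_τ, M.hadd, M.φ_τ, M.φ_τ]
  have hAadd : ∀ y y', A (y + y') = A y + A y' := by
    intro y y'
    rw [hA, hA, hA, ← M.hadd]
    congr 1
    apply Subtype.ext
    show x * (M.τ (y + y') : G) * x⁻¹ = (x * (M.τ y : G) * x⁻¹) * (x * (M.τ y' : G) * x⁻¹)
    rw [hτadd, Subgroup.coe_mul]
    group
  have hτA : ∀ y, (M.τ (A y) : G) = x * (M.τ y : G) * x⁻¹ := by
    intro y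
    rw [hA, M.τ_φ]
  have hAA : ∀ y, A (A y) = M.χ (x * x) hxx * y := by
    intro y
    have h1 := M.hmul (x * x) hxx (M.τ y)
    rw [M.φ_τ] at h1
    rw [χ, ← h1, hA]
    congr 1
    apply Subtype.ext
    show x * (M.τ (A y) : G) * x⁻¹ = x * x * (M.τ y : G) * (x * x)⁻¹
    rw [hτA]
    group
  have hsemi : ∀ u : F, IsSquare u → u ≠ 0 → ∃ k : F, ∀ y, A (u * y) = k * A y := by
    intro u hu hu0
    obtain ⟨d, hd, rfl⟩ := hsurj u hu hu0
    refine ⟨M.χ (x * d * x⁻¹) (hxD d hd), fun y => ?_⟩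
    have h1 : (M.τ (M.χ d hd * y) : G) = d * (M.τ y : G) * d⁻¹ := by
      have h0 := M.hmul d hd (M.τ y)
      rw [M.φ_τ] at h0
      have h2 : M.τ (M.χ d hd * y) = ⟨d * (M.τ y : G) * d⁻¹, M.hnorm d hd _ (M.τ y).2⟩ := by
        apply M.hφ.1
        rw [M.φ_τ, h0]
        rfl
      rw [h2]
    have h3 := M.hmul (x * d * x⁻¹) (hxD d hd) ⟨x * (M.τ y : G) * x⁻¹, hxT _ (M.τ y).2⟩
    have hχ : M.χ (x * d * x⁻¹) (hxD d hd) = M.φ ⟨x * d * x⁻¹ * M.e * (x * d * x⁻¹)⁻¹,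
        M.hnorm _ (hxD d hd) M.e M.heT⟩ := rfl
    rw [hA, hA, hχ, ← h3]
    congr 1
    apply Subtype.ext
    show x * (M.τ (M.χ d hd * y) : G) * x⁻¹ =
      (x * d * x⁻¹) * (x * (M.τ y : G) * x⁻¹) * (x * d * x⁻¹)⁻¹
    rw [h1]
    group
  have hm : M.χ (x * x) hxx ≠ 0 := M.χ_ne_zero _ _
  have key := eq_mul_of_semilinear hp hp2 hf hK A hAadd _ hm hAA hsemi (M.φ t)
  have hτ1 : M.τ 1 = ⟨M.e, M.heT⟩ := by
    apply M.hφ.1
    rw [M.φ_τ, M.hφe]
  have hA1 : A 1 = M.φ ⟨x * M.e * x⁻¹, hxT M.e M.heT⟩ := by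
    rw [hA]
    congr 1
    apply Subtype.ext
    show x * (M.τ 1 : G) * x⁻¹ = x * M.e * x⁻¹
    rw [hτ1]
  have hAt : A (M.φ t) = M.φ ⟨x * t * x⁻¹, hxT t t.2⟩ := by
    rw [hA]
    congr 1
    apply Subtype.ext
    show x * (M.τ (M.φ t) : G) * x⁻¹ = x * t * x⁻¹
    rw [M.τ_φ]
  rw [← hAt, key, hA1]

/-- the braid relation `s t s = t s t` excludes the twisted action of `s` -/
theorem braid_false [Fintype F] (hF : ringChar F ≠ 2) (h5 : 5 ≤ Fintype.card F) (s z : G)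
    (hsinf : s • M.inf = M.o) (hso : s • M.o = M.inf) (hs1 : s • M.pt 1 = M.pt 1)
    (hz : z ∈ M.D) (hχz : M.χ z hz = -1)
    (h3 : ∀ g g' : G, g • M.inf = g' • M.inf → g • M.o = g' • M.o → g • M.pt 1 = g' • M.pt 1 →
      g = g')
    (hsq : ∀ x : F, x ≠ 0 → IsSquare x → s • M.pt x = M.pt x⁻¹)
    (hnsq : ∀ x : F, ¬ IsSquare x → s • M.pt x = M.pt (-x⁻¹)) : False := by
  have h2 : (2 : F) ≠ 0 := Ring.two_ne_zero hF
  have ht0 : ∀ x, (M.e * z) • M.pt x = M.pt (1 - x) := by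
    intro x
    rw [mul_smul, M.D_smul_pt z hz, M.T_smul_pt M.e M.heT, M.hφe, hχz]
    congr 1
    ring
  have htinf0 : (M.e * z) • M.inf = M.inf := by
    rw [mul_smul, M.hDinf z hz, M.hTinf M.e M.heT]
  obtain ⟨t, ht_def⟩ : ∃ t : G, t = M.e * z := ⟨_, rfl⟩
  have ht : ∀ x, t • M.pt x = M.pt (1 - x) := by rw [ht_def]; exact ht0
  have htinf : t • M.inf = M.inf := by rw [ht_def]; exact htinf0
  have hto : t • M.o = M.pt 1 := by
    rw [← M.pt_zero, ht, sub_zero]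
  have ht1 : t • M.pt 1 = M.o := by
    rw [ht, sub_self, M.pt_zero]
  have hL3 : ∀ y : X, (s * t * s) • y = s • (t • (s • y)) := fun y => by
    rw [mul_smul, mul_smul]
  have hR3 : ∀ y : X, (t * s * t) • y = t • (s • (t • y)) := fun y => by
    rw [mul_smul, mul_smul]
  have braid : s * t * s = t * s * t := by
    apply h3
    · rw [hL3, hR3, hsinf, hto, hs1, htinf, hsinf, hto]
    · rw [hL3, hR3, hso, htinf, hsinf, hto, hs1, ht1]
    · rw [hL3, hR3, hs1, ht1, hso, htinf]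
  obtain ⟨x, hxs, hx0, hx1s⟩ := exists_isSquare_one_sub_not_isSquare hF h5
  have hx1 : x ≠ 1 := by
    rintro rfl
    apply hx1s
    rw [sub_self]
    exact IsSquare.zero
  have hxm1 : x - 1 ≠ 0 := sub_ne_zero.mpr hx1
  have h1mx : 1 - x ≠ 0 := sub_ne_zero.mpr (Ne.symm hx1)
  have hy : 1 - x⁻¹ ≠ 0 := by
    intro hh
    apply hx1
    have : x⁻¹ = 1 := (sub_eq_zero.mp hh).symm
    rw [← inv_inv x, this, inv_one]
  have hL : (s * t * s) • M.pt x = s • M.pt (1 - x⁻¹) := by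
    rw [hL3, hsq x hx0 hxs, ht]
  have hR : (t * s * t) • M.pt x = M.pt (1 - -(1 - x)⁻¹) := by
    rw [hR3, ht, hnsq _ hx1s, ht]
  rw [braid, hR] at hL
  by_cases hys : IsSquare (1 - x⁻¹)
  · rw [hsq _ hy hys] at hL
    have := M.pt_injective hL
    field_simp at this
    have h4 : 2 * (x - 1) = 0 := by linear_combination this
    rcases mul_eq_zero.mp h4 with h6 | h6
    · exact h2 h6
    · exact hxm1 h6
  · rw [hnsq _ hys] at hL
    have := M.pt_injective hL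
    field_simp at this
    have h4 : 2 * (x - 1) ^ 2 = 0 := by linear_combination (-1 : F) * this
    rcases mul_eq_zero.mp h4 with h6 | h6
    · exact h2 h6
    · exact hxm1 (pow_eq_zero_iff (by norm_num) |>.mp h6)

end MData

end Cfsg.Agent.Lib.Helper28
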