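import Mathlib
import Cfsg.Agent.Lib.Helper28.Sharp3Conv
import Cfsg.Agent.Lib.Helper28.S3GroupA

set_option autoImplicit false

/-!
# From `Sharp3` to `S3Setup`
-/

namespace Cfsg.Agent.Lib.Helper28

open MulAction

variable {G X : Type*} [Group G] [MulAction G X]

theorem exists_ne3 [Finite X] (h4 : 4 ≤ Nat.card X) (a b c : X) :
    ∃ d : X, d ≠ a ∧ d ≠ b ∧ d ≠ c := by
  classical
  let _ : Fintype X := Fintype.ofFinite X
  rw [Nat.card_eq_fintype_card] at h4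
  have hlt : ({a, b, c} : Finset X).card < (Finset.univ : Finset X).card := by
    have h3 : ({a, b, c} : Finset X).card ≤ 3 := Finset.card_le_three
    rw [Finset.card_univ]
    omega
  obtain ⟨d, -, hd⟩ := Finset.exists_mem_notMem_of_card_lt_card hlt
  simp only [Finset.mem_insert, Finset.mem_singleton, not_or] at hd
  exact ⟨d, hd.1, hd.2.1, hd.2.2⟩

theorem Sharp3.zpre [Finite X] (h : Sharp3 G X) (h4 : 4 ≤ Nat.card X) : ZPre G X := by
  have hne : Nonempty X := by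
    by_contra hcon
    rw [not_nonempty_iff] at hcon
    rw [Nat.card_of_isEmpty] at h4
    omega
  obtain ⟨a₀⟩ := hne
  obtain ⟨b₀, hb₀, -, -⟩ := exists_ne3 h4 a₀ a₀ a₀
  obtain ⟨c₀, hc₀a, hc₀b, -⟩ := exists_ne3 h4 a₀ b₀ b₀
  obtain ⟨d₀, hd₀a, hd₀b, hd₀c⟩ := exists_ne3 h4 a₀ b₀ c₀
  refine ⟨?_, ?_, ?_, ?_⟩
  · intro g hg
    exact h.sharp g a₀ b₀ c₀ (Ne.symm hb₀) (Ne.symm hc₀a) (Ne.symm hc₀b) (hg _) (hg _) (hg _)
  · intro a b c d hab hcd
    obtain ⟨e, hea, heb, -⟩ := exists_ne3 h4 a b b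
    obtain ⟨e', he'c, he'd, -⟩ := exists_ne3 h4 c d d
    obtain ⟨g, hga, hgb, -⟩ := h.trans a b e c d e' hab (Ne.symm hea) (Ne.symm heb) hcd
      (Ne.symm he'c) (Ne.symm he'd)
    exact ⟨g, hga, hgb⟩
  · intro g a b c hab hbc hac ha hb hc
    exact h.sharp g a b c hab hac hbc ha hb hc
  · obtain ⟨g, hga, hgb, hgc⟩ := h.trans a₀ b₀ c₀ a₀ b₀ d₀ (Ne.symm hb₀) (Ne.symm hc₀a)
      (Ne.symm hc₀b) (Ne.symm hb₀) (Ne.symm hd₀a) (Ne.symm hd₀b)
    refine ⟨g, ?_, a₀, b₀, Ne.symm hb₀, hga, hgb⟩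
    rintro rfl
    rw [one_smul] at hgc
    exact hd₀c hgc.symm

theorem Sharp3.s3setup [Finite X] (h : Sharp3 G X) (h4 : 4 ≤ Nat.card X) {a b c : X} {s : G}
    (hab : a ≠ b) (hca : c ≠ a) (hcb : c ≠ b) (hsa : s • a = b) (hsb : s • b = a)
    (hsc : s • c = c) : S3Setup G X a b c s where
  pre := h.zpre h4
  hab := hab
  hca := hca
  hcb := hcb
  reg := by
    intro x y hxa hxb hya hyb
    exact h.trans a b x a b y hab (Ne.symm hxa) (Ne.symm hxb) hab (Ne.symm hya) (Ne.symm hyb)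
  sa := hsa
  sb := hsb
  sc := hsc

end Cfsg.Agent.Lib.Helper28
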