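import Mathlib
import Cfsg.Agent.Lib.Helper28.S3CharD

set_option autoImplicit false

/-!
# Sharply 3-transitive groups of even degree have a non-principal linear character
-/

namespace Cfsg.Agent.Lib.Helper28

open MulAction
open scoped ComplexConjugate

namespace S3Setup

variable {G Ω : Type*} [Group G] [MulAction G Ω] {a b c : Ω} {s : G} {F : Subgroup G}

theorem extendByZero_conj {θ : ↥(stabilizer G a) → ℂ}
    (hθ : Cfsg.IsClassFunction ↥(stabilizer G a) θ) (x g : G) (hx : x • a = a) :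
    Cfsg.extendByZero (stabilizer G a) θ (x * g * x⁻¹) =
      Cfsg.extendByZero (stabilizer G a) θ g := by
  have hx' : x ∈ stabilizer G a := mem_stabilizer_iff.mpr hx
  by_cases hg : g ∈ stabilizer G a
  · have hmem : x * g * x⁻¹ ∈ stabilizer G a :=
      (stabilizer G a).mul_mem ((stabilizer G a).mul_mem hx' hg) ((stabilizer G a).inv_mem hx')
    rw [Cfsg.Agent.Lib.Helper04.extendByZero_apply_of_mem _ _ _ hmem,
      Cfsg.Agent.Lib.Helper04.extendByZero_apply_of_mem _ _ _ hg]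
    exact hθ ⟨g, hg⟩ ⟨x, hx'⟩
  · have hmem : x * g * x⁻¹ ∉ stabilizer G a := by
      intro hmem
      apply hg
      have : g = x⁻¹ * (x * g * x⁻¹) * x := by group
      rw [this]
      exact (stabilizer G a).mul_mem ((stabilizer G a).mul_mem ((stabilizer G a).inv_mem hx') hmem)
        hx'
    rw [Cfsg.Agent.Lib.Helper04.extendByZero_apply_not_mem _ _ _ hmem,
      Cfsg.Agent.Lib.Helper04.extendByZero_apply_not_mem _ _ _ hg]

set_option maxHeartbeats 1600000 in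
/-- **Main theorem**: a sharply 3-transitive group of even degree at least six has a linear
character which is non-principal on the two-point stabilizer. -/
theorem exists_linear [Fintype G] [Fintype Ω] (h : S3Setup G Ω a b c s)
    (hev : Even (Fintype.card Ω)) (h6 : 6 ≤ Fintype.card Ω) :
    ∃ ψ : G → ℂ, Cfsg.IsIrrCharacter G ψ ∧ ψ 1 = 1 ∧
      (∃ y : G, y • a = a ∧ y • b = b ∧ ψ y ≠ 1) ∧
      ∀ x ∈ invZc G a b, ψ (x * s) = 1 := by
  classical
  obtain ⟨z, hza, hzb, hz1, hzz, hsz, hzuniq⟩ := h.exists_z hev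
  obtain ⟨F, hF⟩ := h.pre.exists_isKer a
  obtain ⟨μ, hμ, hμs, hlam, hlamne⟩ := h.exists_mu hev
  set lam : ↥(stabilizer G a ⊓ stabilizer G b) → ℂ := fun y => μ ⟨y, H_le_N y.2⟩ with hlamdef
  have hμcl := Cfsg.Agent.Lib.Helper04.isClassFunction_of_isIrrCharacter hμ
  have hμchar := Cfsg.Agent.Lib.Helper05.IsIrrCharacter.isCharacter hμ
  have hlamcl := Cfsg.Agent.Lib.Helper04.isClassFunction_of_isIrrCharacter hlam
  -- invariance under `s`
  have hs : ∀ (g : G) (hga : g • a = a) (hgb : g • b = b) (hsa : (s⁻¹ * g * s) • a = a)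
      (hsb : (s⁻¹ * g * s) • b = b),
      lam ⟨s⁻¹ * g * s, mem_H_iff.mpr ⟨hsa, hsb⟩⟩ = lam ⟨g, mem_H_iff.mpr ⟨hga, hgb⟩⟩ := by
    intro g hga hgb hsa hsb
    simp only [hlamdef]
    have hgN : g ∈ setStab2 G a b := Or.inl ⟨hga, hgb⟩
    have : (⟨s⁻¹ * g * s, H_le_N (mem_H_iff.mpr ⟨hsa, hsb⟩)⟩ : ↥(setStab2 G a b)) =
        (⟨s, h.s_mem_N⟩ : ↥(setStab2 G a b))⁻¹ * ⟨g, hgN⟩ *
          ((⟨s, h.s_mem_N⟩ : ↥(setStab2 G a b))⁻¹)⁻¹ := by
      apply Subtype.ext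
      simp
    rw [this]
    exact hμcl _ _
  obtain ⟨ψ₁, ψ₂, hψ₁, hψ₂, hR, hv₁, hv₂⟩ := h.exists_two_constituents hF lam hlam hs
  obtain ⟨D, hDpos, hD⟩ := Cfsg.Agent.Lib.Helper05.exists_pos_degree hlam
  obtain ⟨X, hXpos, hX⟩ := Cfsg.Agent.Lib.Helper05.exists_pos_degree hψ₁
  obtain ⟨Y, hYpos, hY⟩ := Cfsg.Agent.Lib.Helper05.exists_pos_degree hψ₂
  have hone : (⟨((1 : ↥(stabilizer G a ⊓ stabilizer G b)) : G),
      H_le_N (1 : ↥(stabilizer G a ⊓ stabilizer G b)).2⟩ : ↥(setStab2 G a b)) = 1 :=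
    Subtype.ext rfl
  have hμ1 : μ 1 = D := by
    rw [← hD]
    simp only [hlamdef]
    rw [hone]
  -- cardinalities
  have hcF := h.card_F hF
  have hcH := h.card_H
  have hcZb := h.card_invZc_b hza hzb hz1 hsz hzuniq
  have hcZa := h.card_invZc_a hF hev hza hzb hz1 hzz
  have hcZ := h.card_invZ
  set m := (invZc G a b).card with hm
  have hn2 : Fintype.card Ω = 2 * m + 2 := by omega
  have hFm : Nat.card F = 2 * m + 1 := by omega
  have hZm : (invZ G Ω).card = (2 * m + 1) * (m + 1) := by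
    rw [hcZ, hcZa, hFm, hn2]
    have : 2 * m + 2 - 1 = 2 * m + 1 := by omega
    rw [this]
    ring
  have hHm : Nat.card ↥(stabilizer G a ⊓ stabilizer G b) = 2 * m := by omega
  -- the sums
  have hθcl := h.infl_isClassFunction hF hlamcl
  have hb := h.sum_sum_invZ_ind (h.infl hF lam)
  have hsplit := h.sum_sum_invZ (Cfsg.extendByZero (stabilizer G a) (h.infl hF lam))
    (fun g hg => Cfsg.Agent.Lib.Helper04.extendByZero_apply_not_mem _ _ _
      (fun hh => hg (mem_stabilizer_iff.mp hh)))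
    (fun x g hx => extendByZero_conj hθcl x g hx)
  have ha := h.sum_sum_invZc_a hF hev hza hzb hz1 hzz lam
  have hbb := h.sum_sum_invZc_b' hF hμ hμs
  have hi₁ := h.sum_sum_invZ_irr hF hev hza hzb hz1 hzz hψ₁
  have hi₂ := h.sum_sum_invZ_irr hF hev hza hzb hz1 hzz hψ₂
  have hRsum : ∑ x ∈ invZ G Ω, ∑ y ∈ invZ G Ω,
      Cfsg.indFun (stabilizer G a) (h.infl hF lam) (x * y) =
      ∑ x ∈ invZ G Ω, ∑ y ∈ invZ G Ω, ψ₁ (x * y) + ∑ x ∈ invZ G Ω, ∑ y ∈ invZ G Ω, ψ₂ (x * y) := by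
    rw [hR]
    simp only [Pi.add_apply, Finset.sum_add_distrib]
  -- values at `z`
  have hzH : z ∈ stabilizer G a ⊓ stabilizer G b := mem_H_iff.mpr ⟨hza, hzb⟩
  have hψ₁z : ψ₁ z = lam ⟨z, hzH⟩ := hv₁ ⟨z, hzH⟩ hz1
  have hψ₂z : ψ₂ z = lam ⟨z, hzH⟩ := hv₂ ⟨z, hzH⟩ hz1
  have hD0 : (D : ℂ) ≠ 0 := by
    have : D ≠ 0 := hDpos.ne'
    exact_mod_cast this
  have hX0 : (X : ℂ) ≠ 0 := by
    have : X ≠ 0 := hXpos.ne'
    exact_mod_cast this
  have hY0 : (Y : ℂ) ≠ 0 := by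
    have : Y ≠ 0 := hYpos.ne'
    exact_mod_cast this
  have hlamz : lam ⟨z, hzH⟩ ^ 2 = (D : ℂ) ^ 2 := by
    have hcen : (⟨z, hzH⟩ : ↥(stabilizer G a ⊓ stabilizer G b)) ∈
        Subgroup.center ↥(stabilizer G a ⊓ stabilizer G b) := by
      rw [Subgroup.mem_center_iff]
      intro g
      apply Subtype.ext
      rw [Subgroup.coe_mul, Subgroup.coe_mul]
      exact h.invol_central hF hza hzb hzz hz1 (mem_H_iff.mp g.2).1 (mem_H_iff.mp g.2).2
    have hz2 : (⟨z, hzH⟩ : ↥(stabilizer G a ⊓ stabilizer G b)) ^ 2 = 1 := by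
      apply Subtype.ext
      rw [pow_two]
      exact hzz
    have hroot := Cfsg.Agent.Lib.Helper04.irr_central_root
      (⟨lam, hlam⟩ : Cfsg.IrrCharacter ↥(stabilizer G a ⊓ stabilizer G b)) hcen 2 hz2
    have hroot' : (lam ⟨z, hzH⟩ / lam 1) ^ 2 = 1 := hroot
    rw [hD, div_pow, div_eq_one_iff_eq (pow_ne_zero 2 hD0)] at hroot'
    exact hroot'
  -- degree of the induced character
  have hnC : (Fintype.card Ω : ℂ) = 2 * (m : ℂ) + 2 := by
    rw [hn2]; push_cast; ring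
  have hFC : (Nat.card F : ℂ) = 2 * (m : ℂ) + 1 := by
    rw [hFm]; push_cast; ring
  have hZC : ((invZ G Ω).card : ℂ) = (2 * (m : ℂ) + 1) * ((m : ℂ) + 1) := by
    rw [hZm]; push_cast; ring
  have hXY' : (X : ℂ) + Y = (2 * (m : ℂ) + 2) * D := by
    have h1 := congrFun hR 1
    rw [Pi.add_apply, hX, hY, indFun_apply_one] at h1
    have : IsPretransitive G Ω := ⟨fun x y => h.pre.trans1 x y⟩
    rw [index_stabilizer_of_transitive G a, Nat.card_eq_fintype_card, hnC] at h1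
    rw [← h1]
    congr 1
    unfold infl
    rw [map_one, hD]
  -- the polynomial identities
  have e1 : (∑ x ∈ invZ G Ω, ∑ y ∈ invZ G Ω, ψ₁ (x * y)) * X =
      ((2 * (m : ℂ) + 1) * ((m : ℂ) + 1)) ^ 2 * (D : ℂ) ^ 2 := by
    rw [hi₁, hψ₁z, hlamz, hX, hZC, div_mul_cancel₀ _ hX0]
  have e2 : (∑ x ∈ invZ G Ω, ∑ y ∈ invZ G Ω, ψ₂ (x * y)) * Y =
      ((2 * (m : ℂ) + 1) * ((m : ℂ) + 1)) ^ 2 * (D : ℂ) ^ 2 := by
    rw [hi₂, hψ₂z, hlamz, hY, hZC, div_mul_cancel₀ _ hY0]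
  have e4 : (∑ x ∈ invZc G a b, ∑ y ∈ invZc G a b,
      Cfsg.extendByZero (stabilizer G a) (h.infl hF lam) (x * y)) * D = (m : ℂ) ^ 2 := by
    rw [hbb, hμ1, div_mul_cancel₀ _ hD0]
  have e3 : (∑ x ∈ invZ G Ω, ∑ y ∈ invZ G Ω, ψ₁ (x * y)) +
      (∑ x ∈ invZ G Ω, ∑ y ∈ invZ G Ω, ψ₂ (x * y)) = (2 * (m : ℂ) + 2) *
      ((2 * (m : ℂ) + 1) ^ 2 * D + (2 * (m : ℂ) + 1) *
        (∑ x ∈ invZc G a b, ∑ y ∈ invZc G a b,
          Cfsg.extendByZero (stabilizer G a) (h.infl hF lam) (x * y))) := by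
    rw [← hRsum, hb, hsplit, ha, hFC, hD, hnC]
    ring
  generalize (∑ x ∈ invZ G Ω, ∑ y ∈ invZ G Ω, ψ₁ (x * y)) = S₁ at e1 e3
  generalize (∑ x ∈ invZ G Ω, ∑ y ∈ invZ G Ω, ψ₂ (x * y)) = S₂ at e2 e3
  generalize (∑ x ∈ invZc G a b, ∑ y ∈ invZc G a b,
      Cfsg.extendByZero (stabilizer G a) (h.infl hF lam) (x * y)) = Sb at e3 e4
  have hfinal : ((2 * (m : ℂ) + 2) * (2 * (m : ℂ) + 1)) *
      ((2 * (m : ℂ) + 1) * ((m : ℂ) + 1) ^ 2 * (D : ℂ) ^ 4 -
        ((2 * (m : ℂ) + 1) * (D : ℂ) ^ 2 + (m : ℂ) ^ 2) * X * Y) = 0 := by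
    linear_combination (-((D : ℂ) * Y)) * e1 + (-((D : ℂ) * X)) * e2 + ((D : ℂ) * X * Y) * e3 +
      ((2 * (m : ℂ) + 2) * (2 * (m : ℂ) + 1) * X * Y) * e4 -
      (((2 * (m : ℂ) + 1) * ((m : ℂ) + 1)) ^ 2 * (D : ℂ) ^ 3) * hXY'
  have hprod : (2 * m + 1) * (m + 1) ^ 2 * D ^ 4 = ((2 * m + 1) * D ^ 2 + m ^ 2) * X * Y := by
    rcases mul_eq_zero.mp hfinal with h0 | h0
    · exfalso
      have : ((2 * m + 2 : ℕ) : ℂ) * ((2 * m + 1 : ℕ) : ℂ) ≠ 0 := by
        have : (2 * m + 2) * (2 * m + 1) ≠ 0 := Nat.mul_ne_zero (by omega) (by omega)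
        exact_mod_cast this
      apply this
      push_cast
      exact h0
    · have h00 := sub_eq_zero.mp h0
      have : (((2 * m + 1) * (m + 1) ^ 2 * D ^ 4 : ℕ) : ℂ) =
          ((((2 * m + 1) * D ^ 2 + m ^ 2) * X * Y : ℕ) : ℂ) := by
        push_cast
        exact h00
      exact_mod_cast this
  have hsum : X + Y = 2 * (m + 1) * D := by
    have : ((X + Y : ℕ) : ℂ) = ((2 * (m + 1) * D : ℕ) : ℂ) := by
      push_cast
      rw [hXY']
      ring
    exact_mod_cast this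
  -- the arithmetic
  obtain ⟨p, k, hp, hpk⟩ := h.card_F_prime_pow hF (by omega)
  have hDq : D ^ 2 < 2 * m + 1 := by
    have := irr_degree_sq_le hlam hD
    omega
  obtain ⟨hD1, hXY1⟩ := s3_arith hp (hFm.symm.trans hpk) hDpos hDq hsum hprod
  -- conclusion
  have hμone : μ 1 = 1 := by rw [hμ1, hD1]; simp
  have hlamone : lam 1 = 1 := by rw [hD, hD1]; simp
  have hmul := Cfsg.Agent.Lib.Helper21.linear_char_mul hμchar hμone
  have fin : ∀ ψ : G → ℂ, Cfsg.IsIrrCharacter G ψ → ψ 1 = 1 →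
      (∀ y : ↥(stabilizer G a ⊓ stabilizer G b), (y : G) ≠ 1 → ψ y = lam y) →
      ∃ ψ : G → ℂ, Cfsg.IsIrrCharacter G ψ ∧ ψ 1 = 1 ∧
      (∃ y : G, y • a = a ∧ y • b = b ∧ ψ y ≠ 1) ∧
      ∀ x ∈ invZc G a b, ψ (x * s) = 1 := by
    intro ψ hψ hψ1 hv
    have hvall : ∀ y : ↥(stabilizer G a ⊓ stabilizer G b), ψ y = lam y := by
      intro y
      by_cases hy : (y : G) = 1
      · have hy' : y = 1 := Subtype.ext hy
        rw [hy, hψ1, hy', hlamone]
      · exact hv y hy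
    refine ⟨ψ, hψ, hψ1, ?_, ?_⟩
    · obtain ⟨y₀, hy₀⟩ := Function.ne_iff.mp hlamne
      refine ⟨(y₀ : G), (mem_H_iff.mp y₀.2).1, (mem_H_iff.mp y₀.2).2, ?_⟩
      rw [hvall y₀]
      exact hy₀
    · intro x hx
      have hxa := (mem_invZc.mp hx).2
      obtain ⟨hxb, y, hya, hyb, hxy⟩ := h.invZc_b_conj hx
      have hxsa : (x * s) • a = a := by rw [mul_smul, h.sa, hxb]
      have hxsb : (x * s) • b = b := by rw [mul_smul, h.sb, hxa]
      have hxsH : x * s ∈ stabilizer G a ⊓ stabilizer G b := mem_H_iff.mpr ⟨hxsa, hxsb⟩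
      have h1 := hvall ⟨x * s, hxsH⟩
      simp only at h1
      rw [h1]
      simp only [hlamdef]
      have hyN : y ∈ setStab2 G a b := Or.inl ⟨hya, hyb⟩
      have h2 : (⟨x * s, H_le_N hxsH⟩ : ↥(setStab2 G a b)) =
          (⟨y, hyN⟩ : ↥(setStab2 G a b)) * ⟨s, h.s_mem_N⟩ * (⟨y, hyN⟩)⁻¹ * ⟨s, h.s_mem_N⟩ := by
        apply Subtype.ext
        simp only [Subgroup.coe_mul, Subgroup.coe_inv]
        rw [hxy]
      rw [h2, hmul, hmul, hmul]
      have h3 : μ ⟨y, hyN⟩ * μ (⟨y, hyN⟩)⁻¹ = 1 := by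
        rw [← hmul, mul_inv_cancel, hμone]
      calc μ ⟨y, hyN⟩ * μ ⟨s, h.s_mem_N⟩ * μ (⟨y, hyN⟩)⁻¹ * μ ⟨s, h.s_mem_N⟩
          = (μ ⟨y, hyN⟩ * μ (⟨y, hyN⟩)⁻¹) * μ ⟨s, h.s_mem_N⟩ ^ 2 := by ring
        _ = 1 := by rw [h3, hμs, mul_one]
  rcases hXY1 with hX1 | hY1
  · exact fin ψ₁ hψ₁ (by rw [hX, hX1]; simp) hv₁
  · exact fin ψ₂ hψ₂ (by rw [hY, hY1]; simp) hv₂

/-- **Index two**: the two forms used in the applications. -/
theorem exists_index_two [Finite Ω] (h : S3Setup G Ω a b c s) (hev : Even (Nat.card Ω))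
    (h6 : 6 ≤ Nat.card Ω) :
    (∃ φ : G →* ℂˣ, ∃ x : G, x • a = a ∧ x • b = b ∧ φ x ≠ 1) ∧
    (∃ N0 : Subgroup G, N0 ≤ stabilizer G a ⊓ stabilizer G b ∧
      (N0.subgroupOf (stabilizer G a ⊓ stabilizer G b)).Normal ∧
      N0.relIndex (stabilizer G a ⊓ stabilizer G b) = 2 ∧ ∀ n ∈ N0, s * n * s⁻¹ ∈ N0) := by
  classical
  have : Finite G := h.pre.finite
  let _ : Fintype G := Fintype.ofFinite G
  let _ : Fintype Ω := Fintype.ofFinite Ω
  rw [Nat.card_eq_fintype_card] at hev h6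
  obtain ⟨ψ, hψ, hψ1, ⟨y, hya, hyb, hy⟩, hK⟩ := h.exists_linear hev h6
  have hψchar := Cfsg.Agent.Lib.Helper05.IsIrrCharacter.isCharacter hψ
  have hmul := Cfsg.Agent.Lib.Helper21.linear_char_mul hψchar hψ1
  have hne := Cfsg.Agent.Lib.Helper21.linear_char_ne_zero hψchar hψ1
  let φ : G →* ℂˣ :=
    { toFun := fun g => Units.mk0 (ψ g) (hne g)
      map_one' := by
        apply Units.ext
        simp [hψ1]
      map_mul' := by
        intro x y
        apply Units.ext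
        simp [hmul] }
  have hφ : ∀ g, ((φ g : ℂˣ) : ℂ) = ψ g := fun g => rfl
  have hyker : y ∉ φ.ker := by
    intro hh
    apply hy
    rw [← hφ, MonoidHom.mem_ker.mp hh]
    simp
  refine ⟨⟨φ, y, hya, hyb, fun hh => hyker (MonoidHom.mem_ker.mpr hh)⟩, ?_⟩
  obtain ⟨z, hza, hzb, hz1, hzz, hsz, hzuniq⟩ := h.exists_z hev
  have hcZb := h.card_invZc_b hza hzb hz1 hsz hzuniq
  refine ⟨φ.ker ⊓ (stabilizer G a ⊓ stabilizer G b), inf_le_right, ?_, ?_, ?_⟩
  · rw [Subgroup.inf_subgroupOf_right]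
    infer_instance
  · -- the index
    set N0 := φ.ker ⊓ (stabilizer G a ⊓ stabilizer G b) with hN0
    have hle : N0 ≤ stabilizer G a ⊓ stabilizer G b := inf_le_right
    have h1 := Subgroup.relIndex_mul_relIndex (⊥ : Subgroup G) N0
      (stabilizer G a ⊓ stabilizer G b) bot_le hle
    rw [Subgroup.relIndex_bot_left, Subgroup.relIndex_bot_left] at h1
    have hlow : (invZc G a b).card ≤ Nat.card N0 := by
      have hcard : Nat.card N0 = (Finset.univ.filter (fun g : G => g ∈ N0)).card := by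
        rw [Nat.card_eq_fintype_card, Fintype.card_subtype]
      rw [hcard]
      apply Finset.card_le_card_of_injOn (fun x => x * s)
      · intro x hx
        have hx' : x ∈ invZc G a b := hx
        have hxa := (mem_invZc.mp hx').2
        have hxb := (h.invZc_b_conj hx').1
        rw [Finset.mem_coe, Finset.mem_filter]
        refine ⟨Finset.mem_univ _, Subgroup.mem_inf.mpr ⟨?_, mem_H_iff.mpr ⟨?_, ?_⟩⟩⟩
        · rw [MonoidHom.mem_ker]
          apply Units.ext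
          rw [hφ, hK x hx']
          simp
        · rw [mul_smul, h.sa, hxb]
        · rw [mul_smul, h.sb, hxa]
      · intro x _ x' _ hxx
        exact mul_right_cancel hxx
    have hne1 : N0.relIndex (stabilizer G a ⊓ stabilizer G b) ≠ 1 := by
      intro hh
      rw [Subgroup.relIndex_eq_one] at hh
      exact hyker (Subgroup.mem_inf.mp (hh (mem_H_iff.mpr ⟨hya, hyb⟩))).1
    have hHpos : 0 < Nat.card ↥(stabilizer G a ⊓ stabilizer G b) := Nat.card_pos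
    set k := Nat.card N0 with hk
    set r := N0.relIndex (stabilizer G a ⊓ stabilizer G b) with hr
    set m := (invZc G a b).card with hm
    have hr0 : r ≠ 0 := by
      rintro hr0
      rw [hr0, mul_zero] at h1
      omega
    by_contra hr2
    have hr3 : 3 ≤ r := by omega
    have : k * 3 ≤ k * r := Nat.mul_le_mul_left k hr3
    omega
  · intro n hn
    have hn' := Subgroup.mem_inf.mp hn
    refine Subgroup.mem_inf.mpr ⟨(MonoidHom.normal_ker φ).conj_mem n hn'.1 s, ?_⟩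
    have hn2 := mem_H_iff.mp hn'.2
    rw [mem_H_iff]
    constructor
    · rw [mul_smul, mul_smul, inv_smul_eq_iff.mpr h.sb.symm, hn2.2, h.sb]
    · rw [mul_smul, mul_smul, inv_smul_eq_iff.mpr h.sa.symm, hn2.1, h.sa]

end S3Setup

end Cfsg.Agent.Lib.Helper28
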