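import Mathlib
import Cfsg.Agent.Lib.Helper28.S3Main

set_option autoImplicit false

/-!
# Sharply 3-transitive groups of even degree: the subgroup of index two of the two-point stabilizer
is inverted by `s`
-/

namespace Cfsg.Agent.Lib.Helper28

open MulAction

namespace S3Setup

variable {G Ω : Type*} [Group G] [MulAction G Ω] {a b c : Ω} {s : G}

/-- the subgroup of index two of the two-point stabilizer, inverted by `s` -/
theorem exists_H0 [Finite Ω] (h : S3Setup G Ω a b c s) (hev : Even (Nat.card Ω))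
    (h6 : 6 ≤ Nat.card Ω) :
    ∃ (φ : G →* ℂˣ) (N0 : Subgroup G),
      N0 = φ.ker ⊓ (stabilizer G a ⊓ stabilizer G b) ∧
      N0.relIndex (stabilizer G a ⊓ stabilizer G b) = 2 ∧
      ∀ d ∈ N0, s * d * s⁻¹ = d⁻¹ := by
  classical
  have : Finite G := h.pre.finite
  let _ : Fintype G := Fintype.ofFinite G
  let _ : Fintype Ω := Fintype.ofFinite Ω
  have hev' := hev
  have h6' := h6
  rw [Nat.card_eq_fintype_card] at hev' h6'
  obtain ⟨ψ, hψ, hψ1, ⟨y, hya, hyb, hy⟩, hK⟩ := h.exists_linear hev' h6'
  have hψchar := Cfsg.Agent.Lib.Helper05.IsIrrCharacter.isCharacter hψ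
  have hmul := Cfsg.Agent.Lib.Helper21.linear_char_mul hψchar hψ1
  have hne := Cfsg.Agent.Lib.Helper21.linear_char_ne_zero hψchar hψ1
  let φ : G →* ℂˣ :=
    { toFun := fun g => Units.mk0 (ψ g) (hne g)
      map_one' := by
        apply Units.ext
        simp [hψ1]
      map_mul' := by
        intro x y
        apply Units.ext
        simp [hmul] }
  have hφ : ∀ g, ((φ g : ℂˣ) : ℂ) = ψ g := fun g => rfl
  obtain ⟨z, hza, hzb, hz1, hzz, hsz, hzuniq⟩ := h.exists_z hev'
  have hcZb := h.card_invZc_b hza hzb hz1 hsz hzuniq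
  set N0 := φ.ker ⊓ (stabilizer G a ⊓ stabilizer G b) with hN0
  have hle : N0 ≤ stabilizer G a ⊓ stabilizer G b := inf_le_right
  have h1 := Subgroup.relIndex_mul_relIndex (⊥ : Subgroup G) N0
    (stabilizer G a ⊓ stabilizer G b) bot_le hle
  rw [Subgroup.relIndex_bot_left, Subgroup.relIndex_bot_left] at h1
  have hmaps : ∀ x ∈ invZc G a b, x * s ∈ Finset.univ.filter (fun g : G => g ∈ N0) := by
    intro x hx'
    have hxa := (mem_invZc.mp hx').2
    have hxb := (h.invZc_b_conj hx').1
    rw [Finset.mem_filter]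
    refine ⟨Finset.mem_univ _, Subgroup.mem_inf.mpr ⟨?_, mem_H_iff.mpr ⟨?_, ?_⟩⟩⟩
    · rw [MonoidHom.mem_ker]
      apply Units.ext
      rw [hφ, hK x hx']
      simp
    · rw [mul_smul, h.sa, hxb]
    · rw [mul_smul, h.sb, hxa]
  have hcard : Nat.card N0 = (Finset.univ.filter (fun g : G => g ∈ N0)).card := by
    rw [Nat.card_eq_fintype_card, Fintype.card_subtype]
  have hlow : (invZc G a b).card ≤ Nat.card N0 := by
    rw [hcard]
    apply Finset.card_le_card_of_injOn (fun x => x * s)
    · intro x hx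
      exact hmaps x hx
    · intro x _ x' _ hxx
      exact mul_right_cancel hxx
  have hyker : y ∉ φ.ker := by
    intro hh
    apply hy
    rw [← hφ, MonoidHom.mem_ker.mp hh]
    simp
  have hne1 : N0.relIndex (stabilizer G a ⊓ stabilizer G b) ≠ 1 := by
    intro hh
    rw [Subgroup.relIndex_eq_one] at hh
    exact hyker (Subgroup.mem_inf.mp (hh (mem_H_iff.mpr ⟨hya, hyb⟩))).1
  have hHpos : 0 < Nat.card ↥(stabilizer G a ⊓ stabilizer G b) := Nat.card_pos
  have hidx : N0.relIndex (stabilizer G a ⊓ stabilizer G b) = 2 := by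
    set k := Nat.card N0 with hk
    set r := N0.relIndex (stabilizer G a ⊓ stabilizer G b) with hr
    set m := (invZc G a b).card with hm
    have hr0 : r ≠ 0 := by
      rintro hr0
      rw [hr0, mul_zero] at h1
      omega
    by_contra hr2
    have hr3 : 3 ≤ r := by omega
    have : k * 3 ≤ k * r := Nat.mul_le_mul_left k hr3
    omega
  refine ⟨φ, N0, rfl, hidx, ?_⟩
  -- every element of `N0` is of the form `x * s`
  have hcardeq : (invZc G a b).card = Nat.card N0 := by
    rw [hidx] at h1
    omega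
  have himage : (invZc G a b).image (fun x => x * s) =
      Finset.univ.filter (fun g : G => g ∈ N0) := by
    apply Finset.eq_of_subset_of_card_le
    · intro g hg
      obtain ⟨x, hx, rfl⟩ := Finset.mem_image.mp hg
      exact hmaps x hx
    · rw [Finset.card_image_of_injective _ (fun x x' hxx => mul_right_cancel hxx), ← hcard,
        hcardeq]
  intro d hd
  have hdmem : d ∈ (invZc G a b).image (fun x => x * s) := by
    rw [himage, Finset.mem_filter]
    exact ⟨Finset.mem_univ _, hd⟩
  obtain ⟨x, hx, hxd⟩ := Finset.mem_image.mp hdmem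
  have hxd' : x * s = d := hxd
  have hxx : x * x = 1 := (mem_invZ.mp (mem_invZc.mp hx).1).1
  have hxeq : x = d * s := by
    rw [← hxd', mul_assoc, h.s_sq, mul_one]
  rw [hxeq] at hxx
  rw [h.s_inv]
  calc s * d * s = d⁻¹ * (d * s * (d * s)) := by group
    _ = d⁻¹ := by rw [hxx, mul_one]

end S3Setup

end Cfsg.Agent.Lib.Helper28
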