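import Mathlib
import Cfsg.Agent.Lib.Helper28.S3Odd1
import Cfsg.Agent.Lib.Helper26.MinConf

set_option autoImplicit false

/-!
# Sharply 3-transitive groups of even degree: the action of the two-point stabilizer on the kernel
-/

namespace Cfsg.Agent.Lib.Helper28

open MulAction

namespace S3Setup

variable {G Ω : Type*} [Group G] [MulAction G Ω] {a b c : Ω} {s : G} {F : Subgroup G}

/-- the kernel is commutative -/
theorem F_comm [Finite G] [Fintype Ω] (h : S3Setup G Ω a b c s) (hF : IsKer G a F)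
    (hev : Even (Fintype.card Ω)) : ∀ x ∈ F, ∀ y ∈ F, x * y = y * x := by
  obtain ⟨z, hza, hzb, hz1, hzz, -, -⟩ := h.exists_z hev
  have hinv := h.invol_inverts hF hza hzb hzz hz1
  intro x hx y hy
  have h1 := hinv (x * y) (F.mul_mem hx hy)
  have h2 : z * (x * y) * z⁻¹ = (z * x * z⁻¹) * (z * y * z⁻¹) := by group
  rw [h2, hinv x hx, hinv y hy, mul_inv_rev] at h1
  have h3 := congrArg (fun g => g⁻¹) h1
  simpa using h3.symm

/-- the two-point stabilizer is transitive on the non-identity elements of the kernel -/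
theorem exists_conj_F (h : S3Setup G Ω a b c s) (hF : IsKer G a F) {e f : G} (he : e ∈ F)
    (he1 : e ≠ 1) (hf : f ∈ F) (hf1 : f ≠ 1) :
    ∃ d : G, d • a = a ∧ d • b = b ∧ d * e * d⁻¹ = f := by
  have hfa := hF.smul_a hf
  have hea := hF.smul_a he
  have hfb : f • b ≠ b := hF.fpf f hf hf1 b (Ne.symm h.hab)
  have heb : e • b ≠ b := hF.fpf e he he1 b (Ne.symm h.hab)
  have hfba : f • b ≠ a := by
    intro hh
    rw [← hfa] at hh
    exact h.hab (MulAction.injective f hh).symm
  have heba : e • b ≠ a := by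
    intro hh
    rw [← hea] at hh
    exact h.hab (MulAction.injective e hh).symm
  obtain ⟨g, hga, hgb, hgf⟩ := h.reg _ _ heba heb hfba hfb
  refine ⟨g, hga, hgb, ?_⟩
  apply hF.eq_of_smul_eq (hF.conj_mem hga he) hf (Ne.symm h.hab)
  rw [mul_smul, mul_smul, inv_smul_eq_iff.mpr hgb.symm, hgf]

/-- the two-point stabilizer acts freely on the kernel -/
theorem free_F (h : S3Setup G Ω a b c s) (hF : IsKer G a F) {d f : G} (hda : d • a = a)
    (hdb : d • b = b) (hd1 : d ≠ 1) (hf : f ∈ F) (hcomm : d * f = f * d) : f = 1 := by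
  by_contra hf1
  apply hd1
  have hfb : f • b ≠ b := hF.fpf f hf hf1 b (Ne.symm h.hab)
  have hfba : f • b ≠ a := by
    intro hh
    rw [← hF.smul_a hf] at hh
    exact h.hab (MulAction.injective f hh).symm
  have hfix : d • (f • b) = f • b := by rw [← mul_smul, hcomm, mul_smul, hdb]
  exact h.pre.three d a b (f • b) h.hab (Ne.symm hfb) (Ne.symm hfba) hda hdb hfix

/-- a subgroup of index at most two of the two-point stabilizer acts irreducibly on the kernel -/
theorem irr_of_index_two [Finite G] [Fintype Ω] (h : S3Setup G Ω a b c s) (hF : IsKer G a F)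
    (N0 : Subgroup G) (hN0 : N0 ≤ stabilizer G a ⊓ stabilizer G b)
    (hcard : Nat.card ↥(stabilizer G a ⊓ stabilizer G b) ≤ 2 * Nat.card N0) :
    ∀ M : Subgroup G, M ≤ F → (∀ d ∈ N0, ∀ m ∈ M, d * m * d⁻¹ ∈ M) → M = ⊥ ∨ M = F := by
  intro M hMF hMinv
  by_cases hMbot : M = ⊥
  · exact Or.inl hMbot
  right
  have hdvd : Nat.card N0 ∣ Nat.card M - Nat.card (⊥ : Subgroup G) := by
    apply Helper26.card_dvd_card_sub_of_free N0 M ⊥ bot_le
    · intro g hg
      rw [Subgroup.mem_normalizer_iff]
      intro m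
      constructor
      · intro hm
        exact hMinv g hg m hm
      · intro hm
        have := hMinv g⁻¹ (N0.inv_mem hg) _ hm
        have h2 : g⁻¹ * (g * m * g⁻¹) * g⁻¹⁻¹ = m := by group
        rwa [h2] at this
    · intro g _
      rw [Subgroup.mem_normalizer_iff]
      intro m
      rw [Subgroup.mem_bot, Subgroup.mem_bot]
      constructor
      · rintro rfl; group
      · intro hm
        have : m = g⁻¹ * (g * m * g⁻¹) * g := by group
        rw [this, hm]; group
    · intro g hg hg1 x hx hcomm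
      rw [Subgroup.mem_bot]
      have hg' := mem_H_iff.mp (hN0 hg)
      exact h.free_F hF hg'.1 hg'.2 hg1 (hMF hx) hcomm
  rw [Subgroup.card_bot] at hdvd
  have hM1 : 1 < Nat.card M := by
    rw [Subgroup.one_lt_card_iff_ne_bot]
    exact hMbot
  have hMdvd : Nat.card M ∣ Nat.card F := Subgroup.card_dvd_of_le hMF
  have hN0pos : 0 < Nat.card N0 := Nat.card_pos
  have hdle : Nat.card N0 ≤ Nat.card M - 1 := Nat.le_of_dvd (by omega) hdvd
  have hcF := h.card_F hF
  have hcH := h.card_H
  have h3 := h.three_le_card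
  obtain ⟨q, hq⟩ := hMdvd
  have hq1 : q = 1 := by
    rcases q with _ | _ | q
    · rw [mul_zero] at hq
      omega
    · rfl
    · exfalso
      have : Nat.card M * (q + 1 + 1) ≥ Nat.card M * 2 := Nat.mul_le_mul_left _ (by omega)
      omega
  rw [hq1, mul_one] at hq
  exact Subgroup.eq_of_le_of_card_ge hMF (le_of_eq hq)

end S3Setup

end Cfsg.Agent.Lib.Helper28
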