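import Mathlib
import Cfsg.Agent.Lib.Helper28.S3Odd2
import Cfsg.Agent.Lib.Helper28.S3Chi
import Cfsg.Agent.Lib.Helper28.SchurField

set_option autoImplicit false

/-!
# Sharply 3-transitive groups of degree `p ^ f + 1`, `p` and `f` odd: the two-point stabilizer is
commutative and inverted by `s`
-/

namespace Cfsg.Agent.Lib.Helper28

open MulAction Cfsg.Agent.Lib.Helper07

namespace S3Setup

variable {G Ω : Type*} [Group G] [MulAction G Ω] {a b c : Ω} {s : G} {F : Subgroup G}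

set_option maxHeartbeats 1600000 in
theorem H_comm_and_inverts [Finite G] [Fintype Ω] (h : S3Setup G Ω a b c s) (hF : IsKer G a F)
    {p f : ℕ} (hp : p.Prime) (hp2 : p ≠ 2) (hfo : Odd f) (hcard : Fintype.card Ω = p ^ f + 1)
    (h6 : 6 ≤ Fintype.card Ω) :
    (∀ x ∈ stabilizer G a ⊓ stabilizer G b, ∀ y ∈ stabilizer G a ⊓ stabilizer G b,
      x * y = y * x) ∧
      ∀ d ∈ stabilizer G a ⊓ stabilizer G b, s * d * s⁻¹ = d⁻¹ := by
  classical
  have hpodd : Odd (p ^ f) := (hp.odd_of_ne_two hp2).pow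
  have hev : Even (Fintype.card Ω) := by
    rw [hcard]
    exact hpodd.add_one
  have hevN : Even (Nat.card Ω) := by rwa [Nat.card_eq_fintype_card]
  have h6N : 6 ≤ Nat.card Ω := by rwa [Nat.card_eq_fintype_card]
  obtain ⟨φc, N0, hN0def, hN0idx, hN0inv⟩ := h.exists_H0 hevN h6N
  have hN0le : N0 ≤ stabilizer G a ⊓ stabilizer G b := by
    rw [hN0def]
    exact inf_le_right
  have hN0card : 2 * Nat.card N0 = Nat.card ↥(stabilizer G a ⊓ stabilizer G b) := by
    have h1 := Subgroup.relIndex_mul_relIndex (⊥ : Subgroup G) N0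
      (stabilizer G a ⊓ stabilizer G b) bot_le hN0le
    rw [Subgroup.relIndex_bot_left, Subgroup.relIndex_bot_left, hN0idx] at h1
    omega
  have hcH := h.card_H
  have hcF := h.card_F hF
  have hmulmem : ∀ x ∈ stabilizer G a ⊓ stabilizer G b, ∀ y ∈ stabilizer G a ⊓ stabilizer G b,
      (x * y ∈ N0 ↔ (x ∈ N0 ↔ y ∈ N0)) := by
    intro x hx y hy
    have := Subgroup.mul_mem_iff_of_index_two
      (H := N0.subgroupOf (stabilizer G a ⊓ stabilizer G b)) hN0idx (a := ⟨x, hx⟩) (b := ⟨y, hy⟩)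
    simpa [Subgroup.mem_subgroupOf] using this
  have hconjN : ∀ x ∈ stabilizer G a ⊓ stabilizer G b, ∀ d ∈ N0, x * d * x⁻¹ ∈ N0 := by
    intro x hx d hd
    rw [hmulmem (x * d) (Subgroup.mul_mem _ hx (hN0le hd)) x⁻¹ (Subgroup.inv_mem _ hx),
      hmulmem x hx d (hN0le hd), inv_mem_iff]
    simp [hd]
  have hN0comm : ∀ x ∈ N0, ∀ y ∈ N0, x * y = y * x := by
    intro x hx y hy
    have h1 := hN0inv (x * y) (N0.mul_mem hx hy)
    have h2 : s * (x * y) * s⁻¹ = (s * x * s⁻¹) * (s * y * s⁻¹) := by group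
    rw [h2, hN0inv x hx, hN0inv y hy, mul_inv_rev] at h1
    have h3 := congrArg (fun g => g⁻¹) h1
    simpa using h3.symm
  have hnormH : ∀ d ∈ stabilizer G a ⊓ stabilizer G b, ∀ t ∈ F, d * t * d⁻¹ ∈ F :=
    fun d hd t ht => hF.conj_mem (mem_H_iff.mp hd).1 ht
  have hnormN : ∀ d ∈ N0, ∀ t ∈ F, d * t * d⁻¹ ∈ F := fun d hd => hnormH d (hN0le hd)
  obtain ⟨e, heF, hec⟩ := hF.exists_smul_eq (Ne.symm h.hab) h.hca
  have he1 : e ≠ 1 := by
    rintro rfl
    rw [one_smul] at hec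
    exact h.hcb hec.symm
  have hirr := h.irr_of_index_two hF N0 hN0le (by omega)
  obtain ⟨p', n', hp', φ, hn', hφ, hadd, hφe, hmulN⟩ :=
    exists_coord_schur F N0 (h.F_comm hF hev) hN0comm hnormN e heF he1 hirr
  let _ : Fintype (GaloisField p' n') := Fintype.ofFinite _
  have hKcard : Fintype.card (GaloisField p' n') = p ^ f := by
    rw [← Nat.card_eq_fintype_card, ← Nat.card_congr (Equiv.ofBijective φ hφ), hcF, hcard]
    simp
  have hKodd : Fintype.card (GaloisField p' n') % 2 = 1 := by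
    rw [hKcard]
    exact Nat.odd_iff.mp hpodd
  have hchar : ringChar (GaloisField p' n') ≠ 2 := ringChar_ne_two_of_card hp hp2 hKcard
  have hTreg : ∀ x : Ω, x ≠ a → ∃! t : F, (t : G) • b = x :=
    fun x hx => hF.reg b x (Ne.symm h.hab) hx
  obtain ⟨β, hβ, hβinf, hβo⟩ := exists_beta F a b φ hφ (fun t ht => hF.smul_a ht)
    (Ne.symm h.hab) hTreg
  have hX : ∀ x : Ω, x = a ∨ ∃ t : F, x = (t : G) • b := by
    intro x
    by_cases hx : x = a
    · exact Or.inl hx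
    · obtain ⟨t, ht, _⟩ := hTreg x hx
      exact Or.inr ⟨t, ht.symm⟩
  let M1 : MData G Ω (GaloisField p' n') :=
    { T := F, D := N0, inf := a, o := b, e := e, heT := heF, he1 := he1, φ := φ, hφ := hφ,
      hadd := hadd, hφe := hφe, hnorm := hnormN, hmul := hmulN,
      hTinf := fun t ht => hF.smul_a ht,
      hDinf := fun d hd => (mem_H_iff.mp (hN0le hd)).1,
      hDo := fun d hd => (mem_H_iff.mp (hN0le hd)).2,
      β := β, hβinf := hβinf, hβo := hβo, hX := hX }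
  have hfreeH : ∀ d ∈ stabilizer G a ⊓ stabilizer G b, d * e = e * d → d = 1 := by
    intro d hd hcomm
    by_contra hd1
    exact he1 (h.free_F hF (mem_H_iff.mp hd).1 (mem_H_iff.mp hd).2 hd1 heF hcomm)
  have hsurj : ∀ u : GaloisField p' n', IsSquare u → u ≠ 0 →
      ∃ d, ∃ hd : d ∈ N0, M1.χ d hd = u :=
    M1.exists_χ_eq_of_isSquare (fun d hd => hfreeH d (hN0le hd))
      (show 2 * Nat.card N0 = Fintype.card (GaloisField p' n') - 1 by omega)
  have hmulH : ∀ (d : G) (hd : d ∈ stabilizer G a ⊓ stabilizer G b) (t : F),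
      φ ⟨d * t * d⁻¹, hnormH d hd t t.2⟩ = φ ⟨d * e * d⁻¹, hnormH d hd e heF⟩ * φ t := by
    intro d hd t
    exact M1.conj_linear hp hp2 hfo hKcard hsurj d (hnormH d hd) (hconjN d hd)
      ((hmulmem d hd d hd).mpr Iff.rfl) t
  let M2 : MData G Ω (GaloisField p' n') :=
    { T := F, D := stabilizer G a ⊓ stabilizer G b, inf := a, o := b, e := e, heT := heF,
      he1 := he1, φ := φ, hφ := hφ,
      hadd := hadd, hφe := hφe, hnorm := hnormH, hmul := hmulH,
      hTinf := fun t ht => hF.smul_a ht,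
      hDinf := fun d hd => (mem_H_iff.mp hd).1,
      hDo := fun d hd => (mem_H_iff.mp hd).2,
      β := β, hβinf := hβinf, hβo := hβo, hX := hX }
  have hHcomm : ∀ x ∈ stabilizer G a ⊓ stabilizer G b, ∀ y ∈ stabilizer G a ⊓ stabilizer G b,
      x * y = y * x := by
    intro x hx y hy
    have hxi := Subgroup.inv_mem _ hx
    have hyi := Subgroup.inv_mem _ hy
    have hxy := Subgroup.mul_mem _ hx hy
    have hxyx := Subgroup.mul_mem _ hxy hxi
    have hg := Subgroup.mul_mem _ hxyx hyi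
    have hχ : M2.χ (x * y * x⁻¹ * y⁻¹) hg = 1 := by
      rw [M2.χ_mul _ _ hxyx hyi, M2.χ_mul _ _ hxy hxi, M2.χ_mul _ _ hx hy, M2.χ_inv x hx,
        M2.χ_inv y hy]
      have h1 := M2.χ_ne_zero x hx
      have h2 := M2.χ_ne_zero y hy
      field_simp
    have h1 : x * y * x⁻¹ * y⁻¹ = 1 := by
      apply hfreeH _ hg
      have hχ' : φ ⟨x * y * x⁻¹ * y⁻¹ * e * (x * y * x⁻¹ * y⁻¹)⁻¹, hnormH _ hg e heF⟩ =
          φ ⟨e, heF⟩ := by
        rw [hφe]
        exact hχ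
      have h2 : x * y * x⁻¹ * y⁻¹ * e * (x * y * x⁻¹ * y⁻¹)⁻¹ = e :=
        congrArg Subtype.val (hφ.1 hχ')
      calc x * y * x⁻¹ * y⁻¹ * e
          = (x * y * x⁻¹ * y⁻¹ * e * (x * y * x⁻¹ * y⁻¹)⁻¹) * (x * y * x⁻¹ * y⁻¹) := by group
        _ = e * (x * y * x⁻¹ * y⁻¹) := by rw [h2]
    calc x * y = (x * y * x⁻¹ * y⁻¹) * (y * x) := by group
      _ = y * x := by rw [h1, one_mul]
  refine ⟨hHcomm, ?_⟩
  -- the involution `z`
  obtain ⟨z, hza, hzb, hz1, hzz, hsz, hzuniq⟩ := h.exists_z hev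
  have hzH : z ∈ stabilizer G a ⊓ stabilizer G b := mem_H_iff.mpr ⟨hza, hzb⟩
  have hφinv : ∀ t : F, φ t⁻¹ = - φ t := M2.φ_inv
  have hχz : M2.χ z hzH = -1 := by
    have h1 := h.invol_inverts hF hza hzb hzz hz1 e heF
    have h2 : (⟨z * e * z⁻¹, hnormH z hzH e heF⟩ : F) = (⟨e, heF⟩ : F)⁻¹ := Subtype.ext h1
    show φ ⟨z * e * z⁻¹, hnormH z hzH e heF⟩ = -1
    rw [h2, hφinv, hφe]
  have hsH : ∀ d ∈ stabilizer G a ⊓ stabilizer G b, s * d * s⁻¹ ∈ stabilizer G a ⊓ stabilizer G b := by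
    intro d hd
    have hd' := mem_H_iff.mp hd
    rw [h.s_inv]
    apply mem_H_iff.mpr
    constructor
    · rw [mul_smul, mul_smul, h.sa, hd'.2, h.sb]
    · rw [mul_smul, mul_smul, h.sb, hd'.1, h.sa]
  have hss := h.s_sq
  have hν : ∀ d ∈ stabilizer G a ⊓ stabilizer G b,
      d * (s * d * s⁻¹) = 1 ∨ d * (s * d * s⁻¹) = z := by
    intro d hd
    have hw := Subgroup.mul_mem _ hd (hsH d hd)
    apply hzuniq _ (mem_H_iff.mp hw).1 (mem_H_iff.mp hw).2
    have hcomm := hHcomm d hd (s * d * s⁻¹) (hsH d hd)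
    rw [h.s_inv] at hcomm ⊢
    calc s * (d * (s * d * s)) = s * ((s * d * s) * d) := by rw [hcomm]
      _ = (s * s) * d * s * d := by group
      _ = d * s * d := by rw [hss, one_mul]
      _ = d * s * d * (s * s) := by rw [hss, mul_one]
      _ = d * (s * d * s) * s := by group
  by_contra hcon
  push Not at hcon
  obtain ⟨h0, hh0, hh0ne⟩ := hcon
  have hν0 : h0 * (s * h0 * s⁻¹) = z := by
    rcases hν h0 hh0 with h1 | h1
    · exfalso
      apply hh0ne
      exact eq_inv_of_mul_eq_one_right h1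
    · exact h1
  have hh0N : h0 ∉ N0 := fun hh => hh0ne (hN0inv h0 hh)
  have hbad : ∀ x ∈ stabilizer G a ⊓ stabilizer G b, x ∉ N0 → s * x * s⁻¹ = z * x⁻¹ := by
    intro x hx hxN
    have hd : h0⁻¹ * x ∈ N0 := by
      rw [hmulmem h0⁻¹ (Subgroup.inv_mem _ hh0) x hx, inv_mem_iff]
      exact ⟨fun hh => absurd hh hh0N, fun hh => absurd hh hxN⟩
    have h1 := hN0inv _ hd
    have h2 : s * h0 * s⁻¹ = h0⁻¹ * z := by
      rw [← hν0]
      group
    have hzx : z * x⁻¹ ∈ stabilizer G a ⊓ stabilizer G b :=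
      Subgroup.mul_mem _ hzH (Subgroup.inv_mem _ hx)
    calc s * x * s⁻¹ = (s * h0 * s⁻¹) * (s * (h0⁻¹ * x) * s⁻¹) := by group
      _ = h0⁻¹ * z * (h0⁻¹ * x)⁻¹ := by rw [h2, h1]
      _ = h0⁻¹ * ((z * x⁻¹) * h0) := by group
      _ = h0⁻¹ * (h0 * (z * x⁻¹)) := by rw [hHcomm (z * x⁻¹) hzx h0 hh0]
      _ = z * x⁻¹ := by group
  -- the braid relation argument
  have h5K : 5 ≤ Fintype.card (GaloisField p' n') := by omega
  have hpt1 : M2.pt 1 = c := by
    rw [M2.pt_one]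
    exact hec
  have hsχ : ∀ (d : G) (hd : d ∈ stabilizer G a ⊓ stabilizer G b),
      s • M2.pt (M2.χ d hd) = M2.pt (M2.χ (s * d * s⁻¹) (hsH d hd)) := by
    intro d hd
    have e1 : M2.pt (M2.χ d hd) = d • c := by
      rw [← hpt1, M2.D_smul_pt d hd, mul_one]
    have e2 : M2.pt (M2.χ (s * d * s⁻¹) (hsH d hd)) = (s * d * s⁻¹) • c := by
      rw [← hpt1, M2.D_smul_pt _ (hsH d hd), mul_one]
    rw [e1, e2, mul_smul, mul_smul, h.s_inv, h.sc]
  have hsurjH : ∀ x : GaloisField p' n', x ≠ 0 →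
      ∃ d, ∃ hd : d ∈ stabilizer G a ⊓ stabilizer G b, M2.χ d hd = x := by
    intro x hx
    have hτ1 : (M2.τ x : G) ≠ 1 := by
      intro hh
      apply hx
      have : M2.τ x = 1 := Subtype.ext hh
      rw [← M2.φ_τ x, this, M2.φ_one]
    obtain ⟨d, hda, hdb, hd⟩ := h.exists_conj_F hF heF he1 (M2.τ x).2 hτ1
    refine ⟨d, mem_H_iff.mpr ⟨hda, hdb⟩, ?_⟩
    have : (⟨d * e * d⁻¹, hnormH d (mem_H_iff.mpr ⟨hda, hdb⟩) e heF⟩ : F) = M2.τ x :=
      Subtype.ext hd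
    show φ ⟨d * e * d⁻¹, hnormH d (mem_H_iff.mpr ⟨hda, hdb⟩) e heF⟩ = x
    rw [this]
    exact M2.φ_τ x
  apply M2.braid_false hchar h5K s z h.sa h.sb (by rw [hpt1]; exact h.sc) hzH hχz
  · intro g g' h1 h2 h3
    rw [hpt1] at h3
    exact h.eq_of_three h.hab (Ne.symm h.hca) (Ne.symm h.hcb) h1 h2 h3
  · intro x hx0 hxs
    obtain ⟨d, hd, hdx⟩ := hsurj x hxs hx0
    have hdx' : M2.χ d (hN0le hd) = x := hdx
    rw [← hdx', hsχ d (hN0le hd)]
    congr 1
    rw [M2.χ_congr (hsH d (hN0le hd)) (Subgroup.inv_mem _ (hN0le hd)) (hN0inv d hd), M2.χ_inv d (hN0le hd)]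
  · intro x hxs
    have hx0 : x ≠ 0 := by
      rintro rfl
      exact hxs IsSquare.zero
    obtain ⟨d, hd, hdx⟩ := hsurjH x hx0
    have hdN : d ∉ N0 := by
      intro hdN
      apply hxs
      rw [FiniteField.isSquare_iff hchar hx0, ← hdx]
      have := M2.χ_pow_card N0 hN0le d hdN
      have hc : Nat.card N0 = Fintype.card (GaloisField p' n') / 2 := by omega
      rw [hc] at this
      exact this
    rw [← hdx, hsχ d hd]
    congr 1
    rw [M2.χ_congr (hsH d hd) (Subgroup.mul_mem _ hzH (Subgroup.inv_mem _ hd)) (hbad d hd hdN),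
      M2.χ_mul _ _ hzH (Subgroup.inv_mem _ hd), hχz, M2.χ_inv d hd]
    ring

end S3Setup

end Cfsg.Agent.Lib.Helper28
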