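import Mathlib
import Cfsg.Agent.Lib.Helper28.S3Odd3
import Cfsg.Agent.Lib.Helper28.Sharp3

set_option autoImplicit false

/-!
# Sharply 3-transitive groups of even degree with commutative two-point stabilizer inverted by `s`
are `PGL₂`
-/

namespace Cfsg.Agent.Lib.Helper28

open MulAction Matrix

open scoped MatrixGroups

namespace S3Setup

variable {G Ω : Type*} [Group G] [MulAction G Ω] {a b c : Ω} {s : G} {F : Subgroup G}

/-- the case of degree four -/
theorem H_comm_and_inverts_four [Finite G] [Fintype Ω] (h : S3Setup G Ω a b c s)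
    (hF : IsKer G a F) (h4 : Fintype.card Ω = 4) :
    (∀ x ∈ stabilizer G a ⊓ stabilizer G b, ∀ y ∈ stabilizer G a ⊓ stabilizer G b,
      x * y = y * x) ∧
      ∀ d ∈ stabilizer G a ⊓ stabilizer G b, s * d * s⁻¹ = d⁻¹ := by
  have hev : Even (Fintype.card Ω) := by
    rw [h4]
    decide
  obtain ⟨z, hza, hzb, hz1, hzz, hsz, -⟩ := h.exists_z hev
  have hcH := h.card_H
  rw [h4] at hcH
  have hcases : ∀ x ∈ stabilizer G a ⊓ stabilizer G b, x = 1 ∨ x = z := by
    intro x hx
    by_cases hx1 : x = 1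
    · exact Or.inl hx1
    · right
      have h1 : (⟨x, hx⟩ : ↥(stabilizer G a ⊓ stabilizer G b)) ^
          Nat.card ↥(stabilizer G a ⊓ stabilizer G b) = 1 := pow_card_eq_one'
      rw [hcH] at h1
      have h2 : x * x = 1 := by
        have := congrArg Subtype.val h1
        rw [Subgroup.coe_pow, Subgroup.coe_one] at this
        rw [← sq]
        exact this
      exact h.invol_unique hF (mem_H_iff.mp hx).1 (mem_H_iff.mp hx).2 h2 hx1 hza hzb hzz hz1
  have hzi : z⁻¹ = z := inv_eq_of_mul_eq_one_right hzz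
  constructor
  · intro x hx y hy
    rcases hcases x hx with rfl | rfl <;> rcases hcases y hy with rfl | rfl <;> simp
  · intro d hd
    rcases hcases d hd with rfl | rfl
    · simp
    · rw [hzi, hsz, mul_assoc, mul_inv_cancel, mul_one]

/-- recognition of `PGL₂` -/
theorem nonempty_pgl [Finite G] [Fintype Ω] (h : S3Setup G Ω a b c s) (hF : IsKer G a F)
    (hS : Sharp3 G Ω) (hev : Even (Fintype.card Ω))
    (hHcomm : ∀ x ∈ stabilizer G a ⊓ stabilizer G b, ∀ y ∈ stabilizer G a ⊓ stabilizer G b,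
      x * y = y * x)
    (hinv : ∀ d ∈ stabilizer G a ⊓ stabilizer G b, s * d * s⁻¹ = d⁻¹) :
    ∃ (p n : ℕ) (_ : Fact p.Prime), Nat.card (GaloisField p n) + 1 = Fintype.card Ω ∧
      Nonempty (G ≃* PGL(Fin 2, GaloisField p n)) := by
  classical
  have hcH := h.card_H
  have hcF := h.card_F hF
  have h3 := h.three_le_card
  have hnormH : ∀ d ∈ stabilizer G a ⊓ stabilizer G b, ∀ t ∈ F, d * t * d⁻¹ ∈ F :=
    fun d hd t ht => hF.conj_mem (mem_H_iff.mp hd).1 ht
  obtain ⟨e, heF, hec⟩ := hF.exists_smul_eq (Ne.symm h.hab) h.hca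
  have he1 : e ≠ 1 := by
    rintro rfl
    rw [one_smul] at hec
    exact h.hcb hec.symm
  have hirr := h.irr_of_index_two hF (stabilizer G a ⊓ stabilizer G b) le_rfl (by omega)
  obtain ⟨p', n', hp', φ, hn', hφ, hadd, hφe, hmul⟩ :=
    exists_coord_schur F (stabilizer G a ⊓ stabilizer G b) (h.F_comm hF hev) hHcomm hnormH e heF
      he1 hirr
  refine ⟨p', n', hp', ?_, ?_⟩
  · rw [← Nat.card_congr (Equiv.ofBijective φ hφ), hcF]
    omega
  have hTreg : ∀ x : Ω, x ≠ a → ∃! t : F, (t : G) • b = x :=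
    fun x hx => hF.reg b x (Ne.symm h.hab) hx
  have hreg : ∀ t ∈ F, t ≠ 1 → ∃ d ∈ stabilizer G a ⊓ stabilizer G b, d * e * d⁻¹ = t := by
    intro t ht ht1
    obtain ⟨d, hda, hdb, hd⟩ := h.exists_conj_F hF heF he1 ht ht1
    exact ⟨d, mem_H_iff.mpr ⟨hda, hdb⟩, hd⟩
  have hTinf : ∀ t ∈ F, t • a = a := fun t ht => hF.smul_a ht
  have hDinf : ∀ d ∈ stabilizer G a ⊓ stabilizer G b, d • a = a := fun d hd => (mem_H_iff.mp hd).1
  have hDo : ∀ d ∈ stabilizer G a ⊓ stabilizer G b, d • b = b := fun d hd => (mem_H_iff.mp hd).2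
  have hgen : Subgroup.closure ((F : Set G) ∪ ↑(stabilizer G a ⊓ stabilizer G b) ∪ {s}) = ⊤ := by
    rw [Subgroup.eq_top_iff']
    intro g
    have hTle : ∀ x ∈ F, x ∈ Subgroup.closure
        ((F : Set G) ∪ ↑(stabilizer G a ⊓ stabilizer G b) ∪ {s}) :=
      fun x hx => Subgroup.subset_closure (Or.inl (Or.inl hx))
    have hDle : ∀ x ∈ stabilizer G a ⊓ stabilizer G b, x ∈ Subgroup.closure
        ((F : Set G) ∪ ↑(stabilizer G a ⊓ stabilizer G b) ∪ {s}) :=
      fun x hx => Subgroup.subset_closure (Or.inl (Or.inr hx))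
    have hule : s ∈ Subgroup.closure
        ((F : Set G) ∪ ↑(stabilizer G a ⊓ stabilizer G b) ∪ {s}) :=
      Subgroup.subset_closure (Or.inr rfl)
    have hHle : ∀ x : G, x • a = a → x ∈ Subgroup.closure
        ((F : Set G) ∪ ↑(stabilizer G a ⊓ stabilizer G b) ∪ {s}) := by
      intro x hx
      have hxo : x • b ≠ a := by
        intro hh
        apply h.hab
        exact (MulAction.injective x (hh.trans hx.symm)).symm
      obtain ⟨t, ht, _⟩ := hTreg _ hxo
      have hd : (t : G)⁻¹ * x ∈ stabilizer G a ⊓ stabilizer G b := by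
        rw [mem_H_iff]
        constructor
        · rw [mul_smul, hx, inv_smul_eq_iff, hTinf t t.2]
        · rw [mul_smul, inv_smul_eq_iff, ht]
      have : x = (t : G) * ((t : G)⁻¹ * x) := by group
      rw [this]
      exact Subgroup.mul_mem _ (hTle _ t.2) (hDle _ hd)
    by_cases hg : g • a = a
    · exact hHle g hg
    · obtain ⟨t, ht, _⟩ := hTreg _ hg
      have hx : (((t : G) * s)⁻¹ * g) • a = a := by
        rw [mul_smul, inv_smul_eq_iff, mul_smul, h.sa, ht]
      have : g = (t : G) * s * (((t : G) * s)⁻¹ * g) := by group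
      rw [this]
      exact Subgroup.mul_mem _ (Subgroup.mul_mem _ (hTle _ t.2) hule) (hHle _ hx)
  exact nonempty_mulEquiv_pgl_of_trans F (stabilizer G a ⊓ stabilizer G b) s a b e heF he1 φ hφ
    hadd hφe hnormH hmul hreg hTinf hDinf hDo h.sa h.sb hinv (Ne.symm h.hab) hTreg hgen
    h.pre.faithful hS.trans

end S3Setup

end Cfsg.Agent.Lib.Helper28
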