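import Mathlib
import Cfsg.Prelude.Def_JordanBlocks
import Cfsg.Agent.Lib.Helper73.UCDefs
import Cfsg.Agent.Lib.Helper73.SPCDefs
import Cfsg.Agent.Lib.Helper22.UCA1

/-!
# K-SPC pack (S2676, architect helper73), keystone 267608 K-SPC-C1 (helper28): `shankel_mem_iff`
-/

set_option autoImplicit false
set_option linter.unusedVariables false
set_option linter.unusedSectionVars false

namespace Cfsg.Agent.Lib.Helper28.SPC

open Matrix Cfsg.Agent.Lib.Helper73.UC Cfsg.Agent.Lib.Helper73.SPC Cfsg.Agent.Lib.Helper22.UC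

variable {F : Type*} [Field F]

theorem c1_transpose_nilM_mul_apply {t : ℕ} (d : Fin t → ℕ) (M : Matrix (JI d) (JI d) F)
    (l : Fin t) (b : Fin (d l)) (y : JI d) :
    ((nilM d F)ᵀ * M) ⟨l, b⟩ y = if h : (b : ℕ) + 1 < d l then M ⟨l, ⟨b + 1, h⟩⟩ y else 0 := by
  have h := uca1_hadj_nilM_mul_apply d (RingHom.id F) M l b y
  have e : hadj (RingHom.id F) (nilM d F) = (nilM d F)ᵀ := by
    ext x y
    rfl
  rw [e] at h
  exact h

/-- LEAF C1. -/
theorem shankel_mem_iff {t : ℕ} (d : Fin t → ℕ) (B : Matrix (JI d) (JI d) F) :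
    (Bᵀ = -B ∧ (nilM d F)ᵀ * B = -(B * nilM d F)) ↔ ∃ c ∈ AC d, shankel d c = B := by
  constructor
  · rintro ⟨hH, hS⟩
    obtain ⟨m, hm⟩ : ∃ m : Fin t → Fin t → ℕ → ℕ → F, m = fun l k b a =>
      if h : b < d l ∧ a < d k then B ⟨l, ⟨b, h.1⟩⟩ ⟨k, ⟨a, h.2⟩⟩ else 0 := ⟨_, rfl⟩
    have hm_in : ∀ (l k : Fin t) (b a : ℕ) (hb : b < d l) (ha : a < d k),
        B ⟨l, ⟨b, hb⟩⟩ ⟨k, ⟨a, ha⟩⟩ = m l k b a := by
      intro l k b a hb ha
      rw [hm]
      simp only
      rw [dif_pos ⟨hb, ha⟩]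
    have hm_out : ∀ l k b a, ¬ (b < d l ∧ a < d k) → m l k b a = 0 := by
      intro l k b a h
      rw [hm]
      simp only
      rw [dif_neg h]
    have hskew : ∀ l k b a, m l k b a = - m k l a b := by
      intro l k b a
      by_cases h : b < d l ∧ a < d k
      · rw [← hm_in l k b a h.1 h.2, ← hm_in k l a b h.2 h.1]
        have h1 := congrFun (congrFun hH ⟨k, ⟨a, h.2⟩⟩) ⟨l, ⟨b, h.1⟩⟩
        rw [Matrix.transpose_apply, Matrix.neg_apply] at h1
        exact h1
      · rw [hm_out l k b a h, hm_out k l a b (by tauto), neg_zero]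
    have hshift : ∀ l k b a, b < d l → a < d k → m l k (b + 1) a = - m l k b (a + 1) := by
      intro l k b a hb ha
      have h := congrFun (congrFun hS ⟨l, ⟨b, hb⟩⟩) ⟨k, ⟨a, ha⟩⟩
      rw [c1_transpose_nilM_mul_apply, Matrix.neg_apply, uca1_mul_nilM_apply] at h
      have e1 : (if h : b + 1 < d l then B ⟨l, ⟨b + 1, h⟩⟩ ⟨k, ⟨a, ha⟩⟩ else 0) = m l k (b + 1) a := by
        by_cases h1 : b + 1 < d l
        · rw [dif_pos h1, hm_in]
        · rw [dif_neg h1, hm_out l k (b + 1) a (by tauto)]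
      have e2 : (if h : a + 1 < d k then B ⟨l, ⟨b, hb⟩⟩ ⟨k, ⟨a + 1, h⟩⟩ else 0) = m l k b (a + 1) := by
        by_cases h1 : a + 1 < d k
        · rw [dif_pos h1, hm_in]
        · rw [dif_neg h1, hm_out l k b (a + 1) (by tauto)]
      rw [← e1, ← e2]
      exact h
    have hclaim : ∀ l k b, b < d l → ∀ a, m l k b a = (-1 : F) ^ b * m l k 0 (b + a) := by
      intro l k b
      induction b with
      | zero =>
        intro _ a
        rw [zero_add, pow_zero, one_mul]
      | succ b ih =>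
        intro hb a
        have hb' : b < d l := by omega
        by_cases ha : a < d k
        · rw [hshift l k b a hb' ha, ih hb' (a + 1), pow_succ]
          have e : b + (a + 1) = b + 1 + a := by omega
          rw [e]
          ring
        · rw [hm_out l k (b + 1) a (by tauto), hm_out l k 0 (b + 1 + a) (fun h => ha (by omega)),
            mul_zero]
    refine ⟨fun p => m p.1 p.2.1 0 p.2.2, ?_, ?_⟩
    · intro p
      rcases p with ⟨l, k, s⟩
      have hs1 : (s : ℕ) < d l := lt_of_lt_of_le s.2 (min_le_left _ _)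
      have hs2 : (s : ℕ) < d k := lt_of_lt_of_le s.2 (min_le_right _ _)
      show m k l 0 (s : ℕ) = (-1 : F) ^ ((s : ℕ) + 1) * m l k 0 (s : ℕ)
      rw [hskew k l 0 s, hclaim l k s hs1 0, add_zero, pow_succ]
      ring
    · ext x y
      rcases x with ⟨l, b⟩
      rcases y with ⟨k, a⟩
      simp only [shankel, hankel, Matrix.of_apply]
      rw [hm_in l k b a b.2 a.2]
      split_ifs with h
      · rw [hclaim l k b b.2 a]
      · by_cases h2 : (b : ℕ) + a < d k
        · have h3 : ¬ ((b : ℕ) + a < d l) := fun h3 => h (lt_min h3 h2)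
          rw [hskew l k b a, hclaim k l a a.2 b,
            hm_out k l 0 (a + b) (fun h4 => h3 (by omega)), mul_zero, mul_zero, neg_zero]
        · rw [hclaim l k b b.2 a, hm_out l k 0 (b + a) (by tauto)]
  · rintro ⟨c, hc, rfl⟩
    constructor
    · ext x y
      rcases x with ⟨l, b⟩
      rcases y with ⟨k, a⟩
      rw [Matrix.transpose_apply, Matrix.neg_apply]
      simp only [shankel, hankel, Matrix.of_apply]
      by_cases h : (b : ℕ) + a < min (d l) (d k)
      · have h' : (a : ℕ) + b < min (d k) (d l) := by rw [add_comm, min_comm]; exact h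
        rw [dif_pos h, dif_pos h']
        have h1 := hc ⟨l, k, ⟨b + a, h⟩⟩
        have h2 : c ⟨k, l, ⟨(a : ℕ) + b, h'⟩⟩ = c (cswap ⟨l, k, ⟨(b : ℕ) + a, h⟩⟩) :=
          uca1_c_congr d c k l _ _ _ _ (add_comm _ _)
        rw [h2, h1]
        simp only
        rw [pow_succ, pow_add]
        have hsq : ((-1 : F) ^ (a : ℕ)) * ((-1 : F) ^ (a : ℕ)) = 1 := by
          rw [← mul_pow]; simp
        linear_combination (-(-1 : F) ^ (b : ℕ) * c ⟨l, k, ⟨(b : ℕ) + a, h⟩⟩) * hsq
      · have h' : ¬ ((a : ℕ) + b < min (d k) (d l)) := by rw [add_comm, min_comm]; exact h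
        rw [dif_neg h, dif_neg h', mul_zero, mul_zero, neg_zero]
    · ext x y
      rcases x with ⟨l, b⟩
      rcases y with ⟨k, a⟩
      rw [c1_transpose_nilM_mul_apply, Matrix.neg_apply, uca1_mul_nilM_apply]
      simp only [shankel, hankel, Matrix.of_apply]
      by_cases h : (b : ℕ) + 1 + a < min (d l) (d k)
      · have h1 : (b : ℕ) + 1 < d l := by
          have := min_le_left (d l) (d k)
          omega
        have h2 : (a : ℕ) + 1 < d k := by
          have := min_le_right (d l) (d k)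
          omega
        have h3 : (b : ℕ) + (a + 1) < min (d l) (d k) := by omega
        rw [dif_pos h1, dif_pos h2, dif_pos h, dif_pos h3]
        have e : c ⟨l, k, ⟨(b : ℕ) + 1 + a, h⟩⟩ = c ⟨l, k, ⟨(b : ℕ) + (a + 1), h3⟩⟩ :=
          uca1_c_congr d c l k _ _ _ _ (by omega)
        rw [e, pow_succ]
        ring
      · have e1 : (if h1 : (b : ℕ) + 1 < d l then
            (-1 : F) ^ ((b : ℕ) + 1) *
            (if h2 : (b : ℕ) + 1 + a < min (d l) (d k) then c ⟨l, k, ⟨(b : ℕ) + 1 + a, h2⟩⟩ else 0)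
            else 0) = 0 := by
          split_ifs <;> simp
        have h3 : ¬ ((b : ℕ) + (a + 1) < min (d l) (d k)) := by omega
        have e2 : (if h1 : (a : ℕ) + 1 < d k then
            (-1 : F) ^ (b : ℕ) *
            (if h2 : (b : ℕ) + (a + 1) < min (d l) (d k) then c ⟨l, k, ⟨(b : ℕ) + (a + 1), h2⟩⟩ else 0)
            else 0) = 0 := by
          split_ifs <;> simp
        rw [e1, e2, neg_zero]

end Cfsg.Agent.Lib.Helper28.SPC
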