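import Mathlib
import Cfsg.Agent.Lib.Helper49.SpODefs

/-!
# K-SpO-3: the index of `O^±_{2d}(q)` in `Sp_{2d}(q)`, pure arithmetic
-/

set_option autoImplicit false

namespace Cfsg.Agent.Lib.Helper28.SpO

open Cfsg.Agent.Lib.Helper49.SpInv Cfsg.Agent.Lib.Helper49.OInv Cfsg.Agent.Lib.Helper49.SpO

theorem prodP_pos (q n : ℕ) (hq : 2 ≤ q) :
    0 < ∏ i ∈ Finset.range n, (q ^ (2 * (i + 1)) - 1) := by
  apply Finset.prod_pos
  intro i _
  have h1 : 2 ^ (2 * (i + 1)) ≤ q ^ (2 * (i + 1)) := Nat.pow_le_pow_left hq _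
  have h2 : 2 ^ 1 ≤ 2 ^ (2 * (i + 1)) := Nat.pow_le_pow_right (by norm_num) (by omega)
  omega

/-- common shape: with `q ^ (e+1) = y + 1`. -/
theorem spOrd_succ_eq (q e y : ℕ) (hy : q ^ (e + 1) = y + 1) :
    spOrd q (e + 1) =
      (q ^ ((e + 1) * e) * y * ∏ i ∈ Finset.range e, (q ^ (2 * (i + 1)) - 1)) *
        ((y + 1) * (y + 2)) := by
  unfold spOrd
  rw [Finset.prod_range_succ]
  have h1 : q ^ (2 * (e + 1)) - 1 = y * (y + 2) := by
    have : q ^ (2 * (e + 1)) = (y + 1) ^ 2 := by rw [← hy, ← pow_mul, mul_comm]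
    rw [this]
    apply Nat.sub_eq_of_eq_add
    ring
  have h2 : q ^ ((e + 1) ^ 2) = q ^ ((e + 1) * e) * (y + 1) := by
    rw [← hy, ← pow_add]
    congr 1
    ring
  rw [h1, h2]
  ring

theorem arith_index_plus (q d k : ℕ) (hq : 2 ≤ q) (hd : 1 ≤ d) (h : k * oPlusOrd q d = spOrd q d) :
    2 * k = q ^ d * (q ^ d + 1) := by
  obtain ⟨e, rfl⟩ : ∃ e, d = e + 1 := ⟨d - 1, by omega⟩
  have hpos : 0 < q ^ (e + 1) := Nat.pow_pos (by omega)
  obtain ⟨y, hy⟩ : ∃ y, q ^ (e + 1) = y + 1 := ⟨q ^ (e + 1) - 1, by omega⟩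
  have hy2 : 1 ≤ y := by
    have h1 : 2 ^ (e + 1) ≤ q ^ (e + 1) := Nat.pow_le_pow_left hq _
    have h2 : 2 ^ 1 ≤ 2 ^ (e + 1) := Nat.pow_le_pow_right (by norm_num) (by omega)
    omega
  have hP := prodP_pos q e hq
  rw [spOrd_succ_eq q e y hy] at h
  unfold oPlusOrd at h
  simp only [Nat.add_sub_cancel] at h
  rw [hy] at h ⊢
  simp only [Nat.add_sub_cancel] at h
  set P := ∏ i ∈ Finset.range e, (q ^ (2 * (i + 1)) - 1) with hPdef
  have hc : 0 < q ^ ((e + 1) * e) * y * P :=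
    Nat.mul_pos (Nat.mul_pos (Nat.pow_pos (by omega)) hy2) hP
  apply Nat.eq_of_mul_eq_mul_left hc
  rw [← h]
  ring

theorem arith_index_minus (q d k : ℕ) (hq : 2 ≤ q) (hd : 1 ≤ d) (h : k * oMinusOrd q d = spOrd q d) :
    2 * k = q ^ d * (q ^ d - 1) := by
  obtain ⟨e, rfl⟩ : ∃ e, d = e + 1 := ⟨d - 1, by omega⟩
  have hpos : 0 < q ^ (e + 1) := Nat.pow_pos (by omega)
  obtain ⟨y, hy⟩ : ∃ y, q ^ (e + 1) = y + 1 := ⟨q ^ (e + 1) - 1, by omega⟩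
  have hP := prodP_pos q e hq
  rw [spOrd_succ_eq q e y hy] at h
  unfold oMinusOrd at h
  simp only [Nat.add_sub_cancel] at h
  rw [hy] at h ⊢
  simp only [Nat.add_sub_cancel]
  set P := ∏ i ∈ Finset.range e, (q ^ (2 * (i + 1)) - 1) with hPdef
  have hc : 0 < q ^ ((e + 1) * e) * (y + 2) * P :=
    Nat.mul_pos (Nat.mul_pos (Nat.pow_pos (by omega)) (by omega)) hP
  apply Nat.eq_of_mul_eq_mul_left hc
  have h' : k * (2 * q ^ ((e + 1) * e) * (y + 1 + 1) * P) =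
      q ^ ((e + 1) * e) * y * P * ((y + 1) * (y + 2)) := h
  have : q ^ ((e + 1) * e) * (y + 2) * P * (2 * k) = k * (2 * q ^ ((e + 1) * e) * (y + 1 + 1) * P) := by
    ring
  rw [this, h']
  ring

end Cfsg.Agent.Lib.Helper28.SpO
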