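import Cfsg.Agent.Lib.Helper64.StBDefs
import Cfsg.Agent.Lib.Helper08.BNPairSimple

/-! K-S2311-A0 (keystone 2311000, architect helper64): `len n⁻¹ = len n` in a (B,N)-pair and the
right-handed versions of `len_S_mul_ne`, `claimA`. -/

set_option autoImplicit false

namespace Cfsg.Agent.Lib.Helper28.StB

open Cfsg Cfsg.Agent.Lib.Helper08 Cfsg.Agent.Lib.Helper64.StB

variable {G : Type*} [Group G] (P : Cfsg.BNPair G)

theorem Eqv_inv {n m : G} (hn : n ∈ P.N) (hm : m ∈ P.N) (h : Eqv P n m) : Eqv P n⁻¹ m⁻¹ := by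
  have ht : n⁻¹ * m ∈ P.B := h
  have htN : n⁻¹ * m ∈ P.N := P.N.mul_mem (P.N.inv_mem hn) hm
  have := conj_mem_B P hn (P.B.inv_mem ht) (P.N.inv_mem htN)
  show (n⁻¹)⁻¹ * m⁻¹ ∈ P.B
  have e : (n⁻¹)⁻¹ * m⁻¹ = n * (n⁻¹ * m)⁻¹ * n⁻¹ := by group
  rw [e]
  exact this

theorem Eqv_reverse_prod : ∀ l : List G, (∀ s ∈ l, s ∈ P.S) → Eqv P l.reverse.prod (l.prod)⁻¹
  | [], _ => by simp [Eqv_refl]
  | s :: l, hl => by
    have hs : s ∈ P.S := hl s (List.mem_cons_self)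
    have hl' : ∀ a ∈ l, a ∈ P.S := fun a ha => hl a (List.mem_cons_of_mem _ ha)
    have ih := Eqv_reverse_prod l hl'
    have hrN : l.reverse.prod ∈ P.N :=
      prod_mem_N P (fun a ha => hl' a (List.mem_reverse.mp ha))
    have hpN : (l.prod)⁻¹ ∈ P.N := P.N.inv_mem (prod_mem_N P hl')
    have h1 : Eqv P (l.reverse.prod * s) ((l.prod)⁻¹ * s) :=
      Eqv_mul_right P hrN hpN (S_mem_N P hs) ih
    have h2 : Eqv P ((l.prod)⁻¹ * s) ((l.prod)⁻¹ * s⁻¹) :=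
      Eqv_mul_left P _ (Eqv_symm P (Eqv_inv_S P hs))
    have := Eqv_trans P h1 h2
    simpa [List.reverse_cons, List.prod_append, List.prod_cons, mul_inv_rev] using this

theorem len_inv_le {n : G} (hn : n ∈ P.N) : len P n⁻¹ ≤ len P n := by
  obtain ⟨l, hlen, hl, he⟩ := exists_word_len P hn
  have h1 := Eqv_reverse_prod P l hl
  have h2 : Eqv P (l.prod)⁻¹ n⁻¹ := Eqv_inv P (prod_mem_N P hl) hn he
  have hw : IsWord P l.reverse n⁻¹ :=
    ⟨fun a ha => hl a (List.mem_reverse.mp ha), Eqv_trans P h1 h2⟩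
  have := len_le P hw
  rw [List.length_reverse, hlen] at this
  exact this

theorem len_inv {n : G} (hn : n ∈ P.N) : len P n⁻¹ = len P n := by
  apply le_antisymm (len_inv_le P hn)
  have := len_inv_le P (P.N.inv_mem hn)
  rwa [inv_inv] at this

theorem len_mul_S_eq {t n : G} (ht : t ∈ P.S) (hn : n ∈ P.N) :
    len P (n * t) = len P (t * n⁻¹) := by
  have h1 : len P (n * t) = len P (n * t)⁻¹ :=
    (len_inv P (P.N.mul_mem hn (S_mem_N P ht))).symm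
  rw [h1, mul_inv_rev]
  exact len_congr P (Eqv_inv_mul P ht (P.N.inv_mem hn))

theorem len_mul_S_ne {t n : G} (ht : t ∈ P.S) (hn : n ∈ P.N) : len P (n * t) ≠ len P n := by
  rw [len_mul_S_eq P ht hn, ← len_inv P hn]
  exact len_S_mul_ne P ht (P.N.inv_mem hn)

theorem claimA_right {t n : G} (ht : t ∈ P.S) (hn : n ∈ P.N) (hlt : len P n < len P (n * t))
    {b : G} (hb : b ∈ P.B) : DC P (n * t) (n * b * t) := by
  have hn' : n⁻¹ ∈ P.N := P.N.inv_mem hn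
  have hlt' : len P n⁻¹ < len P (t * n⁻¹) := by
    rw [len_inv P hn, ← len_mul_S_eq P ht hn]
    exact hlt
  have h1 : DC P (t * n⁻¹) (t * b⁻¹ * n⁻¹) := claimA P ht hn' hlt' (P.B.inv_mem hb)
  have hu : (t * t)⁻¹ ∈ P.B := P.B.inv_mem (sq_mem_B P ht)
  have h2 : DC P (t * n⁻¹) ((t * t)⁻¹ * (t * b⁻¹ * n⁻¹)) := DC_mul_left P hu h1
  have h3 : DC P (t⁻¹ * n⁻¹) ((t * t)⁻¹ * (t * b⁻¹ * n⁻¹)) :=
    (Eqv_dc_iff P (Eqv_inv_mul P ht hn')).mpr h2
  have h4 := DC_inv P h3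
  have e1 : (t⁻¹ * n⁻¹)⁻¹ = n * t := by group
  have e2 : ((t * t)⁻¹ * (t * b⁻¹ * n⁻¹))⁻¹ = n * b * t := by group
  rw [e1, e2] at h4
  exact h4

end Cfsg.Agent.Lib.Helper28.StB
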