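import Cfsg.Agent.Lib.Helper48.StODefs

/-!
# K-StO-M5 (keystone 254714, S2547, architect helper48): monomial matrices normalise `T` (helper28;
port of `Helper63.StSp.conj_mem_T`).
-/

set_option autoImplicit false
set_option linter.unusedSectionVars false
set_option linter.unusedVariables false

namespace Cfsg.Agent.Lib.Helper28.StO

open Cfsg Cfsg.Agent.Lib.Helper48.StO

variable {m : ℕ} {F : Type*} [Field F]

/-- **LEAF M5 (254714).** -/
theorem conj_mem_T (n : OG m F) (σ : Equiv.Perm (OI m)) (h : MonWith m F n σ)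
    (t : OG m F) (ht : t ∈ Tsub m F) : n * t * n⁻¹ ∈ Tsub m F := by
  rw [mem_Tsub_iff] at ht ⊢
  intro a b hab
  have key : mat (n * t * n⁻¹) * mat n = mat n * mat t := by
    have h1 : (n * t * n⁻¹) * n = n * t := by group
    rw [← mat_mul, h1, mat_mul]
  have hc := congrFun (congrFun key a) (σ.symm b)
  rw [Matrix.mul_apply, Matrix.mul_apply] at hc
  have e1 : ∑ c, mat (n * t * n⁻¹) a c * mat n c (σ.symm b) =
      mat (n * t * n⁻¹) a b * mat n b (σ.symm b) := by
    refine Finset.sum_eq_single b (fun c _ hc' => ?_) (fun hb => absurd (Finset.mem_univ _) hb)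
    have h0 : mat n c (σ.symm b) = 0 := by
      by_contra h0
      exact hc' (by rw [(h.1 c (σ.symm b)).1 h0]; simp)
    rw [h0, mul_zero]
  have e2 : ∑ c, mat n a c * mat t c (σ.symm b) =
      mat n a (σ.symm b) * mat t (σ.symm b) (σ.symm b) := by
    refine Finset.sum_eq_single (σ.symm b) (fun c _ hc' => ?_)
      (fun hb => absurd (Finset.mem_univ _) hb)
    rw [ht c (σ.symm b) hc', mul_zero]
  rw [e1, e2] at hc
  have hn0 : mat n a (σ.symm b) = 0 := by
    by_contra h0
    exact hab (by rw [(h.1 a (σ.symm b)).1 h0]; simp)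
  have hn1 : mat n b (σ.symm b) ≠ 0 :=
    (h.1 b (σ.symm b)).2 (by simp)
  rw [hn0, zero_mul] at hc
  exact (mul_eq_zero.1 hc).resolve_right hn1

end Cfsg.Agent.Lib.Helper28.StO
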