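import Mathlib
import Cfsg.Agent.Lib.Helper53.StOmDefs

/-!
# K-StOm pack (S2549), leaf F2Z (keystone 254908, helper28): the dichotomy for a BLOCK monomial
matrix and the last simple root (two parameters).  `dich_Z_of` / `dich_last_of` take the statements of
the R0c leaf (`mat_xZ`, `mat_yZ`) as hypotheses.
-/

set_option autoImplicit false
set_option linter.unusedSectionVars false
set_option linter.unusedVariables false

namespace Cfsg.Agent.Lib.Helper28.StOm

open Cfsg Cfsg.Agent.Lib.Helper53.StOm Matrix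

variable {m : ℕ} {F : Type*} [Field F] {a b : F}

/-- conjugating by a block monomial matrix: it is enough that the non-zero entries `(p, q)` of `X`
satisfy `pos (σ⁻¹ p) ≤ pos (σ⁻¹ q)` -/
theorem f2z_conj_mem_B_of (n X : OG m F a b) (σ : Equiv.Perm (MI m)) (hn : MonWith m F a b n σ)
    (h : ∀ p q, mat X p q ≠ 0 → pos m (σ.symm p) ≤ pos m (σ.symm q)) :
    n⁻¹ * X * n ∈ Bsub m F a b := by
  rw [mem_Bsub_iff]
  intro u v huv
  rw [mat_mul, mat_mul, Matrix.mul_apply]
  apply Finset.sum_eq_zero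
  intro q _
  by_cases hq : mat n q v = 0
  · rw [hq, mul_zero]
  · have hq1 : pos m q = pos m (σ v) := hn.1 q v hq
    have hq2 : pos m (σ.symm q) = pos m v := by
      have := pos_perm_congr m σ.symm (symm_dualE m σ hn.2.2) q (σ v) hq1
      rwa [Equiv.symm_apply_apply] at this
    have : (mat n⁻¹ * mat X) u q = 0 := by
      rw [Matrix.mul_apply]
      apply Finset.sum_eq_zero
      intro p _
      by_cases hp : mat n⁻¹ u p = 0
      · rw [hp, zero_mul]
      · have hp1 : pos m u = pos m (σ.symm p) := hn.2.1 u p hp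
        by_cases hX : mat X p q = 0
        · rw [hX, mul_zero]
        · have := h p q hX
          omega
    rw [this, zero_mul]

/-- the off-diagonal entries of `x_{ε_k}(s, t)` -/
theorem f2z_xZMat_apply_eq_zero (k : Fin m) (s t : F) (x y : MI m) (hxy : x ≠ y)
    (h1 : ¬ (x = zI 0 ∧ y = fI k)) (h2 : ¬ (x = zI 1 ∧ y = fI k)) (h3 : ¬ (x = eI k ∧ y = fI k))
    (h4 : ¬ (x = eI k ∧ y = zI 0)) (h5 : ¬ (x = eI k ∧ y = zI 1)) :
    xZMat m F a b k s t x y = 0 := by
  unfold xZMat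
  simp only [Matrix.sub_apply, Matrix.add_apply, Matrix.one_apply_ne hxy, Matrix.single_apply]
  rw [if_neg, if_neg, if_neg, if_neg, if_neg]
  · ring
  · rintro ⟨rfl, rfl⟩; exact h5 ⟨rfl, rfl⟩
  · rintro ⟨rfl, rfl⟩; exact h4 ⟨rfl, rfl⟩
  · rintro ⟨rfl, rfl⟩; exact h3 ⟨rfl, rfl⟩
  · rintro ⟨rfl, rfl⟩; exact h2 ⟨rfl, rfl⟩
  · rintro ⟨rfl, rfl⟩; exact h1 ⟨rfl, rfl⟩

/-- the off-diagonal entries of `x_{-ε_k}(s, t)` -/
theorem f2z_yZMat_apply_eq_zero (k : Fin m) (s t : F) (x y : MI m) (hxy : x ≠ y)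
    (h1 : ¬ (x = zI 0 ∧ y = eI k)) (h2 : ¬ (x = zI 1 ∧ y = eI k)) (h3 : ¬ (x = fI k ∧ y = eI k))
    (h4 : ¬ (x = fI k ∧ y = zI 0)) (h5 : ¬ (x = fI k ∧ y = zI 1)) :
    yZMat m F a b k s t x y = 0 := by
  unfold yZMat
  simp only [Matrix.sub_apply, Matrix.add_apply, Matrix.one_apply_ne hxy, Matrix.single_apply]
  rw [if_neg, if_neg, if_neg, if_neg, if_neg]
  · ring
  · rintro ⟨rfl, rfl⟩; exact h5 ⟨rfl, rfl⟩
  · rintro ⟨rfl, rfl⟩; exact h4 ⟨rfl, rfl⟩
  · rintro ⟨rfl, rfl⟩; exact h3 ⟨rfl, rfl⟩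
  · rintro ⟨rfl, rfl⟩; exact h2 ⟨rfl, rfl⟩
  · rintro ⟨rfl, rfl⟩; exact h1 ⟨rfl, rfl⟩

theorem f2z_pos_le (x : MI m) : pos m x ≤ 2 * m := by
  rcases x with (x | x) | x <;> simp only [pos]
  · have := x.2; omega
  · omega
  · omega

/-- the dichotomy for every `k`, from the matrices of the root elements -/
theorem dich_Z_of (k : Fin m)
    (hx : ∀ s t : F, mat (xZ m F a b k s t) = xZMat m F a b k s t)
    (hy : ∀ s t : F, mat (yZ m F a b k s t) = yZMat m F a b k s t)
    (n : OG m F a b) (σ : Equiv.Perm (MI m)) (hn : MonWith m F a b n σ) :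
    (∀ s t : F, n⁻¹ * xZ m F a b k s t * n ∈ Bsub m F a b) ∨
      (∀ s t : F, n⁻¹ * yZ m F a b k s t * n ∈ Bsub m F a b) := by
  have hd : σ.symm (fI k) = dualE m (σ.symm (eI k)) := by
    rw [← symm_dualE m σ hn.2.2, dualE_eI]
  have hz : ∀ j : Fin 2, pos m (σ.symm (zI j)) = m := by
    intro j
    rw [pos_eq_m_iff, ← symm_dualE m σ hn.2.2, dualE_zI]
  have hAm : pos m (σ.symm (eI k)) ≠ m := by
    intro e
    rw [pos_eq_m_iff] at e
    have h1 : σ.symm (fI k) = σ.symm (eI k) := hd.trans e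
    have h2 := σ.symm.injective h1
    exact absurd h2 (by simp)
  have hpf : pos m (σ.symm (fI k)) = 2 * m - pos m (σ.symm (eI k)) := by
    rw [hd, pos_dualE]
  have hle := f2z_pos_le (σ.symm (eI k))
  have hz0 := hz 0
  have hz1 := hz 1
  rcases lt_or_gt_of_ne hAm with hlt | hgt
  · left
    intro s t
    apply f2z_conj_mem_B_of n _ σ hn
    intro p q hpq
    rw [hx s t] at hpq
    by_cases hpq' : p = q
    · rw [hpq']
    · by_contra hcon
      apply hpq
      apply f2z_xZMat_apply_eq_zero _ _ _ _ _ hpq'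
      · rintro ⟨rfl, rfl⟩
        omega
      · rintro ⟨rfl, rfl⟩
        omega
      · rintro ⟨rfl, rfl⟩
        omega
      · rintro ⟨rfl, rfl⟩
        omega
      · rintro ⟨rfl, rfl⟩
        omega
  · right
    intro s t
    apply f2z_conj_mem_B_of n _ σ hn
    intro p q hpq
    rw [hy s t] at hpq
    by_cases hpq' : p = q
    · rw [hpq']
    · by_contra hcon
      apply hpq
      apply f2z_yZMat_apply_eq_zero _ _ _ _ _ hpq'
      · rintro ⟨rfl, rfl⟩
        omega
      · rintro ⟨rfl, rfl⟩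
        omega
      · rintro ⟨rfl, rfl⟩
        omega
      · rintro ⟨rfl, rfl⟩
        omega
      · rintro ⟨rfl, rfl⟩
        omega

/-- **K-StOm leaf F2Z** (keystone 254908), hypothesis form (R0c as hypotheses) -/
theorem dich_last_of (hm : 0 < m)
    (hx : ∀ s t : F, mat (xZ m F a b (lastF hm) s t) = xZMat m F a b (lastF hm) s t)
    (hy : ∀ s t : F, mat (yZ m F a b (lastF hm) s t) = yZMat m F a b (lastF hm) s t)
    (n : OG m F a b) (σ : Equiv.Perm (MI m)) (hn : MonWith m F a b n σ) :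
    (∀ s t : F, n⁻¹ * xZ m F a b (lastF hm) s t * n ∈ Bsub m F a b) ∨
      (∀ s t : F, n⁻¹ * yZ m F a b (lastF hm) s t * n ∈ Bsub m F a b) :=
  dich_Z_of (lastF hm) hx hy n σ hn

end Cfsg.Agent.Lib.Helper28.StOm
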