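import Mathlib
import Cfsg.Agent.Lib.Helper53.StOmDefs
import Cfsg.Agent.Lib.Helper45.StOmR0c
import Cfsg.Agent.Lib.Helper28.StOmF2Z

/-!
# K-StOm pack (S2549), leaf F2Z (keystone 254908, helper28): exact-signature wrapper.
-/

set_option autoImplicit false
set_option linter.unusedSectionVars false
set_option linter.unusedVariables false

namespace Cfsg.Agent.Lib.Helper28.StOm

open Cfsg Cfsg.Agent.Lib.Helper53.StOm

variable {m : ℕ} {F : Type*} [Field F] {a b : F}

/-- the dichotomy for every `k` -/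
theorem dich_Z (k : Fin m) (n : OG m F a b)
    (σ : Equiv.Perm (MI m)) (hn : MonWith m F a b n σ) :
    (∀ s t : F, n⁻¹ * xZ m F a b k s t * n ∈ Bsub m F a b) ∨
      (∀ s t : F, n⁻¹ * yZ m F a b k s t * n ∈ Bsub m F a b) :=
  dich_Z_of k (Cfsg.Agent.Lib.Helper45.StOm.mat_xZ k) (Cfsg.Agent.Lib.Helper45.StOm.mat_yZ k) n σ hn

/-- **K-StOm leaf F2Z** (keystone 254908) -/
theorem dich_last (hm : 0 < m) (n : OG m F a b)
    (σ : Equiv.Perm (MI m)) (hn : MonWith m F a b n σ) :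
    (∀ s t : F, n⁻¹ * xZ m F a b (lastF hm) s t * n ∈ Bsub m F a b) ∨
      (∀ s t : F, n⁻¹ * yZ m F a b (lastF hm) s t * n ∈ Bsub m F a b) :=
  dich_Z (lastF hm) n σ hn

end Cfsg.Agent.Lib.Helper28.StOm
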