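import Mathlib

/-!
# Keystone 254625 (K-StSU-A4p): abstract set version of `Helper65.StSp.mul_mem_union_of` (helper28).
-/

set_option autoImplicit false
set_option linter.unusedVariables false

namespace Cfsg.Agent.Lib.Helper28.StSU

theorem mul_mem_union_of' {G : Type*} [Group G] (B T : Subgroup G)
    (hTB : T ≤ B) (s g : G) (X Y : Set G) (hX : X ⊆ (B : Set G))
    (h1 : ∀ b ∈ B, ∃ b' ∈ B, ∃ x ∈ X, b = b' * x ∧ s * b' * s⁻¹ ∈ B)
    (h2 : (∀ x ∈ X, g⁻¹ * x * g ∈ B) ∨ (∀ y ∈ Y, g⁻¹ * y * g ∈ B))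
    (h3 : ∀ x ∈ X, x ≠ 1 → ∃ x' ∈ X, ∃ h ∈ T, ∃ y ∈ Y, s * x = x' * h * y)
    (hg : ∀ h ∈ T, g⁻¹ * h * g ∈ B) (b : G) (hb : b ∈ B) :
    s * b * g ∈ DoubleCoset.doubleCoset (s * g) (B : Set G) B ∪
      DoubleCoset.doubleCoset g (B : Set G) B := by
  classical
  obtain ⟨b', hb', x, hxX, rfl, hsb⟩ := h1 b hb
  rcases h2 with h2 | h2
  · left
    rw [DoubleCoset.mem_doubleCoset]
    refine ⟨s * b' * s⁻¹, hsb, g⁻¹ * x * g, h2 x hxX, ?_⟩
    group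
  · by_cases hx1 : x = 1
    · left
      rw [DoubleCoset.mem_doubleCoset]
      refine ⟨s * b' * s⁻¹, hsb, 1, one_mem _, ?_⟩
      rw [hx1]
      group
    · right
      obtain ⟨x', hx', h, hh, y, hy, heq⟩ := h3 x hxX hx1
      rw [DoubleCoset.mem_doubleCoset]
      refine ⟨s * b' * s⁻¹ * x', mul_mem hsb (hX hx'),
        (g⁻¹ * h * g) * (g⁻¹ * y * g), mul_mem (hg h hh) (h2 y hy), ?_⟩
      have e1 : s * (b' * x) * g = s * b' * s⁻¹ * (s * x) * g := by group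
      rw [e1, heq]
      group

end Cfsg.Agent.Lib.Helper28.StSU
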