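import Cfsg.Agent.Lib.Helper49.StSpDefs

/-! K-StSp keystone 254516 C5b `conj_J_mem_B_iff` (helper28). -/

set_option autoImplicit false
set_option linter.unusedSectionVars false
set_option linter.unusedVariables false

namespace Cfsg.Agent.Lib.Helper28.StSp

open Cfsg Cfsg.Agent.Lib.Helper49.StSp Matrix

variable {m : ℕ} {F : Type*} [Field F]

theorem c5b_conjJ_eq (M : Matrix (Fin m ⊕ Fin m) (Fin m ⊕ Fin m) F) :
    (Matrix.J (Fin m) F)⁻¹ * M * Matrix.J (Fin m) F =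
      Matrix.fromBlocks M.toBlocks₂₂ (-M.toBlocks₂₁) (-M.toBlocks₁₂) M.toBlocks₁₁ := by
  rw [Matrix.J_inv]
  conv_lhs => rw [← Matrix.fromBlocks_toBlocks M]
  unfold Matrix.J
  rw [Matrix.fromBlocks_neg, Matrix.fromBlocks_multiply, Matrix.fromBlocks_multiply]
  simp

theorem c5b_pos_lt (a : Fin m ⊕ Fin m) : pos m a < 2 * m := by
  rcases a with a | a <;> simp only [pos] <;> have := a.2 <;> omega

theorem c5b_entry (M : Matrix (Fin m ⊕ Fin m) (Fin m ⊕ Fin m) F) (a c : Fin m ⊕ Fin m) :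
    ((Matrix.J (Fin m) F)⁻¹ * M * Matrix.J (Fin m) F) a c = 0 ↔ M a.swap c.swap = 0 := by
  rw [c5b_conjJ_eq]
  rcases a with a | a <;> rcases c with c | c <;>
    simp [Matrix.toBlocks₁₁, Matrix.toBlocks₁₂, Matrix.toBlocks₂₁, Matrix.toBlocks₂₂]

theorem conj_J_mem_B_iff (b : SpG m F) :
    (SymplecticGroup.symJ (Fin m) F)⁻¹ * b * SymplecticGroup.symJ (Fin m) F ∈ Bsub m F ↔
      b ∈ Bminus m F := by
  have hcoe : ((((SymplecticGroup.symJ (Fin m) F)⁻¹ * b * SymplecticGroup.symJ (Fin m) F :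
      SpG m F)) : Matrix (Fin m ⊕ Fin m) (Fin m ⊕ Fin m) F) =
      (Matrix.J (Fin m) F)⁻¹ * b.1 * Matrix.J (Fin m) F := by
    have h0 : ((((SymplecticGroup.symJ (Fin m) F)⁻¹ * b * SymplecticGroup.symJ (Fin m) F :
        SpG m F)) : Matrix (Fin m ⊕ Fin m) (Fin m ⊕ Fin m) F) =
        (((SymplecticGroup.symJ (Fin m) F)⁻¹ : SpG m F) :
          Matrix (Fin m ⊕ Fin m) (Fin m ⊕ Fin m) F) * b.1 *
          ((SymplecticGroup.symJ (Fin m) F : SpG m F) :
            Matrix (Fin m ⊕ Fin m) (Fin m ⊕ Fin m) F) := rfl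
    rw [h0, coe_inv_eq, SymplecticGroup.coe_J]
  rw [mem_Bsub_iff, mem_Bminus_iff, hcoe]
  constructor
  · intro h a c hac
    have h1 := h a.swap c.swap (by
      rw [pos_swap, pos_swap]
      have := c5b_pos_lt a
      have := c5b_pos_lt c
      omega)
    rw [c5b_entry, Sum.swap_swap, Sum.swap_swap] at h1
    exact h1
  · intro h a c hac
    rw [c5b_entry]
    apply h
    rw [pos_swap, pos_swap]
    have := c5b_pos_lt a
    have := c5b_pos_lt c
    omega

end Cfsg.Agent.Lib.Helper28.StSp
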