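import Mathlib
import Cfsg.Agent.Lib.Helper94.THDefs

/-! K-TH keystone 163204 THB2 `rq_cons` (helper28): completing the square. -/

set_option autoImplicit false

namespace Cfsg.Agent.Lib.Helper28.TH

open Matrix Complex
open Cfsg.Agent.Lib.Helper94.TH

/-- THB2 -/
theorem rq_cons {n : ℕ} {A : Matrix (Fin (n + 1)) (Fin (n + 1)) ℝ} (hA : A.IsSymm)
    (h0 : A 0 0 ≠ 0) (m : ℝ) (y : Fin n → ℝ) :
    rq A (Fin.cons m y) =
      A 0 0 * (m + (∑ i, A 0 i.succ * y i) / A 0 0) ^ 2 + rq (schur A) y := by
  set a := A 0 0 with ha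
  set β := ∑ i, A 0 i.succ * y i with hβ
  set R := ∑ i, y i * ∑ j, A i.succ j.succ * y j with hR
  have hβ' : ∑ i, y i * A i.succ 0 = β := by
    rw [hβ]
    apply Finset.sum_congr rfl
    intro i _
    rw [hA.apply i.succ 0, mul_comm]
  have h1 : rq A (Fin.cons m y) = a * m ^ 2 + 2 * m * β + R := by
    unfold rq
    simp only [dotProduct, mulVec, Fin.sum_univ_succ, Fin.cons_zero, Fin.cons_succ]
    have e : ∑ i, y i * (A i.succ 0 * m + ∑ j, A i.succ j.succ * y j)
        = (∑ i, y i * A i.succ 0) * m + R := by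
      rw [hR, Finset.sum_mul, ← Finset.sum_add_distrib]
      apply Finset.sum_congr rfl
      intro i _
      ring
    rw [e, hβ', ← ha, ← hβ]
    ring
  have h2 : rq (schur A) y = R - β * β / a := by
    unfold rq schur
    simp only [dotProduct, mulVec, Matrix.of_apply]
    have e : ∀ i, y i * ∑ j, (A i.succ j.succ - A i.succ 0 * A 0 j.succ / A 0 0) * y j
        = y i * (∑ j, A i.succ j.succ * y j) - (y i * A i.succ 0) * β / a := by
      intro i
      rw [hβ, Finset.mul_sum, Finset.mul_sum, Finset.mul_sum, Finset.sum_div,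
        ← Finset.sum_sub_distrib]
      apply Finset.sum_congr rfl
      intro j _
      rw [← ha]
      ring
    rw [Finset.sum_congr rfl (fun i _ => e i), Finset.sum_sub_distrib, ← Finset.sum_div,
      ← Finset.sum_mul, hβ']
  rw [h1, h2]
  field_simp
  ring

end Cfsg.Agent.Lib.Helper28.TH
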