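import Mathlib
import Cfsg.Agent.Lib.Helper28.ZNDefs
import Cfsg.Agent.Lib.Helper93.ZN1
import Cfsg.Agent.Lib.Helper93.ZN910
import Cfsg.Agent.Lib.Helper45.ZN2a
import Cfsg.Agent.Lib.Helper88.ZN2b
import Cfsg.Agent.Lib.Helper85.ZN3
import Cfsg.Agent.Lib.Helper21.ZN4
import Cfsg.Agent.Lib.Helper14.ZNRelIdx
import Cfsg.Agent.Lib.Helper73.ZNNum
import Cfsg.Agent.Lib.Helper84.ZN7
import Cfsg.Agent.Lib.Helper21.ZN11
import Cfsg.Agent.Lib.Helper21.ZN12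

set_option autoImplicit false

/-!
# Hub of the delivered keystones ZN-1 .. ZN-12 (architect helper28), restated with the spec signatures.
Thanks to helper93, helper45, helper88, helper85, helper21, helper14, helper73, helper84.
-/

universe u

namespace Cfsg.Agent.Lib.Helper28.ZNSpec

open Cfsg.Agent.Lib.Helper28.ZN

variable {p : ℕ} [Fact p.Prime] {V : Type u} [AddCommGroup V] [Module (ZMod p) V]

theorem sl25_of_perfect_linear [Finite V] (hZ : Z690.{u}) (H : Subgroup (V ≃ₗ[ZMod p] V)) (hfpf : Fpf H)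
    (N : Subgroup H) (hN : N ≠ ⊥) (hperf : ⁅N, N⁆ = N) : Nonempty (N ≃* SL25) := 
  Cfsg.Agent.Lib.Helper93.ZN.sl25_of_perfect_linear hZ H hfpf N hN hperf

theorem isPGroup_of_minimal_nilpotent {G : Type u} [Group G] [Finite G] (N : Subgroup G) (hNn : N.Normal)
    (hnil : Group.IsNilpotent N) (hNna : NonAb N) (hNmin : MinNonAb N) :
    ∃ r : ℕ, r.Prime ∧ IsPGroup r N := 
  Cfsg.Agent.Lib.Helper45.ZN.isPGroup_of_minimal_nilpotent N hNn hnil hNna hNmin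

theorem q8_of_pgroup_class_two {N : Type u} [Group N] [Finite N] (r : ℕ) [Fact r.Prime] (hN : IsPGroup r N)
    (hcyc : AbCyc N) (hna : ∃ x y : N, x * y ≠ y * x)
    (hcl2 : ∀ x y w : N, (x * y * x⁻¹ * y⁻¹) * w = w * (x * y * x⁻¹ * y⁻¹)) :
    Nonempty (N ≃* QuaternionGroup 2) := 
  Cfsg.Agent.Lib.Helper88.ZN.q8_of_pgroup_class_two r hN hcyc hna hcl2

theorem exists_order_four {N : Type u} [Group N]
    (h : Nonempty (N ≃* QuaternionGroup 2) ∨ Nonempty (N ≃* SL25)) :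
    (∃ x y : N, x ^ 4 = 1 ∧ x ^ 2 ≠ 1 ∧ x * y ≠ y * x) ∧ ∀ c : N, (∀ y : N, c * y = y * c) → c ^ 2 = 1 := 
  Cfsg.Agent.Lib.Helper85.ZN.exists_order_four h

theorem centralizer_inf_eq {G : Type u} [Group G] [Finite G] (hinv : UniqInv G)
    (A : Subgroup G) (hAn : A.Normal) (hAc : Ab A) (hAmax : MaxAb A)
    (hcls : ∀ N₁ : Subgroup G, N₁.Normal → N₁ ≤ Subgroup.centralizer (A : Set G) → NonAb N₁ → MinNonAb N₁ →
      Nonempty (N₁ ≃* QuaternionGroup 2) ∨ Nonempty (N₁ ≃* SL25))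
    (hord : ∀ N₁ : Subgroup G, Nonempty (N₁ ≃* QuaternionGroup 2) ∨ Nonempty (N₁ ≃* SL25) →
      ∃ x ∈ N₁, ∃ y ∈ N₁, x ^ 4 = 1 ∧ x ^ 2 ≠ 1 ∧ x * y ≠ y * x)
    (N : Subgroup G) (hNn : N.Normal) (hNle : N ≤ Subgroup.centralizer (A : Set G))
    (hN : Nonempty (N ≃* QuaternionGroup 2) ∨ Nonempty (N ≃* SL25)) :
    Subgroup.centralizer (N : Set G) ⊓ Subgroup.centralizer (A : Set G) = A := 
  Cfsg.Agent.Lib.Helper21.ZN.centralizer_inf_eq hinv A hAn hAc hAmax hcls hord N hNn hNle hN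

theorem relIndex_centralizer_sl25 {G : Type u} [Group G] [Finite G]
    (hA120 : Nat.card (MulAut SL25) ≤ 120)
    (hcen : ∀ c : SL25, (∀ y : SL25, c * y = y * c) → c ^ 2 = 1)
    (hinv : UniqInv G)
    (A : Subgroup G) (hAn : A.Normal) (hAc : Ab A)
    (N : Subgroup G) (hNn : N.Normal) (hNle : N ≤ Subgroup.centralizer (A : Set G)) (e : N ≃* SL25)
    (z : G) (hzA : z ∈ A) (hzN : z ∈ N) (hz1 : z ≠ 1)
    (hCN : Subgroup.centralizer (N : Set G) ⊓ Subgroup.centralizer (A : Set G) = A) :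
    A.relIndex (Subgroup.centralizer (A : Set G)) = 60 ∨ A.relIndex (Subgroup.centralizer (A : Set G)) = 120 := 
  Cfsg.Agent.Lib.Helper14.ZN.relIndex_centralizer_sl25 hA120 hcen hinv A hAn hAc N hNn hNle e z hzA hzN hz1 hCN

theorem numerics_sl25 (p d e : ℕ) (hp : p.Prime) (hd : 0 < d) (he : 2 ≤ e)
    (h120 : 120 ∣ p ^ (d * e) - 1) (h : p ^ (d * e) - 1 ∣ 120 * d * (p ^ d - 1)) :
    d = 1 ∧ e = 2 ∧ (p = 11 ∨ p = 19 ∨ p = 29 ∨ p = 59) := 
  Cfsg.Agent.Lib.Helper73.ZN.numerics_sl25 p d e hp hd he h120 h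

theorem irreducible_of_card_sq [Finite V] (H : Subgroup (V ≃ₗ[ZMod p] V)) (hfpf : Fpf H)
    (hV : Nat.card V = p ^ 2) (N : Subgroup H) (hNna : NonAb N) : Irr H N := 
  Cfsg.Agent.Lib.Helper84.ZN.irreducible_of_card_sq H hfpf hV N hNna

theorem commutator_mem_centralizer_of_isCyclic {G : Type u} [Group G] (A : Subgroup G) (hAn : A.Normal)
    (hcyc : IsCyclic A) (x y : G) : x * y * x⁻¹ * y⁻¹ ∈ Subgroup.centralizer (A : Set G) := 
  Cfsg.Agent.Lib.Helper93.ZN.commutator_mem_centralizer_of_isCyclic A hAn hcyc x y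

theorem involution_mem_of_maxAb {G : Type u} [Group G] (hinv : UniqInv G)
    (A : Subgroup G) (hAn : A.Normal) (hAc : Ab A) (hAmax : MaxAb A)
    (z : G) (hz : z * z = 1) (hz1 : z ≠ 1) : z ∈ A := 
  Cfsg.Agent.Lib.Helper93.ZN.involution_mem_of_maxAb hinv A hAn hAc hAmax z hz hz1

theorem false_of_three_dvd {G : Type u} [Group G] [Finite G] (hcyc : AbCyc G) (A P : Subgroup G)
    (hA : 3 ∣ Nat.card A) (hP : 3 ∣ Nat.card P) (hcomm : ∀ a ∈ A, ∀ x ∈ P, a * x = x * a)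
    (hAP : ∀ c ∈ A ⊓ P, c ^ 2 = 1) : False := 
  Cfsg.Agent.Lib.Helper21.ZN.false_of_three_dvd hcyc A P hA hP hcomm hAP

theorem exists_mulEquiv_prod {G : Type u} [Group G] [Finite G] (P A : Subgroup G)
    (hcycA : IsCyclic A) (hcomm : ∀ a ∈ A, ∀ x ∈ P, a * x = x * a) (m : ℕ) (hm : 0 < m)
    (hA : Nat.card A = 2 * m) (hcop : (Nat.card P).Coprime m) (hcard : Nat.card G = Nat.card P * m) :
    Nonempty (G ≃* P × Multiplicative (ZMod m)) := 
  Cfsg.Agent.Lib.Helper21.ZN.exists_mulEquiv_prod P A hcycA hcomm m hm hA hcop hcard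

end Cfsg.Agent.Lib.Helper28.ZNSpec
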