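import Mathlib
import Cfsg.Agent.Lib.Helper28.ZNDefs
import Cfsg.Agent.Lib.Helper28.ZNHub
import Cfsg.Agent.Lib.Helper06.NFCore

set_option autoImplicit false

/-!
# Assembly of S0686 (architect helper28): a minimal normal non-abelian subgroup of `C_H(A)` is
`Q8` or `SL(2,5)`, conditional on the statement `Z690` of S0690.
-/

universe u

namespace Cfsg.Agent.Lib.Helper28.ZN

open Cfsg.Agent.Lib.Helper28.ZNSpec

section Group

variable {G : Type u} [Group G]

theorem ab_iff_isMulCommutative (N : Subgroup G) : Ab N ↔ IsMulCommutative N := by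
  constructor
  · intro h
    exact ⟨⟨fun a b => Subtype.ext (h a a.2 b b.2)⟩⟩
  · intro h a ha b hb
    exact congrArg Subtype.val (h.is_comm.comm ⟨a, ha⟩ ⟨b, hb⟩)

theorem nonAb_iff (N : Subgroup G) : NonAb N ↔ ¬ IsMulCommutative N := by
  rw [← ab_iff_isMulCommutative]
  constructor
  · rintro ⟨x, hx, y, hy, hxy⟩ h
    exact hxy (h x hx y hy)
  · intro h
    by_contra hcon
    apply h
    intro a ha b hb
    by_contra hab
    exact hcon ⟨a, ha, b, hb, hab⟩

theorem not_nonAb_iff (N : Subgroup G) : ¬ NonAb N ↔ Ab N := by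
  rw [nonAb_iff, not_not, ab_iff_isMulCommutative]

/-- abelian subgroups of a subgroup are cyclic -/
theorem abCyc_subgroup (hcyc : AbCyc G) (N : Subgroup G) : AbCyc N := by
  intro M hM
  have hM' : Ab (M.map N.subtype) := by
    rintro _ ⟨a, ha, rfl⟩ _ ⟨b, hb, rfl⟩
    have := hM a ha b hb
    show N.subtype a * N.subtype b = N.subtype b * N.subtype a
    rw [← map_mul, ← map_mul, this]
  have h1 : IsCyclic (M.map N.subtype) := hcyc _ hM'
  let e : M ≃* M.map N.subtype := M.equivMapOfInjective N.subtype N.subtype_injective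
  exact isCyclic_of_surjective e.symm e.symm.surjective

/-- class two implies nilpotent -/
theorem isNilpotent_of_class_two (N : Subgroup G)
    (hcl2 : ∀ x ∈ N, ∀ y ∈ N, ∀ w ∈ N, (x * y * x⁻¹ * y⁻¹) * w = w * (x * y * x⁻¹ * y⁻¹)) :
    Group.IsNilpotent N := by
  apply Subgroup.isNilpotent_of_lowerCentralSeries_eq_bot (n := 2)
  rw [Subgroup.lowerCentralSeries_succ, Subgroup.lowerCentralSeries_succ,
    Subgroup.lowerCentralSeries_zero, Subgroup.commutator_eq_bot_iff_le_centralizer,
    Subgroup.commutator_le]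
  intro x hx y hy
  rw [Subgroup.mem_centralizer_iff, commutatorElement_def]
  intro w hw
  exact (hcl2 x hx y hy w hw).symm

end Group

variable {p : ℕ} [Fact p.Prime] {V : Type u} [AddCommGroup V] [Module (ZMod p) V]

theorem nontrivial_of_nonAb (H : Subgroup (V ≃ₗ[ZMod p] V)) (N : Subgroup H) (hNna : NonAb N) :
    Nontrivial V := by
  by_contra hnt
  rw [not_nontrivial_iff_subsingleton] at hnt
  obtain ⟨x, _, y, _, hxy⟩ := hNna
  apply hxy
  apply Subtype.ext
  apply LinearEquiv.ext
  intro v
  exact Subsingleton.elim _ _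

/-- **S0686**, conditional on `Z690`. -/
theorem main686 [Finite V] (hZ : Z690.{u}) (H : Subgroup (V ≃ₗ[ZMod p] V))
    (hreg : ∀ v w : V, v ≠ 0 → w ≠ 0 → ∃! h : H, (h : V ≃ₗ[ZMod p] V) v = w)
    (A : Subgroup H) (hAn : A.Normal) (hAc : Ab A) (hAmax : MaxAb A)
    (N : Subgroup H) (hNn : N.Normal) (hNle : N ≤ Subgroup.centralizer (A : Set H))
    (hNna : NonAb N) (hNmin : MinNonAb N) :
    Nonempty (N ≃* QuaternionGroup 2) ∨ Nonempty (N ≃* SL25) := by
  classical
  have hVnt : Nontrivial V := nontrivial_of_nonAb H N hNna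
  have : Finite H := Cfsg.Agent.Lib.Helper06.NF.finite_subgroup_linearEquiv H
  have hfpf : Fpf H := Cfsg.Agent.Lib.Helper06.NF.fpf_of_reg H hreg
  have hcyc : AbCyc H := fun M hM => Cfsg.Agent.Lib.Helper22.NF.cyc_of_fpf H hfpf M hM
  have hNne : N ≠ ⊥ := by
    rintro rfl
    obtain ⟨x, hx, y, hy, hxy⟩ := hNna
    rw [Subgroup.mem_bot] at hx hy
    subst hx; subst hy
    exact hxy rfl
  have hDn : (⁅N, N⁆ : Subgroup H).Normal := Subgroup.commutator_normal N N
  have hDle : (⁅N, N⁆ : Subgroup H) ≤ N := Subgroup.commutator_le_right N N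
  by_cases hD : NonAb (⁅N, N⁆ : Subgroup H)
  · right
    have hDN : (⁅N, N⁆ : Subgroup H) = N := hNmin _ hDn hDle hD
    exact sl25_of_perfect_linear hZ H hfpf N hNne hDN
  · left
    have hDab : Ab (⁅N, N⁆ : Subgroup H) := (not_nonAb_iff _).mp hD
    -- `⁅N,N⁆ ≤ A`
    have hDA : (⁅N, N⁆ : Subgroup H) ≤ A := by
      have hBn : (A ⊔ ⁅N, N⁆ : Subgroup H).Normal := Subgroup.sup_normal A ⁅N, N⁆
      have hcomm : ∀ a ∈ A, ∀ d ∈ (⁅N, N⁆ : Subgroup H), a * d = d * a := by
        intro a ha d hd
        exact (Subgroup.mem_centralizer_iff.mp (hNle (hDle hd)) a ha)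
      have hBab : Ab (A ⊔ ⁅N, N⁆ : Subgroup H) := by
        have hle : A ⊔ ⁅N, N⁆ ≤ Subgroup.centralizer ((A ⊔ ⁅N, N⁆ : Subgroup H) : Set H) := by
          rw [sup_le_iff]
          constructor
          · intro a ha
            rw [Subgroup.mem_centralizer_iff]
            have h2 : A ⊔ ⁅N, N⁆ ≤ Subgroup.centralizer ({a} : Set H) := by
              rw [sup_le_iff]
              constructor
              · intro b hb
                exact Subgroup.mem_centralizer_singleton_iff.mpr (hAc b hb a ha)
              · intro d hd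
                exact Subgroup.mem_centralizer_singleton_iff.mpr (hcomm a ha d hd).symm
            intro b hb
            exact (Subgroup.mem_centralizer_singleton_iff.mp (h2 hb))
          · intro d hd
            rw [Subgroup.mem_centralizer_iff]
            have h2 : A ⊔ ⁅N, N⁆ ≤ Subgroup.centralizer ({d} : Set H) := by
              rw [sup_le_iff]
              constructor
              · intro b hb
                exact Subgroup.mem_centralizer_singleton_iff.mpr (hcomm b hb d hd)
              · intro d' hd'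
                exact Subgroup.mem_centralizer_singleton_iff.mpr (hDab d' hd' d hd)
            intro b hb
            exact (Subgroup.mem_centralizer_singleton_iff.mp (h2 hb))
        intro a ha b hb
        exact ((Subgroup.mem_centralizer_iff.mp (hle hb)) a ha)
      have := hAmax _ hBn hBab le_sup_left
      rw [← this]
      exact le_sup_right
    have hcl2 : ∀ x ∈ N, ∀ y ∈ N, ∀ w ∈ N,
        (x * y * x⁻¹ * y⁻¹) * w = w * (x * y * x⁻¹ * y⁻¹) := by
      intro x hx y hy w hw
      have hmem : x * y * x⁻¹ * y⁻¹ ∈ A := by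
        apply hDA
        have := Subgroup.commutator_mem_commutator hx hy
        rwa [commutatorElement_def] at this
      exact Subgroup.mem_centralizer_iff.mp (hNle hw) _ hmem
    have hnil : Group.IsNilpotent N := isNilpotent_of_class_two N hcl2
    obtain ⟨r, hr, hrN⟩ := isPGroup_of_minimal_nilpotent N hNn hnil hNna hNmin
    have := Fact.mk hr
    refine q8_of_pgroup_class_two r hrN (abCyc_subgroup hcyc N) ?_ ?_
    · obtain ⟨x, hx, y, hy, hxy⟩ := hNna
      exact ⟨⟨x, hx⟩, ⟨y, hy⟩, fun h => hxy (congrArg Subtype.val h)⟩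
    · intro x y w
      apply Subtype.ext
      exact hcl2 x x.2 y y.2 w w.2

end Cfsg.Agent.Lib.Helper28.ZN
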