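import Mathlib
import Cfsg.Agent.Lib.Helper28.ZNDefs
import Cfsg.Agent.Lib.Helper28.ZNHub
import Cfsg.Agent.Lib.Helper28.ZN686
import Cfsg.Agent.Lib.Helper06.NFCore
import Cfsg.Agent.Lib.Helper62.SL25Pres

set_option autoImplicit false

/-!
# Core of S0687 / S0689 (architect helper28)

`N` normal in `H`, `N ≤ C_H(A)`, `N ≅ Q8` or `SL(2,5)`: then `|V| = p²`, `C_H(A) = H`, `C_H(N) = A`.
-/

universe u

namespace Cfsg.Agent.Lib.Helper28.ZN

open Cfsg.Agent.Lib.Helper28.ZNSpec Cfsg.Agent.Lib.Helper06.NF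

variable {p : ℕ} [Fact p.Prime] {V : Type u} [AddCommGroup V] [Module (ZMod p) V]

/-- transport of ZN-3 to subgroups -/
theorem hord_subgroup {G : Type u} [Group G] (N₁ : Subgroup G)
    (h : Nonempty (N₁ ≃* QuaternionGroup 2) ∨ Nonempty (N₁ ≃* SL25)) :
    ∃ x ∈ N₁, ∃ y ∈ N₁, x ^ 4 = 1 ∧ x ^ 2 ≠ 1 ∧ x * y ≠ y * x := by
  obtain ⟨⟨x, y, h4, h2, hxy⟩, -⟩ := exists_order_four h
  refine ⟨x, x.2, y, y.2, ?_, ?_, ?_⟩
  · have := congrArg Subtype.val h4
    simpa using this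
  · intro h
    apply h2
    apply Subtype.ext
    simpa using h
  · intro h
    apply hxy
    apply Subtype.ext
    simpa using h

theorem nonAb_of_iso {G : Type u} [Group G] (N : Subgroup G)
    (h : Nonempty (N ≃* QuaternionGroup 2) ∨ Nonempty (N ≃* SL25)) : NonAb N := by
  obtain ⟨x, hx, y, hy, -, -, hxy⟩ := hord_subgroup N h
  exact ⟨x, hx, y, hy, hxy⟩

theorem card_q8 : Nat.card (QuaternionGroup 2) = 8 := by
  rw [Nat.card_eq_fintype_card, QuaternionGroup.card]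

/-- the unique involution of `H` exists when `4 ∣ |N|`-type subgroups are present: an element of
order four squares to it. -/
theorem exists_involution_of_iso {G : Type u} [Group G] (N : Subgroup G)
    (h : Nonempty (N ≃* QuaternionGroup 2) ∨ Nonempty (N ≃* SL25)) :
    ∃ z ∈ N, z * z = 1 ∧ z ≠ 1 := by
  obtain ⟨x, hx, y, hy, h4, h2, -⟩ := hord_subgroup N h
  refine ⟨x ^ 2, N.pow_mem hx 2, ?_, h2⟩
  rw [← pow_add]
  exact h4

/-- **Core**: the numerical consequences. -/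
theorem core [Finite V] [Nontrivial V] (hA120 : Nat.card (MulAut SL25) ≤ 120)
    (H : Subgroup (V ≃ₗ[ZMod p] V))
    (hreg : ∀ v w : V, v ≠ 0 → w ≠ 0 → ∃! h : H, (h : V ≃ₗ[ZMod p] V) v = w)
    (A : Subgroup H) (hAn : A.Normal) (hAc : Ab A) (hAmax : MaxAb A)
    (hcls : ∀ N₁ : Subgroup H, N₁.Normal → N₁ ≤ Subgroup.centralizer (A : Set H) → NonAb N₁ →
      MinNonAb N₁ → Nonempty (N₁ ≃* QuaternionGroup 2) ∨ Nonempty (N₁ ≃* SL25))
    (N : Subgroup H) (hNn : N.Normal) (hNle : N ≤ Subgroup.centralizer (A : Set H))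
    (hN : Nonempty (N ≃* QuaternionGroup 2) ∨ Nonempty (N ≃* SL25)) :
    Nat.card V = p ^ 2 ∧ Subgroup.centralizer (A : Set H) = ⊤ ∧
      Subgroup.centralizer (N : Set H) = A ∧ Nat.card A ∣ p - 1 ∧
      ((Nonempty (N ≃* QuaternionGroup 2) ∧ A.index ∣ 24) ∨
        (Nonempty (N ≃* SL25) ∧ (A.index = 60 ∨ A.index = 120) ∧
          (p = 11 ∨ p = 19 ∨ p = 29 ∨ p = 59))) := by
  classical
  have : Finite H := finite_subgroup_linearEquiv H
  have hfpf : Fpf H := fpf_of_reg H hreg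
  have hcard := card_of_reg H hreg
  have htrans : ∀ v w : V, v ≠ 0 → w ≠ 0 → ∃ h : H, (h : V ≃ₗ[ZMod p] V) v = w :=
    fun v w hv hw => (hreg v w hv hw).exists
  have hinv : UniqInv H := unique_involution H hfpf
  have hK := Cfsg.Agent.Lib.Helper32.NF.adj_injective H htrans A hAn hAc
  obtain ⟨hd, e, he, hV, hAdvd, -, he1⟩ := Cfsg.Agent.Lib.Helper23.NF.dim_data H A hAc hK
  have hidx := Cfsg.Agent.Lib.Helper81.NF.index_centralizer_dvd_finrank H A hAn hAc hK
  set d := Module.finrank (ZMod p) (adj H A) with hd_def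
  set C := Subgroup.centralizer (A : Set H) with hC_def
  have hAC : A ≤ C := by
    intro a ha
    exact Subgroup.mem_centralizer_iff.mpr (fun b hb => hAc b hb a ha)
  have hHcard : Nat.card H = p ^ (d * e) - 1 := by omega
  have hNna : NonAb N := nonAb_of_iso N hN
  have he2 : 2 ≤ e := by
    by_contra hlt
    have he1' : e = 1 := by omega
    obtain ⟨x, hx, y, hy, hxy⟩ := hNna
    exact hxy (he1 he1' x (hNle hx) y (hNle hy))
  have hCN : Subgroup.centralizer (N : Set H) ⊓ C = A :=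
    centralizer_inf_eq hinv A hAn hAc hAmax hcls (fun N₁ h => hord_subgroup N₁ h) N hNn hNle hN
  -- divisibility of `|H|`
  have key : ∀ m : ℕ, A.relIndex C ∣ m → p ^ (d * e) - 1 ∣ m * d * (p ^ d - 1) := by
    intro m hm
    rw [← hHcard, ← Subgroup.card_mul_index C, ← relIndex_mul_card hAC]
    have : A.relIndex C * Nat.card A * C.index = C.index * (A.relIndex C) * Nat.card A := by ring
    rw [this]
    have h1 : C.index * A.relIndex C ∣ d * m := Nat.mul_dvd_mul hidx hm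
    have h2 := Nat.mul_dvd_mul h1 hAdvd
    have : m * d * (p ^ d - 1) = d * m * (p ^ d - 1) := by ring
    rw [this]
    exact h2
  have fin : d = 1 → e = 2 → Nat.card V = p ^ 2 ∧ C = ⊤ ∧
      Subgroup.centralizer (N : Set H) = A ∧ Nat.card A ∣ p - 1 ∧ A.index = A.relIndex C := by
    intro hd1 he2'
    have hCtop : C = ⊤ := by
      rw [hd1] at hidx
      exact Subgroup.index_eq_one.mp (Nat.dvd_one.mp hidx)
    refine ⟨?_, hCtop, ?_, ?_, ?_⟩
    · rw [hV, hd1, he2']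
    · rw [hCtop, inf_top_eq] at hCN
      exact hCN
    · rw [hd1, pow_one] at hAdvd
      exact hAdvd
    · rw [hCtop, Subgroup.relIndex_top_right]
  rcases hN with hQ | hS
  · -- the quaternion case
    obtain ⟨eQ⟩ := hQ
    have hQ8 : Nat.card N = 8 := by rw [Nat.card_congr eQ.toEquiv, card_q8]
    have h8 : 8 ∣ Nat.card H := hQ8 ▸ Subgroup.card_subgroup_dvd_card N
    have hp2 : p ≠ 2 := by
      intro hp2
      rw [hHcard, hp2] at h8
      have hpos : 0 < d * e := Nat.mul_pos hd he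
      have : 2 ∣ 2 ^ (d * e) := dvd_pow_self 2 hpos.ne'
      have hge : 1 ≤ 2 ^ (d * e) := Nat.one_le_two_pow
      omega
    have h24 := Cfsg.Agent.Lib.Helper80.NF.relIndex_centralizer_dvd A N hNn hQ8 hNna hinv hAc hCN
    obtain ⟨hd1, he2', -⟩ := Cfsg.Agent.Lib.Helper86.NF.numerics_main p d e Fact.out hp2 hd he2
      (key 24 h24)
    obtain ⟨f1, f2, f3, f4, f5⟩ := fin hd1 he2'
    refine ⟨f1, f2, f3, f4, Or.inl ⟨⟨eQ⟩, ?_⟩⟩
    rw [f5]
    exact h24
  · -- the `SL(2,5)` case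
    obtain ⟨eS⟩ := hS
    have hS120 : Nat.card N = 120 := by
      rw [Nat.card_congr eS.toEquiv]
      exact Cfsg.Agent.Lib.Helper62.SL25Pres.card_SL25
    have h120 : 120 ∣ Nat.card H := hS120 ▸ Subgroup.card_subgroup_dvd_card N
    obtain ⟨z, hzN, hzz, hz1⟩ := exists_involution_of_iso N (Or.inr ⟨eS⟩)
    have hzA : z ∈ A := involution_mem_of_maxAb hinv A hAn hAc hAmax z hzz hz1
    have hcen : ∀ c : SL25, (∀ y : SL25, c * y = y * c) → c ^ 2 = 1 :=
      (exists_order_four (N := SL25) (Or.inr ⟨MulEquiv.refl _⟩)).2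
    have hrel := relIndex_centralizer_sl25 hA120 hcen hinv A hAn hAc N hNn hNle eS z hzA hzN hz1 hCN
    have hrel120 : A.relIndex C ∣ 120 := by
      rcases hrel with h | h
      · rw [h]; norm_num
      · rw [h]
    rw [hHcard] at h120
    obtain ⟨hd1, he2', hp⟩ := numerics_sl25 p d e Fact.out hd he2 h120 (key 120 hrel120)
    obtain ⟨f1, f2, f3, f4, f5⟩ := fin hd1 he2'
    refine ⟨f1, f2, f3, f4, Or.inr ⟨⟨eS⟩, ?_, hp⟩⟩
    rw [f5]
    exact hrel

/-- **S0687**, conditional on `Z690` and `|Aut SL(2,5)| ≤ 120`. -/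
theorem main687 [Finite V] (hZ : Z690.{u}) (hA120 : Nat.card (MulAut SL25) ≤ 120)
    (H : Subgroup (V ≃ₗ[ZMod p] V))
    (hreg : ∀ v w : V, v ≠ 0 → w ≠ 0 → ∃! h : H, (h : V ≃ₗ[ZMod p] V) v = w)
    (A : Subgroup H) (hAn : A.Normal) (hAc : Ab A) (hAmax : MaxAb A)
    (N : Subgroup H) (hNn : N.Normal) (hNle : N ≤ Subgroup.centralizer (A : Set H))
    (hNna : NonAb N) (hNmin : MinNonAb N) :
    Irr H N ∧ Subgroup.centralizer (N : Set H) = A := by
  have hVnt : Nontrivial V := nontrivial_of_nonAb H N hNna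
  have hfpf : Fpf H := fpf_of_reg H hreg
  have hcls : ∀ N₁ : Subgroup H, N₁.Normal → N₁ ≤ Subgroup.centralizer (A : Set H) → NonAb N₁ →
      MinNonAb N₁ → Nonempty (N₁ ≃* QuaternionGroup 2) ∨ Nonempty (N₁ ≃* SL25) :=
    fun N₁ h1 h2 h3 h4 => main686 hZ H hreg A hAn hAc hAmax N₁ h1 h2 h3 h4
  have hN := hcls N hNn hNle hNna hNmin
  obtain ⟨hV, -, hCN, -, -⟩ := core hA120 H hreg A hAn hAc hAmax hcls N hNn hNle hN
  exact ⟨irreducible_of_card_sq H hfpf hV N hNna, hCN⟩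

end Cfsg.Agent.Lib.Helper28.ZN
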