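import Mathlib
import Cfsg.Agent.Lib.Helper28.ZNDefs
import Cfsg.Agent.Lib.Helper28.ZNHub
import Cfsg.Agent.Lib.Helper28.ZN686
import Cfsg.Agent.Lib.Helper28.ZN687
import Cfsg.Agent.Lib.Helper06.NFCore
import Cfsg.Agent.Lib.Helper62.SL25Pres
import Cfsg.Agent.Lib.Helper80.FCRes

set_option autoImplicit false

/-!
# Assembly of S0689 (architect helper28): the non-solvable sharply transitive linear groups.
-/

universe u

namespace Cfsg.Agent.Lib.Helper28.ZN

open Cfsg.Agent.Lib.Helper28.ZNSpec Cfsg.Agent.Lib.Helper06.NF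

variable {p : ℕ} [Fact p.Prime] {V : Type u} [AddCommGroup V] [Module (ZMod p) V]

theorem arith689 (p a i : ℕ) (hp : p = 11 ∨ p = 19 ∨ p = 29 ∨ p = 59)
    (hi : i = 60 ∨ i = 120) (h : a * i = p ^ 2 - 1) (ha : 2 ∣ a) :
    i = 60 ∧ ((p = 11 ∧ a = 2) ∨ (p = 19 ∧ a = 6) ∨ (p = 29 ∧ a = 14) ∨ (p = 59 ∧ a = 58)) := by
  obtain ⟨b, rfl⟩ := ha
  rcases hp with rfl | rfl | rfl | rfl <;> rcases hi with rfl | rfl <;> norm_num at h <;> omega

/-- **S0689**, conditional on `Z690` and `|Aut SL(2,5)| ≤ 120`. -/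
theorem main689 [Finite V] (hZ : Z690.{u}) (hA120 : Nat.card (MulAut SL25) ≤ 120)
    (H : Subgroup (V ≃ₗ[ZMod p] V))
    (hreg : ∀ v w : V, v ≠ 0 → w ≠ 0 → ∃! h : H, (h : V ≃ₗ[ZMod p] V) v = w)
    (hsolv : ¬ Group.IsSolvable H) :
    (Nat.card V = 121 ∧ Nonempty (H ≃* SL25)) ∨
      (Nat.card V = 841 ∧ Nonempty (H ≃* SL25 × Multiplicative (ZMod 7))) ∨
      (Nat.card V = 3481 ∧ Nonempty (H ≃* SL25 × Multiplicative (ZMod 29))) := by
  classical
  have hVnt : Nontrivial V := by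
    by_contra hnt
    rw [not_nontrivial_iff_subsingleton] at hnt
    apply hsolv
    have : Subsingleton H := by
      constructor
      intro x y
      apply Subtype.ext
      apply LinearEquiv.ext
      intro v
      exact Subsingleton.elim _ _
    exact inferInstance
  have : Finite H := finite_subgroup_linearEquiv H
  have hfpf : Fpf H := fpf_of_reg H hreg
  have hcardH := card_of_reg H hreg
  have hinv : UniqInv H := unique_involution H hfpf
  have hcyc : AbCyc H := fun M hM => Cfsg.Agent.Lib.Helper22.NF.cyc_of_fpf H hfpf M hM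
  obtain ⟨A, hAn, hAc, hAmax⟩ := exists_max_normal_abelian (G := H)
  have hAcyc : IsCyclic A := hcyc A hAc
  obtain ⟨P, hPn, hPne, hPperf⟩ := Cfsg.Agent.Lib.Helper80.FC.exists_perfect_normal hsolv
  have hPP : (⁅P, P⁆ : Subgroup H) = P := by
    rw [← Subgroup.map_subtype_commutator, hPperf, ← MonoidHom.range_eq_map, Subgroup.range_subtype]
  obtain ⟨eS⟩ := sl25_of_perfect_linear hZ H hfpf P hPne hPP
  have hPle : P ≤ Subgroup.centralizer (A : Set H) := by
    rw [← hPP, Subgroup.commutator_le]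
    intro x _ y _
    rw [commutatorElement_def]
    exact commutator_mem_centralizer_of_isCyclic A hAn hAcyc x y
  have hcls : ∀ N₁ : Subgroup H, N₁.Normal → N₁ ≤ Subgroup.centralizer (A : Set H) → NonAb N₁ →
      MinNonAb N₁ → Nonempty (N₁ ≃* QuaternionGroup 2) ∨ Nonempty (N₁ ≃* SL25) :=
    fun N₁ h1 h2 h3 h4 => main686 hZ H hreg A hAn hAc hAmax N₁ h1 h2 h3 h4
  have hP120 : Nat.card P = 120 := by
    rw [Nat.card_congr eS.toEquiv]
    exact Cfsg.Agent.Lib.Helper62.SL25Pres.card_SL25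
  obtain ⟨hV, hCtop, hCP, hAdvd, hcase⟩ :=
    core hA120 H hreg A hAn hAc hAmax hcls P hPn hPle (Or.inr ⟨eS⟩)
  rcases hcase with ⟨⟨eQ⟩, -⟩ | ⟨-, hidx, hp⟩
  · exfalso
    have : Nat.card P = 8 := by rw [Nat.card_congr eQ.toEquiv, card_q8]
    omega
  -- the involution
  obtain ⟨z, hzP, hzz, hz1⟩ := exists_involution_of_iso P (Or.inr ⟨eS⟩)
  have hzA : z ∈ A := involution_mem_of_maxAb hinv A hAn hAc hAmax z hzz hz1
  have h2A : 2 ∣ Nat.card A := by
    have h2 : orderOf (⟨z, hzA⟩ : A) = 2 := by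
      apply orderOf_eq_prime
      · apply Subtype.ext
        rw [pow_two]
        exact hzz
      · intro h
        exact hz1 (congrArg Subtype.val h)
    rw [← h2]
    exact orderOf_dvd_natCard _
  have hHc : Nat.card H = p ^ 2 - 1 := by omega
  have hmul : Nat.card A * A.index = p ^ 2 - 1 := by
    rw [Subgroup.card_mul_index, hHc]
  obtain ⟨hi60, hpa⟩ := arith689 p (Nat.card A) A.index hp hidx hmul h2A
  have hcomm : ∀ a ∈ A, ∀ x ∈ P, a * x = x * a := by
    intro a ha x hx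
    exact (Subgroup.mem_centralizer_iff.mp (hPle hx) a ha)
  rcases hpa with ⟨hp11, ha⟩ | ⟨hp19, ha⟩ | ⟨hp29, ha⟩ | ⟨hp59, ha⟩
  · left
    subst hp11
    refine ⟨by rw [hV]; norm_num, ?_⟩
    have hH120 : Nat.card H = 120 := by rw [hHc]; norm_num
    have hPtop : P = ⊤ := by
      apply Subgroup.eq_top_of_card_eq
      rw [hP120, hH120]
    exact ⟨(Subgroup.topEquiv.symm.trans (MulEquiv.subgroupCongr hPtop.symm)).trans eS⟩
  · exfalso
    have hcen : ∀ c : SL25, (∀ y : SL25, c * y = y * c) → c ^ 2 = 1 :=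
      (exists_order_four (N := SL25) (Or.inr ⟨MulEquiv.refl _⟩)).2
    refine false_of_three_dvd hcyc A P (by rw [ha]; norm_num) (by rw [hP120]; norm_num) hcomm ?_
    intro c hc
    have h1 := hcen (eS ⟨c, hc.2⟩) ?_
    · have h2 : (⟨c, hc.2⟩ : P) ^ 2 = 1 := by
        apply eS.injective
        rw [map_pow, h1, map_one]
      have := congrArg Subtype.val h2
      simpa using this
    · intro y
      obtain ⟨x, rfl⟩ := eS.surjective y
      rw [← map_mul, ← map_mul]
      congr 1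
      apply Subtype.ext
      exact hcomm c hc.1 x x.2
  · right; left
    subst hp29
    refine ⟨by rw [hV]; norm_num, ?_⟩
    obtain ⟨f⟩ := exists_mulEquiv_prod P A hAcyc hcomm 7 (by norm_num) (by rw [ha])
      (by rw [hP120]; norm_num) (by rw [hHc, hP120]; norm_num)
    exact ⟨f.trans (MulEquiv.prodCongr eS (MulEquiv.refl _))⟩
  · right; right
    subst hp59
    refine ⟨by rw [hV]; norm_num, ?_⟩
    obtain ⟨f⟩ := exists_mulEquiv_prod P A hAcyc hcomm 29 (by norm_num) (by rw [ha])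
      (by rw [hP120]; norm_num) (by rw [hHc, hP120]; norm_num)
    exact ⟨f.trans (MulEquiv.prodCongr eS (MulEquiv.refl _))⟩

end Cfsg.Agent.Lib.Helper28.ZN
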