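import Mathlib
import Cfsg.Agent.Lib.Helper28.ZassPSL
import Cfsg.Agent.Lib.Helper28.SchurField
import Cfsg.Agent.Lib.Helper28.ArtinOrder
import Cfsg.Agent.Lib.Helper28.FrobComplCyclic
import Cfsg.Agent.Lib.Helper63.TwoTransRegular
import Cfsg.Agent.S0042

/-!
# Zassenhaus-type groups with a regular normal subgroup have degree `2 ^ p`, `p` prime
-/

set_option autoImplicit false
set_option linter.style.haveILetI false

namespace Cfsg.Agent.Lib.Helper28

open MulAction

section regnormal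

variable {G Ω : Type*} [Group G] [MulAction G Ω]

theorem ZPre.card_of_regular_normal [Fintype Ω] (h : ZPre G Ω)
    (h2 : IsMultiplyPretransitive G Ω 2)
    (N : Subgroup G) [hNn : N.Normal] (hNt : ∀ x y : Ω, ∃ n ∈ N, n • x = y)
    (hNr : ∀ x : Ω, ∀ n ∈ N, n • x = x → n = 1) :
    ∃ p : ℕ, p.Prime ∧ Fintype.card Ω = 2 ^ p := by
  classical
  have hfin : Finite G := h.finite
  obtain ⟨g₀, hg₀, a, b, hab, -, -⟩ := h.two
  clear hg₀ g₀
  obtain ⟨K, hKle, hKn, hreg, hfpf⟩ := h.exists_regular_kernel a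
  have hKa : ∀ u ∈ K, u • a = a := fun u hu => mem_stabilizer_iff.mp (hKle hu)
  set D : Subgroup G := stabilizer G a ⊓ stabilizer G b with hD
  have hDa : ∀ g ∈ D, g • a = a := fun g hg => mem_stabilizer_iff.mp (Subgroup.mem_inf.mp hg).1
  have hDb : ∀ g ∈ D, g • b = b := fun g hg => mem_stabilizer_iff.mp (Subgroup.mem_inf.mp hg).2
  obtain ⟨d₀, hd₀1, hd₀a, hd₀b⟩ := h.two_stab_ne hab
  have hd₀D : d₀ ∈ D := Subgroup.mem_inf.mpr ⟨mem_stabilizer_iff.mpr hd₀a, mem_stabilizer_iff.mpr hd₀b⟩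
  -- K is normalized by the point stabilizer
  have hKnorm : ∀ g : G, g • a = a → ∀ t ∈ K, g * t * g⁻¹ ∈ K := by
    intro g hg t ht
    have := hKn.conj_mem ⟨t, hKle ht⟩ (Subgroup.mem_subgroupOf.mpr ht) ⟨g, mem_stabilizer_iff.mpr hg⟩
    exact Subgroup.mem_subgroupOf.mp this
  -- basic facts on N
  have hNne : ∀ n ∈ N, n ≠ 1 → ∀ x : Ω, n • x ≠ x := fun n hn hn1 x hx => hn1 (hNr x n hn hx)
  have hNuniq : ∀ n ∈ N, ∀ n' ∈ N, ∀ x : Ω, n • x = n' • x → n = n' := by
    intro n hn n' hn' x hx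
    have : n'⁻¹ * n = 1 := by
      apply hNr x _ (N.mul_mem (N.inv_mem hn') hn)
      rw [mul_smul, hx, inv_smul_smul]
    have e : n = n' * (n'⁻¹ * n) := by group
    rw [e, this, mul_one]
  have hconj_act : ∀ g : G, g • a = a → ∀ n : G, (g * n * g⁻¹) • a = g • (n • a) := by
    intro g hg n
    have hgi : g⁻¹ • a = a := by rw [inv_smul_eq_iff, hg]
    rw [mul_smul, mul_smul, hgi]
  have hNbot : N ≠ ⊥ := by
    intro hbot
    obtain ⟨n, hn, hnab⟩ := hNt a b
    rw [hbot, Subgroup.mem_bot] at hn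
    rw [hn, one_smul] at hnab
    exact hab hnab
  obtain ⟨hNcomm, -⟩ :=
    Helper63.elementary_abelian_of_semiregular_normal h2 N hNbot a hNr
  -- commuting with an element of N means fixing a point
  have hcommfix : ∀ g : G, g • a = a → ∀ n ∈ N, g * n = n * g → g • (n • a) = n • a := by
    intro g hg n _ hc
    rw [← mul_smul, hc, mul_smul, hg]
  -- the kernel acts freely on N
  have hKfree : ∀ k ∈ K, k ≠ 1 → ∀ n ∈ N, k * n = n * k → n = 1 := by
    intro k hk hk1 n hn hc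
    by_contra hn1
    exact hfpf k hk hk1 (n • a) (hNne n hn hn1 a) (hcommfix k (hKa k hk) n hn hc)
  -- |K| is odd
  have hKodd : Odd (Nat.card K) := by
    by_contra heven
    rw [Nat.not_odd_iff_even] at heven
    haveI : Fact (Nat.Prime 2) := ⟨Nat.prime_two⟩
    obtain ⟨z0, hz0⟩ := exists_prime_orderOf_dvd_card' (G := ↥K) 2 heven.two_dvd
    have hzord : orderOf (z0 : G) = 2 := by rw [Subgroup.orderOf_coe]; exact hz0
    obtain ⟨hzz, hz1⟩ := Cfsg.Agent.S0740.orderOf_two_iff (z0 : G) |>.mp hzord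
    obtain ⟨z, hzK⟩ := z0
    simp only at hzz hz1
    -- involutions of K invert N
    have hinvN : ∀ t ∈ K, t * t = 1 → t ≠ 1 → ∀ x ∈ N, t * x * t⁻¹ = x⁻¹ := by
      intro t ht htt ht1 x hx
      have hti : t⁻¹ = t := inv_eq_of_mul_eq_one_right htt
      have hx' : t * x * t⁻¹ ∈ N := hNn.conj_mem x hx t
      have hy : x * (t * x * t⁻¹) ∈ N := N.mul_mem hx hx'
      have hc : t * (x * (t * x * t⁻¹)) = (x * (t * x * t⁻¹)) * t := by
        have h1 : x * (t * x * t⁻¹) = (t * x * t⁻¹) * x := hNcomm x hx _ hx'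
        calc t * (x * (t * x * t⁻¹)) = t * ((t * x * t⁻¹) * x) := by rw [h1]
          _ = (t * t) * x * t⁻¹ * x := by group
          _ = x * t⁻¹ * x := by rw [htt, one_mul]
          _ = x * t * x := by rw [hti]
          _ = x * (t * x * t⁻¹) * t := by group
      have := hKfree t ht ht1 _ hy hc
      exact eq_inv_of_mul_eq_one_right this
    have hDz : ∀ g ∈ D, g * z * g⁻¹ = z := by
      intro g hg
      have hz'K : g * z * g⁻¹ ∈ K := hKnorm g (hDa g hg) z hzK
      have hz'z' : (g * z * g⁻¹) * (g * z * g⁻¹) = 1 := by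
        calc (g * z * g⁻¹) * (g * z * g⁻¹) = g * (z * z) * g⁻¹ := by group
          _ = 1 := by rw [hzz]; group
      have hz'1 : g * z * g⁻¹ ≠ 1 := by
        intro h1
        apply hz1
        have : z = g⁻¹ * (g * z * g⁻¹) * g := by group
        rw [this, h1]; group
      have hfixall : ∀ x : Ω, (z * (g * z * g⁻¹)) • x = x := by
        intro x
        obtain ⟨n, hn, hnx⟩ := hNt a x
        have hc : (z * (g * z * g⁻¹)) * n = n * (z * (g * z * g⁻¹)) := by
          have e1 := hinvN _ hz'K hz'z' hz'1 n hn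
          have e2 := hinvN z hzK hzz hz1 n⁻¹ (N.inv_mem hn)
          have e3 : (z * (g * z * g⁻¹)) * n * (z * (g * z * g⁻¹))⁻¹ = n := by
            calc (z * (g * z * g⁻¹)) * n * (z * (g * z * g⁻¹))⁻¹
                = z * ((g * z * g⁻¹) * n * (g * z * g⁻¹)⁻¹) * z⁻¹ := by group
              _ = z * n⁻¹ * z⁻¹ := by rw [e1]
              _ = n := by rw [e2, inv_inv]
          calc (z * (g * z * g⁻¹)) * n
              = ((z * (g * z * g⁻¹)) * n * (z * (g * z * g⁻¹))⁻¹) * (z * (g * z * g⁻¹)) := by group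
            _ = n * (z * (g * z * g⁻¹)) := by rw [e3]
        rw [← hnx, ← mul_smul, hc, mul_smul, mul_smul, hKa _ hz'K, hKa z hzK]
      have h1 : z * (g * z * g⁻¹) = 1 := h.faithful _ hfixall
      have hzi : z⁻¹ = z := inv_eq_of_mul_eq_one_right hzz
      calc g * z * g⁻¹ = z⁻¹ * (z * (g * z * g⁻¹)) := by group
        _ = z := by rw [h1, mul_one, hzi]
    have hzb : z • b ≠ b := hfpf z hzK hz1 b hab.symm
    have hzba : z • b ≠ a := by
      intro hh
      have : z⁻¹ • a = b := by rw [← hh, inv_smul_smul]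
      rw [hKa _ (K.inv_mem hzK)] at this
      exact hab this
    have hd₀z : d₀ • (z • b) = z • b := by
      have h1 := hDz d₀ hd₀D
      have hc : d₀ * z = z * d₀ := by
        calc d₀ * z = (d₀ * z * d₀⁻¹) * d₀ := by group
          _ = z * d₀ := by rw [h1]
      rw [← mul_smul, hc, mul_smul, hd₀b]
    exact hd₀1 (h.three d₀ a b (z • b) hab (Ne.symm hzb) (Ne.symm hzba) hd₀a hd₀b hd₀z)
  -- K is a Z-group
  have hKZ : IsZGroup ↥K := by
    refine ⟨fun q hq P => ?_⟩
    haveI : Fact q.Prime := ⟨hq⟩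
    by_cases hq2 : q = 2
    · subst hq2
      have hcard : Nat.card P = 1 := by
        obtain ⟨k, hk⟩ := (IsPGroup.iff_card.1 P.isPGroup')
        have hdvd : Nat.card P ∣ Nat.card ↥K := Subgroup.card_subgroup_dvd_card _
        rcases Nat.eq_zero_or_pos k with hk0 | hk0
        · rw [hk, hk0, pow_zero]
        · exfalso
          have h2' : 2 ∣ Nat.card ↥K := by
            refine dvd_trans ?_ hdvd
            rw [hk]
            exact dvd_pow_self 2 hk0.ne'
          exact (Nat.not_even_iff_odd.2 hKodd) (even_iff_two_dvd.2 h2')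
      haveI : Subsingleton P := (Nat.card_eq_one_iff_unique.1 hcard).1
      exact isCyclic_of_subsingleton
    · have hcyc : IsCyclic ((P : Subgroup _).map K.subtype) := by
        apply frob_compl_pgroup_cyclic N K hNbot ?_ hq2 _ (Subgroup.map_subtype_le _)
          (P.isPGroup'.map _)
        intro k hk hk1
        rw [eq_bot_iff]
        rintro x ⟨hxN, hxc⟩
        rw [Subgroup.mem_bot]
        have hc : k * x = x * k := (Subgroup.mem_centralizer_iff.mp hxc) k rfl
        exact hKfree k hk hk1 x hxN hc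
      let f := Subgroup.equivMapOfInjective (P : Subgroup _) K.subtype
        (Subgroup.subtype_injective _)
      exact isCyclic_of_surjective f.symm f.symm.surjective
  -- an element of prime order in D
  have hDcard : Nat.card D ≠ 1 := by
    intro h1
    have : D = ⊥ := Subgroup.card_eq_one.mp h1
    rw [this, Subgroup.mem_bot] at hd₀D
    exact hd₀1 hd₀D
  obtain ⟨ℓ, hℓ, hℓdvd⟩ := Nat.exists_prime_and_dvd hDcard
  haveI : Fact ℓ.Prime := ⟨hℓ⟩
  obtain ⟨d0, hd0⟩ := exists_prime_orderOf_dvd_card' (G := ↥D) ℓ hℓdvd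
  have hdord : orderOf (d0 : G) = ℓ := by rw [Subgroup.orderOf_coe]; exact hd0
  obtain ⟨d, hdD⟩ := d0
  simp only at hdord
  have hd1 : d ≠ 1 := by
    intro h1
    rw [h1, orderOf_one] at hdord
    exact hℓ.one_lt.ne hdord
  -- D acts freely on K
  have hDfree : ∀ g ∈ D, g ≠ 1 → ∀ k ∈ K, g * k = k * g → k = 1 := by
    intro g hg hg1 k hk hc
    by_contra hk1
    apply hg1
    have hkb : k • b ≠ b := hfpf k hk hk1 b hab.symm
    have hkba : k • b ≠ a := by
      intro hh
      have : k⁻¹ • a = b := by rw [← hh, inv_smul_smul]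
      rw [hKa _ (K.inv_mem hk)] at this
      exact hab this
    have hgk : g • (k • b) = k • b := by rw [← mul_smul, hc, mul_smul, hDb g hg]
    exact h.three g a b (k • b) hab (Ne.symm hkb) (Ne.symm hkba) (hDa g hg) (hDb g hg) hgk
  have hKnil : Group.IsNilpotent ↥K := by
    let c : G →* G := (MulAut.conj d).toMonoidHom
    have hst : Helper15.Stable c K := fun x hx => hKnorm d (hDa d hdD) x hx
    have hfp : Helper15.IsFpfPer ℓ (Helper15.resHom c K hst) := by
      constructor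
      · intro x hx
        have hx' : d * x * d⁻¹ = x := congrArg Subtype.val hx
        have hc : d * (x : G) = x * d := by
          calc d * (x : G) = (d * x * d⁻¹) * d := by group
            _ = x * d := by rw [hx']
        exact Subtype.ext (hDfree d hdD hd1 x x.2 hc)
      · intro x
        apply Subtype.ext
        rw [Helper15.resHom_iterate, Cfsg.Agent.S0042.conj_iterate, ← hdord, pow_orderOf_eq_one]
        simp
    exact Helper15.nilpotent_of_fpf Cfsg.Agent.S0042.thompsonNPC_holds' hℓ _ K rfl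
      (Helper15.resHom c K hst) hfp
  have hKcyc : IsCyclic ↥K := inferInstance
  have hKcomm : ∀ x ∈ K, ∀ y ∈ K, x * y = y * x := by
    intro x hx y hy
    letI := IsCyclic.commGroup (α := ↥K)
    exact congrArg Subtype.val (mul_comm (⟨x, hx⟩ : K) ⟨y, hy⟩)
  -- K acts transitively on N \ 1 by conjugation
  have hKtransN : ∀ n ∈ N, n ≠ 1 → ∀ n' ∈ N, n' ≠ 1 → ∃ k ∈ K, k * n * k⁻¹ = n' := by
    intro n hn hn1 n' hn' hn'1
    obtain ⟨⟨k, hk⟩, hk1, -⟩ := hreg (n • a) (n' • a) (hNne n hn hn1 a) (hNne n' hn' hn'1 a)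
    have hk1' : k • (n • a) = n' • a := hk1
    refine ⟨k, hk, ?_⟩
    apply hNuniq _ (hNn.conj_mem n hn k) _ hn' a
    rw [hconj_act k (hKa k hk), hk1']
  -- coordinates
  obtain ⟨e, heN, heab⟩ := hNt a b
  have he1 : e ≠ 1 := by
    rintro rfl
    rw [one_smul] at heab
    exact hab heab
  have hnormN : ∀ k ∈ K, ∀ t ∈ N, k * t * k⁻¹ ∈ N := fun k _ t ht => hNn.conj_mem t ht k
  have hirr : ∀ M : Subgroup G, M ≤ N → (∀ k ∈ K, ∀ m ∈ M, k * m * k⁻¹ ∈ M) →
      M = ⊥ ∨ M = N := by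
    intro M hMN hMinv
    by_cases hMbot : M = ⊥
    · exact Or.inl hMbot
    right
    obtain ⟨⟨m, hm⟩, hm1'⟩ := (Subgroup.ne_bot_iff_exists_ne_one).mp hMbot
    have hm1 : m ≠ 1 := fun h0 => hm1' (Subtype.ext h0)
    apply le_antisymm hMN
    intro n hn
    by_cases hn1 : n = 1
    · rw [hn1]; exact M.one_mem
    · obtain ⟨k, hk, hkn⟩ := hKtransN m (hMN hm) hm1 n hn hn1
      rw [← hkn]
      exact hMinv k hk m hm
  haveI : Finite N := inferInstance
  obtain ⟨p, n, hp, φ, hn, hφbij, hadd, hφe, hmul⟩ :=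
    exists_coord_schur N K hNcomm hKcomm hnormN e heN he1 hirr
  -- conjugation on N
  let cN : G → N → N := fun g t => ⟨g * t * g⁻¹, hNn.conj_mem t t.2 g⟩
  have hcN_coe : ∀ g (t : N), ((cN g t : N) : G) = g * t * g⁻¹ := fun g t => rfl
  have hmul' : ∀ k ∈ K, ∀ t : N, φ (cN k t) = φ (cN k ⟨e, heN⟩) * φ t := fun k hk t => hmul k hk t
  have hφ1 : φ 1 = 0 := by
    have := hadd 1 1
    rw [mul_one] at this
    exact left_eq_add.mp this
  have hφ0 : ∀ t : N, φ t = 0 → t = 1 := fun t ht => hφbij.1 (ht.trans hφ1.symm)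
  -- the multiplier of K
  have hχsurj : ∀ x : GaloisField p n, x ≠ 0 → ∃ k ∈ K, φ (cN k ⟨e, heN⟩) = x := by
    intro x hx
    obtain ⟨t, rfl⟩ := hφbij.2 x
    have ht1 : (t : G) ≠ 1 := by
      intro h0
      apply hx
      have : t = 1 := Subtype.ext h0
      rw [this, hφ1]
    obtain ⟨k, hk, hke⟩ := hKtransN e heN he1 t t.2 ht1
    refine ⟨k, hk, ?_⟩
    congr 1
    exact Subtype.ext hke
  have hχinj : ∀ k ∈ K, ∀ k' ∈ K, φ (cN k ⟨e, heN⟩) = φ (cN k' ⟨e, heN⟩) → k = k' := by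
    intro k hk k' hk' hχ
    have h1 : k * e * k⁻¹ = k' * e * k'⁻¹ := congrArg Subtype.val (hφbij.1 hχ)
    by_contra hne
    have hne1 : k'⁻¹ * k ≠ 1 := by
      intro h2
      apply hne
      have : k = k' * (k'⁻¹ * k) := by group
      rw [this, h2, mul_one]
    apply he1
    apply hKfree (k'⁻¹ * k) (K.mul_mem (K.inv_mem hk') hk) hne1 e heN
    calc k'⁻¹ * k * e = k'⁻¹ * (k * e * k⁻¹) * k := by group
      _ = k'⁻¹ * (k' * e * k'⁻¹) * k := by rw [h1]
      _ = e * (k'⁻¹ * k) := by group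
  -- `d` centralizes `e`
  have hde : d * e * d⁻¹ = e := by
    apply hNuniq _ (hNn.conj_mem e heN d) _ heN a
    rw [hconj_act d (hDa d hdD), heab, hDb d hdD]
  have hcNe : ∀ j : ℕ, cN (d ^ j) ⟨e, heN⟩ = ⟨e, heN⟩ := by
    intro j
    apply Subtype.ext
    show d ^ j * e * (d ^ j)⁻¹ = e
    induction j with
    | zero => simp
    | succ j ih =>
      calc d ^ (j + 1) * e * (d ^ (j + 1))⁻¹ = d ^ j * (d * e * d⁻¹) * (d ^ j)⁻¹ := by
            rw [pow_succ]; group
        _ = e := by rw [hde, ih]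
  -- the induced map on the field
  let ψ : N ≃ GaloisField p n := Equiv.ofBijective φ hφbij
  have hψ : ∀ t : N, ψ t = φ t := fun t => rfl
  let σ : GaloisField p n → GaloisField p n := fun x => φ (cN d (ψ.symm x))
  have hσφ : ∀ t : N, σ (φ t) = φ (cN d t) := by
    intro t
    show φ (cN d (ψ.symm (φ t))) = φ (cN d t)
    rw [← hψ t, ψ.symm_apply_apply]
  have hcN_mul : ∀ g (s t : N), cN g (s * t) = cN g s * cN g t := by
    intro g s t
    apply Subtype.ext
    show g * (s * t : G) * g⁻¹ = (g * s * g⁻¹) * (g * t * g⁻¹)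
    group
  have hcN_one : ∀ g, cN g 1 = 1 := by
    intro g
    apply Subtype.ext
    show g * 1 * g⁻¹ = 1
    group
  have hσ0 : σ 0 = 0 := by rw [← hφ1, hσφ, hcN_one]
  have hσ1 : σ 1 = 1 := by
    rw [← hφe, hσφ]
    congr 1
    have := hcNe 1
    rwa [pow_one] at this
  have hσadd : ∀ x y, σ (x + y) = σ x + σ y := by
    intro x y
    obtain ⟨s, rfl⟩ := hφbij.2 x
    obtain ⟨t, rfl⟩ := hφbij.2 y
    rw [← hadd, hσφ, hσφ, hσφ, hcN_mul, hadd]
  have hdK : ∀ k ∈ K, d * k * d⁻¹ ∈ K := fun k hk => hKnorm d (hDa d hdD) k hk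
  have hσχ : ∀ k ∈ K, ∀ t : N, σ (φ (cN k ⟨e, heN⟩) * φ t) =
      φ (cN (d * k * d⁻¹) ⟨e, heN⟩) * σ (φ t) := by
    intro k hk t
    rw [← hmul' k hk t, hσφ, hσφ, ← hmul' (d * k * d⁻¹) (hdK k hk) (cN d t)]
    congr 1
    apply Subtype.ext
    show d * (k * t * k⁻¹) * d⁻¹ = (d * k * d⁻¹) * (d * t * d⁻¹) * (d * k * d⁻¹)⁻¹
    group
  have hσχ1 : ∀ k ∈ K, σ (φ (cN k ⟨e, heN⟩)) = φ (cN (d * k * d⁻¹) ⟨e, heN⟩) := by
    intro k hk
    have := hσχ k hk ⟨e, heN⟩
    rwa [hφe, mul_one, hσ1, mul_one] at this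
  have hσmul : ∀ x y, σ (x * y) = σ x * σ y := by
    intro x y
    by_cases hx : x = 0
    · rw [hx, zero_mul, hσ0, zero_mul]
    · obtain ⟨k, hk, rfl⟩ := hχsurj x hx
      obtain ⟨t, rfl⟩ := hφbij.2 y
      rw [hσχ k hk t, hσχ1 k hk]
  let σhom : GaloisField p n →+* GaloisField p n :=
    { toFun := σ, map_one' := hσ1, map_mul' := hσmul, map_zero' := hσ0, map_add' := hσadd }
  have hσbij : Function.Bijective σhom :=
    ⟨σhom.injective, Finite.injective_iff_surjective.mp σhom.injective⟩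
  let σeq : GaloisField p n ≃+* GaloisField p n := RingEquiv.ofBijective σhom hσbij
  have hσeq : ∀ x, σeq x = σ x := fun x => rfl
  -- fixed points
  have hfixσ : ∀ x : GaloisField p n, σeq x = x → x = 0 ∨ x = 1 := by
    intro x hx
    by_cases hx0 : x = 0
    · exact Or.inl hx0
    right
    obtain ⟨k, hk, rfl⟩ := hχsurj x hx0
    rw [hσeq, hσχ1 k hk] at hx
    have h1 := hχinj _ (hdK k hk) k hk hx
    have hc : d * k = k * d := by
      calc d * k = (d * k * d⁻¹) * d := by group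
        _ = k * d := by rw [h1]
    have hk1 := hDfree d hdD hd1 k hk hc
    rw [← hφe]
    congr 1
    apply Subtype.ext
    show k * e * k⁻¹ = e
    rw [hk1]; group
  -- powers of σeq
  have hσpow : ∀ (j : ℕ) (t : N), (σeq ^ j) (φ t) = φ (cN (d ^ j) t) := by
    intro j
    induction j with
    | zero =>
      intro t
      rw [pow_zero, pow_zero]
      show φ t = φ (cN 1 t)
      congr 1
      apply Subtype.ext
      show (t : G) = 1 * t * 1⁻¹
      group
    | succ j ih =>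
      intro t
      rw [pow_succ]
      show (σeq ^ j) (σeq (φ t)) = _
      rw [hσeq, hσφ, ih]
      congr 1
      apply Subtype.ext
      show d ^ j * (d * t * d⁻¹) * (d ^ j)⁻¹ = d ^ (j + 1) * t * (d ^ (j + 1))⁻¹
      rw [pow_succ]; group
  have hσℓ : σeq ^ ℓ = 1 := by
    ext x
    obtain ⟨t, rfl⟩ := hφbij.2 x
    rw [hσpow, ← hdord, pow_orderOf_eq_one]
    show φ (cN 1 t) = φ t
    congr 1
    apply Subtype.ext
    show 1 * (t : G) * 1⁻¹ = t
    group
  -- K is nontrivial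
  obtain ⟨c, hca, hcb⟩ := h.exists_third hab
  obtain ⟨⟨k₁, hk₁⟩, hk₁c, -⟩ := hreg b c hab.symm hca
  have hk₁c' : k₁ • b = c := hk₁c
  have hk₁1 : k₁ ≠ 1 := by
    rintro rfl
    rw [one_smul] at hk₁c'
    exact hcb hk₁c'.symm
  have hχone : φ (cN 1 ⟨e, heN⟩) = 1 := by
    rw [← hφe]
    congr 1
    apply Subtype.ext
    show 1 * e * 1⁻¹ = e
    group
  have hσne : σeq ≠ 1 := by
    intro h1
    have h2 : σeq (φ (cN k₁ ⟨e, heN⟩)) = φ (cN k₁ ⟨e, heN⟩) := by rw [h1]; rfl
    rcases hfixσ _ h2 with h3 | h3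
    · have h4 := hφ0 _ h3
      have h5 : k₁ * e * k₁⁻¹ = 1 := congrArg Subtype.val h4
      apply he1
      have : e = k₁⁻¹ * (k₁ * e * k₁⁻¹) * k₁ := by group
      rw [this, h5]; group
    · rw [← hχone] at h3
      exact hk₁1 (hχinj k₁ hk₁ 1 K.one_mem h3)
  have hord : orderOf σeq = ℓ := by
    have h1 := orderOf_dvd_of_pow_eq_one hσℓ
    rcases (Nat.dvd_prime hℓ).mp h1 with h2 | h2
    · exact absurd (orderOf_eq_one_iff.mp h2) hσne
    · exact h2
  have hnℓ : n = ℓ := (galoisField_degree_eq_orderOf p n hn σeq hfixσ).trans hord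
  -- cardinalities
  have hΩN : Nat.card N = Fintype.card Ω := by
    rw [← Nat.card_eq_fintype_card]
    apply Nat.card_eq_of_bijective (fun t : N => (t : G) • a)
    constructor
    · intro s t hst
      exact Subtype.ext (hNuniq s s.2 t t.2 a hst)
    · intro x
      obtain ⟨t, ht, htx⟩ := hNt a x
      exact ⟨⟨t, ht⟩, htx⟩
  have hNF : Nat.card N = p ^ n := by
    rw [Nat.card_eq_of_bijective φ hφbij, GaloisField.card p n hn]
  have hKcard := (h.card_of_regular_kernel hab K hKle hreg).1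
  have hΩ2 : 2 ≤ Fintype.card Ω := by
    have : ({a, b} : Finset Ω).card ≤ Fintype.card Ω := Finset.card_le_univ _
    rw [Finset.card_pair hab] at this
    exact this
  have hΩeven : Even (Fintype.card Ω) := by
    rcases hKodd with ⟨r, hr⟩
    exact ⟨r + 1, by omega⟩
  have hp2 : p = 2 := by
    rw [← hΩN, hNF, Nat.even_pow] at hΩeven
    exact (Nat.Prime.even_iff hp.out).mp hΩeven.1
  exact ⟨ℓ, hℓ, by rw [← hΩN, hNF, hp2, hnℓ]⟩

end regnormal

end Cfsg.Agent.Lib.Helper28
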